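import Mathlib

/-!
# A transfer lemma (helper10)

If a Sylow `p`-subgroup of the finite group `H` is abelian, then a central `p`-element of `H`
lying in the commutator subgroup is trivial.
-/

set_option autoImplicit false

namespace Cfsg.Agent.Lib.H10.QdExt

theorem eq_one_of_mem_center_commutator {H : Type*} [Group H] [Finite H] {p : ℕ}
    [hp : Fact p.Prime] (P : Sylow p H)
    (hP : ∀ a ∈ (P : Subgroup H), ∀ b ∈ (P : Subgroup H), a * b = b * a)
    {c : H} (hc : c ∈ Subgroup.center H) (hc' : c ∈ commutator H) (k : ℕ)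
    (hck : c ^ p ^ k = 1) : c = 1 := by
  let inst : CommGroup ↥(P : Subgroup H) :=
    { (inferInstance : Group ↥(P : Subgroup H)) with
      mul_comm := fun a b => Subtype.ext (hP a.1 a.2 b.1 b.2) }
  set T : H →* ↥(P : Subgroup H) :=
    MonoidHom.transfer (MonoidHom.id ↥(P : Subgroup H)) with hT
  have h1 : T c = 1 := MonoidHom.mem_ker.mp (Abelianization.commutator_subset_ker T hc')
  have key : ∀ (k : ℕ) (g₀ : H), g₀⁻¹ * c ^ k * g₀ ∈ (P : Subgroup H) →
      g₀⁻¹ * c ^ k * g₀ = c ^ k := by
    intro k g₀ _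
    have hck : c ^ k ∈ Subgroup.center H := Subgroup.pow_mem _ hc k
    have := Subgroup.mem_center_iff.mp hck g₀
    rw [mul_assoc, ← this, inv_mul_cancel_left]
  have h2 := MonoidHom.transfer_eq_pow (MonoidHom.id ↥(P : Subgroup H)) c key
  rw [← hT, h1] at h2
  have h3 : c ^ (P : Subgroup H).index = 1 := by
    have := congrArg Subtype.val h2
    simpa using this.symm
  have hd1 : orderOf c ∣ (P : Subgroup H).index := orderOf_dvd_of_pow_eq_one h3
  have hd2 : orderOf c ∣ p ^ k := orderOf_dvd_of_pow_eq_one hck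
  have hcop : Nat.Coprime (p ^ k) (P : Subgroup H).index := by
    apply Nat.Coprime.pow_left
    rw [Nat.Prime.coprime_iff_not_dvd hp.out]
    exact P.not_dvd_index
  exact orderOf_eq_one_iff.mp (Nat.eq_one_of_dvd_coprimes hcop hd2 hd1)

end Cfsg.Agent.Lib.H10.QdExt

namespace Cfsg.Agent.Lib.H10.QdExt

/-- A central extension of a perfect group with Sylow `p`-subgroups of order `p` by a `p`-group
contains an element of order `p` in its commutator subgroup, which meets the kernel trivially. -/
theorem exists_orderOf_eq_of_central {H : Type*} [Group H] [Finite H] {p : ℕ}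
    [hp : Fact p.Prime] (K : Subgroup H) (hKc : K ≤ Subgroup.center H) (hKp : IsPGroup p K)
    (m : ℕ) (hm : ¬ p ∣ m) (hcard : Nat.card H = Nat.card K * (p * m))
    (hperf : ∀ h : H, ∃ h' ∈ commutator H, ∃ c ∈ K, h = h' * c) :
    (∀ c ∈ K, c ∈ commutator H → c = 1) ∧ ∃ y ∈ commutator H, orderOf y = p := by
  have hKn : K.Normal := by
    refine ⟨fun n hn g => ?_⟩
    have := Subgroup.mem_center_iff.mp (hKc hn) g
    rw [this, mul_inv_cancel_right]
    exact hn
  obtain ⟨k, hk⟩ := IsPGroup.iff_card.mp hKp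
  have P : Sylow p H := default
  have hKP : K ≤ (P : Subgroup H) := hKp.le_sylow_of_normal P
  -- the order of `P`
  have hcardP : Nat.card (P : Subgroup H) = p * Nat.card K := by
    obtain ⟨j, hj⟩ := IsPGroup.iff_card.mp P.isPGroup'
    have h1 : Nat.card (P : Subgroup H) * (P : Subgroup H).index = p ^ (k + 1) * m := by
      rw [Subgroup.card_mul_index, hcard, hk]; ring
    have hndvd : ¬ p ∣ (P : Subgroup H).index := P.not_dvd_index
    have hc1 : Nat.Coprime (p ^ (k + 1)) (P : Subgroup H).index :=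
      Nat.Coprime.pow_left _ ((Nat.Prime.coprime_iff_not_dvd hp.out).mpr hndvd)
    have hc2 : Nat.Coprime (p ^ j) m :=
      Nat.Coprime.pow_left _ ((Nat.Prime.coprime_iff_not_dvd hp.out).mpr hm)
    have d1 : p ^ (k + 1) ∣ p ^ j := by
      apply hc1.dvd_of_dvd_mul_right
      rw [← hj, h1]
      exact dvd_mul_right _ _
    have d2 : p ^ j ∣ p ^ (k + 1) := by
      apply hc2.dvd_of_dvd_mul_right
      rw [← h1, hj]
      exact dvd_mul_right _ _
    rw [hj, Nat.dvd_antisymm d2 d1, hk, pow_succ]; ring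
  -- `P` is abelian
  have hPab : ∀ a ∈ (P : Subgroup H), ∀ b ∈ (P : Subgroup H), a * b = b * a := by
    set φ : ↥(P : Subgroup H) →* H ⧸ K := (QuotientGroup.mk' K).comp (P : Subgroup H).subtype
      with hφ
    have hker : φ.ker = K.subgroupOf (P : Subgroup H) := by
      ext x
      rw [MonoidHom.mem_ker, hφ, MonoidHom.comp_apply, QuotientGroup.mk'_apply,
        QuotientGroup.eq_one_iff, Subgroup.mem_subgroupOf]
      rfl
    have hkerc : φ.rangeRestrict.ker ≤ Subgroup.center ↥(P : Subgroup H) := by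
      rw [MonoidHom.ker_rangeRestrict, hker]
      intro x hx
      rw [Subgroup.mem_subgroupOf] at hx
      rw [Subgroup.mem_center_iff]
      intro g
      exact Subtype.ext (Subgroup.mem_center_iff.mp (hKc hx) g)
    have hcardr : Nat.card φ.range = p := by
      have h1 := Subgroup.card_eq_card_quotient_mul_card_subgroup φ.ker
      have h2 : Nat.card (↥(P : Subgroup H) ⧸ φ.ker) = Nat.card φ.range :=
        Nat.card_congr (QuotientGroup.quotientKerEquivRange φ).toEquiv
      have h3 : Nat.card φ.ker = Nat.card K := by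
        rw [hker]
        exact Nat.card_congr (Subgroup.subgroupOfEquivOfLe hKP).toEquiv
      rw [h2, h3, hcardP] at h1
      have hKpos : 0 < Nat.card K := Nat.card_pos
      exact (Nat.eq_of_mul_eq_mul_right hKpos h1).symm
    have hcyc : IsCyclic φ.range := isCyclic_of_prime_card hcardr
    intro a ha b hb
    have hmc := MonoidHom.isMulCommutative_of_isCyclic_of_ker_le_center φ.rangeRestrict hkerc
    have := hmc.is_comm.comm (⟨a, ha⟩ : ↥(P : Subgroup H)) ⟨b, hb⟩
    exact congrArg Subtype.val this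
  have hinf : ∀ c ∈ K, c ∈ commutator H → c = 1 := by
    intro c hcK hc'
    obtain ⟨j, hj⟩ := hKp ⟨c, hcK⟩
    have hj' : c ^ p ^ j = 1 := by simpa using congrArg Subtype.val hj
    exact eq_one_of_mem_center_commutator P hPab (hKc hcK) hc' j hj'
  refine ⟨hinf, ?_⟩
  -- the order of the commutator subgroup
  set ψ : ↥(commutator H) →* H ⧸ K := (QuotientGroup.mk' K).comp (commutator H).subtype with hψ
  have hψinj : Function.Injective ψ := by
    rw [injective_iff_map_eq_one]
    intro x hx
    rw [hψ, MonoidHom.comp_apply, QuotientGroup.mk'_apply, QuotientGroup.eq_one_iff] at hx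
    exact Subtype.ext (hinf x.1 hx x.2)
  have hψsurj : Function.Surjective ψ := by
    intro q
    obtain ⟨h, rfl⟩ := QuotientGroup.mk_surjective q
    obtain ⟨h', hh', c, hc, rfl⟩ := hperf h
    refine ⟨⟨h', hh'⟩, ?_⟩
    rw [hψ, MonoidHom.comp_apply, QuotientGroup.mk'_apply]
    show ((h' : H) : H ⧸ K) = ((h' * c : H) : H ⧸ K)
    rw [QuotientGroup.mk_mul, (QuotientGroup.eq_one_iff c).mpr hc, mul_one]
  have hcardC : Nat.card (commutator H) = p * m := by
    rw [Nat.card_congr (Equiv.ofBijective ψ ⟨hψinj, hψsurj⟩)]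
    have h1 := Subgroup.card_eq_card_quotient_mul_card_subgroup K
    rw [hcard, mul_comm] at h1
    have hKpos : 0 < Nat.card K := Nat.card_pos
    exact (Nat.eq_of_mul_eq_mul_right hKpos h1).symm
  have hdvd : p ∣ Nat.card (commutator H) := hcardC ▸ dvd_mul_right p m
  obtain ⟨y, hy⟩ := exists_prime_orderOf_dvd_card' p hdvd
  refine ⟨y.1, y.2, ?_⟩
  rw [← hy]
  exact (Subgroup.orderOf_coe y)

end Cfsg.Agent.Lib.H10.QdExt
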