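import Mathlib
import Cfsg.Prelude.Def_Local

set_option autoImplicit false
open Cfsg

namespace Cfsg.Agent.Lib.H10

variable {G : Type*} [Group G]

/-- images in a quotient: `|AM/M : BM/M|` divides `|A : B|` for normal `B ≤ A`. -/
theorem relIndex_map_mk'_dvd (M : Subgroup G) [M.Normal] (B A : Subgroup G) [hB : B.Normal]
    (hBA : B ≤ A) :
    (B.map (QuotientGroup.mk' M)).relIndex (A.map (QuotientGroup.mk' M)) ∣ B.relIndex A := by
  rw [Subgroup.relIndex_map_map, QuotientGroup.ker_mk']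
  have hn : (B ⊔ M).Normal := Subgroup.sup_normal B M
  have h1 : A ⊔ M = A ⊔ (B ⊔ M) := by
    rw [← sup_assoc, sup_eq_left.2 hBA]
  rw [h1, Subgroup.relIndex_sup_right]
  exact Subgroup.relIndex_dvd_of_le_left A le_sup_left

/-- quotients of `p`-solvable groups are `p`-solvable. -/
theorem isPSolvable_quotient {p : ℕ} [hp : Fact p.Prime] (hG : IsPSolvable p G) (M : Subgroup G)
    [M.Normal] : IsPSolvable p (G ⧸ M) := by
  obtain ⟨n, H, h0, hlast, hmono, hnorm, hstep⟩ := hG
  refine ⟨n, fun i => (H i).map (QuotientGroup.mk' M), ?_, ?_, ?_, ?_, ?_⟩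
  · simp only [h0, Subgroup.map_bot]
  · simp only [hlast]
    exact Subgroup.map_top_of_surjective _ (QuotientGroup.mk'_surjective M)
  · intro i j hij
    exact Subgroup.map_mono (hmono hij)
  · intro i
    exact (hnorm i).map _ (QuotientGroup.mk'_surjective M)
  · intro i
    have hB : (H i.castSucc).Normal := hnorm _
    have hle : H i.castSucc ≤ H i.succ := hmono (Fin.castSucc_lt_succ.le)
    have hd := relIndex_map_mk'_dvd M (H i.castSucc) (H i.succ) hle
    rcases hstep i with ⟨m, hm⟩ | hc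
    · left
      rw [hm] at hd
      obtain ⟨k, _, hk⟩ := (Nat.dvd_prime_pow hp.out).1 hd
      exact ⟨k, hk⟩
    · right
      exact Nat.Coprime.coprime_dvd_left hd hc

/-- a nontrivial `p`-solvable group has a nontrivial normal subgroup which is a `p`-group or a
`p'`-group. -/
theorem exists_normal_of_isPSolvable {p : ℕ} [Nontrivial G]
    (hG : IsPSolvable p G) :
    ∃ M : Subgroup G, M.Normal ∧ M ≠ ⊥ ∧ (IsPGroup p M ∨ (Nat.card M).Coprime p) := by
  obtain ⟨n, H, h0, hlast, hmono, hnorm, hstep⟩ := hG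
  have hex : ∃ i : ℕ, ∃ hi : i < n + 1, H ⟨i, hi⟩ ≠ ⊥ := by
    refine ⟨n, Nat.lt_succ_self n, ?_⟩
    have e : (⟨n, Nat.lt_succ_self n⟩ : Fin (n + 1)) = Fin.last n := rfl
    rw [e, hlast]
    exact top_ne_bot
  classical
  set i := Nat.find hex with hi
  obtain ⟨hi1, hi2⟩ := Nat.find_spec hex
  have hi0 : i ≠ 0 := by
    intro h
    apply hi2
    have e : (⟨Nat.find hex, hi1⟩ : Fin (n + 1)) = 0 := by
      apply Fin.ext
      exact h
    rw [e, h0]
  obtain ⟨j, hj⟩ := Nat.exists_eq_succ_of_ne_zero hi0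
  have hjn : j < n := by
    have : j + 1 < n + 1 := by rw [← Nat.succ_eq_add_one, ← hj]; exact hi1
    exact Nat.lt_of_succ_lt_succ this
  have hjbot : H ⟨j, Nat.lt_succ_of_lt hjn⟩ = ⊥ := by
    by_contra hne
    have := Nat.find_min hex (m := j) (by rw [← hi, hj]; exact Nat.lt_succ_self j)
    exact this ⟨Nat.lt_succ_of_lt hjn, hne⟩
  set jj : Fin n := ⟨j, hjn⟩ with hjj
  have e1 : (⟨j, Nat.lt_succ_of_lt hjn⟩ : Fin (n + 1)) = jj.castSucc := rfl
  have e2 : (⟨Nat.find hex, hi1⟩ : Fin (n + 1)) = jj.succ := by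
    apply Fin.ext
    simp only [Fin.val_succ, hjj]
    rw [← hi, hj]
  rw [e1] at hjbot
  rw [e2] at hi2
  refine ⟨H jj.succ, hnorm _, hi2, ?_⟩
  have := hstep jj
  rw [hjbot, Subgroup.relIndex_bot_left] at this
  rcases this with ⟨m, hm⟩ | hc
  · left
    exact IsPGroup.of_card hm
  · right
    exact hc

end Cfsg.Agent.Lib.H10
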