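import Mathlib.GroupTheory.Sylow

/-! Small conjugation lemmas (helper10). -/

set_option autoImplicit false

namespace Cfsg.Agent.Lib.H10

open scoped Pointwise

variable {G : Type*} [Group G]

theorem mem_map_conj {H : Subgroup G} {g x : G} :
    x ∈ H.map (MulAut.conj g).toMonoidHom ↔ g⁻¹ * x * g ∈ H := by
  constructor
  · rintro ⟨y, hy, rfl⟩
    simpa [mul_assoc] using hy
  · intro h
    exact ⟨g⁻¹ * x * g, h, by simp [mul_assoc]⟩

theorem conj_mem_map_conj {H : Subgroup G} {g x : G} (hx : x ∈ H) :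
    g * x * g⁻¹ ∈ H.map (MulAut.conj g).toMonoidHom :=
  ⟨x, hx, by simp⟩

theorem mem_smul_sylow {p : ℕ} (S : Sylow p G) (h x : G) :
    x ∈ ((h • S : Sylow p G) : Subgroup G) ↔ h⁻¹ * x * h ∈ (S : Subgroup G) := by
  rw [Sylow.coe_subgroup_smul, Subgroup.mem_pointwise_smul_iff_inv_smul_mem, MulAut.smul_def,
    ← map_inv, MulAut.conj_apply, inv_inv]

theorem coe_smul_sylow_eq_map {p : ℕ} (S : Sylow p G) (h : G) :
    ((h • S : Sylow p G) : Subgroup G) = (S : Subgroup G).map (MulAut.conj h).toMonoidHom := by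
  ext x
  rw [mem_smul_sylow, mem_map_conj]

theorem map_conj_map_conj (H : Subgroup G) (g h : G) :
    (H.map (MulAut.conj g).toMonoidHom).map (MulAut.conj h).toMonoidHom =
      H.map (MulAut.conj (h * g)).toMonoidHom := by
  ext x
  simp only [mem_map_conj]
  constructor <;> intro hx <;> simpa [mul_assoc] using hx

theorem map_conj_one (H : Subgroup G) : H.map (MulAut.conj (1 : G)).toMonoidHom = H := by
  ext x
  simp [mem_map_conj]

theorem mem_normalizer_iff_map_conj {H : Subgroup G} {g : G} :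
    g ∈ Subgroup.normalizer (H : Set G) ↔ H.map (MulAut.conj g).toMonoidHom = H :=
  Subgroup.mem_normalizer_iff_map_conj_eq

/-- conjugating a normalizing element -/
theorem conj_mem_normalizer_map_conj {H : Subgroup G} {x : G} (k : G)
    (hx : x ∈ Subgroup.normalizer (H : Set G)) :
    k * x * k⁻¹ ∈ Subgroup.normalizer ((H.map (MulAut.conj k).toMonoidHom : Subgroup G) : Set G) := by
  have := Subgroup.le_normalizer_map (H := H) (MulAut.conj k).toMonoidHom
    (Subgroup.mem_map_of_mem _ hx)
  simpa using this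

/-- A `p`-subgroup of index prime to `p` is (the carrier of) a Sylow subgroup. -/
theorem exists_sylow_eq {p : ℕ} [Fact p.Prime] {T : Subgroup G} (h1 : IsPGroup p T) (h2 : ¬ p ∣ T.index) :
    ∃ Q : Sylow p G, (Q : Subgroup G) = T :=
  ⟨h1.toSylow h2, h1.toSylow_coe h2⟩

end Cfsg.Agent.Lib.H10
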