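import Mathlib
import Cfsg.Agent.Lib.H10.Conj

/-! "Sylow in a subgroup" lemmas: a `p`-subgroup `P ≤ K` with `¬ p ∣ P.relIndex K` (helper10). -/

set_option autoImplicit false

namespace Cfsg.Agent.Lib.H10

variable {G : Type*} [Group G]

theorem normalizer_map_conj (g : G) (H : Subgroup G) :
    Subgroup.normalizer ((H.map (MulAut.conj g).toMonoidHom : Subgroup G) : Set G)
      = (Subgroup.normalizer (H : Set G)).map (MulAut.conj g).toMonoidHom :=
  (Subgroup.map_equiv_normalizer_eq H (MulAut.conj g)).symm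

theorem map_conj_inf (g : G) (A B : Subgroup G) :
    (A ⊓ B).map (MulAut.conj g).toMonoidHom
      = A.map (MulAut.conj g).toMonoidHom ⊓ B.map (MulAut.conj g).toMonoidHom :=
  Subgroup.map_inf A B _ (MulAut.conj g).injective

theorem relIndex_map_conj (g : G) (A B : Subgroup G) :
    (A.map (MulAut.conj g).toMonoidHom).relIndex (B.map (MulAut.conj g).toMonoidHom)
      = A.relIndex B :=
  Subgroup.relIndex_map_map_of_injective _ _ (MulAut.conj g).injective

theorem card_map_conj (g : G) (A : Subgroup G) :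
    Nat.card (A.map (MulAut.conj g).toMonoidHom) = Nat.card A :=
  Nat.card_congr (A.equivMapOfInjective _ (MulAut.conj g).injective).toEquiv.symm

theorem isPGroup_map_conj {p : ℕ} (g : G) {A : Subgroup G} (hA : IsPGroup p A) :
    IsPGroup p (A.map (MulAut.conj g).toMonoidHom) := hA.map _

theorem map_conj_le_map_conj (g : G) {A B : Subgroup G} (h : A ≤ B) :
    A.map (MulAut.conj g).toMonoidHom ≤ B.map (MulAut.conj g).toMonoidHom :=
  Subgroup.map_mono h

/-- maximality of a "Sylow in K" subgroup among `p`-subgroups of `K`. -/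
theorem eq_of_le_of_not_dvd_relIndex {p : ℕ} [Fact p.Prime] [Finite G] {P Q K : Subgroup G}
    (hPQ : P ≤ Q) (hQK : Q ≤ K) (hQ : IsPGroup p Q) (h : ¬ p ∣ P.relIndex K) : P = Q := by
  have h1 : P.relIndex Q * Q.relIndex K = P.relIndex K := Subgroup.relIndex_mul_relIndex P Q K hPQ hQK
  have h2 : ¬ p ∣ P.relIndex Q := fun hd => h (h1 ▸ Dvd.dvd.mul_right hd _)
  obtain ⟨n, hn⟩ := hQ.index (P.subgroupOf Q)
  have h3 : P.relIndex Q = p ^ n := hn
  have hn0 : n = 0 := by
    by_contra hne
    exact h2 (h3 ▸ dvd_pow_self p hne)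
  rw [hn0, pow_zero] at h3
  exact le_antisymm hPQ (Subgroup.relIndex_eq_one.mp h3)

/-- existence of a "Sylow in K" subgroup containing a given `p`-subgroup of `K`. -/
theorem exists_sylowIn {p : ℕ} [Fact p.Prime] [Finite G] {P K : Subgroup G}
    (hP : IsPGroup p P) (hPK : P ≤ K) :
    ∃ R : Subgroup G, P ≤ R ∧ R ≤ K ∧ IsPGroup p R ∧ ¬ p ∣ R.relIndex K := by
  have hP' : IsPGroup p (P.subgroupOf K) := hP.comap_subtype
  obtain ⟨Q, hQ⟩ := hP'.exists_le_sylow
  refine ⟨(Q : Subgroup K).map K.subtype, ?_, ?_, Q.2.map _, ?_⟩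
  · intro x hx
    exact ⟨⟨x, hPK hx⟩, hQ (by simpa [Subgroup.mem_subgroupOf] using hx), rfl⟩
  · exact Subgroup.map_subtype_le _
  · have : ((Q : Subgroup K).map K.subtype).subgroupOf K = Q := by
      ext x
      simp [Subgroup.mem_subgroupOf]
    unfold Subgroup.relIndex
    rw [this]
    exact Q.not_dvd_index

/-- every `p`-subgroup has a conjugate inside a given Sylow subgroup. -/
theorem exists_map_conj_le_sylow {p : ℕ} [Fact p.Prime] [Finite G] (S : Sylow p G) {R : Subgroup G}
    (hR : IsPGroup p R) : ∃ g : G, R.map (MulAut.conj g).toMonoidHom ≤ (S : Subgroup G) := by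
  obtain ⟨Q, hQ⟩ := hR.exists_le_sylow
  obtain ⟨g, hg⟩ := MulAction.exists_smul_eq G Q S
  refine ⟨g, ?_⟩
  rw [← hg, coe_smul_sylow_eq_map]
  exact Subgroup.map_mono hQ

/-- index of a Sylow subgroup inside an overgroup is prime to `p`. -/
theorem not_dvd_relIndex_of_sylow_le {p : ℕ} [Fact p.Prime] [Finite G] (S : Sylow p G) {K : Subgroup G}
    (hSK : (S : Subgroup G) ≤ K) : ¬ p ∣ (S : Subgroup G).relIndex K := by
  intro hd
  have h1 : (S : Subgroup G).relIndex K * K.index = (S : Subgroup G).index :=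
    Subgroup.relIndex_mul_index hSK
  exact S.not_dvd_index (h1 ▸ Dvd.dvd.mul_right hd _)

/-- normalizers grow in `p`-groups: if `N < S` with `S` a `p`-group, then `N < N_S(N)`. -/
theorem lt_inf_normalizer_of_lt {p : ℕ} [Fact p.Prime] [Finite G] {S N : Subgroup G}
    (hS : IsPGroup p S) (hN : N < S) : N < S ⊓ Subgroup.normalizer (N : Set G) := by
  have hle : N ≤ S ⊓ Subgroup.normalizer (N : Set G) := le_inf hN.le Subgroup.le_normalizer
  refine lt_of_le_of_ne hle ?_
  intro heq
  have : Group.IsNilpotent S := hS.isNilpotent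
  have hnc := Group.normalizerCondition_of_isNilpotent (G := S)
  rw [normalizerCondition_iff_only_full_group_self_normalizing] at hnc
  have h1 : Subgroup.normalizer ((N.subgroupOf S : Subgroup S) : Set S) = N.subgroupOf S := by
    rw [← Subgroup.subgroupOf_normalizer_eq hN.le]
    ext x
    simp only [Subgroup.mem_subgroupOf]
    constructor
    · intro hx
      have : (x : G) ∈ S ⊓ Subgroup.normalizer (N : Set G) := ⟨x.2, hx⟩
      rw [← heq] at this
      exact this
    · intro hx
      exact Subgroup.le_normalizer hx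
  have h2 := hnc _ h1
  rw [Subgroup.subgroupOf_eq_top] at h2
  exact absurd (le_antisymm hN.le h2) hN.ne

end Cfsg.Agent.Lib.H10

namespace Cfsg.Agent.Lib.H10

variable {G : Type*} [Group G]

/-- Sylow conjugacy inside a subgroup `K`: a `p`-subgroup `Q ≤ K` is `K`-conjugate into any
"Sylow in `K`" subgroup `P`. -/
theorem exists_mem_map_conj_le_of_sylowIn {p : ℕ} [Fact p.Prime] [Finite G] {P Q K : Subgroup G}
    (hP : IsPGroup p P) (hPK : P ≤ K) (hPi : ¬ p ∣ P.relIndex K) (hQ : IsPGroup p Q)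
    (hQK : Q ≤ K) : ∃ m ∈ K, Q.map (MulAut.conj m).toMonoidHom ≤ P := by
  have hP' : IsPGroup p (P.subgroupOf K) := hP.comap_subtype
  have hQ' : IsPGroup p (Q.subgroupOf K) := hQ.comap_subtype
  let PS : Sylow p K := hP'.toSylow hPi
  have hPS : (PS : Subgroup K) = P.subgroupOf K := hP'.toSylow_coe hPi
  obtain ⟨QS, hQS⟩ := hQ'.exists_le_sylow
  obtain ⟨m, hm⟩ := MulAction.exists_smul_eq K QS PS
  refine ⟨(m : G), m.2, ?_⟩
  intro y hy
  rw [mem_map_conj] at hy
  have hyK : y ∈ K := by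
    have h1 : (m : G)⁻¹ * y * m ∈ K := hQK hy
    have h2 : y = (m : G) * ((m : G)⁻¹ * y * m) * (m : G)⁻¹ := by group
    rw [h2]
    exact K.mul_mem (K.mul_mem m.2 h1) (K.inv_mem m.2)
  have h3 : (⟨y, hyK⟩ : K) ∈ ((m • QS : Sylow p K) : Subgroup K) := by
    rw [mem_smul_sylow]
    apply hQS
    rw [Subgroup.mem_subgroupOf]
    simpa using hy
  rw [hm, hPS, Subgroup.mem_subgroupOf] at h3
  exact h3

end Cfsg.Agent.Lib.H10
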