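import Cfsg.Agent.S0100
import Cfsg.Prelude.Def_Transfer
import Cfsg.Prelude.Def_CaseTheorems

set_option autoImplicit false

/-! S4404 piece EA (helper10): a `p`-subgroup (`p` odd) containing an elementary abelian `p³` has a normal one. -/

namespace Cfsg.Agent.Lib.H10.FG19

open Cfsg

variable {S : Type*} [Group S]

/-- EA (M): a `p`-subgroup (`p` odd) containing an elementary abelian `p³` has a normal one
(landed `Cfsg.Agent.S0100.result` applied to `↥P`). -/
theorem exists_normal_ea [Finite S] {p : ℕ} [Fact p.Prime] (hp2 : p ≠ 2) (P : Subgroup S)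
    (hP : IsPGroup p P) (E : Subgroup S) (hEP : E ≤ P) (hE : IsElementaryAbelian p E)
    (hEc : Nat.card E = p ^ 3) :
    ∃ F : Subgroup S, F ≤ P ∧ (∀ z ∈ P, ∀ f ∈ F, z * f * z⁻¹ ∈ F) ∧ IsElementaryAbelian p F ∧
      Nat.card F = p ^ 3 := by
  classical
  by_contra hcon
  have hp1 : 1 < p := (Fact.out : p.Prime).one_lt
  -- the copy of `E` inside `↥P`
  have hEcomm : IsMulCommutative (E.subgroupOf P) := by
    refine ⟨⟨fun a b => ?_⟩⟩
    apply Subtype.ext
    apply Subtype.ext
    have := hE.1.is_comm.comm (⟨a.1.1, a.2⟩ : E) ⟨b.1.1, b.2⟩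
    have h2 : (a.1.1 : S) * b.1.1 = b.1.1 * a.1.1 := congrArg Subtype.val this
    simpa using h2
  have hEexp : ∀ e ∈ E.subgroupOf P, e ^ p = 1 := by
    intro e he
    apply Subtype.ext
    have := hE.2 e.1 he
    simpa using this
  have hEcard : Nat.card (E.subgroupOf P) = p ^ 3 := by
    rw [← hEc]
    exact Nat.card_congr (Subgroup.subgroupOfEquivOfLe hEP).toEquiv
  have key := Cfsg.Agent.S0100.result (P := ↥P) (p := p) hp2 hP (by
    intro A hAn hAc hAe hAcard
    apply hcon
    refine ⟨A.map P.subtype, ?_, ?_, ?_, ?_⟩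
    · rintro _ ⟨a, _, rfl⟩
      exact a.2
    · rintro z hz _ ⟨a, ha, rfl⟩
      refine ⟨⟨z, hz⟩ * a * ⟨z, hz⟩⁻¹, hAn.conj_mem a ha ⟨z, hz⟩, ?_⟩
      simp
    · refine ⟨?_, ?_⟩
      · refine ⟨⟨fun x y => ?_⟩⟩
        obtain ⟨a, ha, hxa⟩ := x.2
        obtain ⟨b, hb, hyb⟩ := y.2
        apply Subtype.ext
        have h1 := hAc.is_comm.comm (⟨a, ha⟩ : A) ⟨b, hb⟩
        have h2 : a * b = b * a := congrArg Subtype.val h1
        have h3 : (a : S) * (b : S) = (b : S) * (a : S) := by
          have := congrArg Subtype.val h2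
          simpa using this
        show (x : S) * (y : S) = (y : S) * (x : S)
        rw [← hxa, ← hyb]
        exact h3
      · rintro _ ⟨a, ha, rfl⟩
        have := hAe a ha
        have h2 := congrArg Subtype.val this
        simpa using h2
    · rw [← hAcard]
      exact Nat.card_congr (A.equivMapOfInjective P.subtype P.subtype_injective).toEquiv.symm)
    (E.subgroupOf P) hEcomm hEexp
  rw [hEcard] at key
  have : p ^ 2 < p ^ 3 := Nat.pow_lt_pow_right hp1 (by norm_num)
  omega

end Cfsg.Agent.Lib.H10.FG19
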