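import Cfsg.Agent.S0640
import Cfsg.Prelude.Def_Transfer
import Cfsg.Prelude.Def_CaseTheorems

set_option autoImplicit false

/-! S4404 piece RK (helper10): with no elementary abelian subgroup of order 27, a `p`-element (`p ≥ 5`)
normalising a 3-subgroup centralises it. -/

namespace Cfsg.Agent.Lib.H10.FG19

open Cfsg

variable {S : Type*} [Group S]

/-- 3-rank at most 2 for a subgroup, from the absence of elementary abelian subgroups of order 27. -/
theorem rk_pRankLE [Finite S]
    (hB : ∀ A : Subgroup S, IsElementaryAbelian 3 A → Nat.card A ≠ 27) (T : Subgroup S)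
    (hT : IsPGroup 3 T) : PRankLE 3 2 ↥T := by
  classical
  have h3 : Fact (Nat.Prime 3) := ⟨Nat.prime_three⟩
  intro A hAc hAe
  by_contra hlt
  have hlt' : 3 ^ 2 < Nat.card A := not_le.mp hlt
  have hA3 : IsPGroup 3 A := hT.to_subgroup A
  obtain ⟨n, hn⟩ := (IsPGroup.iff_card).mp hA3
  have hn3 : 3 ≤ n := by
    by_contra hh
    have : n ≤ 2 := by omega
    have : 3 ^ n ≤ 3 ^ 2 := Nat.pow_le_pow_right (by norm_num) this
    omega
  have hdvd : 3 ^ 3 ∣ Nat.card A := by
    rw [hn]
    exact pow_dvd_pow 3 hn3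
  obtain ⟨K, hK⟩ := Sylow.exists_subgroup_card_pow_prime 3 hdvd
  -- push `K` down to `S`
  let f : ↥A →* S := (T.subtype).comp A.subtype
  have hf : Function.Injective f := by
    intro a b hab
    apply Subtype.ext
    apply Subtype.ext
    exact hab
  apply hB (K.map f)
  · refine ⟨⟨⟨fun x y => ?_⟩⟩, ?_⟩
    · obtain ⟨a, ha, hxa⟩ := x.2
      obtain ⟨b, hb, hyb⟩ := y.2
      apply Subtype.ext
      have h1 := hAc.is_comm.comm a b
      show (x : S) * (y : S) = (y : S) * (x : S)
      rw [← hxa, ← hyb, ← map_mul, ← map_mul]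
      exact congrArg f h1
    · rintro _ ⟨a, ha, rfl⟩
      have h1 := hAe a.1 a.2
      have h2 : a ^ 3 = 1 := Subtype.ext h1
      rw [← map_pow, h2, map_one]
  · have : Nat.card (K.map f) = Nat.card K :=
      Nat.card_congr (K.equivMapOfInjective f hf).toEquiv.symm
    rw [this, hK]
    norm_num

/-- RK (M): if `S` has no elementary abelian subgroup of order 27, a `p`-element (`p ≥ 5`) normalising a 3-subgroup
centralises it (landed `Cfsg.Agent.S0640.result`: `q ∣ |Aut T|`, `q ≠ 3` ⇒ `q ∣ 8 ∧ q < 3`). -/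
theorem commute_of_no_ea27 [Finite S]
    (hB : ∀ A : Subgroup S, IsElementaryAbelian 3 A → Nat.card A ≠ 27) {p : ℕ} (hp : p.Prime)
    (hp5 : 5 ≤ p) (T : Subgroup S) (hT : IsPGroup 3 T) (y : S) (hy : ∃ k : ℕ, y ^ p ^ k = 1)
    (hyT : ∀ t ∈ T, y * t * y⁻¹ ∈ T) : ∀ t ∈ T, y * t = t * y := by
  classical
  have h3 : Fact (Nat.Prime 3) := ⟨Nat.prime_three⟩
  obtain ⟨k, hk⟩ := hy
  -- conjugation by `y` as an endomorphism of `T`
  let φ₀ : ↥T →* ↥T :=
    { toFun := fun t => ⟨y * t.1 * y⁻¹, hyT t.1 t.2⟩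
      map_one' := by apply Subtype.ext; simp
      map_mul' := by intro a b; apply Subtype.ext; simp [mul_assoc] }
  have hinj : Function.Injective φ₀ := by
    intro a b hab
    have h1 : y * a.1 * y⁻¹ = y * b.1 * y⁻¹ := congrArg Subtype.val hab
    apply Subtype.ext
    have h2 := congrArg (fun z => y⁻¹ * z * y) h1
    simpa [mul_assoc] using h2
  have hbij : Function.Bijective φ₀ := Finite.injective_iff_bijective.mp hinj
  let φ : MulAut ↥T := MulEquiv.ofBijective φ₀ hbij
  have hφ : ∀ t : ↥T, ((φ t : ↥T) : S) = y * t.1 * y⁻¹ := fun t => rfl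
  have hpow : ∀ n : ℕ, ∀ t : ↥T, (((φ ^ n) t : ↥T) : S) = y ^ n * t.1 * (y ^ n)⁻¹ := by
    intro n
    induction n with
    | zero => intro t; simp
    | succ n ih =>
      intro t
      rw [pow_succ', MulAut.mul_apply, hφ, ih, pow_succ']
      simp [mul_assoc]
  have hφk : φ ^ (p ^ k) = 1 := by
    ext t
    rw [hpow, hk]
    simp
  by_cases hφ1 : φ = 1
  · intro t ht
    have h1 := hφ ⟨t, ht⟩
    rw [hφ1] at h1
    have h2 : t = y * t * y⁻¹ := by simpa using h1
    calc y * t = (y * t * y⁻¹) * y := by group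
      _ = t * y := by rw [← h2]
  · exfalso
    have hord : orderOf φ ∣ p ^ k := orderOf_dvd_of_pow_eq_one hφk
    have hord1 : orderOf φ ≠ 1 := by
      intro h
      exact hφ1 (orderOf_eq_one_iff.mp h)
    obtain ⟨j, hj, hje⟩ := (Nat.dvd_prime_pow hp).mp hord
    have hj0 : j ≠ 0 := by
      intro h
      rw [h, pow_zero] at hje
      exact hord1 hje
    have hpd : p ∣ orderOf φ := by
      rw [hje]
      exact dvd_pow_self p hj0
    have hcard : p ∣ Nat.card (MulAut ↥T) := dvd_trans hpd (orderOf_dvd_natCard φ)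
    have hp3 : p ≠ 3 := by omega
    have := Cfsg.Agent.S0640.result (R := ↥T) (p := 3) (by norm_num) hT (rk_pRankLE hB T hT) p hp hp3
      hcard
    omega

end Cfsg.Agent.Lib.H10.FG19
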