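import Mathlib
import Cfsg.Prelude.Def_ConjugacyFunctors
import Cfsg.Agent.Lib.H10.SylowIn

/-! Conjugation families: Goldschmidt-style chain relation and the criterion (helper10). -/

set_option autoImplicit false

namespace Cfsg.Agent.Lib.H10

open Cfsg

variable {G : Type*} [Group G]

/-- right conjugation of a set: `A ↦ g⁻¹ A g`. -/
def rconj (g : G) (A : Set G) : Set G := (fun a => g⁻¹ * a * g) '' A

theorem rconj_one (A : Set G) : rconj (1 : G) A = A := by
  simp [rconj]

theorem rconj_mul (g h : G) (A : Set G) : rconj (g * h) A = rconj h (rconj g A) := by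
  unfold rconj
  rw [Set.image_image]
  congr 1
  funext a
  simp [mul_assoc]

theorem rconj_mono (g : G) {A B : Set G} (h : A ⊆ B) : rconj g A ⊆ rconj g B :=
  Set.image_mono h

theorem rconj_coe (g : G) (T : Subgroup G) :
    rconj g (T : Set G) = ((T.map (MulAut.conj g⁻¹).toMonoidHom : Subgroup G) : Set G) := by
  ext x
  simp only [rconj, Set.mem_image, SetLike.mem_coe, Subgroup.mem_map]
  constructor
  · rintro ⟨a, ha, rfl⟩
    exact ⟨a, ha, by simp⟩
  · rintro ⟨a, ha, rfl⟩
    exact ⟨a, ha, by simp⟩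

theorem rconj_inv_rconj (g : G) (A : Set G) : rconj g⁻¹ (rconj g A) = A := by
  rw [← rconj_mul, mul_inv_cancel, rconj_one]

theorem rconj_coe_of_mem_normalizer {T : Subgroup G} {x : G}
    (hx : x ∈ Subgroup.normalizer (T : Set G)) : rconj x (T : Set G) = (T : Set G) := by
  rw [rconj_coe]
  have : x⁻¹ ∈ Subgroup.normalizer (T : Set G) := inv_mem hx
  rw [mem_normalizer_iff_map_conj] at this
  rw [this]

/-- The chain relation: `Reach 𝓕 A g` says that conjugation by `g` on `A` is performed step by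
step inside normalizers of members of `𝓕`. -/
inductive Reach (𝓕 : Set (Subgroup G)) : Set G → G → Prop
  | nil (A : Set G) : Reach 𝓕 A 1
  | cons (A : Set G) (T : Subgroup G) (x g : G) : T ∈ 𝓕 → x ∈ Subgroup.normalizer (T : Set G) →
      A ⊆ (T : Set G) → Reach 𝓕 (rconj x A) g → Reach 𝓕 A (x * g)

theorem Reach.single {𝓕 : Set (Subgroup G)} {A : Set G} {T : Subgroup G} {x : G} (hT : T ∈ 𝓕)
    (hx : x ∈ Subgroup.normalizer (T : Set G)) (hA : A ⊆ (T : Set G)) : Reach 𝓕 A x := by
  have := Reach.cons A T x 1 hT hx hA (Reach.nil _)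
  rwa [mul_one] at this

theorem Reach.restrict {𝓕 : Set (Subgroup G)} {A : Set G} {g : G} (h : Reach 𝓕 A g) :
    ∀ {B : Set G}, B ⊆ A → Reach 𝓕 B g := by
  induction h with
  | nil A => intro B _; exact Reach.nil _
  | cons A T x g hT hx hA _ ih =>
    intro B hB
    exact Reach.cons B T x g hT hx (hB.trans hA) (ih (rconj_mono x hB))

theorem Reach.trans {𝓕 : Set (Subgroup G)} {A : Set G} {g : G} (h : Reach 𝓕 A g) :
    ∀ {k : G}, Reach 𝓕 (rconj g A) k → Reach 𝓕 A (g * k) := by
  induction h with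
  | nil A => intro k hk; rwa [rconj_one, ← one_mul k] at hk
  | cons A T x g hT hx hA _ ih =>
    intro k hk
    rw [rconj_mul] at hk
    rw [mul_assoc]
    exact Reach.cons A T x (g * k) hT hx hA (ih hk)

theorem Reach.symm {𝓕 : Set (Subgroup G)} {A : Set G} {g : G} (h : Reach 𝓕 A g) :
    Reach 𝓕 (rconj g A) g⁻¹ := by
  induction h with
  | nil A => rw [inv_one]; exact Reach.nil _
  | cons A T x g hT hx hA _ ih =>
    rw [rconj_mul, mul_inv_rev]
    refine Reach.trans ih ?_
    rw [rconj_inv_rconj]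
    refine Reach.single hT (inv_mem hx) ?_
    calc rconj x A ⊆ rconj x (T : Set G) := rconj_mono x hA
      _ = (T : Set G) := rconj_coe_of_mem_normalizer hx

/-- conversion of the chain relation to the indexed format of `IsConjugationFamily`. -/
theorem Reach.exists_fin {𝓕 : Set (Subgroup G)} {A : Set G} {g : G} (h : Reach 𝓕 A g) :
    ∃ (n : ℕ) (T : Fin n → Subgroup G) (x : Fin n → G), (List.ofFn x).prod = g ∧
      (∀ i, T i ∈ 𝓕) ∧ (∀ i, x i ∈ Subgroup.normalizer ((T i : Subgroup G) : Set G)) ∧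
      (∀ h : 0 < n, A ⊆ T ⟨0, h⟩) ∧
      ∀ (i : Fin n) (h : i.val + 1 < n),
        (fun a => (((List.ofFn x).take (i.val + 1)).prod)⁻¹ * a * ((List.ofFn x).take (i.val + 1)).prod) '' A ⊆
          T ⟨i.val + 1, h⟩ := by
  induction h with
  | nil A =>
    exact ⟨0, Fin.elim0, Fin.elim0, by simp, fun i => i.elim0, fun i => i.elim0,
      fun h => absurd h (lt_irrefl 0), fun i => i.elim0⟩
  | cons A T0 x0 g hT hx hA _ ih =>
    obtain ⟨n, T, x, hprod, hTF, hxN, h0, hstep⟩ := ih
    refine ⟨n + 1, Fin.cons T0 T, Fin.cons x0 x, ?_, ?_, ?_, ?_, ?_⟩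
    · rw [List.ofFn_succ]
      simp only [Fin.cons_zero, Fin.cons_succ, List.prod_cons]
      rw [hprod]
    · intro i
      refine Fin.cases ?_ (fun j => ?_) i
      · simpa using hT
      · simpa using hTF j
    · intro i
      refine Fin.cases ?_ (fun j => ?_) i
      · simpa using hx
      · simpa using hxN j
    · intro _
      exact hA
    · intro i hi
      have hofn : List.ofFn (Fin.cons x0 x : Fin (n + 1) → G) = x0 :: List.ofFn x := by
        rw [List.ofFn_succ]
        simp
      rw [hofn, List.take_succ_cons, List.prod_cons]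
      have hlt : i.val < n := by omega
      have hT' : (Fin.cons T0 T : Fin (n + 1) → Subgroup G) ⟨i.val + 1, hi⟩ = T ⟨i.val, hlt⟩ := by
        have : (⟨i.val + 1, hi⟩ : Fin (n + 1)) = Fin.succ ⟨i.val, hlt⟩ := rfl
        rw [this, Fin.cons_succ]
      rw [hT']
      have himg : (fun a => (x0 * ((List.ofFn x).take i.val).prod)⁻¹ * a *
          (x0 * ((List.ofFn x).take i.val).prod)) '' A =
          rconj (((List.ofFn x).take i.val).prod) (rconj x0 A) := by
        rw [← rconj_mul]
        rfl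
      rw [himg]
      rcases Nat.eq_zero_or_pos i.val with h0' | hpos
      · have : (⟨i.val, hlt⟩ : Fin n) = ⟨0, by omega⟩ := by
          apply Fin.ext; exact h0'
        rw [this, h0']
        simp only [List.take_zero, List.prod_nil, rconj_one]
        exact h0 (by omega)
      · obtain ⟨j, hj⟩ : ∃ j, i.val = j + 1 := ⟨i.val - 1, by omega⟩
        have hjn : j < n := by omega
        have := hstep ⟨j, hjn⟩ (by simpa [← hj] using hlt)
        have hfin : (⟨i.val, hlt⟩ : Fin n) = ⟨j + 1, by omega⟩ := by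
          apply Fin.ext; exact hj
        rw [hfin, hj]
        exact this

end Cfsg.Agent.Lib.H10

namespace Cfsg.Agent.Lib.H10

open Cfsg

variable {G : Type*} [Group G]

theorem map_conj_inv_map_conj (g : G) (H : Subgroup G) :
    (H.map (MulAut.conj g).toMonoidHom).map (MulAut.conj g⁻¹).toMonoidHom = H := by
  rw [map_conj_map_conj, inv_mul_cancel, map_conj_one]

theorem eq_of_le_of_card_map_conj {H K : Subgroup G} [Finite G] {g : G}
    (h : H.map (MulAut.conj g).toMonoidHom ≤ K) (hc : Nat.card K ≤ Nat.card H) :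
    H.map (MulAut.conj g).toMonoidHom = K :=
  Subgroup.eq_of_le_of_card_ge h (by rw [card_map_conj]; exact hc)

/-- adjusting a conjugating element so that `N_S(T)` is carried into `S`. -/
theorem exists_map_conj_eq_and_normalizer_le {p : ℕ} [Fact p.Prime] [Finite G] (S : Sylow p G)
    {T U : Subgroup G}
    (hUi : ¬ p ∣ ((S : Subgroup G) ⊓ Subgroup.normalizer (U : Set G)).relIndex
      (Subgroup.normalizer (U : Set G))) {k : G}
    (hk : T.map (MulAut.conj k).toMonoidHom = U) :
    ∃ k1 : G, T.map (MulAut.conj k1).toMonoidHom = U ∧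
      ((S : Subgroup G) ⊓ Subgroup.normalizer (T : Set G)).map (MulAut.conj k1).toMonoidHom ≤
        (S : Subgroup G) := by
  have hQp : IsPGroup p (((S : Subgroup G) ⊓ Subgroup.normalizer (T : Set G)).map
      (MulAut.conj k).toMonoidHom : Subgroup G) := (S.2.to_le inf_le_left).map _
  have hQN : ((S : Subgroup G) ⊓ Subgroup.normalizer (T : Set G)).map
      (MulAut.conj k).toMonoidHom ≤ Subgroup.normalizer (U : Set G) := by
    rw [← hk, normalizer_map_conj]
    exact Subgroup.map_mono inf_le_right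
  obtain ⟨m, hm, hmle⟩ := exists_mem_map_conj_le_of_sylowIn (S.2.to_le inf_le_left) inf_le_right
    hUi hQp hQN
  refine ⟨m * k, ?_, ?_⟩
  · rw [← map_conj_map_conj, hk]
    exact mem_normalizer_iff_map_conj.mp hm
  · rw [← map_conj_map_conj]
    exact hmle.trans inf_le_left

/-- Goldschmidt's criterion, chain form. -/
theorem reach_of_criterion {p : ℕ} [Fact p.Prime] [Finite G] (S : Sylow p G)
    (𝓕 : Set (Subgroup G)) (h𝓕 : ∀ U ∈ 𝓕, U ≤ (S : Subgroup G))
    (h : ∀ T : Subgroup G, T ≤ (S : Subgroup G) → ∃ U ∈ 𝓕,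
      (∃ g : G, T.map (MulAut.conj g).toMonoidHom = U) ∧
        ¬ p ∣ ((S : Subgroup G) ⊓ Subgroup.normalizer ((U : Subgroup G) : Set G)).relIndex
          (Subgroup.normalizer ((U : Subgroup G) : Set G))) :
    ∀ (n : ℕ) (T : Subgroup G), T ≤ (S : Subgroup G) →
      Nat.card (S : Subgroup G) - Nat.card T = n →
      ∀ g : G, T.map (MulAut.conj g⁻¹).toMonoidHom ≤ (S : Subgroup G) →
        Reach 𝓕 (T : Set G) g := by
  intro n
  induction n using Nat.strong_induction_on with
  | _ n ih =>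
  intro T hT hn g hg
  obtain ⟨U, hU𝓕, ⟨k, hk⟩, hUi⟩ := h T hT
  have hUS := h𝓕 U hU𝓕
  by_cases hTS : T = (S : Subgroup G)
  · have hUT : U = T := by
      rw [← hk]
      apply eq_of_le_of_card_map_conj (hk ▸ (hUS.trans hTS.ge))
      exact le_rfl
    have hgT : T.map (MulAut.conj g⁻¹).toMonoidHom = T :=
      eq_of_le_of_card_map_conj (hg.trans hTS.ge) le_rfl
    have hgN : g ∈ Subgroup.normalizer (T : Set G) := by
      have := mem_normalizer_iff_map_conj.mpr hgT
      simpa using inv_mem this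
    exact Reach.single (hUT ▸ hU𝓕) hgN le_rfl
  · have hTlt : T < (S : Subgroup G) := lt_of_le_of_ne hT hTS
    have hcardlt : ∀ {H K : Subgroup G}, H < K → Nat.card H < Nat.card K := by
      intro H K hHK
      refine lt_of_le_of_ne (Subgroup.card_le_of_le hHK.le) ?_
      intro heq
      exact hHK.ne (Subgroup.eq_of_le_of_card_ge hHK.le heq.ge)
    set T' := T.map (MulAut.conj g⁻¹).toMonoidHom with hT'
    have hT'lt : T' < (S : Subgroup G) := by
      refine lt_of_le_of_ne hg ?_
      intro heq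
      have h1 : Nat.card T' = Nat.card T := card_map_conj _ _
      have h2 := hcardlt hTlt
      rw [heq] at h1
      omega
    obtain ⟨k1, hk1, hN1⟩ := exists_map_conj_eq_and_normalizer_le S hUi hk
    have hk' : T'.map (MulAut.conj (k * g)).toMonoidHom = U := by
      rw [hT', map_conj_map_conj, mul_assoc, mul_inv_cancel, mul_one, hk]
    obtain ⟨k2, hk2, hN2⟩ := exists_map_conj_eq_and_normalizer_le S hUi hk'
    have hlt1 : T < (S : Subgroup G) ⊓ Subgroup.normalizer (T : Set G) :=
      lt_inf_normalizer_of_lt S.2 hTlt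
    have hlt2 : T' < (S : Subgroup G) ⊓ Subgroup.normalizer (T' : Set G) :=
      lt_inf_normalizer_of_lt S.2 hT'lt
    have hc1 := hcardlt hlt1
    have hc2 := hcardlt hlt2
    have hc3 : Nat.card T' = Nat.card T := card_map_conj _ _
    have hcS1 : Nat.card ((S : Subgroup G) ⊓ Subgroup.normalizer (T : Set G) : Subgroup G) ≤
        Nat.card (S : Subgroup G) := Subgroup.card_le_of_le inf_le_left
    have hcS2 : Nat.card ((S : Subgroup G) ⊓ Subgroup.normalizer (T' : Set G) : Subgroup G) ≤
        Nat.card (S : Subgroup G) := Subgroup.card_le_of_le inf_le_left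
    have r1 : Reach 𝓕 (((S : Subgroup G) ⊓ Subgroup.normalizer (T : Set G) : Subgroup G) : Set G)
        k1⁻¹ := ih _ (by omega) _ inf_le_left rfl k1⁻¹ (by rw [inv_inv]; exact hN1)
    have r1' : Reach 𝓕 (T : Set G) k1⁻¹ := r1.restrict (SetLike.coe_subset_coe.mpr hlt1.le)
    have r2 : Reach 𝓕 (((S : Subgroup G) ⊓ Subgroup.normalizer (T' : Set G) : Subgroup G) : Set G)
        k2⁻¹ := ih _ (by omega) _ inf_le_left rfl k2⁻¹ (by rw [inv_inv]; exact hN2)
    have r2' : Reach 𝓕 (T' : Set G) k2⁻¹ := r2.restrict (SetLike.coe_subset_coe.mpr hlt2.le)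
    have r2'' : Reach 𝓕 (U : Set G) k2 := by
      have := r2'.symm
      rw [rconj_coe, inv_inv, hk2] at this
      exact this
    have e1 : rconj k1⁻¹ (T : Set G) = (U : Set G) := by
      rw [rconj_coe, inv_inv, hk1]
    -- the middle element
    have hmid : U.map (MulAut.conj (k1 * g * k2⁻¹)⁻¹).toMonoidHom = U := by
      have : (k1 * g * k2⁻¹)⁻¹ = k2 * (g⁻¹ * k1⁻¹) := by group
      rw [this, ← map_conj_map_conj, ← map_conj_map_conj]
      have h1 : U.map (MulAut.conj k1⁻¹).toMonoidHom = T := by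
        rw [← hk1, map_conj_inv_map_conj]
      rw [h1, ← hT', hk2]
    have hmN : k1 * g * k2⁻¹ ∈ Subgroup.normalizer (U : Set G) := by
      have := mem_normalizer_iff_map_conj.mpr hmid
      simpa using inv_mem this
    have r3 : Reach 𝓕 (U : Set G) (k1 * g * k2⁻¹) := Reach.single hU𝓕 hmN le_rfl
    have e2 : rconj (k1 * g * k2⁻¹) (U : Set G) = (U : Set G) :=
      rconj_coe_of_mem_normalizer hmN
    have r4 : Reach 𝓕 (T : Set G) (k1⁻¹ * (k1 * g * k2⁻¹)) := r1'.trans (by rw [e1]; exact r3)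
    have e3 : rconj (k1⁻¹ * (k1 * g * k2⁻¹)) (T : Set G) = (U : Set G) := by
      rw [rconj_mul, e1, e2]
    have r5 : Reach 𝓕 (T : Set G) (k1⁻¹ * (k1 * g * k2⁻¹) * k2) := r4.trans (by rw [e3]; exact r2'')
    have : k1⁻¹ * (k1 * g * k2⁻¹) * k2 = g := by group
    rwa [this] at r5

/-- Goldschmidt's criterion for conjugation families. -/
theorem isConjugationFamily_of_criterion {p : ℕ} [Fact p.Prime] [Finite G] (S : Sylow p G)
    (𝓕 : Set (Subgroup G)) (h𝓕 : ∀ U ∈ 𝓕, U ≤ (S : Subgroup G))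
    (h : ∀ T : Subgroup G, T ≤ (S : Subgroup G) → ∃ U ∈ 𝓕,
      (∃ g : G, T.map (MulAut.conj g).toMonoidHom = U) ∧
        ¬ p ∣ ((S : Subgroup G) ⊓ Subgroup.normalizer ((U : Subgroup G) : Set G)).relIndex
          (Subgroup.normalizer ((U : Subgroup G) : Set G))) :
    IsConjugationFamily 𝓕 (S : Subgroup G) := by
  refine ⟨h𝓕, ?_⟩
  intro A g _ hAS hAg
  have hT : Subgroup.closure A ≤ (S : Subgroup G) := (Subgroup.closure_le _).mpr hAS
  have hTg : (Subgroup.closure A).map (MulAut.conj g⁻¹).toMonoidHom ≤ (S : Subgroup G) := by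
    rw [MonoidHom.map_closure, Subgroup.closure_le]
    rintro _ ⟨a, ha, rfl⟩
    apply hAg
    exact ⟨a, ha, by simp⟩
  have r := reach_of_criterion S 𝓕 h𝓕 h _ _ hT rfl g hTg
  exact (r.restrict Subgroup.subset_closure).exists_fin

end Cfsg.Agent.Lib.H10

namespace Cfsg.Agent.Lib.H10

open Cfsg

variable {G : Type*} [Group G]

/-- Goldschmidt's criterion, chain form for subsets. -/
theorem reach_of_criterion_set {p : ℕ} [Fact p.Prime] [Finite G] (S : Sylow p G)
    (𝓕 : Set (Subgroup G)) (h𝓕 : ∀ U ∈ 𝓕, U ≤ (S : Subgroup G))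
    (h : ∀ T : Subgroup G, T ≤ (S : Subgroup G) → ∃ U ∈ 𝓕,
      (∃ g : G, T.map (MulAut.conj g).toMonoidHom = U) ∧
        ¬ p ∣ ((S : Subgroup G) ⊓ Subgroup.normalizer ((U : Subgroup G) : Set G)).relIndex
          (Subgroup.normalizer ((U : Subgroup G) : Set G)))
    {A : Set G} {g : G} (hAS : A ⊆ (S : Subgroup G)) (hAg : rconj g A ⊆ (S : Subgroup G)) :
    Reach 𝓕 A g := by
  have hT : Subgroup.closure A ≤ (S : Subgroup G) := (Subgroup.closure_le _).mpr hAS
  have hTg : (Subgroup.closure A).map (MulAut.conj g⁻¹).toMonoidHom ≤ (S : Subgroup G) := by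
    rw [MonoidHom.map_closure, Subgroup.closure_le]
    rintro _ ⟨a, ha, rfl⟩
    apply hAg
    exact ⟨a, ha, by simp⟩
  have r := reach_of_criterion S 𝓕 h𝓕 h _ _ hT rfl g hTg
  exact r.restrict Subgroup.subset_closure

end Cfsg.Agent.Lib.H10
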