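import Mathlib
import Cfsg.Prelude.Def_ConjugacyFunctors
import Cfsg.Agent.Lib.H10.SylowIn

/-! Well-placed subgroups with respect to a conjugacy functor (helper10). -/

set_option autoImplicit false

namespace Cfsg.Agent.Lib.H10

open Cfsg

variable {G : Type*} [Group G]

theorem functorTower_succ_eq (W : Subgroup G → Subgroup G) (S T : Subgroup G) (i : ℕ) :
    functorTower W S T (i + 1)
      = functorTower W S (W (S ⊓ Subgroup.normalizer (T : Set G))) i := by
  induction i with
  | zero => rfl
  | succ i ih =>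
    change W (S ⊓ Subgroup.normalizer ((functorTower W S T (i + 1) : Subgroup G) : Set G)) = _
    rw [ih]
    rfl

theorem normalizer_le_normalizer_functor {p : ℕ} {W : Subgroup G → Subgroup G}
    (hW : IsConjugacyFunctor p W) {P : Subgroup G} (hP : IsPGroup p P) :
    Subgroup.normalizer (P : Set G) ≤ Subgroup.normalizer ((W P : Subgroup G) : Set G) := by
  intro x hx
  rw [mem_normalizer_iff_map_conj] at hx ⊢
  rw [← (hW P hP).2.2 x, hx]

theorem functor_le {p : ℕ} {W : Subgroup G → Subgroup G}
    (hW : IsConjugacyFunctor p W) {P : Subgroup G} (hP : IsPGroup p P) : W P ≤ P :=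
  (hW P hP).1

theorem functor_map_conj {p : ℕ} {W : Subgroup G → Subgroup G}
    (hW : IsConjugacyFunctor p W) {P : Subgroup G} (hP : IsPGroup p P) (g : G) :
    W (P.map (MulAut.conj g).toMonoidHom) = (W P).map (MulAut.conj g).toMonoidHom :=
  (hW P hP).2.2 g

/-- If `S` normalizes `T ≤ S` then `T` is well placed in `S`. -/
theorem isWellPlaced_of_le_normalizer {p : ℕ} [Fact p.Prime] [Finite G] (S : Sylow p G)
    {W : Subgroup G → Subgroup G} (hW : IsConjugacyFunctor p W) {T : Subgroup G}
    (hT : T ≤ (S : Subgroup G)) (hN : (S : Subgroup G) ≤ Subgroup.normalizer (T : Set G)) :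
    IsWellPlaced p W (S : Subgroup G) T := by
  have hSW : (S : Subgroup G) ≤ Subgroup.normalizer ((W (S : Subgroup G) : Subgroup G) : Set G) :=
    Subgroup.le_normalizer.trans (normalizer_le_normalizer_functor hW S.2)
  have htower : ∀ i : ℕ, functorTower W (S : Subgroup G) T (i + 1) = W (S : Subgroup G) := by
    intro i
    induction i with
    | zero =>
      change W ((S : Subgroup G) ⊓ Subgroup.normalizer (T : Set G)) = _
      rw [inf_eq_left.mpr hN]
    | succ i ih =>
      change W ((S : Subgroup G) ⊓ Subgroup.normalizer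
        ((functorTower W (S : Subgroup G) T (i + 1) : Subgroup G) : Set G)) = _
      rw [ih, inf_eq_left.mpr hSW]
  refine ⟨hT, ?_⟩
  intro i
  cases i with
  | zero =>
    change ¬ p ∣ ((S : Subgroup G) ⊓ Subgroup.normalizer (T : Set G)).relIndex
      (Subgroup.normalizer (T : Set G))
    rw [inf_eq_left.mpr hN]
    exact not_dvd_relIndex_of_sylow_le S hN
  | succ i =>
    rw [htower i, inf_eq_left.mpr hSW]
    exact not_dvd_relIndex_of_sylow_le S hSW

/-- First move: conjugate `T` so that `N_S(T^g)` is Sylow in `N_G(T^g)`, carrying `N_S(T)` into `S`. -/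
theorem exists_conj_normalizer_sylow {p : ℕ} [Fact p.Prime] [Finite G] (S : Sylow p G)
    {T : Subgroup G} (hT : T ≤ (S : Subgroup G)) :
    ∃ g : G, T.map (MulAut.conj g).toMonoidHom ≤ (S : Subgroup G) ∧
      ((S : Subgroup G) ⊓ Subgroup.normalizer (T : Set G)).map (MulAut.conj g).toMonoidHom ≤
        (S : Subgroup G) ⊓ Subgroup.normalizer
          ((T.map (MulAut.conj g).toMonoidHom : Subgroup G) : Set G) ∧
      ¬ p ∣ ((S : Subgroup G) ⊓ Subgroup.normalizer
          ((T.map (MulAut.conj g).toMonoidHom : Subgroup G) : Set G)).relIndex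
        (Subgroup.normalizer ((T.map (MulAut.conj g).toMonoidHom : Subgroup G) : Set G)) := by
  have hNS : IsPGroup p ((S : Subgroup G) ⊓ Subgroup.normalizer (T : Set G) : Subgroup G) :=
    S.2.to_le inf_le_left
  obtain ⟨R, hNR, hRN, hRp, hRi⟩ := exists_sylowIn hNS (inf_le_right)
  obtain ⟨g, hg⟩ := exists_map_conj_le_sylow S hRp
  have hTR : T ≤ R := (le_inf hT Subgroup.le_normalizer).trans hNR
  have h1 : R.map (MulAut.conj g).toMonoidHom ≤ (S : Subgroup G) ⊓ Subgroup.normalizer
      ((T.map (MulAut.conj g).toMonoidHom : Subgroup G) : Set G) := by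
    refine le_inf hg ?_
    rw [normalizer_map_conj]
    exact Subgroup.map_mono hRN
  have h2 : ¬ p ∣ (R.map (MulAut.conj g).toMonoidHom).relIndex (Subgroup.normalizer
      ((T.map (MulAut.conj g).toMonoidHom : Subgroup G) : Set G)) := by
    rw [normalizer_map_conj, relIndex_map_conj]
    exact hRi
  have h3 := eq_of_le_of_not_dvd_relIndex h1 inf_le_right (S.2.to_le inf_le_left) h2
  refine ⟨g, (Subgroup.map_mono hTR).trans hg, ?_, ?_⟩
  · rw [← h3]
    exact Subgroup.map_mono hNR
  · rw [← h3]
    exact h2

/-- Main existence theorem for well-placed conjugates, with control of `N_S(T)`. -/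
theorem exists_wellPlaced_conj {p : ℕ} [Fact p.Prime] [Finite G] (S : Sylow p G)
    {W : Subgroup G → Subgroup G} (hW : IsConjugacyFunctor p W) :
    ∀ (n : ℕ) (T : Subgroup G), T ≤ (S : Subgroup G) →
      Nat.card (S : Subgroup G) - Nat.card ((S : Subgroup G) ⊓ Subgroup.normalizer (T : Set G) : Subgroup G) = n →
      ∃ g : G, IsWellPlaced p W (S : Subgroup G) (T.map (MulAut.conj g).toMonoidHom) ∧
        ((S : Subgroup G) ⊓ Subgroup.normalizer (T : Set G)).map (MulAut.conj g).toMonoidHom ≤
          (S : Subgroup G) := by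
  intro n
  induction n using Nat.strong_induction_on with
  | _ n ih =>
  intro T hT hn
  obtain ⟨g1, hT1, hN1, hI1⟩ := exists_conj_normalizer_sylow S hT
  set T' := T.map (MulAut.conj g1).toMonoidHom with hT'
  set N' := (S : Subgroup G) ⊓ Subgroup.normalizer (T' : Set G) with hN'
  by_cases hcase : N' = (S : Subgroup G)
  · refine ⟨g1, isWellPlaced_of_le_normalizer S hW hT1 ?_, hN1.trans inf_le_left⟩
    rw [← hcase]
    exact inf_le_right
  · have hN'S : N' < (S : Subgroup G) := lt_of_le_of_ne inf_le_left hcase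
    have hN'p : IsPGroup p N' := S.2.to_le inf_le_left
    set U := W N' with hU
    have hUN' : U ≤ N' := functor_le hW hN'p
    have hUS : U ≤ (S : Subgroup G) := hUN'.trans inf_le_left
    have hlt : N' < (S : Subgroup G) ⊓ Subgroup.normalizer (N' : Set G) :=
      lt_inf_normalizer_of_lt S.2 hN'S
    have hle : (S : Subgroup G) ⊓ Subgroup.normalizer (N' : Set G) ≤
        (S : Subgroup G) ⊓ Subgroup.normalizer (U : Set G) :=
      inf_le_inf_left _ (normalizer_le_normalizer_functor hW hN'p)
    have hlt2 : N' < (S : Subgroup G) ⊓ Subgroup.normalizer (U : Set G) := lt_of_lt_of_le hlt hle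
    -- cardinalities
    have hc1 : Nat.card ((S : Subgroup G) ⊓ Subgroup.normalizer (T : Set G) : Subgroup G) ≤ Nat.card N' := by
      rw [← card_map_conj g1]
      exact Subgroup.card_le_of_le hN1
    have hc2 : Nat.card N' < Nat.card ((S : Subgroup G) ⊓ Subgroup.normalizer (U : Set G) : Subgroup G) := by
      refine lt_of_le_of_ne (Subgroup.card_le_of_le hlt2.le) ?_
      intro heq
      exact hlt2.ne (Subgroup.eq_of_le_of_card_ge hlt2.le heq.ge)
    have hc3 : Nat.card ((S : Subgroup G) ⊓ Subgroup.normalizer (U : Set G) : Subgroup G) ≤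
        Nat.card (S : Subgroup G) := Subgroup.card_le_of_le inf_le_left
    obtain ⟨g2, hwp, hN2⟩ := ih
      (Nat.card (S : Subgroup G) - Nat.card ((S : Subgroup G) ⊓ Subgroup.normalizer (U : Set G) : Subgroup G))
      (by omega) U hUS rfl
    -- the composite
    have hN'g2 : N'.map (MulAut.conj g2).toMonoidHom ≤ (S : Subgroup G) :=
      (Subgroup.map_mono hlt2.le).trans hN2
    set T'' := T'.map (MulAut.conj g2).toMonoidHom with hT''
    have hT'N' : T' ≤ N' := le_inf hT1 Subgroup.le_normalizer
    have hT''S : T'' ≤ (S : Subgroup G) := (Subgroup.map_mono hT'N').trans hN'g2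
    have h1 : N'.map (MulAut.conj g2).toMonoidHom ≤
        (S : Subgroup G) ⊓ Subgroup.normalizer (T'' : Set G) := by
      refine le_inf hN'g2 ?_
      rw [hT'', normalizer_map_conj]
      exact Subgroup.map_mono inf_le_right
    have h2 : ¬ p ∣ (N'.map (MulAut.conj g2).toMonoidHom).relIndex
        (Subgroup.normalizer (T'' : Set G)) := by
      rw [hT'', normalizer_map_conj, relIndex_map_conj]
      exact hI1
    have h3 := eq_of_le_of_not_dvd_relIndex h1 inf_le_right (S.2.to_le inf_le_left) h2
    have hWeq : W ((S : Subgroup G) ⊓ Subgroup.normalizer (T'' : Set G)) =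
        U.map (MulAut.conj g2).toMonoidHom := by
      rw [← h3, functor_map_conj hW hN'p]
    have hcomp : T.map (MulAut.conj (g2 * g1)).toMonoidHom = T'' := by
      rw [hT'', hT', map_conj_map_conj]
    refine ⟨g2 * g1, ?_, ?_⟩
    · rw [hcomp]
      refine ⟨hT''S, ?_⟩
      intro i
      cases i with
      | zero =>
        change ¬ p ∣ ((S : Subgroup G) ⊓ Subgroup.normalizer (T'' : Set G)).relIndex
          (Subgroup.normalizer (T'' : Set G))
        rw [← h3]
        exact h2
      | succ i =>
        rw [functorTower_succ_eq, hWeq]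
        exact hwp.2 i
    · rw [← map_conj_map_conj]
      exact (Subgroup.map_mono hN1).trans hN'g2

end Cfsg.Agent.Lib.H10
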