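import Mathlib
import Cfsg.Prelude.Def_ConjugacyFunctors
import Cfsg.Agent.Lib.H10.ConjFamily
import Cfsg.Agent.Lib.H10.WellPlaced

/-! A generic local-to-global induction scheme (Alperin–Goldschmidt style) (helper10). -/

set_option autoImplicit false

namespace Cfsg.Agent.Lib.H10

open Cfsg

variable {G : Type*} [Group G]

/-- The subgroups `T` of `S` with `N_S(T)` of index prime to `p` in `N_G(T)`. -/
def sylNormFamily (p : ℕ) (S : Subgroup G) : Set (Subgroup G) :=
  {T | T ≤ S ∧ ¬ p ∣ (S ⊓ Subgroup.normalizer (T : Set G)).relIndex (Subgroup.normalizer (T : Set G))}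

theorem card_lt_card_of_lt [Finite G] {H K : Subgroup G} (hHK : H < K) : Nat.card H < Nat.card K := by
  refine lt_of_le_of_ne (Subgroup.card_le_of_le hHK.le) ?_
  intro heq
  exact hHK.ne (Subgroup.eq_of_le_of_card_ge hHK.le heq.ge)

/-- One step of the Alperin–Goldschmidt argument for a relation `Good` closed under restriction,
composition and inverses. -/
theorem alperin_step {p : ℕ} [Fact p.Prime] [Finite G] (S : Sylow p G)
    (Good : Set G → G → Prop)
    (hres : ∀ {A B : Set G} {g : G}, Good A g → B ⊆ A → Good B g)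
    (htrans : ∀ {A : Set G} {g h : G}, Good A g → Good (rconj g A) h → Good A (g * h))
    (hsymm : ∀ {A : Set G} {g : G}, Good A g → Good (rconj g A) g⁻¹)
    (Q : Subgroup G) (hQ : Q ≤ (S : Subgroup G)) (g : G)
    (hg : Q.map (MulAut.conj g⁻¹).toMonoidHom ≤ (S : Subgroup G))
    (hbig : ∀ Q' : Subgroup G, Q' ≤ (S : Subgroup G) → Nat.card Q < Nat.card Q' → ∀ g' : G,
      Q'.map (MulAut.conj g'⁻¹).toMonoidHom ≤ (S : Subgroup G) → Good (Q' : Set G) g')
    (hloc : ∀ U ∈ sylNormFamily p (S : Subgroup G), Nat.card U = Nat.card Q →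
      ∀ x ∈ Subgroup.normalizer (U : Set G), Good (U : Set G) x) :
    Good (Q : Set G) g := by
  obtain ⟨k, hkS, -, hUi⟩ := exists_conj_normalizer_sylow S hQ
  set U := Q.map (MulAut.conj k).toMonoidHom with hU
  have hU𝓕 : U ∈ sylNormFamily p (S : Subgroup G) := ⟨hkS, hUi⟩
  have hUcard : Nat.card U = Nat.card Q := card_map_conj _ _
  by_cases hQS : Q = (S : Subgroup G)
  · have hUQ : U = Q := eq_of_le_of_card_map_conj (hkS.trans hQS.ge) le_rfl
    have hgQ : Q.map (MulAut.conj g⁻¹).toMonoidHom = Q :=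
      eq_of_le_of_card_map_conj (hg.trans hQS.ge) le_rfl
    have hgN : g ∈ Subgroup.normalizer (Q : Set G) := by
      have := mem_normalizer_iff_map_conj.mpr hgQ
      simpa using inv_mem this
    have := hloc U hU𝓕 hUcard g (hUQ ▸ hgN)
    rwa [hUQ] at this
  · have hQlt : Q < (S : Subgroup G) := lt_of_le_of_ne hQ hQS
    set Q' := Q.map (MulAut.conj g⁻¹).toMonoidHom with hQ'
    have hc3 : Nat.card Q' = Nat.card Q := card_map_conj _ _
    have hQ'lt : Q' < (S : Subgroup G) := by
      refine lt_of_le_of_ne hg ?_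
      intro heq
      have h2 := card_lt_card_of_lt hQlt
      rw [heq] at hc3
      omega
    obtain ⟨k1, hk1, hN1⟩ := exists_map_conj_eq_and_normalizer_le S hUi (T := Q) (k := k) rfl
    have hk' : Q'.map (MulAut.conj (k * g)).toMonoidHom = U := by
      rw [hQ', map_conj_map_conj, mul_assoc, mul_inv_cancel, mul_one]
    obtain ⟨k2, hk2, hN2⟩ := exists_map_conj_eq_and_normalizer_le S hUi hk'
    have hlt1 : Q < (S : Subgroup G) ⊓ Subgroup.normalizer (Q : Set G) :=
      lt_inf_normalizer_of_lt S.2 hQlt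
    have hlt2 : Q' < (S : Subgroup G) ⊓ Subgroup.normalizer (Q' : Set G) :=
      lt_inf_normalizer_of_lt S.2 hQ'lt
    have hc1 := card_lt_card_of_lt hlt1
    have hc2 := card_lt_card_of_lt hlt2
    have r1 : Good (((S : Subgroup G) ⊓ Subgroup.normalizer (Q : Set G) : Subgroup G) : Set G)
        k1⁻¹ := hbig _ inf_le_left hc1 k1⁻¹ (by rw [inv_inv]; exact hN1)
    have r1' : Good (Q : Set G) k1⁻¹ := hres r1 (SetLike.coe_subset_coe.mpr hlt1.le)
    have r2 : Good (((S : Subgroup G) ⊓ Subgroup.normalizer (Q' : Set G) : Subgroup G) : Set G)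
        k2⁻¹ := hbig _ inf_le_left (by omega) k2⁻¹ (by rw [inv_inv]; exact hN2)
    have r2' : Good (Q' : Set G) k2⁻¹ := hres r2 (SetLike.coe_subset_coe.mpr hlt2.le)
    have r2'' : Good (U : Set G) k2 := by
      have := hsymm r2'
      rw [rconj_coe, inv_inv, hk2] at this
      exact this
    have e1 : rconj k1⁻¹ (Q : Set G) = (U : Set G) := by
      rw [rconj_coe, inv_inv, hk1]
    have hmid : U.map (MulAut.conj (k1 * g * k2⁻¹)⁻¹).toMonoidHom = U := by
      have : (k1 * g * k2⁻¹)⁻¹ = k2 * (g⁻¹ * k1⁻¹) := by group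
      rw [this, ← map_conj_map_conj, ← map_conj_map_conj]
      have h1 : U.map (MulAut.conj k1⁻¹).toMonoidHom = Q := by
        rw [← hk1, map_conj_inv_map_conj]
      rw [h1, ← hQ', hk2]
    have hmN : k1 * g * k2⁻¹ ∈ Subgroup.normalizer (U : Set G) := by
      have := mem_normalizer_iff_map_conj.mpr hmid
      simpa using inv_mem this
    have r3 : Good (U : Set G) (k1 * g * k2⁻¹) := hloc U hU𝓕 hUcard _ hmN
    have e2 : rconj (k1 * g * k2⁻¹) (U : Set G) = (U : Set G) :=
      rconj_coe_of_mem_normalizer hmN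
    have r4 : Good (Q : Set G) (k1⁻¹ * (k1 * g * k2⁻¹)) := htrans r1' (by rw [e1]; exact r3)
    have e3 : rconj (k1⁻¹ * (k1 * g * k2⁻¹)) (Q : Set G) = (U : Set G) := by
      rw [rconj_mul, e1, e2]
    have r5 : Good (Q : Set G) (k1⁻¹ * (k1 * g * k2⁻¹) * k2) := htrans r4 (by rw [e3]; exact r2'')
    have : k1⁻¹ * (k1 * g * k2⁻¹) * k2 = g := by group
    rwa [this] at r5

/-- Generic local-to-global theorem: a relation `Good` closed under restriction, composition and
inverses, together with a local predicate `C` on the members of `sylNormFamily`, proved by a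
simultaneous downward induction. -/
theorem good_of_local {p : ℕ} [Fact p.Prime] [Finite G] (S : Sylow p G)
    (Good : Set G → G → Prop) (C : Subgroup G → Prop)
    (hres : ∀ {A B : Set G} {g : G}, Good A g → B ⊆ A → Good B g)
    (htrans : ∀ {A : Set G} {g h : G}, Good A g → Good (rconj g A) h → Good A (g * h))
    (hsymm : ∀ {A : Set G} {g : G}, Good A g → Good (rconj g A) g⁻¹)
    (hbot : ∀ x : G, Good ((⊥ : Subgroup G) : Set G) x)
    (hCgood : ∀ T ∈ sylNormFamily p (S : Subgroup G), T ≠ ⊥ → C T →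
      ∀ x ∈ Subgroup.normalizer (T : Set G), Good (T : Set G) x)
    (hCstep : ∀ T ∈ sylNormFamily p (S : Subgroup G), T ≠ ⊥ →
      (∀ Q : Subgroup G, Q ≤ (S : Subgroup G) →
        Nat.card ((S : Subgroup G) ⊓ Subgroup.normalizer (T : Set G) : Subgroup G) < Nat.card Q →
        ∀ g : G, Q.map (MulAut.conj g⁻¹).toMonoidHom ≤ (S : Subgroup G) → Good (Q : Set G) g) →
      (∀ T' ∈ sylNormFamily p (S : Subgroup G), T' ≠ ⊥ →
        Nat.card ((S : Subgroup G) ⊓ Subgroup.normalizer (T : Set G) : Subgroup G) <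
          Nat.card ((S : Subgroup G) ⊓ Subgroup.normalizer (T' : Set G) : Subgroup G) → C T') →
      C T) :
    ∀ Q : Subgroup G, Q ≤ (S : Subgroup G) → ∀ g : G,
      Q.map (MulAut.conj g⁻¹).toMonoidHom ≤ (S : Subgroup G) → Good (Q : Set G) g := by
  have main : ∀ (k m : ℕ), m + k = Nat.card (S : Subgroup G) + 1 →
      (∀ Q : Subgroup G, Q ≤ (S : Subgroup G) → m ≤ Nat.card Q → ∀ g : G,
        Q.map (MulAut.conj g⁻¹).toMonoidHom ≤ (S : Subgroup G) → Good (Q : Set G) g) ∧
      (∀ T ∈ sylNormFamily p (S : Subgroup G), T ≠ ⊥ →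
        m ≤ Nat.card ((S : Subgroup G) ⊓ Subgroup.normalizer (T : Set G) : Subgroup G) → C T) := by
    intro k
    induction k with
    | zero =>
      intro m hm
      constructor
      · intro Q hQ hmQ
        have := Subgroup.card_le_of_le hQ
        omega
      · intro T _ _ hmT
        have : Nat.card ((S : Subgroup G) ⊓ Subgroup.normalizer (T : Set G) : Subgroup G) ≤
            Nat.card (S : Subgroup G) := Subgroup.card_le_of_le inf_le_left
        omega
    | succ k ih =>
      intro m hm
      obtain ⟨hP, hC⟩ := ih (m + 1) (by omega)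
      have hC' : ∀ T ∈ sylNormFamily p (S : Subgroup G), T ≠ ⊥ →
          m ≤ Nat.card ((S : Subgroup G) ⊓ Subgroup.normalizer (T : Set G) : Subgroup G) → C T := by
        intro T hT hT1 hmT
        apply hCstep T hT hT1
        · intro Q hQ hlt g hg
          exact hP Q hQ (by omega) g hg
        · intro T' hT' hT'1 hlt
          exact hC T' hT' hT'1 (by omega)
      refine ⟨?_, hC'⟩
      intro Q hQ hmQ g hg
      by_cases hlt : m + 1 ≤ Nat.card Q
      · exact hP Q hQ hlt g hg
      · have hcard : Nat.card Q = m := by omega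
        apply alperin_step S Good hres htrans hsymm Q hQ g hg
        · intro Q' hQ' hlt' g' hg'
          exact hP Q' hQ' (by omega) g' hg'
        · intro U hU hUcard x hx
          by_cases hU1 : U = ⊥
          · rw [hU1]
            exact hbot x
          · apply hCgood U hU hU1 _ x hx
            apply hC' U hU hU1
            have : Nat.card U ≤ Nat.card ((S : Subgroup G) ⊓ Subgroup.normalizer (U : Set G) : Subgroup G) :=
              Subgroup.card_le_of_le (le_inf hU.1 Subgroup.le_normalizer)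
            omega
  intro Q hQ g hg
  exact (main (Nat.card (S : Subgroup G) + 1) 0 (by omega)).1 Q hQ (Nat.zero_le _) g hg

end Cfsg.Agent.Lib.H10
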