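import Mathlib
import Cfsg.Agent.Lib.H5.Ord.GenTests
import Cfsg.Agent.Lib.H5.Ord.PG7920d
import Cfsg.Agent.Lib.H5.EmbedAlt

/-!
# S4429 piece (F0): Sylow 11-data of a simple group of order 7920 (helper10)

`n_11 ∈ {12, 45, 144}`; `12` dies by the embedding into `A_12`, `45` by Thompson transfer
(helper5's `H5.PG7920.not_sylow11_45`, redone with `a = 8` allowed), so `n_11 = 144`,
`|N| = 55`, `C(P) = P`.
-/

set_option autoImplicit false

namespace Cfsg.Agent.Lib.H10.M7920

open Subgroup MulAction Cfsg.Agent.Lib.H5 Cfsg.Agent.Lib.H5.SylPrime Cfsg.Agent.Lib.H5.GenTests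
  Cfsg.Agent.Lib.H5.PG7920

universe u

section gen

variable {S : Type*} [Group S] [Finite S]

/-- helper5's `not_sylow11_45` with `a = 8` allowed (same proof). -/
theorem not_sylow11_45_gen [IsSimpleGroup S] [Fact (Nat.Prime 11)]
    (P : Sylow 11 S) (hPc : Nat.card (P : Subgroup S) = 11) (a : ℕ)
    (ha : a = 1 ∨ a = 2 ∨ a = 4 ∨ a = 8)
    (hC : Nat.card (centralizer ((P : Subgroup S) : Set S)) = 11 * a)
    (hH : Nat.card (normalizer ((P : Subgroup S) : Set S)) = 22 * a)
    (hidx : (normalizer ((P : Subgroup S) : Set S)).index = 45) : False := by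
  have : Fact (Nat.Prime 2) := ⟨by norm_num⟩
  set H := normalizer ((P : Subgroup S) : Set S) with hHdef
  set C := centralizer ((P : Subgroup S) : Set S) with hCdef
  have hCH : C ≤ H := centralizer_le_normalizer _
  have hPH : (P : Subgroup S) ≤ H := le_normalizer
  have hn : Nat.card S = 990 * a := by
    have := H.card_mul_index
    rw [hH, hidx] at this
    omega
  obtain ⟨k, hk⟩ : ∃ k, 2 * a = 2 ^ k := by
    rcases ha with rfl | rfl | rfl | rfl
    exacts [⟨1, rfl⟩, ⟨2, rfl⟩, ⟨3, rfl⟩, ⟨4, rfl⟩]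
  have hHne : H ≠ ⊤ := by
    intro h
    rw [h, index_top] at hidx
    omega
  -- a Sylow 2-subgroup of S inside H
  obtain ⟨K₀, hK₀⟩ := Sylow.exists_subgroup_card_pow_prime (G := H) 2 (n := k)
    (by rw [hH, ← hk]; exact ⟨11, by ring⟩)
  set T₀ : Subgroup S := K₀.map H.subtype with hT₀
  have hT₀c : Nat.card T₀ = 2 ^ k := by rw [hT₀, Subgroup.card_subtype, hK₀]
  have hT₀H : T₀ ≤ H := Subgroup.map_subtype_le K₀
  have hp : IsPGroup 2 T₀ := IsPGroup.of_card (n := k) hT₀c
  obtain ⟨T, hT⟩ := hp.exists_le_sylow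
  have hTc : Nat.card (T : Subgroup S) = 2 ^ k :=
    (sylow_card_and_index T (k := k) (m := 495) (by rw [hn, ← hk]; ring) (by norm_num)).1
  have hTeq : T₀ = (T : Subgroup S) := Subgroup.eq_of_le_of_card_ge hT (by rw [hTc, hT₀c])
  have hTH : (T : Subgroup S) ≤ H := hTeq ▸ hT₀H
  have hTc' : Nat.card (T : Subgroup S) = 2 * a := by rw [hTc, hk]
  set M : Subgroup S := (T : Subgroup S) ⊓ C with hM
  have hrelCH : C.relIndex H = 2 := by
    have := Cfsg.Agent.Lib.H5.SylPrime.card_mul_relIndex_of_le hCH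
    rw [hH, hC] at this
    rcases ha with rfl | rfl | rfl | rfl <;> omega
  have hM2 : M.relIndex (T : Subgroup S) = 2 := by
    rw [hM, Subgroup.inf_relIndex_left]
    have hle : C.relIndex (T : Subgroup S) ≤ C.relIndex H :=
      Subgroup.relIndex_le_of_le_right hTH (by rw [hrelCH]; norm_num)
    rw [hrelCH] at hle
    have hne0 : C.relIndex (T : Subgroup S) ≠ 0 := by
      rw [Subgroup.relIndex]
      exact Subgroup.index_ne_zero_of_finite
    have hne1 : C.relIndex (T : Subgroup S) ≠ 1 := by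
      intro h1
      have hSC : (T : Subgroup S) ≤ C := Subgroup.relIndex_eq_one.mp h1
      have := Subgroup.card_dvd_of_le hSC
      rw [hTc', hC] at this
      rcases ha with rfl | rfl | rfl | rfl <;> omega
    omega
  -- an element of `T \ M` of minimal order
  have hex : ∃ n, ∃ y, y ∈ (T : Subgroup S) ∧ y ∉ M ∧ orderOf y = n := by
    by_contra h
    push Not at h
    have hle : (T : Subgroup S) ≤ M := fun y hy => by
      by_contra hyM
      exact h _ y hy hyM rfl
    have : M.relIndex (T : Subgroup S) = 1 := relIndex_eq_one.mpr hle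
    omega
  classical
  obtain ⟨x, hxT, hxM, hxo⟩ := Nat.find_spec hex
  have hxmin : ∀ y ∈ (T : Subgroup S), y ∉ M → orderOf x ≤ orderOf y := by
    intro y hy hyM
    rw [hxo]
    exact Nat.find_min' hex ⟨y, hy, hyM, rfl⟩
  obtain ⟨n, hn2⟩ : ∃ n, orderOf x = 2 ^ n := by
    obtain ⟨j, hj⟩ := (IsPGroup.iff_orderOf.mp T.isPGroup') ⟨x, hxT⟩
    exact ⟨j, by rw [← hj, Subgroup.orderOf_mk]⟩
  have hx1 : x ≠ 1 := fun h => hxM (h ▸ M.one_mem)
  have hn1 : n ≠ 0 := by
    intro h
    rw [h, pow_zero] at hn2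
    exact hx1 (orderOf_eq_one_iff.mp hn2)
  have hxH : x ∈ H := hTH hxT
  have hxC : x ∉ C := fun h => hxM ⟨hxT, h⟩
  have hG2 : 2 < Nat.card S := by rw [hn]; rcases ha with rfl | rfl | rfl | rfl <;> omega
  have hcon : ∀ g : S, g * x * g⁻¹ ∉ M := by
    intro g hg
    set y := g * x * g⁻¹ with hy
    have hyC : y ∈ C := hg.2
    have hyH : y ∈ H := hCH hyC
    have hconj : IsConj x y := isConj_iff.mpr ⟨g, rfl⟩
    have hyo : orderOf y = 2 ^ n := by rw [← orderOf_eq_of_isConj hconj, hn2]
    -- the involution in ⟨y⟩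
    have h2y : 2 ∣ orderOf y := by rw [hyo]; exact dvd_pow_self 2 hn1
    set z := y ^ (orderOf y / 2) with hz
    have hzo : orderOf z = 2 := orderOf_pow_orderOf_div (orderOf_pos y).ne' h2y
    have hzC : z ∈ C := C.pow_mem hyC _
    have hfz1 : Nat.card (fixedBy (S ⧸ H) z) % 11 = 1 % 11 :=
      card_fixedBy_modEq_one 11 P hPc hzC
    have hfz2 := four_dvd_index_sub_card_fixedBy hG2 H hzo
    have hfz3 := card_fixedBy_le_index H z
    have hz1 : z ≠ 1 := by
      intro h
      rw [h, orderOf_one] at hzo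
      omega
    have hfz4 : Nat.card (fixedBy (S ⧸ H) z) ≠ H.index := fun h =>
      hz1 (eq_one_of_card_fixedBy_eq H hHne h)
    rw [hidx] at hfz2 hfz3 hfz4
    have hfz : Nat.card (fixedBy (S ⧸ H) z) = 1 := by omega
    have hfy1 : Nat.card (fixedBy (S ⧸ H) y) % 11 = 1 % 11 :=
      card_fixedBy_modEq_one 11 P hPc hyC
    have hfy2 : Nat.card (fixedBy (S ⧸ H) y) ≤ Nat.card (fixedBy (S ⧸ H) z) := by
      apply Nat.card_mono (Set.toFinite _)
      have := fixedBy_subset_fixedBy_zpow (S ⧸ H) y ((orderOf y / 2 : ℕ) : ℤ)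
      rwa [zpow_natCast] at this
    have hfy : Nat.card (fixedBy (S ⧸ H) y) = 1 := by omega
    have hmul := card_fixedBy_mul_card H hyH
    rw [hfy, one_mul, hH] at hmul
    have h11 : 11 ∣ Nat.card (centralizer ({y} : Set S)) := by
      have := card_dvd_card_centralizer_singleton (P : Subgroup S) hyC
      rwa [hPc] at this
    -- eleven conjugates of `y` in `H`
    have hge : 11 ≤ Nat.card {g : S // IsConj y g ∧ g ∈ H} := by
      let f : ↥(P : Subgroup S) → {g : S // IsConj y g ∧ g ∈ H} := fun u =>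
        ⟨(u : S) * x * (u : S)⁻¹, hconj.symm.trans (isConj_iff.mpr ⟨u, rfl⟩),
          H.mul_mem (H.mul_mem (hPH u.2) hxH) (H.inv_mem (hPH u.2))⟩
      have hf : Function.Injective f := by
        intro u v huv
        have h1 : (u : S) * x * (u : S)⁻¹ = (v : S) * x * (v : S)⁻¹ := congrArg Subtype.val huv
        by_contra hne
        set w : S := (v : S)⁻¹ * (u : S) with hw
        have hwP : w ∈ (P : Subgroup S) := (P : Subgroup S).mul_mem ((P : Subgroup S).inv_mem v.2) u.2
        have hw1 : w ≠ 1 := by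
          intro h
          apply hne
          apply Subtype.ext
          have : (u : S) = (v : S) * w := by rw [hw]; group
          rw [this, h, mul_one]
        have hwx : Commute w x := by
          show w * x = x * w
          rw [hw]
          calc (v : S)⁻¹ * (u : S) * x = (v : S)⁻¹ * ((u : S) * x * (u : S)⁻¹) * (u : S) := by group
            _ = (v : S)⁻¹ * ((v : S) * x * (v : S)⁻¹) * (u : S) := by rw [h1]
            _ = x * ((v : S)⁻¹ * (u : S)) := by group
        exact hxC (mem_centralizer_of_commute_of_card_prime (P : Subgroup S) hPc hwP hw1 hwx)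
      have := Nat.card_le_card_of_injective f hf
      rwa [hPc] at this
    obtain ⟨t, ht⟩ := h11
    rw [ht] at hmul
    have hlow : 11 * t * 11 ≤ 11 * t * Nat.card {g : S // IsConj y g ∧ g ∈ H} :=
      Nat.mul_le_mul_left _ hge
    have ht0 : t ≠ 0 := by
      intro h
      rw [h] at hmul
      rcases ha with rfl | rfl | rfl | rfl <;> omega
    have : 1 ≤ t := Nat.one_le_iff_ne_zero.mpr ht0
    have h2t : 2 ∣ 11 * t := by
      rw [← ht]
      exact h2y.trans (Subgroup.orderOf_dvd_natCard _ (mem_centralizer_singleton_iff.mpr rfl))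
    have h2t' : 2 ≤ t := by omega
    have hlow2 : 11 * 2 * 11 ≤ 11 * t * 11 := by nlinarith
    rcases ha with rfl | rfl | rfl | rfl <;> omega
  obtain ⟨K, hKn, hKi, -⟩ := Cfsg.Agent.Lib.H16.exists_normal_index_two_not_mem T M hM2 n
    (by
      intro y hy hyM
      have h1 := hxmin y hy hyM
      rw [hn2] at h1
      have : 2 ^ (n - 1) < 2 ^ n := Nat.pow_lt_pow_right (by norm_num) (by omega)
      omega)
    x hn2 hcon
  rcases hKn.eq_bot_or_eq_top with hb | ht
  · rw [hb, Subgroup.index_bot, hn] at hKi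
    rcases ha with rfl | rfl | rfl | rfl <;> omega
  · rw [ht, Subgroup.index_top] at hKi
    omega

end gen

theorem sylow11_data {G : Type u} [Group G] [Finite G] [IsSimpleGroup G] (hG : Nat.card G = 7920) :
    ∃ K : Subgroup G, Nat.card K = 11 ∧ Subgroup.centralizer (K : Set G) = K ∧
      Nat.card (Subgroup.normalizer (K : Set G)) = 55 := by
  have hp11 : Fact (Nat.Prime 11) := ⟨by norm_num⟩
  have hnc : ¬ IsMulCommutative G :=
    not_isMulCommutative_of_card_not_prime (by rw [hG]; norm_num)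
  obtain ⟨P⟩ : Nonempty (Sylow 11 G) := inferInstance
  obtain ⟨h1, h2, h3, -, h5, h6, h7, h8, h9, h10, -, h12, h13, -⟩ :=
    prime_data_explicit hnc (n := Nat.card G) (p := 11) (m := 720) rfl (by rw [hG])
      (by norm_num) (by norm_num) P
  have hidx : (normalizer ((P : Subgroup G) : Set G)).index = Nat.card (Sylow 11 G) :=
    index_normalizer_eq_card_sylow P
  generalize hr : (centralizer ((P : Subgroup G) : Set G)).relIndex
    (normalizer ((P : Subgroup G) : Set G)) = r at h5 h6 h7 h13
  generalize hd : Nat.card (Sylow 11 G) = d at h1 h2 h3 h7 h10 hidx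
  obtain ⟨c', hc'⟩ := h8
  rw [hc'] at h7 h13
  have hdcases : d = 12 ∨ d = 45 ∨ d = 144 := by
    have hall : ∀ j < 66, (11 * j + 1) ∣ 720 → 11 * j + 1 ≠ 1 →
        11 * j + 1 = 12 ∨ 11 * j + 1 = 45 ∨ 11 * j + 1 = 144 := by
      decide
    have hdle : d ≤ 720 := Nat.le_of_dvd (by norm_num) h1
    have hdj : d = 11 * (d / 11) + 1 := by omega
    have := hall (d / 11) (by omega) (hdj ▸ h1) (hdj ▸ h3)
    rwa [← hdj] at this
  have hr10 : r ∣ 10 := h5
  have hrle : r ≤ 10 := Nat.le_of_dvd (by norm_num) hr10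
  have hr0 : r ≠ 0 := by
    rintro rfl
    simp at hr10
  have hprod : 11 * c' * r * d = 7920 := by
    rw [h7, hG]
  rcases hdcases with rfl | rfl | rfl
  · exfalso
    -- d = 12: embedding into A_12
    have h2N := two_mul_card_normalizer_dvd hnc (p := 11) (by norm_num)
      (normalizer ((P : Subgroup G) : Set G)) (Or.inr hidx) P h9
    have hN : Nat.card (normalizer ((P : Subgroup G) : Set G)) = 660 := by
      rw [hG] at h10
      omega
    rw [hN] at h2N
    omega
  · exfalso
    -- d = 45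
    have h16 : c' * r = 16 := by
      have : 495 * (c' * r) = 495 * 16 := by linarith
      exact Nat.eq_of_mul_eq_mul_left (by norm_num) this
    have hr2 : r = 2 := by
      have : r ∣ 16 := ⟨c', by rw [← h16]; ring⟩
      interval_cases r <;> omega
    subst hr2
    have hc8 : c' = 8 := by omega
    subst hc8
    exact not_sylow11_45_gen P h9 8 (Or.inr (Or.inr (Or.inr rfl))) hc'
      (by rw [← h13]) hidx
  · -- d = 144
    have h5' : c' * r = 5 := by
      have : 1584 * (c' * r) = 1584 * 5 := by linarith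
      exact Nat.eq_of_mul_eq_mul_left (by norm_num) this
    have hr5 : r = 5 := by
      have : r ∣ 5 := ⟨c', by rw [← h5']; ring⟩
      interval_cases r <;> omega
    subst hr5
    have hc1 : c' = 1 := by omega
    subst hc1
    refine ⟨(P : Subgroup G), h9, ?_, ?_⟩
    · symm
      apply Subgroup.eq_of_le_of_card_ge h12
      rw [hc', h9]
    · rw [← h13]
end Cfsg.Agent.Lib.H10.M7920
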