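import Mathlib
import Cfsg.Prelude.Def_Transfer

/-! The subgroup `O^p(G)` generated by the `p'`-elements (helper10). -/

set_option autoImplicit false

namespace Cfsg.Agent.Lib.H10

theorem pResidual_normal (p : ℕ) (G : Type*) [Group G] : (Cfsg.pResidual p G).Normal := by
  unfold Cfsg.pResidual
  have : Subgroup.closure {g : G | Nat.Coprime (orderOf g) p} =
      Subgroup.normalClosure {g : G | Nat.Coprime (orderOf g) p} := by
    apply le_antisymm
    · exact Subgroup.closure_le_normalClosure
    · unfold Subgroup.normalClosure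
      apply Subgroup.closure_mono
      intro x hx
      obtain ⟨a, ha, hax⟩ := Group.mem_conjugatesOfSet_iff.mp hx
      obtain ⟨c, rfl⟩ := isConj_iff.mp hax
      show Nat.Coprime (orderOf (c * a * c⁻¹)) p
      have : orderOf (c * a * c⁻¹) = orderOf a := by
        have := (MulAut.conj c).orderOf_eq a
        rwa [MulAut.conj_apply] at this
      rw [this]
      exact ha
  rw [this]
  exact Subgroup.normalClosure_normal

/-- Every element of a finite group has a `p`-power power lying in `O^p(G)`. -/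
theorem exists_pow_mem_pResidual (p : ℕ) [hp : Fact p.Prime] {G : Type*} [Group G] [Finite G] (m : G) :
    ∃ k : ℕ, m ^ (p ^ k) ∈ Cfsg.pResidual p G := by
  have ho : orderOf m ≠ 0 := (orderOf_pos m).ne'
  obtain ⟨a, b, hb, hab⟩ := Nat.exists_eq_pow_mul_and_not_dvd ho p hp.out.ne_one
  refine ⟨a, Subgroup.subset_closure ?_⟩
  show Nat.Coprime (orderOf (m ^ (p ^ a))) p
  rw [orderOf_pow, hab]
  have : Nat.gcd (p ^ a * b) (p ^ a) = p ^ a := Nat.gcd_eq_right (dvd_mul_right _ _)
  rw [this, Nat.mul_div_cancel_left _ (pow_pos hp.out.pos a)]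
  exact ((Nat.Prime.coprime_iff_not_dvd hp.out).mpr hb).symm

theorem pResidual_quotient_isPGroup (p : ℕ) [hp : Fact p.Prime] (G : Type*) [Group G] [Finite G]
    [hn : (Cfsg.pResidual p G).Normal] : IsPGroup p (G ⧸ Cfsg.pResidual p G) := by
  intro g
  induction g using QuotientGroup.induction_on with
  | H m =>
    obtain ⟨k, hk⟩ := exists_pow_mem_pResidual p m
    refine ⟨k, ?_⟩
    rw [← QuotientGroup.mk_pow, QuotientGroup.eq_one_iff]
    exact hk

/-- A Sylow `p`-subgroup together with `O^p(G)` generates `G`; in product form. -/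
theorem exists_mul_of_sylow_pResidual (p : ℕ) [hp : Fact p.Prime] {G : Type*} [Group G] [Finite G]
    (Q : Subgroup G) (hQi : ¬ p ∣ Q.index) (m : G) :
    ∃ s ∈ Q, ∃ u ∈ Cfsg.pResidual p G, m = s * u := by
  haveI hn : (Cfsg.pResidual p G).Normal := pResidual_normal p G
  have htop : Q ⊔ Cfsg.pResidual p G = ⊤ := by
    rw [← Subgroup.index_eq_one]
    have h1 : (Q ⊔ Cfsg.pResidual p G).index ∣ Q.index := Subgroup.index_dvd_of_le le_sup_left
    have h2 : (Q ⊔ Cfsg.pResidual p G).index ∣ (Cfsg.pResidual p G).index :=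
      Subgroup.index_dvd_of_le le_sup_right
    obtain ⟨k, hk⟩ := (IsPGroup.iff_card (p := p)).mp (pResidual_quotient_isPGroup p G)
    rw [Subgroup.index_eq_card (Cfsg.pResidual p G), hk] at h2
    obtain ⟨j, -, hj⟩ := (Nat.dvd_prime_pow hp.out).mp h2
    rw [hj] at h1 ⊢
    rcases Nat.eq_zero_or_pos j with h0 | hpos
    · rw [h0, pow_zero]
    · exfalso
      exact hQi (dvd_trans (dvd_pow_self p hpos.ne') h1)
  have hm : m ∈ Q ⊔ Cfsg.pResidual p G := by rw [htop]; trivial
  rw [Subgroup.mem_sup_of_normal_right] at hm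
  obtain ⟨s, hs, u, hu, rfl⟩ := hm
  exact ⟨s, hs, u, hu, rfl⟩

end Cfsg.Agent.Lib.H10
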