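import Mathlib
import Cfsg.Agent.Lib.H18.GXSTORUS

set_option autoImplicit false

namespace Cfsg.Agent.Lib.H10.RK2

open Cfsg.Agent.Lib.H18.GXS in
/-- TORUS5, commutative version (helper18's `exists_torus_comm` with the sharper ending). -/
theorem ft_torus5_comm {B : Type*} [CommGroup B] (p : ℕ) [Fact p.Prime]
    (hp5 : 5 ≤ p) (hB : ∀ b : B, b ^ p = 1) (σ τ : MulAut B) (z w : B)
    (hσ : ∀ b, ∃ k : ℕ, σ b = b * z ^ k) (hτ : ∀ b, ∃ k : ℕ, τ b = b * w ^ k)
    (hσz : σ z = z) (hτw : τ w = w) (hσw : σ w ≠ w) (hτz : τ z ≠ z) :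
    ∃ d ∈ Subgroup.closure ({σ, τ} : Set (MulAut B)), (∃ k : ℕ, d * σ * d⁻¹ = σ ^ k) ∧
      ∃ j : ℕ, ¬ (j * j ≡ 1 [MOD p]) ∧ d w = w ^ j := by
  classical
  have hpp : p.Prime := Fact.out
  have hp : p ≠ 2 := by omega
  have instM : Module (ZMod p) (Additive B) := AddCommGroup.zmodModule (n := p) (by
    intro x
    induction x using Additive.rec with
    | ofMul b =>
      rw [← ofMul_pow, hB]; rfl)
  -- the linear map of an automorphism
  let L : MulAut B → (Additive B →ₗ[ZMod p] Additive B) := fun α =>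
    (MonoidHom.toAdditive α.toMonoidHom).toZModLinearMap p
  have hL : ∀ (α : MulAut B) (b : B), L α (Additive.ofMul b) = Additive.ofMul (α b) := fun _ _ => rfl
  have hLmul : ∀ α β : MulAut B, L (α * β) = L α * L β := by
    intro α β
    apply LinearMap.ext
    intro v
    induction v using Additive.rec with
    | ofMul b => rfl
  have hLone : L 1 = 1 := by
    apply LinearMap.ext
    intro v
    induction v using Additive.rec with
    | ofMul b => rfl
  have hLpow : ∀ (α : MulAut B) (n : ℕ), L (α ^ n) = L α ^ n := by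
    intro α n
    induction n with
    | zero => rw [pow_zero, pow_zero, hLone]
    | succ n ih => rw [pow_succ, pow_succ, hLmul, ih]
  have hLinj : ∀ α β : MulAut B, L α = L β → α = β := by
    intro α β h
    ext b
    have := congrArg (fun f => f (Additive.ofMul b)) h
    simp only [hL] at this
    exact Additive.ofMul.injective this
  -- notation
  set zt : Additive B := Additive.ofMul z with hzt
  set wt : Additive B := Additive.ofMul w with hwt
  have hnat : ∀ (b : B) (k : ℕ), Additive.ofMul (b ^ k) = (k : ZMod p) • Additive.ofMul b := by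
    intro b k
    rw [Nat.cast_smul_eq_nsmul, ofMul_pow]
  -- data of σ, τ
  have hσv : ∀ v : Additive B, ∃ x : ZMod p, L σ v = v + x • zt := by
    intro v
    induction v using Additive.rec with
    | ofMul b =>
      obtain ⟨k, hk⟩ := hσ b
      refine ⟨(k : ZMod p), ?_⟩
      rw [hL, hk, ofMul_mul, hnat]
  have hτv : ∀ v : Additive B, ∃ y : ZMod p, L τ v = v + y • wt := by
    intro v
    induction v using Additive.rec with
    | ofMul b =>
      obtain ⟨k, hk⟩ := hτ b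
      refine ⟨(k : ZMod p), ?_⟩
      rw [hL, hk, ofMul_mul, hnat]
  have hσzt : L σ zt = zt := by rw [hzt, hL, hσz]
  have hτwt : L τ wt = wt := by rw [hwt, hL, hτw]
  obtain ⟨c, hc⟩ := hσv wt
  obtain ⟨a, ha⟩ := hτv zt
  have hc0 : c ≠ 0 := by
    rintro rfl
    rw [zero_smul, add_zero, hwt, hL] at hc
    exact hσw (Additive.ofMul.injective hc)
  have ha0 : a ≠ 0 := by
    rintro rfl
    rw [zero_smul, add_zero, hzt, hL] at ha
    exact hτz (Additive.ofMul.injective ha)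
  have h2 : (2 : ZMod p) ≠ 0 := by
    intro h
    have h' : ((2 : ℕ) : ZMod p) = 0 := by exact_mod_cast h
    rw [ZMod.natCast_eq_zero_iff] at h'
    exact hp ((Nat.prime_dvd_prime_iff_eq hpp Nat.prime_two).1 h')
  -- exponents
  set m1 : ℕ := (-c⁻¹).val with hm1
  set m2 : ℕ := (a⁻¹).val with hm2
  set n1 : ℕ := (2 * c⁻¹).val with hn1
  set n2 : ℕ := (-(2⁻¹ * a⁻¹)).val with hn2
  have cm1 : (m1 : ZMod p) = -c⁻¹ := ZMod.natCast_zmod_val _
  have cm2 : (m2 : ZMod p) = a⁻¹ := ZMod.natCast_zmod_val _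
  have cn1 : (n1 : ZMod p) = 2 * c⁻¹ := ZMod.natCast_zmod_val _
  have cn2 : (n2 : ZMod p) = -(2⁻¹ * a⁻¹) := ZMod.natCast_zmod_val _
  obtain ⟨d, hd⟩ : ∃ d : MulAut B, d = σ ^ n1 * τ ^ n2 * σ ^ n1 * (σ ^ m1 * τ ^ m2 * σ ^ m1) := ⟨_, rfl⟩
  have hσmem : σ ∈ Subgroup.closure ({σ, τ} : Set (MulAut B)) :=
    Subgroup.subset_closure (by simp)
  have hτmem : τ ∈ Subgroup.closure ({σ, τ} : Set (MulAut B)) :=
    Subgroup.subset_closure (by simp)
  have hdmem : d ∈ Subgroup.closure ({σ, τ} : Set (MulAut B)) := by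
    rw [hd]
    exact Subgroup.mul_mem _ (Subgroup.mul_mem _ (Subgroup.mul_mem _ (Subgroup.pow_mem _ hσmem _)
      (Subgroup.pow_mem _ hτmem _)) (Subgroup.pow_mem _ hσmem _))
      (Subgroup.mul_mem _ (Subgroup.mul_mem _ (Subgroup.pow_mem _ hσmem _)
      (Subgroup.pow_mem _ hτmem _)) (Subgroup.pow_mem _ hσmem _))
  -- the key formula
  have key : ∀ (v : Additive B) (x y : ZMod p), L σ v = v + x • zt → L τ v = v + y • wt →
      L d v = v + (a⁻¹ * y) • zt + (-(2⁻¹ * c⁻¹ * x)) • wt := by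
    intro v x y hx hy
    have Sσ := fun (n : ℕ) (A C : ZMod p) => tv_pow (L σ) zt wt v c x hσzt hc hx n A C
    have Sτ := fun (n : ℕ) (A C : ZMod p) => tv_pow (L τ) wt zt v a y hτwt ha hy n C A
    have Sτ' : ∀ (n : ℕ) (A C : ZMod p),
        (L τ ^ n) (v + A • zt + C • wt) = v + A • zt + (C + n * (y + a * A)) • wt := by
      intro n A C
      have := Sτ n A C
      rw [show v + A • zt + C • wt = v + C • wt + A • zt by abel, this]
      abel
    rw [hd, hLmul, hLmul, hLmul, hLmul, hLmul, hLpow, hLpow, hLpow, hLpow]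
    simp only [Module.End.mul_apply]
    have e0 : v = v + (0 : ZMod p) • zt + (0 : ZMod p) • wt := by simp
    conv_lhs => rw [e0]
    rw [Sσ, Sτ', Sσ, Sσ, Sτ', Sσ, cm1, cm2, cn1, cn2]
    congr 1
    · congr 1
      congr 1
      field_simp
      ring
    · congr 1
      field_simp
      ring
  refine ⟨d, hdmem, ⟨4, ?_⟩, ⟨((2 : ZMod p)⁻¹).val, ?_, ?_⟩⟩
  · -- d σ d⁻¹ = σ^4
    rw [mul_inv_eq_iff_eq_mul]
    apply hLinj
    apply LinearMap.ext
    intro v
    obtain ⟨x, hx⟩ := hσv v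
    obtain ⟨y, hy⟩ := hτv v
    rw [hLmul, hLmul, hLpow, Module.End.mul_apply, Module.End.mul_apply, hx, map_add, map_smul,
      key v x y hx hy, key zt 0 a (by rw [hσzt, zero_smul, add_zero]) ha]
    have h4 := tv_pow (L σ) zt wt v c x hσzt hc hx 4 (a⁻¹ * y) (-(2⁻¹ * c⁻¹ * x))
    rw [h4]
    have e1 : c * (2⁻¹ * c⁻¹ * x) = 2⁻¹ * x := by field_simp
    have e2 : a⁻¹ * a = 1 := inv_mul_cancel₀ ha0
    have e3 : (4 : ZMod p) * 2⁻¹ = 2 := by
      have : (4 : ZMod p) = 2 * 2 := by norm_num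
      rw [this, mul_assoc, mul_inv_cancel₀ h2, mul_one]
    push_cast
    rw [mul_neg, e1, e2]
    have : (a⁻¹ * y + 4 * (x + -(2⁻¹ * x))) = a⁻¹ * y + 2 * x := by
      have : (4 : ZMod p) * (x + -(2⁻¹ * x)) = 4 * x - (4 * 2⁻¹) * x := by ring
      rw [this, e3]; ring
    rw [this]
    module
  · -- j² ≢ 1
    intro h
    have h' := (ZMod.natCast_eq_natCast_iff _ _ _).2 h
    rw [Nat.cast_mul, ZMod.natCast_zmod_val, Nat.cast_one] at h'
    have h4 : (4 : ZMod p) = 1 := by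
      have e : (2 : ZMod p) * 2 * (2⁻¹ * 2⁻¹) = 1 := by
        rw [mul_mul_mul_comm, mul_inv_cancel₀ h2, mul_one]
      rw [h', mul_one] at e
      rw [← e]
      norm_num
    have h3 : ((3 : ℕ) : ZMod p) = 0 := by
      have : (4 : ZMod p) - 1 = 0 := by rw [h4, sub_self]
      push_cast
      rw [← this]
      norm_num
    rw [ZMod.natCast_eq_zero_iff] at h3
    have := Nat.le_of_dvd (by norm_num) h3
    omega
  · -- d w
    apply Additive.ofMul.injective
    rw [← hL, hnat, ZMod.natCast_zmod_val, ← hwt,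
      key wt c 0 hc (by rw [hτwt, zero_smul, add_zero])]
    have e1 : 2⁻¹ * c⁻¹ * c = (2 : ZMod p)⁻¹ := by field_simp
    rw [mul_zero, zero_smul, add_zero, e1]
    have : wt + (-(2 : ZMod p)⁻¹) • wt = ((1 : ZMod p) - 2⁻¹) • wt := by module
    rw [this]
    congr 1
    have : (1 : ZMod p) = 2 * 2⁻¹ := (mul_inv_cancel₀ h2).symm
    nth_rewrite 1 [this]
    ring

/-- TORUS5 (local copy; the exact-sig piece of helper18 has the same statement). -/
theorem ft_torus5 {B : Type*} [Group B] (hcomm : ∀ a b : B, a * b = b * a) (p : ℕ) [Fact p.Prime]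
    (hp : 5 ≤ p) (hB : ∀ b : B, b ^ p = 1) (σ τ : MulAut B) (z w : B)
    (hσ : ∀ b, ∃ k : ℕ, σ b = b * z ^ k) (hτ : ∀ b, ∃ k : ℕ, τ b = b * w ^ k)
    (hσz : σ z = z) (hτw : τ w = w) (hσw : σ w ≠ w) (hτz : τ z ≠ z) :
    ∃ d ∈ Subgroup.closure ({σ, τ} : Set (MulAut B)), (∃ k : ℕ, d * σ * d⁻¹ = σ ^ k) ∧
      ∃ j : ℕ, ¬ (j * j ≡ 1 [MOD p]) ∧ d w = w ^ j := by
  let inst : CommGroup B := { ‹Group B› with mul_comm := hcomm }
  exact ft_torus5_comm p hp hB σ τ z w hσ hτ hσz hτw hσw hτz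

theorem ft_pow_congr {V : Type*} [Monoid V] {v : V} {p a b : ℕ} (hv : v ^ p = 1)
    (h : a ≡ b [MOD p]) : v ^ a = v ^ b := by
  have h' : a % p = b % p := h
  rw [← Nat.mod_add_div a p, ← Nat.mod_add_div b p, pow_add, pow_add, pow_mul, pow_mul, hv,
    one_pow, one_pow, h']

theorem ft_exists_mul_modEq {p : ℕ} [Fact p.Prime] {c : ℕ} (hc : ¬ p ∣ c) (t : ℕ) :
    ∃ m : ℕ, c * m ≡ t [MOD p] := by
  have hc0 : (c : ZMod p) ≠ 0 := by
    intro h
    exact hc ((ZMod.natCast_eq_zero_iff c p).1 h)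
  refine ⟨((t : ZMod p) * (c : ZMod p)⁻¹).val, ?_⟩
  rw [← ZMod.natCast_eq_natCast_iff]
  push_cast
  rw [ZMod.natCast_zmod_val]
  field_simp

theorem ft_pow_eq_one_of_dvd {V : Type*} [Monoid V] {v : V} {p k : ℕ} (hv : v ^ p = 1) (h : p ∣ k) :
    v ^ k = 1 := by
  obtain ⟨e, rfl⟩ := h
  rw [pow_mul, hv, one_pow]

/-- iterates of a "transvection" -/
theorem ft_iter {V : Type*} [CommGroup V] (σ : MulAut V) (y v : V) (k : ℕ) (hy : σ y = y)
    (hv : σ v = v * y ^ k) (n : ℕ) : (σ ^ n) v = v * y ^ (n * k) := by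
  induction n with
  | zero => simp
  | succ n ih =>
    rw [pow_succ', MulAut.mul_apply, ih, map_mul, map_pow, hy, hv, mul_assoc, ← pow_add]
    congr 2
    ring

theorem torusV_comm {V : Type*} [CommGroup V] (p : ℕ) [Fact p.Prime] (hp : 5 ≤ p)
    (hB : ∀ b : V, b ^ p = 1) (σ γ : MulAut V) (y x : V)
    (ha : ∀ v, ∃ k : ℕ, σ v = v * y ^ k) (hb : σ y = y)
    (hc : ∀ v, σ v = v → ∃ k : ℕ, v = y ^ k) (hd : ∀ v, ∃ i k : ℕ, v = x ^ i * y ^ k) :
    (∃ m : ℕ, γ * σ * γ⁻¹ = σ ^ m) ∨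
    ((∀ k : ℕ, γ y ≠ y ^ k) ∧ ∃ d ∈ Subgroup.closure ({σ, γ * σ * γ⁻¹} : Set (MulAut V)),
      (∃ k : ℕ, d * σ * d⁻¹ = σ ^ k) ∧ ∃ j : ℕ, ¬ (j * j ≡ 1 [MOD p]) ∧ d (γ y) = (γ y) ^ j) := by
  have hpp : p.Prime := Fact.out
  set τ : MulAut V := γ * σ * γ⁻¹ with hτdef
  set w : V := γ y with hwdef
  have hτapp : ∀ v, τ v = γ (σ (γ⁻¹ v)) := fun v => rfl
  have F1 : ∀ v, ∃ k : ℕ, τ v = v * w ^ k := by
    intro v
    obtain ⟨k, hk⟩ := ha (γ⁻¹ v)
    refine ⟨k, ?_⟩
    rw [hτapp, hk, map_mul, map_pow, MulAut.apply_inv_self]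
  have F2 : τ w = w := by
    rw [hτapp, hwdef, MulAut.inv_apply_self, hb]
  by_cases hA : ∃ k : ℕ, w = y ^ k
  · left
    obtain ⟨k, hk⟩ := hA
    obtain ⟨c, hc1⟩ := ha x
    obtain ⟨c', hc'⟩ := F1 x
    by_cases h1 : y ^ c = 1
    · -- σ = 1
      refine ⟨0, ?_⟩
      have hσx : σ x = x := by rw [hc1, h1, mul_one]
      obtain ⟨e, he⟩ := hc x hσx
      have hσ1 : σ = 1 := by
        ext v
        obtain ⟨i, k2, rfl⟩ := hd v
        rw [map_mul, map_pow, map_pow, hσx, hb]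
        rfl
      rw [pow_zero, hτdef, hσ1, mul_one, mul_inv_cancel]
    · have hpc : ¬ p ∣ c := fun h => h1 (ft_pow_eq_one_of_dvd (hB y) h)
      have hy1 : y ≠ 1 := by
        rintro rfl
        exact h1 (one_pow c)
      have hpk : ¬ p ∣ k := by
        intro h
        have : w = 1 := by rw [hk]; exact ft_pow_eq_one_of_dvd (hB y) h
        apply hy1
        have h2 : γ y = γ 1 := by rw [map_one]; exact this
        exact γ.injective h2
      obtain ⟨m, hm⟩ := ft_exists_mul_modEq hpc (k * c')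
      obtain ⟨k', hk'⟩ := ft_exists_mul_modEq hpk 1
      refine ⟨m, ?_⟩
      have hγinv : γ⁻¹ y = y ^ k' := by
        have : γ (y ^ k') = y := by
          rw [map_pow, ← hwdef, hk, ← pow_mul]
          rw [ft_pow_congr (hB y) hk', pow_one]
        apply γ.injective
        rw [MulAut.apply_inv_self, this]
      have hτy : τ y = y := by
        rw [hτapp, hγinv, map_pow, hb, map_pow, ← hwdef, hk, ← pow_mul,
          ft_pow_congr (hB y) hk', pow_one]
      have hτx : τ x = x * y ^ (m * c) := by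
        rw [hc', hk, ← pow_mul]
        congr 1
        apply ft_pow_congr (hB y)
        rw [mul_comm m c]
        exact hm.symm
      ext v
      obtain ⟨i, k2, rfl⟩ := hd v
      rw [map_mul, map_pow, map_pow, hτy, hτx, map_mul, map_pow, map_pow,
        ft_iter σ y x c hb hc1 m, ft_iter σ y y 0 hb (by rw [pow_zero, mul_one, hb]) m]
      simp
  · right
    have hA' : ∀ k : ℕ, w ≠ y ^ k := fun k hk => hA ⟨k, hk⟩
    refine ⟨hA', ?_⟩
    have hσw : σ w ≠ w := by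
      intro h
      obtain ⟨k, hk⟩ := hc w h
      exact hA' k hk
    have hτz : τ y ≠ y := by
      intro h
      have h1 : σ (γ⁻¹ y) = γ⁻¹ y := by
        apply γ.injective
        rw [← hτapp, h, MulAut.apply_inv_self]
      obtain ⟨k, hk⟩ := hc _ h1
      have h2 : y = w ^ k := by
        have := congrArg γ hk
        rw [MulAut.apply_inv_self, map_pow] at this
        exact this
      by_cases hpk : p ∣ k
      · have hy1 : y = 1 := by rw [h2]; exact ft_pow_eq_one_of_dvd (hB w) hpk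
        obtain ⟨k3, hk3⟩ := ha w
        apply hσw
        rw [hk3, hy1, one_pow, mul_one]
      · obtain ⟨k', hk'⟩ := ft_exists_mul_modEq hpk 1
        apply hA' k'
        rw [h2, ← pow_mul, ft_pow_congr (hB w) hk', pow_one]
    exact ft_torus5 (fun a b => mul_comm a b) p hp hB σ τ y w ha F1 hb F2 hσw hτz

theorem torusV {V : Type*} [Group V] (hcomm : ∀ a b : V, a * b = b * a) (p : ℕ) [Fact p.Prime]
    (hp : 5 ≤ p)
    (hB : ∀ b : V, b ^ p = 1) (σ γ : MulAut V) (y x : V)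
    (ha : ∀ v, ∃ k : ℕ, σ v = v * y ^ k) (hb : σ y = y)
    (hc : ∀ v, σ v = v → ∃ k : ℕ, v = y ^ k) (hd : ∀ v, ∃ i k : ℕ, v = x ^ i * y ^ k) :
    (∃ m : ℕ, γ * σ * γ⁻¹ = σ ^ m) ∨
    ((∀ k : ℕ, γ y ≠ y ^ k) ∧ ∃ d ∈ Subgroup.closure ({σ, γ * σ * γ⁻¹} : Set (MulAut V)),
      (∃ k : ℕ, d * σ * d⁻¹ = σ ^ k) ∧ ∃ j : ℕ, ¬ (j * j ≡ 1 [MOD p]) ∧ d (γ y) = (γ y) ^ j) := by
  let inst : CommGroup V := { ‹Group V› with mul_comm := hcomm }
  exact torusV_comm p hp hB σ γ y x ha hb hc hd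

end Cfsg.Agent.Lib.H10.RK2
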