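import Mathlib
import Cfsg.Prelude.Def_FusionSystem
import Cfsg.Agent.Lib.H26.AutSylow
import Cfsg.Agent.Lib.H10.RK2FTV

set_option autoImplicit false

namespace Cfsg.Agent.Lib.H10.RK2

section quot

variable {G : Type*} [Group G] (N : Subgroup G) [N.Normal] (𝒜 : Subgroup (MulAut G))

omit [N.Normal] in
theorem ft_map_eq (h𝒜 : ∀ α ∈ 𝒜, ∀ g ∈ N, α g ∈ N) (α : 𝒜) :
    N.map ((α : MulAut G) : G →* G) = N := by
  apply le_antisymm
  · rintro _ ⟨g, hg, rfl⟩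
    exact h𝒜 α.1 α.2 g hg
  · intro g hg
    refine ⟨(α : MulAut G)⁻¹ g, h𝒜 _ (𝒜.inv_mem α.2) g hg, ?_⟩
    show (α : MulAut G) ((α : MulAut G)⁻¹ g) = g
    rw [MulAut.apply_inv_self]

/-- the action of a group of automorphisms preserving `N` on `G ⧸ N`. -/
noncomputable def ftBar (h𝒜 : ∀ α ∈ 𝒜, ∀ g ∈ N, α g ∈ N) : 𝒜 →* MulAut (G ⧸ N) where
  toFun α := QuotientGroup.congr N N (α : MulAut G) (ft_map_eq N 𝒜 h𝒜 α)
  map_one' := by
    ext v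
    induction v using QuotientGroup.induction_on with
    | H g => rfl
  map_mul' α β := by
    ext v
    induction v using QuotientGroup.induction_on with
    | H g => rfl

theorem ftBar_mk (h𝒜 : ∀ α ∈ 𝒜, ∀ g ∈ N, α g ∈ N) (α : 𝒜) (g : G) :
    ftBar N 𝒜 h𝒜 α (QuotientGroup.mk g) = QuotientGroup.mk ((α : MulAut G) g) := rfl

end quot

section FT

open Cfsg Cfsg.FusionSystem Cfsg.Agent.Lib.H25 Cfsg.Agent.Lib.H26

variable {Ω : Type*} [Group Ω] {S : Subgroup Ω}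

theorem ft_cAut_pow (R : Subgroup Ω) (s : Ω) (hs : s ∈ Subgroup.normalizer (R : Set Ω)) (i : ℕ)
    (x : R) : (((SmallCenter.cAut R s hs ^ i) x : R) : Ω) = s ^ i * x * (s ^ i)⁻¹ := by
  induction i generalizing x with
  | zero => simp
  | succ i ih =>
    rw [pow_succ, MulAut.mul_apply, ih, SmallCenter.cAut_coe, pow_succ, mul_inv_rev]
    simp only [mul_assoc]

theorem ft_conj_conj {G : Type*} [Group G] (δ : MulAut G) (g : G) :
    δ * MulAut.conj g * δ⁻¹ = MulAut.conj (δ g) := by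
  ext x
  simp [MulAut.conj_apply]

theorem ft_norm_of_conj {R : Subgroup Ω} (hRS : R ≤ S) (s₀ : Ω) (hs₀ : s₀ ∈ normalizerIn S R)
    (hN : ∀ g ∈ normalizerIn S R, ∃ i : ℕ, ∃ r ∈ R, g = s₀ ^ i * r) (δ : MulAut R)
    (hδ : δ * SmallCenter.cAut R s₀ hs₀.2 * δ⁻¹ ∈ autInducedBy S R) :
    ∀ t ∈ autInducedBy S R, δ * t * δ⁻¹ ∈ autInducedBy S R := by
  intro t ht
  obtain ⟨g, hgS, hg⟩ := (mem_autInducedBy_iff S R t).1 ht
  have hgN : g ∈ Subgroup.normalizer (R : Set Ω) := mem_normalizer_of_induces hg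
  obtain ⟨i, r, hr, hgir⟩ := hN g ⟨hgS, hgN⟩
  have ht_eq : t = SmallCenter.cAut R s₀ hs₀.2 ^ i * MulAut.conj (⟨r, hr⟩ : R) := by
    ext x
    rw [hg, MulAut.mul_apply, ft_cAut_pow, hgir]
    simp [MulAut.conj_apply, mul_assoc]
  have hconj : δ * t * δ⁻¹ =
      (δ * SmallCenter.cAut R s₀ hs₀.2 * δ⁻¹) ^ i * MulAut.conj (δ ⟨r, hr⟩) := by
    rw [ht_eq, ← ft_conj_conj, conj_pow]
    group
  rw [hconj]
  refine Subgroup.mul_mem _ (Subgroup.pow_mem _ hδ i) ?_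
  refine (mem_autInducedBy_iff S R _).2 ⟨((δ ⟨r, hr⟩ : R) : Ω), hRS (δ ⟨r, hr⟩).2, fun x => ?_⟩
  simp [MulAut.conj_apply]

/-- **FT** (torus extension). -/
theorem torus_extension {Ω : Type*} [Group Ω] {S : Subgroup Ω} [Finite S] {p : ℕ} [Fact p.Prime]
    (hS : IsPGroup p S) {F : FusionSystem S} (hF : F.IsSaturated p) (hp : 5 ≤ p)
    {R D Y : Subgroup Ω} (hfn : F.IsFullyNormalized R) (hDY : D ≤ Y) (hYR : Y ≤ R)
    (hDinv : ∀ α ∈ F.autGroup R, ∀ r : R, (r : Ω) ∈ D → ((α r : R) : Ω) ∈ D)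
    (hcomm : ∀ a ∈ R, ∀ b ∈ R, a * b * a⁻¹ * b⁻¹ ∈ D)
    (hexp : ∀ a ∈ R, a ^ p ∈ D)
    (s₀ : Ω) (hs₀ : s₀ ∈ normalizerIn S R)
    (hN : ∀ g ∈ normalizerIn S R, ∃ i : ℕ, ∃ r ∈ R, g = s₀ ^ i * r)
    (hsD : ∀ d ∈ D, s₀ * d * s₀⁻¹ = d)
    (hmove : ∀ r ∈ R, s₀ * r * s₀⁻¹ * r⁻¹ ∈ Y)
    (y₀ : Ω) (hy₀ : y₀ ∈ Y) (hsy : s₀ * y₀ * s₀⁻¹ * y₀⁻¹ ∈ D)
    (hYgen : ∀ r ∈ Y, ∃ k : ℕ, ∃ d ∈ D, r = y₀ ^ k * d)
    (hfix : ∀ r ∈ R, s₀ * r * s₀⁻¹ * r⁻¹ ∈ D → r ∈ Y)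
    (x₀ : Ω) (hx₀ : x₀ ∈ R) (hRgen : ∀ r ∈ R, ∃ i : ℕ, ∃ e ∈ Y, r = x₀ ^ i * e)
    (hnn : ∃ γ ∈ F.autGroup R, ∃ t ∈ autInducedBy S R, γ * t * γ⁻¹ ∉ autInducedBy S R) :
    ∃ (β : Ω → Ω) (N' : Subgroup Ω), IsIso F (normalizerIn S R) N' β ∧ (∀ r ∈ R, β r ∈ R) ∧
      ∃ u ∈ R, u ∉ Y ∧ ∃ j : ℕ, ¬ (j * j ≡ 1 [MOD p]) ∧ ∃ e ∈ Y, β u = u ^ j * e := by
  classical
  have hRS : R ≤ S := hfn.1
  have hfinR : Finite R := finite_of_le S hRS
  obtain ⟨hfc, hfa⟩ := fullyNormalized_props hS hF hfn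
  have hrec := isReceptive_of_fullyCentralized hS hF hfc
  have hDR : D ≤ R := hDY.trans hYR
  obtain ⟨γ, hγ, t, ht, hnt⟩ := hnn
  set σ : MulAut R := SmallCenter.cAut R s₀ hs₀.2 with hσdef
  have hσS : σ ∈ autInducedBy S R := SmallCenter.cAut_mem_autInducedBy hs₀.1 hs₀.2
  have hσF : σ ∈ F.autGroup R := autInducedBy_le_autGroup F hRS hσS
  set τ : MulAut R := γ * σ * γ⁻¹ with hτdef
  have hτF : τ ∈ F.autGroup R :=
    Subgroup.mul_mem _ (Subgroup.mul_mem _ hγ hσF) (Subgroup.inv_mem _ hγ)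
  have hτS : τ ∉ autInducedBy S R := fun h => hnt (ft_norm_of_conj hRS s₀ hs₀ hN γ h t ht)
  -- the quotient
  set N : Subgroup R := D.subgroupOf R with hNdef
  have hmemN : ∀ r : R, r ∈ N ↔ (r : Ω) ∈ D := fun r => Subgroup.mem_subgroupOf
  have hNn : N.Normal := by
    refine ⟨fun d hd a => ?_⟩
    rw [hmemN] at hd ⊢
    have h1 := hcomm a a.2 d (hDR hd)
    have : ((a * d * a⁻¹ : R) : Ω) = (a : Ω) * d * (a : Ω)⁻¹ * (d : Ω)⁻¹ * d := by simp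
    rw [this]
    exact D.mul_mem h1 hd
  set 𝒜 : Subgroup (MulAut R) := F.autGroup R with h𝒜def
  have h𝒜 : ∀ α ∈ 𝒜, ∀ g ∈ N, α g ∈ N := by
    intro α hα g hg
    rw [hmemN] at hg ⊢
    exact hDinv α hα g hg
  set Φ : 𝒜 →* MulAut (R ⧸ N) := ftBar N 𝒜 h𝒜 with hΦdef
  set π : R →* R ⧸ N := QuotientGroup.mk' N with hπdef
  have hπ1 : ∀ r : R, π r = 1 ↔ (r : Ω) ∈ D := fun r => by
    rw [← hmemN]; exact QuotientGroup.eq_one_iff r
  have hΦπ : ∀ (α : 𝒜) (r : R), Φ α (π r) = π ((α : MulAut R) r) := fun α r => rfl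
  have hVcomm : ∀ a b : R ⧸ N, a * b = b * a := by
    intro a b
    induction a using QuotientGroup.induction_on with
    | H a =>
    induction b using QuotientGroup.induction_on with
    | H b =>
    show π a * π b = π b * π a
    rw [← map_mul, ← map_mul, ← mul_inv_eq_one, ← map_inv, ← map_mul, hπ1]
    have h1 := hcomm a a.2 b b.2
    have e : ((a * b * (b * a)⁻¹ : R) : Ω) = (a : Ω) * b * (a : Ω)⁻¹ * (b : Ω)⁻¹ := by
      simp [mul_assoc]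
    rw [e]
    exact h1
  have hVexp : ∀ v : R ⧸ N, v ^ p = 1 := by
    intro v
    induction v using QuotientGroup.induction_on with
    | H a =>
    show π a ^ p = 1
    rw [← map_pow, hπ1]
    exact hexp a a.2
  set y₀' : R := ⟨y₀, hYR hy₀⟩ with hy₀'
  set x₀' : R := ⟨x₀, hx₀⟩ with hx₀'
  set σ' : 𝒜 := ⟨σ, hσF⟩ with hσ'
  set γ' : 𝒜 := ⟨γ, hγ⟩ with hγ'
  have hYπ : ∀ r : R, (r : Ω) ∈ Y → ∃ k : ℕ, π r = π y₀' ^ k := by
    intro r hr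
    obtain ⟨k, d, hd, hrd⟩ := hYgen r hr
    refine ⟨k, ?_⟩
    have : r = y₀' ^ k * ⟨d, hDR hd⟩ := Subtype.ext (by simpa using hrd)
    rw [this, map_mul, map_pow, (hπ1 ⟨d, hDR hd⟩).2 hd, mul_one]
  have ha : ∀ v : R ⧸ N, ∃ k : ℕ, Φ σ' v = v * π y₀' ^ k := by
    intro v
    induction v using QuotientGroup.induction_on with
    | H r =>
    show ∃ k : ℕ, Φ σ' (π r) = π r * π y₀' ^ k
    have hm : ((σ r * r⁻¹ : R) : Ω) ∈ Y := hmove r r.2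
    obtain ⟨k, hk⟩ := hYπ (σ r * r⁻¹) hm
    refine ⟨k, ?_⟩
    rw [hΦπ, ← hk, map_mul, map_inv, hVcomm (π r), inv_mul_cancel_right]
  have hb : Φ σ' (π y₀') = π y₀' := by
    rw [hΦπ, ← mul_inv_eq_one, ← map_inv, ← map_mul, hπ1]
    exact hsy
  have hc : ∀ v, Φ σ' v = v → ∃ k : ℕ, v = π y₀' ^ k := by
    intro v
    induction v using QuotientGroup.induction_on with
    | H r =>
    intro h
    change Φ σ' (π r) = π r at h
    rw [hΦπ, ← mul_inv_eq_one, ← map_inv, ← map_mul, hπ1] at h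
    exact hYπ r (hfix r r.2 h)
  have hd : ∀ v, ∃ i k : ℕ, v = π x₀' ^ i * π y₀' ^ k := by
    intro v
    induction v using QuotientGroup.induction_on with
    | H r =>
    obtain ⟨i, e, he, hre⟩ := hRgen r r.2
    obtain ⟨k, hk⟩ := hYπ ⟨e, hYR he⟩ he
    refine ⟨i, k, ?_⟩
    have : r = x₀' ^ i * ⟨e, hYR he⟩ := Subtype.ext (by simpa using hre)
    show π r = _
    rw [this, map_mul, map_pow, hk]
  -- pointwise fixers of `D`
  let FixD : Subgroup (MulAut R) :=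
    { carrier := {α | ∀ x : R, (x : Ω) ∈ D → α x = x}
      one_mem' := fun x _ => rfl
      mul_mem' := fun {a b} ha hb x hx => by
        show a (b x) = x
        rw [hb x hx, ha x hx]
      inv_mem' := fun {a} ha x hx => by
        have := ha x hx
        calc a⁻¹ x = a⁻¹ (a x) := by rw [this]
          _ = x := by simp }
  have hσfix : σ ∈ FixD := fun x hx => Subtype.ext (hsD x hx)
  have hτfix : τ ∈ FixD := by
    intro x hx
    show γ (σ (γ⁻¹ x)) = x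
    have h1 : ((γ⁻¹ x : R) : Ω) ∈ D := hDinv γ⁻¹ (Subgroup.inv_mem _ hγ) x hx
    rw [hσfix _ h1]
    simp
  have hstab : ∀ (κ : MulAut R) (hκ : κ ∈ F.autGroup R), κ ∈ FixD → Φ ⟨κ, hκ⟩ = 1 →
      κ ∈ autInducedBy S R := by
    intro κ hκ hκfix hκ1
    apply AutSylow.mem_autInducedBy_of_stab hS hfa hDR
      (fun τ' h => hDinv τ' (autInducedBy_le_autGroup F hRS h))
    refine ⟨hκ, fun x => ?_, hκfix⟩
    have h1 : π (κ x) = π x := by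
      have := hΦπ ⟨κ, hκ⟩ x
      rw [hκ1] at this
      exact this.symm
    have h2 : π (x⁻¹ * κ x) = 1 := by rw [map_mul, map_inv, h1, inv_mul_cancel]
    exact (hπ1 _).1 h2
  rcases torusV hVcomm p hp hVexp (Φ σ') (Φ γ') (π y₀') (π x₀') ha hb hc hd with
    ⟨m, hm⟩ | ⟨hB1, dbar, hdbar, ⟨k, hk⟩, j, hj, hdj⟩
  · exfalso
    have hκF : τ * (σ ^ m)⁻¹ ∈ F.autGroup R :=
      Subgroup.mul_mem _ hτF (Subgroup.inv_mem _ (Subgroup.pow_mem _ hσF m))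
    have hκfix : τ * (σ ^ m)⁻¹ ∈ FixD :=
      FixD.mul_mem hτfix (FixD.inv_mem (FixD.pow_mem hσfix m))
    have hκ1 : Φ ⟨τ * (σ ^ m)⁻¹, hκF⟩ = 1 := by
      have : (⟨τ * (σ ^ m)⁻¹, hκF⟩ : 𝒜) = (γ' * σ' * γ'⁻¹) * (σ' ^ m)⁻¹ := rfl
      rw [this, map_mul, map_mul, map_mul, map_inv, map_inv, map_pow, hm, mul_inv_cancel]
    have hκS := hstab _ hκF hκfix hκ1
    apply hτS
    have : τ = τ * (σ ^ m)⁻¹ * σ ^ m := by rw [inv_mul_cancel_right]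
    rw [this]
    exact Subgroup.mul_mem _ hκS (Subgroup.pow_mem _ hσS m)
  · have hcl : Subgroup.closure ({Φ σ', Φ γ' * Φ σ' * (Φ γ')⁻¹} : Set (MulAut (R ⧸ N))) =
        (Subgroup.closure ({σ', γ' * σ' * γ'⁻¹} : Set 𝒜)).map Φ := by
      rw [MonoidHom.map_closure, Set.image_pair, map_mul, map_mul, map_inv]
    rw [hcl] at hdbar
    obtain ⟨d', hd'cl, rfl⟩ := hdbar
    have hdF : (d' : MulAut R) ∈ F.autGroup R := d'.2
    have hdfix : (d' : MulAut R) ∈ FixD := by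
      have hle : Subgroup.closure ({σ', γ' * σ' * γ'⁻¹} : Set 𝒜) ≤ FixD.subgroupOf 𝒜 := by
        rw [Subgroup.closure_le]
        rintro a (rfl | rfl)
        · exact hσfix
        · exact hτfix
      exact hle hd'cl
    have hκF : (d' : MulAut R) * σ * (d' : MulAut R)⁻¹ * (σ ^ k)⁻¹ ∈ F.autGroup R :=
      Subgroup.mul_mem _ (Subgroup.mul_mem _ (Subgroup.mul_mem _ hdF hσF) (Subgroup.inv_mem _ hdF))
        (Subgroup.inv_mem _ (Subgroup.pow_mem _ hσF k))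
    have hκfix : (d' : MulAut R) * σ * (d' : MulAut R)⁻¹ * (σ ^ k)⁻¹ ∈ FixD :=
      FixD.mul_mem (FixD.mul_mem (FixD.mul_mem hdfix hσfix) (FixD.inv_mem hdfix))
        (FixD.inv_mem (FixD.pow_mem hσfix k))
    have hκ1 : Φ ⟨(d' : MulAut R) * σ * (d' : MulAut R)⁻¹ * (σ ^ k)⁻¹, hκF⟩ = 1 := by
      have : (⟨(d' : MulAut R) * σ * (d' : MulAut R)⁻¹ * (σ ^ k)⁻¹, hκF⟩ : 𝒜) =
          (d' * σ' * d'⁻¹) * (σ' ^ k)⁻¹ := rfl
      rw [this, map_mul, map_mul, map_mul, map_inv, map_inv, map_pow, hk, mul_inv_cancel]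
    have hκS := hstab _ hκF hκfix hκ1
    have hdσ : (d' : MulAut R) * σ * (d' : MulAut R)⁻¹ ∈ autInducedBy S R := by
      have : (d' : MulAut R) * σ * (d' : MulAut R)⁻¹ =
          (d' : MulAut R) * σ * (d' : MulAut R)⁻¹ * (σ ^ k)⁻¹ * σ ^ k := by
        rw [inv_mul_cancel_right]
      rw [this]
      exact Subgroup.mul_mem _ hκS (Subgroup.pow_mem _ hσS k)
    have hnorm := ft_norm_of_conj hRS s₀ hs₀ hN (d' : MulAut R) hdσ
    obtain ⟨β, N', hβ, hβR⟩ := AutSylow.extend_normalizing hrec hdF hnorm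
    refine ⟨β, N', hβ, fun r hr => ?_, ?_⟩
    · rw [hβR ⟨r, hr⟩]
      exact ((d' : MulAut R) ⟨r, hr⟩).2
    · refine ⟨((γ y₀' : R) : Ω), (γ y₀').2, ?_, j, hj, ?_⟩
      · intro huY
        obtain ⟨k2, hk2⟩ := hYπ (γ y₀') huY
        exact hB1 k2 hk2
      · have h1 : π ((d' : MulAut R) (γ y₀')) = π ((γ y₀') ^ j) := by
          rw [map_pow]
          exact hdj
        have h2 : π (((γ y₀') ^ j)⁻¹ * (d' : MulAut R) (γ y₀')) = 1 := by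
          rw [map_mul, map_inv, h1, inv_mul_cancel]
        refine ⟨((((γ y₀') ^ j)⁻¹ * (d' : MulAut R) (γ y₀') : R) : Ω), hDY ((hπ1 _).1 h2), ?_⟩
        rw [hβR (γ y₀')]
        simp

end FT

end Cfsg.Agent.Lib.H10.RK2
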