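import Mathlib
import Cfsg.Prelude.Def_Transfer
import Cfsg.Prelude.Def_Solvable

/-!
helper10: common definitions (the CUT) for S4415.  Light file, definitions only.

Setting after the FRONT part: a finite group `S` acting on a finite `F_3`-module `E` via `ρ`,
`R ≤ S` a `3'`-subgroup normalised by `b` of order `3` with `[R,b] = R`, and `W = [E,R]`.
-/

set_option autoImplicit false

namespace Cfsg.Agent.Lib.H10.S4415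

variable {S E : Type*} [Group S] [AddCommGroup E] [Module (ZMod 3) E]

/-- The subgroup `R<b>`. -/
def RB (R : Subgroup S) (b : S) : Subgroup S := R ⊔ Subgroup.zpowers b

/-- `A` is normalised by (every element of) `G`. -/
def NormBy (G A : Subgroup S) : Prop := ∀ g ∈ G, ∀ a ∈ A, g * a * g⁻¹ ∈ A

/-- The submodule `W` is invariant under `G`. -/
def InvBy (ρ : Representation (ZMod 3) S E) (G : Subgroup S) (W : Submodule (ZMod 3) E) : Prop :=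
  ∀ g ∈ G, ∀ w ∈ W, ρ g w ∈ W

/-- The linear context delivered by the FRONT part: `R<b>` acts faithfully and irreducibly on `W`. -/
structure LinCtx (ρ : Representation (ZMod 3) S E) (R : Subgroup S) (b : S)
    (W : Submodule (ZMod 3) E) : Prop where
  b_ord : orderOf b = 3
  b_norm : ∀ r ∈ R, b * r * b⁻¹ ∈ R
  R_coprime : (Nat.card R).Coprime 3
  R_comm : ⁅R, Subgroup.zpowers b⁆ = R
  R_solv : Group.IsSolvable R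
  W_inv : InvBy ρ (RB R b) W
  faithful : ∀ g ∈ RB R b, (∀ w ∈ W, ρ g w = w) → g = 1
  irred : ∀ N : Submodule (ZMod 3) E, N ≤ W → InvBy ρ (RB R b) N → N = ⊥ ∨ N = W

/-- The four-group `Q = {1, x₁, x₂, x₃} ≤ R` with its eigenlines `F_3 e_i ≤ W`, cycled by `b`;
`W = C_W(Q) ⊕ F_3 e₁ ⊕ F_3 e₂ ⊕ F_3 e₃` and `b` is trivial on `C_W(Q)`. -/
structure QData (ρ : Representation (ZMod 3) S E) (R : Subgroup S) (b : S)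
    (W : Submodule (ZMod 3) E) (x₁ x₂ x₃ : S) (e₁ e₂ e₃ : E) : Prop where
  x₁R : x₁ ∈ R
  x₂R : x₂ ∈ R
  x₃R : x₃ ∈ R
  x₁sq : x₁ * x₁ = 1
  x₂sq : x₂ * x₂ = 1
  x₃sq : x₃ * x₃ = 1
  x₁x₂ : x₁ * x₂ = x₃
  x₂x₁ : x₂ * x₁ = x₃
  bx₁ : b * x₁ * b⁻¹ = x₂
  bx₂ : b * x₂ * b⁻¹ = x₃
  bx₃ : b * x₃ * b⁻¹ = x₁
  e₁W : e₁ ∈ W
  e₂W : e₂ ∈ W
  e₃W : e₃ ∈ W
  e₁ne : e₁ ≠ 0
  be₁ : ρ b e₁ = e₂
  be₂ : ρ b e₂ = e₃
  be₃ : ρ b e₃ = e₁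
  x₁e₁ : ρ x₁ e₁ = e₁
  x₁e₂ : ρ x₁ e₂ = -e₂
  x₁e₃ : ρ x₁ e₃ = -e₃
  x₂e₁ : ρ x₂ e₁ = -e₁
  x₂e₂ : ρ x₂ e₂ = e₂
  x₂e₃ : ρ x₂ e₃ = -e₃
  x₃e₁ : ρ x₃ e₁ = -e₁
  x₃e₂ : ρ x₃ e₂ = -e₂
  x₃e₃ : ρ x₃ e₃ = e₃
  decomp : ∀ w ∈ W, ∃ w₀ ∈ W, ∃ c₁ c₂ c₃ : ZMod 3,
    w = w₀ + c₁ • e₁ + c₂ • e₂ + c₃ • e₃ ∧ ρ x₁ w₀ = w₀ ∧ ρ x₂ w₀ = w₀ ∧ ρ x₃ w₀ = w₀ ∧ ρ b w₀ = w₀

/-- BAD case: every `R<b>`-normal elementary abelian `2`-subgroup of `R` acts on `W` by scalars `±1`. -/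
def Bad (ρ : Representation (ZMod 3) S E) (R : Subgroup S) (b : S)
    (W : Submodule (ZMod 3) E) : Prop :=
  ∀ A : Subgroup S, A ≤ R → NormBy (RB R b) A → Cfsg.IsElementaryAbelian 2 A →
    ∀ a ∈ A, (∀ w ∈ W, ρ a w = w) ∨ (∀ w ∈ W, ρ a w = -w)

/-- The structural conclusion of S4415 about `R = [O_{3'}(S), B]`. -/
def Concl (R : Subgroup S) : Prop :=
  (Cfsg.IsElementaryAbelian 2 R ∧ Nat.card ↥R = 4) ∨
  (Cfsg.IsExtraspecial 2 ↥R ∧ Nat.card ↥R = 32 ∧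
    ∃ A : Subgroup S, A ≤ R ∧ Cfsg.IsElementaryAbelian 2 A ∧ Nat.card ↥A = 8)

/-- Shape of the FRONT piece (steps (1)-(3) + faithful + irreducible). -/
def FrontStmt : Prop :=
  ∀ {S : Type*} [Group S] [Finite S] [Group.IsSolvable S] {E : Type*} [AddCommGroup E]
    [Module (ZMod 3) E] [Finite E] (ρ : Representation (ZMod 3) S E)
    (_hfaith : Function.Injective ρ) (_hO3 : Cfsg.pCore 3 S = ⊥)
    (B : Subgroup S) (_hB : Nat.card ↥B = 3) (b : S) (_hb : Subgroup.zpowers b = B)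
    (E₀ E₁ : Submodule (ZMod 3) E) (_hE01 : E₀ ⊓ E₁ = ⊥) (_hE01' : E₀ ⊔ E₁ = ⊤)
    (_hE1 : ∀ v ∈ E₁, ρ b v = v) (_hE0inv : ∀ v ∈ E₀, ρ b v ∈ E₀) (_hE0 : Nat.card ↥E₀ = 27)
    (_hind : ∃ v ∈ E₀, ρ b (ρ b v - v) - (ρ b v - v) ≠ 0)
    (Q : Subgroup S) (_hQ : Cfsg.IsElementaryAbelian 2 Q) (_hQ4 : Nat.card ↥Q = 4)
    (_hBQ : B ≤ Subgroup.normalizer (Q : Set S)) (_hBQ' : ¬ B ≤ Subgroup.centralizer (Q : Set S))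
    (P : Sylow 3 S) (_hBZ : (Subgroup.center ↥(P : Subgroup S)).map (P : Subgroup S).subtype = B),
    ∃ (W C : Submodule (ZMod 3) E) (x₁ x₂ x₃ : S) (e₁ e₂ e₃ : E),
      W ⊓ C = ⊥ ∧ W ⊔ C = ⊤ ∧
      (∀ r ∈ ⁅Cfsg.pPrimeCore 3 S, B⁆, ∀ v ∈ C, ρ r v = v) ∧
      LinCtx ρ ⁅Cfsg.pPrimeCore 3 S, B⁆ b W ∧
      QData ρ ⁅Cfsg.pPrimeCore 3 S, B⁆ b W x₁ x₂ x₃ e₁ e₂ e₃

/-- Shape of the GOOD piece. -/
def GoodStmt : Prop :=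
  ∀ {S : Type*} [Group S] [Finite S] {E : Type*} [AddCommGroup E]
    [Module (ZMod 3) E] [Finite E] (ρ : Representation (ZMod 3) S E)
    (R : Subgroup S) (b : S) (W : Submodule (ZMod 3) E) (x₁ x₂ x₃ : S) (e₁ e₂ e₃ : E),
    LinCtx ρ R b W → QData ρ R b W x₁ x₂ x₃ e₁ e₂ e₃ → ¬ Bad ρ R b W → Concl R

/-- Shape of the BAD piece. -/
def BadStmt : Prop :=
  ∀ {S : Type*} [Group S] [Finite S] {E : Type*} [AddCommGroup E]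
    [Module (ZMod 3) E] [Finite E] (ρ : Representation (ZMod 3) S E)
    (R : Subgroup S) (b : S) (W : Submodule (ZMod 3) E) (x₁ x₂ x₃ : S) (e₁ e₂ e₃ : E),
    LinCtx ρ R b W → QData ρ R b W x₁ x₂ x₃ e₁ e₂ e₃ → Bad ρ R b W → Concl R

end Cfsg.Agent.Lib.H10.S4415
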