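import Cfsg.Agent.Lib.H1.S77.Hyp

/-!
# S0429 piece (COCL1): a 21-coclique through `v0` and `b` contains the class of `b` (helper10)
-/

set_option autoImplicit false
set_option linter.unusedSectionVars false
open Cfsg

namespace Cfsg.Agent.Lib.H10.S77

open Cfsg.Agent.Lib.H1.S77 Finset

section
variable {V : Type*} [Fintype V] [DecidableEq V] {G : SimpleGraph V} [DecidableRel G.Adj]
variable {v0 : V}

/-- (COCL1) -/
theorem cls_subset_of_mem_HC (hG : G.IsSRGWith 77 16 0 4) (hh : HHoff G) (hc : HCard G v0)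
    {C : Finset V} (hC : IsHC G C) (h0 : v0 ∈ C) {b : V} (hb : b ∈ C) (hb0 : b ≠ v0) :
    cls G v0 b ⊆ C := by
  have hbB : b ∈ nB G v0 := mem_nB.mpr ⟨hb0, hC.2 v0 h0 b hb⟩
  set D : Finset V := (C.erase v0).erase b with hD
  have hbC' : b ∈ C.erase v0 := Finset.mem_erase.mpr ⟨hb0, hb⟩
  have hDcard : D.card = 19 := by
    rw [hD, Finset.card_erase_of_mem hbC', Finset.card_erase_of_mem h0, hC.1]
  have hDsub : ∀ x ∈ D, x ∈ C ∧ x ≠ v0 ∧ x ≠ b := by
    intro x hx
    rw [hD, Finset.mem_erase, Finset.mem_erase] at hx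
    exact ⟨hx.2.2, hx.2.1, hx.1⟩
  -- each point of the block of `b` has exactly four neighbours in `D`
  have h4 : ∀ a ∈ blk G v0 b, (G.neighborFinset a ∩ D).card = 4 := by
    intro a ha
    rw [mem_blk] at ha
    have haC : a ∉ C := fun h => hC.2 b hb a h ha.1
    have h6 := hh C hC a haC
    have hsplit : G.neighborFinset a ∩ C = insert v0 (insert b (G.neighborFinset a ∩ D)) := by
      ext x
      rw [Finset.mem_inter, Finset.mem_insert, Finset.mem_insert, Finset.mem_inter,
        SimpleGraph.mem_neighborFinset, hD, Finset.mem_erase, Finset.mem_erase]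
      constructor
      · rintro ⟨h1, h2⟩
        by_cases hx0 : x = v0
        · exact Or.inl hx0
        · by_cases hxb : x = b
          · exact Or.inr (Or.inl hxb)
          · exact Or.inr (Or.inr ⟨h1, hxb, hx0, h2⟩)
      · rintro (rfl | rfl | ⟨h1, -, -, h2⟩)
        · exact ⟨ha.2.symm, h0⟩
        · exact ⟨ha.1.symm, hb⟩
        · exact ⟨h1, h2⟩
    have hn1 : b ∉ G.neighborFinset a ∩ D := by
      intro h
      exact (hDsub b (Finset.mem_inter.mp h).2).2.2 rfl
    have hn0 : v0 ∉ insert b (G.neighborFinset a ∩ D) := by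
      intro h
      rcases Finset.mem_insert.mp h with h | h
      · exact hb0 h.symm
      · exact (hDsub v0 (Finset.mem_inter.mp h).2).2.1 rfl
    rw [hsplit, Finset.card_insert_of_notMem hn0, Finset.card_insert_of_notMem hn1] at h6
    omega
  -- double counting
  have hsum : ∑ b' ∈ D, (blk G v0 b ∩ blk G v0 b').card = 16 := by
    have h1 : ∀ b' ∈ D, (blk G v0 b ∩ blk G v0 b').card
        = ((blk G v0 b).bipartiteAbove (fun b' x => x ∈ blk G v0 b') b').card := by
      intro b' _
      rw [Finset.bipartiteAbove, Finset.filter_mem_eq_inter]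
    rw [Finset.sum_congr rfl h1, Finset.sum_card_bipartiteAbove_eq_sum_card_bipartiteBelow]
    have h2 : ∀ a ∈ blk G v0 b,
        (D.bipartiteBelow (fun b' x => x ∈ blk G v0 b') a).card = 4 := by
      intro a ha
      rw [← h4 a ha]
      congr 1
      ext x
      rw [Finset.bipartiteBelow, Finset.mem_filter, Finset.mem_inter,
        SimpleGraph.mem_neighborFinset, mem_blk]
      constructor
      · rintro ⟨h, h', -⟩
        exact ⟨h'.symm, h⟩
      · rintro ⟨h, h'⟩
        exact ⟨h', h.symm, (mem_blk.mp ha).2⟩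
    rw [Finset.sum_congr rfl h2, Finset.sum_const, card_blk hG hbB]
    rfl
  -- at least three zeros
  set Z : Finset V := D.filter (fun b' => (blk G v0 b ∩ blk G v0 b').card = 0) with hZ
  have hZ3 : 3 ≤ Z.card := by
    have h1 : (D.filter (fun b' => ¬ (blk G v0 b ∩ blk G v0 b').card = 0)).card ≤
        ∑ b' ∈ D, (blk G v0 b ∩ blk G v0 b').card := by
      rw [Finset.card_filter]
      refine Finset.sum_le_sum (fun b' _ => ?_)
      by_cases h : (blk G v0 b ∩ blk G v0 b').card = 0
      · rw [if_neg (not_not.mpr h)]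
        exact Nat.zero_le _
      · rw [if_pos h]
        omega
    have h2 := Finset.card_filter_add_card_filter_not (s := D)
      (fun b' => (blk G v0 b ∩ blk G v0 b').card = 0)
    rw [hDcard, ← hZ] at h2
    rw [hsum] at h1
    omega
  -- the zeros are mates
  have hZsub : Z ⊆ (cls G v0 b).erase b := by
    intro x hx
    rw [hZ, Finset.mem_filter] at hx
    obtain ⟨hxC, hx0, hxb⟩ := hDsub x hx.1
    rw [Finset.mem_erase, mem_cls]
    refine ⟨hxb, mem_nB.mpr ⟨hx0, hC.2 v0 h0 x hxC⟩, Or.inr ⟨hC.2 b hb x hxC, ?_⟩⟩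
    rw [Finset.disjoint_iff_inter_eq_empty, ← Finset.card_eq_zero]
    exact hx.2
  have hcard3 : ((cls G v0 b).erase b).card = 3 := by
    rw [Finset.card_erase_of_mem (self_mem_cls hbB), hc b hbB]
  have hZeq : Z = (cls G v0 b).erase b :=
    Finset.eq_of_subset_of_card_le hZsub (by rw [hcard3]; exact hZ3)
  intro x hx
  by_cases hxb : x = b
  · rw [hxb]; exact hb
  · have : x ∈ Z := by
      rw [hZeq]
      exact Finset.mem_erase.mpr ⟨hxb, hx⟩
    rw [hZ, Finset.mem_filter] at this
    exact (hDsub x this.1).1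

end

end Cfsg.Agent.Lib.H10.S77
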