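import Cfsg.Agent.Lib.H1.S77.Hyp

/-!
# S0429 piece (PSD): the quadratic form of `22 I - 11 A + 2 J` is non-negative (helper10)

`u x = 22 w x - 11 a x + 2 S` with `a x = ∑_{y ~ x} w y`, `S = ∑ w`; then `∑ u² = 88 Q(w)`.
-/

set_option autoImplicit false
set_option linter.unusedSectionVars false
open Cfsg

namespace Cfsg.Agent.Lib.H10.S77

open Cfsg.Agent.Lib.H1.S77 Finset

section
variable {V : Type*} [Fintype V] [DecidableEq V] {G : SimpleGraph V} [DecidableRel G.Adj]

theorem sum_nbr_eq_sum_ite (x : V) (f : V → ℤ) :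
    ∑ y ∈ G.neighborFinset x, f y = ∑ y, if G.Adj x y then f y else 0 := by
  rw [SimpleGraph.neighborFinset_eq_filter, Finset.sum_filter]

/-- the number of common neighbours as an integer -/
theorem sum_ite_mul_ite (w : V → ℤ) (y z : V) :
    ∑ x, (if G.Adj x y then w y else 0) * (if G.Adj x z then w z else 0) =
      ((G.neighborFinset y ∩ G.neighborFinset z).card : ℤ) * (w y * w z) := by
  have h : ∀ x, (if G.Adj x y then w y else 0) * (if G.Adj x z then w z else 0) =
      if x ∈ G.neighborFinset y ∩ G.neighborFinset z then w y * w z else 0 := by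
    intro x
    by_cases h1 : G.Adj x y
    · by_cases h2 : G.Adj x z
      · have hm : x ∈ G.neighborFinset y ∩ G.neighborFinset z := by
          rw [Finset.mem_inter, SimpleGraph.mem_neighborFinset, SimpleGraph.mem_neighborFinset]
          exact ⟨h1.symm, h2.symm⟩
        rw [if_pos h1, if_pos h2, if_pos hm]
      · have hm : ¬ x ∈ G.neighborFinset y ∩ G.neighborFinset z := by
          rw [Finset.mem_inter, SimpleGraph.mem_neighborFinset, SimpleGraph.mem_neighborFinset]
          exact fun h => h2 h.2.symm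
        rw [if_neg h2, mul_zero, if_neg hm]
    · have hm : ¬ x ∈ G.neighborFinset y ∩ G.neighborFinset z := by
        rw [Finset.mem_inter, SimpleGraph.mem_neighborFinset, SimpleGraph.mem_neighborFinset]
        exact fun h => h1 h.1.symm
      rw [if_neg h1, zero_mul, if_neg hm]
  have hf : Finset.univ.filter (fun x => x ∈ G.neighborFinset y ∩ G.neighborFinset z) =
      G.neighborFinset y ∩ G.neighborFinset z := by
    ext x
    simp
  rw [Finset.sum_congr rfl (fun x _ => h x), ← Finset.sum_filter, Finset.sum_const, nsmul_eq_mul,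
    hf]

theorem common_eq (hG : G.IsSRGWith 77 16 0 4) (y z : V) :
    ((G.neighborFinset y ∩ G.neighborFinset z).card : ℤ) =
      4 - (if G.Adj y z then 4 else 0) + (if z = y then 12 else 0) := by
  by_cases hzy : z = y
  · subst hzy
    rw [if_neg (G.loopless.irrefl z), if_pos rfl, Finset.inter_self, deg hG]
    norm_num
  · by_cases hadj : G.Adj y z
    · rw [if_pos hadj, if_neg hzy, adj_common hG hadj]
      norm_num
    · rw [if_neg hadj, if_neg hzy, nadj_common hG (fun h => hzy h.symm) hadj]
      norm_num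

/-- (PSD) -/
theorem psd (hG : G.IsSRGWith 77 16 0 4) : HPsd G := by
  intro w
  set S : ℤ := ∑ x, w x with hS
  set a : V → ℤ := fun x => ∑ y ∈ G.neighborFinset x, w y with ha
  set P : ℤ := ∑ x, w x ^ 2 with hP
  set E : ℤ := ∑ x, w x * a x with hE
  have hE' : ∑ x, ∑ y ∈ G.neighborFinset x, w x * w y = E := by
    rw [hE]
    refine Finset.sum_congr rfl (fun x _ => ?_)
    rw [ha, Finset.mul_sum]
  -- `a` as an indicator sum
  have ha' : ∀ x, a x = ∑ y, if G.Adj x y then w y else 0 := fun x => sum_nbr_eq_sum_ite x w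
  -- sum of `a`
  have h1 : ∑ x, a x = 16 * S := by
    have : ∑ x, a x = ∑ y, ∑ x, if G.Adj x y then w y else 0 := by
      rw [Finset.sum_comm]
      exact Finset.sum_congr rfl (fun x _ => ha' x)
    rw [this, hS, Finset.mul_sum]
    refine Finset.sum_congr rfl (fun y _ => ?_)
    rw [← Finset.sum_filter, Finset.sum_const, nsmul_eq_mul]
    have : (Finset.univ.filter (fun x => G.Adj x y)) = G.neighborFinset y := by
      ext x
      simp [SimpleGraph.adj_comm]
    rw [this, deg hG]
    norm_num
  -- sum of squares of `a`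
  have h2 : ∑ x, a x ^ 2 = 12 * P + 4 * S ^ 2 - 4 * E := by
    have e1 : ∀ x, a x ^ 2 =
        ∑ y, ∑ z, (if G.Adj x y then w y else 0) * (if G.Adj x z then w z else 0) := by
      intro x
      rw [sq, ha' x, Finset.sum_mul_sum]
    have e2 : ∑ x, a x ^ 2 =
        ∑ y, ∑ z, ((G.neighborFinset y ∩ G.neighborFinset z).card : ℤ) * (w y * w z) := by
      rw [Finset.sum_congr rfl (fun x _ => e1 x), Finset.sum_comm]
      refine Finset.sum_congr rfl (fun y _ => ?_)
      rw [Finset.sum_comm]
      refine Finset.sum_congr rfl (fun z _ => ?_)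
      exact sum_ite_mul_ite w y z
    rw [e2]
    have e3 : ∀ y, ∑ z, ((G.neighborFinset y ∩ G.neighborFinset z).card : ℤ) * (w y * w z) =
        12 * w y ^ 2 + 4 * (w y * S) - 4 * (w y * a y) := by
      intro y
      have : ∀ z, ((G.neighborFinset y ∩ G.neighborFinset z).card : ℤ) * (w y * w z) =
          4 * (w y * w z) - 4 * (w y * (if G.Adj y z then w z else 0)) +
            (if z = y then 12 * (w y * w z) else 0) := by
        intro z
        rw [common_eq hG y z]
        by_cases hzy : z = y
        · by_cases hadj : G.Adj y z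
          · rw [if_pos hadj, if_pos hzy, if_pos hadj, if_pos hzy]; ring
          · rw [if_neg hadj, if_pos hzy, if_neg hadj, if_pos hzy]; ring
        · by_cases hadj : G.Adj y z
          · rw [if_pos hadj, if_neg hzy, if_pos hadj, if_neg hzy]; ring
          · rw [if_neg hadj, if_neg hzy, if_neg hadj, if_neg hzy]; ring
      rw [Finset.sum_congr rfl (fun z _ => this z), Finset.sum_add_distrib,
        Finset.sum_sub_distrib, ← Finset.mul_sum, ← Finset.mul_sum, ← Finset.mul_sum,
        ← Finset.mul_sum, Finset.sum_ite_eq' Finset.univ y, if_pos (Finset.mem_univ y),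
        ← ha' y, ← hS]
      ring
    rw [Finset.sum_congr rfl (fun y _ => e3 y), Finset.sum_sub_distrib, Finset.sum_add_distrib,
      ← Finset.mul_sum, ← Finset.mul_sum, ← Finset.mul_sum, ← Finset.sum_mul, ← hP, ← hE, ← hS]
    ring
  -- the key identity
  have key : ∑ x, (22 * w x - 11 * a x + 2 * S) ^ 2 = 88 * (22 * P - 11 * E + 2 * S ^ 2) := by
    have : ∀ x, (22 * w x - 11 * a x + 2 * S) ^ 2 =
        484 * w x ^ 2 + 121 * a x ^ 2 + 4 * S ^ 2 - 484 * (w x * a x) + 88 * S * w x
          - 44 * S * a x := by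
      intro x; ring
    rw [Finset.sum_congr rfl (fun x _ => this x)]
    simp only [Finset.sum_sub_distrib, Finset.sum_add_distrib, ← Finset.mul_sum, Finset.sum_const,
      Finset.card_univ, hG.card, nsmul_eq_mul]
    rw [h1, h2, ← hP, ← hE, ← hS]
    push_cast
    ring
  have hnn : 0 ≤ ∑ x, (22 * w x - 11 * a x + 2 * S) ^ 2 :=
    Finset.sum_nonneg (fun _ _ => sq_nonneg _)
  rw [hE']
  rw [key] at hnn
  linarith

end

end Cfsg.Agent.Lib.H10.S77
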