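import Mathlib
import Cfsg.Prelude.Def_Blocks
import Cfsg.Agent.Lib.H23.BlockRoots

/-!
# S4937 piece (ROOT): a `p'`-root of unity congruent to `1` modulo the local ideal is `1` (helper10)
-/

set_option autoImplicit false

namespace Cfsg.Agent.Lib.H10.AD

variable {p : ℕ} {M : Ideal Cfsg.AlgInt}

/-- (ROOT) a `p'`-root of unity congruent to `1` is `1` -/
theorem root_eq_one (hM : Cfsg.IsPModular p M) (ζ : ℂ) (m : ℕ) (hm : ¬ p ∣ m) (hζ : ζ ^ m = 1)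
    (h : Cfsg.MemLocalIdeal M (ζ - 1)) : ζ = 1 := by
  have hP := Cfsg.Agent.Lib.H23.isPrime_of_isPModular hM
  have hm0 : m ≠ 0 := fun h0 => hm (h0 ▸ dvd_zero p)
  have hint : IsIntegral ℤ ζ := by
    refine ⟨Polynomial.X ^ m - 1, Polynomial.monic_X_pow_sub_C (1 : ℤ) hm0, ?_⟩
    simp [hζ]
  set ε : Cfsg.AlgInt := ⟨ζ, hint⟩ with hε
  have hcoe : ((ε - 1 : Cfsg.AlgInt) : ℂ) = ζ - 1 := by
    simp [hε]
  have hmem : (ε - 1 : Cfsg.AlgInt) ∈ M := by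
    rw [← Cfsg.Agent.Lib.H23.memLocalIdeal_coe_iff, hcoe]
    exact h
  have hεm : ε ^ m = 1 := by
    apply Subtype.ext
    simp [hε, hζ]
  have h1 : (1 : Cfsg.AlgInt) ^ 1 = 1 := one_pow 1
  have hp1 : ¬ p ∣ 1 := fun hd => (Cfsg.Agent.Lib.H23.prime_of_isPModular hM).one_lt.ne'
    (Nat.dvd_one.1 hd)
  have key := Cfsg.Agent.Lib.H23.eq_of_sub_mem_of_pow_eq_one hM hm hεm hp1 h1 hmem
  have : (ε : ℂ) = ((1 : Cfsg.AlgInt) : ℂ) := by rw [key]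
  simpa [hε] using this

end Cfsg.Agent.Lib.H10.AD
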