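import Mathlib
import Cfsg.Agent.Lib.H17.AGH13Defs

/-!
# S4150 / H13 piece E3 (helper10): the table built along the path is the table of `g`.
-/

set_option autoImplicit false

namespace Cfsg.Agent.Lib.H10.AG

open Cfsg.Agent.Lib.H17.AG

theorem e3_look_eq (T i : Nat) : look T i = T / 16 ^ i % 16 := rfl

/-- digit lemma: adding `v * 16 ^ p` to a number whose `p`-th digit is `0` changes only that digit. -/
theorem e3_look_add (X v p q : Nat) (hp : look X p = 0) (hv : v < 16) :
    look (X + v * 16 ^ p) q = if q = p then v else look X q := by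
  rw [e3_look_eq] at hp
  simp only [e3_look_eq]
  have h16 : ∀ n : Nat, 0 < 16 ^ n := fun n => Nat.pos_of_ne_zero (by positivity)
  rcases Nat.lt_trichotomy q p with hlt | heq | hgt
  · -- q < p
    rw [if_neg (by omega)]
    obtain ⟨e, rfl⟩ : ∃ e, p = q + 1 + e := ⟨p - q - 1, by omega⟩
    have : v * 16 ^ (q + 1 + e) = 16 ^ q * (16 * (v * 16 ^ e)) := by ring
    rw [this, Nat.add_mul_div_left _ _ (h16 q), Nat.add_mul_mod_self_left]
  · subst heq
    rw [if_pos rfl, Nat.add_mul_div_right _ _ (h16 q), Nat.add_mod, hp, zero_add, Nat.mod_mod,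
      Nat.mod_eq_of_lt hv]
  · -- q > p
    rw [if_neg (by omega)]
    obtain ⟨e, rfl⟩ : ∃ e, q = p + 1 + e := ⟨q - p - 1, by omega⟩
    have hpw : (16 : Nat) ^ (p + 1 + e) = 16 ^ p * 16 * 16 ^ e := by ring
    rw [hpw, ← Nat.div_div_eq_div_mul, ← Nat.div_div_eq_div_mul, ← Nat.div_div_eq_div_mul,
      ← Nat.div_div_eq_div_mul, Nat.add_mul_div_right _ _ (h16 p)]
    have : (X / 16 ^ p + v) / 16 = X / 16 ^ p / 16 := by omega
    rw [this]

theorem e3_pathX_nil (X cur : Nat) : pathX X cur [] = X + 2 * 16 ^ cur := rfl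

theorem e3_pathX_cons (X cur a : Nat) (t : List Nat) :
    pathX X cur (a :: t) = pathX (X + a * 16 ^ cur) a t := rfl

theorem e3_path_inv (g : Nat → Nat) :
    ∀ (l : List Nat) (X cur : Nat) (S : Nat → Prop),
      (∀ q, S q → look X q = g q) → (∀ q, ¬ S q → look X q = 0) →
      ¬ S cur → (∀ a ∈ l, ¬ S a) → (cur :: l).Nodup → (∀ a ∈ l, a < 16) → Chain g cur l →
      ∀ q, (S q ∨ q = cur ∨ q ∈ l) → look (pathX X cur l) q = g q := by
  intro l
  induction l with
  | nil =>
    intro X cur S h1 h0 hcur _ _ _ hc q hq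
    have hc' : g cur = 2 := hc
    rw [e3_pathX_nil, e3_look_add X 2 cur q (h0 cur hcur) (by norm_num)]
    rcases hq with hS | rfl | hmem
    · have : q ≠ cur := fun h => hcur (h ▸ hS)
      rw [if_neg this]
      exact h1 q hS
    · rw [if_pos rfl, hc']
    · simp at hmem
  | cons a t ih =>
    intro X cur S h1 h0 hcur hlS hnd hlt hc q hq
    obtain ⟨hga, hct⟩ : g cur = a ∧ Chain g a t := hc
    rw [e3_pathX_cons]
    have ha16 : a < 16 := hlt a (List.mem_cons_self ..)
    have hdig : ∀ q', look (X + a * 16 ^ cur) q' = if q' = cur then a else look X q' :=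
      fun q' => e3_look_add X a cur q' (h0 cur hcur) ha16
    have hnd' : cur ∉ a :: t ∧ (a :: t).Nodup := List.nodup_cons.1 hnd
    have hacur : a ≠ cur := fun h => hnd'.1 (h ▸ List.mem_cons_self ..)
    refine ih (X + a * 16 ^ cur) a (fun q' => S q' ∨ q' = cur) ?_ ?_ ?_ ?_ hnd'.2 ?_ hct q ?_
    · intro q' hq'
      rw [hdig q']
      rcases hq' with hS | rfl
      · have : q' ≠ cur := fun h => hcur (h ▸ hS)
        rw [if_neg this]
        exact h1 q' hS
      · rw [if_pos rfl, hga]
    · intro q' hq'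
      have hne : q' ≠ cur := fun h => hq' (Or.inr h)
      have hnS : ¬ S q' := fun h => hq' (Or.inl h)
      rw [hdig q', if_neg hne]
      exact h0 q' hnS
    · intro h
      rcases h with hS | h
      · exact hlS a (List.mem_cons_self ..) hS
      · exact hacur h
    · intro b hb h
      rcases h with hS | h
      · exact hlS b (List.mem_cons_of_mem _ hb) hS
      · exact hnd'.1 (h ▸ List.mem_cons_of_mem _ hb)
    · intro b hb
      exact hlt b (List.mem_cons_of_mem _ hb)
    · rcases hq with hS | rfl | hmem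
      · exact Or.inl (Or.inl hS)
      · exact Or.inl (Or.inr rfl)
      · rcases List.mem_cons.1 hmem with rfl | hmem'
        · exact Or.inr (Or.inl rfl)
        · exact Or.inr (Or.inr hmem')

theorem look_pathX (g : Nat → Nat) (l : List Nat) (hg0 : g 0 = 0) (hg1 : g 1 = 1) (hg2 : g 2 = 3)
    (hc : Chain g 3 l) (hl : l.Perm [4, 5, 6, 7, 8, 9, 10, 11, 12]) :
    ∀ i, i < 13 → look (pathX X0 3 l) i = g i := by
  intro i hi
  have hmem : ∀ a, a ∈ l ↔ a ∈ [4, 5, 6, 7, 8, 9, 10, 11, 12] := fun a => hl.mem_iff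
  have hmem' : ∀ a, a ∈ l ↔ (4 ≤ a ∧ a ≤ 12) := by
    intro a
    rw [hmem a]
    simp only [List.mem_cons, List.not_mem_nil, or_false]
    omega
  have hndl : l.Nodup := hl.nodup_iff.2 (by decide)
  refine e3_path_inv g l X0 3 (fun q => q < 3) ?_ ?_ (by omega) ?_ ?_ ?_ hc i ?_
  · intro q hq
    have hq3 : q < 3 := hq
    rw [e3_look_eq]
    interval_cases q
    · rw [hg0]; rfl
    · rw [hg1]; rfl
    · rw [hg2]; rfl
  · intro q hq
    have hq3 : 3 ≤ q := Nat.le_of_not_lt hq
    rw [e3_look_eq]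
    have : X0 / 16 ^ q = 0 := by
      apply Nat.div_eq_of_lt
      calc X0 < 16 ^ 3 := by decide
        _ ≤ 16 ^ q := Nat.pow_le_pow_right (by norm_num) hq3
    rw [this]
  · intro a ha h
    have := (hmem' a).1 ha
    have h3 : a < 3 := h
    omega
  · refine List.nodup_cons.2 ⟨?_, hndl⟩
    intro h
    have := (hmem' 3).1 h
    omega
  · intro a ha
    have := (hmem' a).1 ha
    omega
  · by_cases h3 : i < 3
    · exact Or.inl h3
    · by_cases h3' : i = 3
      · exact Or.inr (Or.inl h3')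
      · exact Or.inr (Or.inr ((hmem' i).2 ⟨by omega, by omega⟩))

end Cfsg.Agent.Lib.H10.AG
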