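import Mathlib
import Cfsg.Agent.Lib.H17.AGH13Defs
import Cfsg.Agent.Lib.H18.AGENUM

/-!
# S4150 / H13 piece E5 (helper10): the bridge in `Chain` form, from helper18's `exists_cycle_list13`.
-/

set_option autoImplicit false

namespace Cfsg.Agent.Lib.H10.AG

open Equiv Equiv.Perm Cfsg.Agent.Lib.H17.AG

theorem e5_nf_val (x : Perm (Fin 13)) (c : Fin 13) : nf x (c : Nat) = ((x c : Fin 13) : Nat) := by
  unfold nf
  rw [dif_pos c.isLt]

theorem e5_chain_drop (L : List (Fin 13)) (hnd : L.Nodup) (hpos : 0 < L.length)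
    (h0 : L[0]'hpos = 2) :
    ∀ (suf : List (Fin 13)) (k : ℕ) (hk : k < L.length), L.drop (k + 1) = suf →
      Chain (nf (List.formPerm L)) ((L[k]'hk : Fin 13) : Nat) (suf.map (fun c : Fin 13 => (c : Nat))) := by
  intro suf
  induction suf with
  | nil =>
    intro k hk hdrop
    have hlen : L.length ≤ k + 1 := List.drop_eq_nil_iff.1 hdrop
    have hk1 : k + 1 = L.length := by omega
    show nf (List.formPerm L) ((L[k]'hk : Fin 13) : Nat) = 2
    rw [e5_nf_val, List.formPerm_apply_getElem L hnd k hk]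
    have hmod : (k + 1) % L.length = 0 := by rw [hk1, Nat.mod_self]
    have : L[(k + 1) % L.length]'(Nat.mod_lt _ hpos) = L[0]'hpos := by
      congr 1
    rw [this, h0]
    rfl
  | cons a t ih =>
    intro k hk hdrop
    have hk1 : k + 1 < L.length := by
      by_contra hcon
      have : L.drop (k + 1) = [] := List.drop_eq_nil_iff.2 (by omega)
      rw [this] at hdrop
      exact absurd hdrop.symm (List.cons_ne_nil a t)
    have hcons : L.drop (k + 1) = L[k + 1]'hk1 :: L.drop (k + 2) := List.drop_eq_getElem_cons hk1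
    rw [hcons] at hdrop
    have ha : L[k + 1]'hk1 = a := (List.cons.inj hdrop).1
    have ht : L.drop (k + 2) = t := (List.cons.inj hdrop).2
    show nf (List.formPerm L) ((L[k]'hk : Fin 13) : Nat) = (a : Nat) ∧
      Chain (nf (List.formPerm L)) (a : Nat) (t.map (fun c : Fin 13 => (c : Nat)))
    constructor
    · rw [e5_nf_val, List.formPerm_apply_lt_getElem L hnd k hk1, ha]
    · have := ih (k + 1) hk1 ht
      rw [ha] at this
      exact this

theorem exists_chain13 (x : Perm (Fin 13)) (h0 : x 0 = 0) (h1 : x 1 = 1) (h2 : x 2 = 3)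
    (hc : x.cycleType = {11}) :
    ∃ l : List Nat, l.Perm [4, 5, 6, 7, 8, 9, 10, 11, 12] ∧ Chain (nf x) 3 l := by
  obtain ⟨l, hl, hx⟩ := Cfsg.Agent.Lib.H18.AG.exists_cycle_list13 x h0 h1 h2 hc
  refine ⟨l.map (fun c : Fin 13 => (c : Nat)), ?_, ?_⟩
  · have := hl.map (fun c : Fin 13 => (c : Nat))
    exact this
  · have hndl : l.Nodup := hl.nodup_iff.2 (by decide)
    have hmem : ∀ c, c ∈ l ↔ c ∈ ([4, 5, 6, 7, 8, 9, 10, 11, 12] : List (Fin 13)) := fun c => hl.mem_iff
    have h2l : (2 : Fin 13) ∉ l := by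
      intro h
      have := (hmem 2).1 h
      revert this
      decide
    have h3l : (3 : Fin 13) ∉ l := by
      intro h
      have := (hmem 3).1 h
      revert this
      decide
    have hnd : ((2 : Fin 13) :: 3 :: l).Nodup := by
      refine List.nodup_cons.2 ⟨?_, List.nodup_cons.2 ⟨h3l, hndl⟩⟩
      intro h
      rcases List.mem_cons.1 h with h | h
      · revert h; decide
      · exact h2l h
    have hmain := e5_chain_drop ((2 : Fin 13) :: 3 :: l) hnd (by simp) rfl l 1 (by simp) rfl
    rw [← hx] at hmain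
    exact hmain

end Cfsg.Agent.Lib.H10.AG
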