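import Mathlib
import Cfsg.Prelude.Def_Blocks
import Cfsg.Agent.Lib.H21.AD.Defs
import Cfsg.Agent.Lib.H28.NT.Defs
import Cfsg.Agent.Lib.H23.BlockLocal
import Cfsg.Agent.Lib.H23.ADCC
import Cfsg.Agent.Lib.H10.ADROOT
import Cfsg.Agent.Lib.H5.ADKEY
import Cfsg.Agent.Lib.H23.ExtDet
import Cfsg.Agent.Lib.H23.ExtGeneral
import Cfsg.Agent.Lib.L0.CharOps

/-!
# S4551 piece (KEYF'): copy of `H28.NT.keyF` with explicit hypotheses (helper10)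
Two principal extensions of `θ` on `J₁ ≤ J₂` (`p ∤ |J₂ : N|`) agree on `J₁`.
-/

set_option autoImplicit false
open Cfsg.Agent.Lib.H21.AD Cfsg.Agent.Lib.H28.NT
open Cfsg.Agent.Lib.H23.AD (cc)
open Cfsg.Agent.Lib.H10.AD (root_eq_one)
open Cfsg.Agent.Lib.H5.AD (pow_relIndex_mem)

namespace Cfsg.Agent.Lib.H10.AP

variable {G : Type*} [Group G] [Finite G] {p : ℕ} {M : Ideal Cfsg.AlgInt} {N Q : Subgroup G} {θ : G → ℂ}

/-- restriction of `θ` to `N.subgroupOf J` is irreducible -/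
theorem irr_subgroupOf_gen (hirr : Cfsg.IsIrrCharacter N (fun n : N => θ n)) (J : Subgroup G) (hNJ : N ≤ J) (f : G → ℂ)
    (hf : ∀ n ∈ N, f n = θ n) :
    Cfsg.IsIrrCharacter (N.subgroupOf J) (fun n : N.subgroupOf J => f ((n : J) : G)) := by
  set e := Subgroup.subgroupOfEquivOfLe hNJ with he
  have h4 : (fun n : N.subgroupOf J => f ((n : J) : G)) = (fun n : N => θ n) ∘ e := by
    funext n
    have hn : ((n : J) : G) ∈ N := Subgroup.mem_subgroupOf.1 n.2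
    rw [Function.comp_apply, hf _ hn]
    rfl
  rw [h4]
  exact Cfsg.Agent.Lib.L0.isIrrCharacter_comp_of_surjective e.toMonoidHom e.surjective hirr

/-- (KEYF) base-free KEY -/
theorem keyF_gen [N.Normal] (hp : p.Prime) (hM : Cfsg.IsPModular p M) (hQN : Q ≤ N)
    (hQ : ¬ p ∣ Q.relIndex N)
    (hcov : ∀ J : Subgroup G, N ≤ J → ¬ p ∣ N.relIndex J → ∀ g ∈ J,
      ∃ n ∈ N, ∃ z ∈ Subgroup.centralizer (Q : Set G), g = n * z)
    (hirr : Cfsg.IsIrrCharacter N (fun n : N => θ n)) (J₁ J₂ : Subgroup G) (hN1 : N ≤ J₁) (h12 : J₁ ≤ J₂)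
    (hp2 : ¬ p ∣ N.relIndex J₂) (f₁ f₂ : G → ℂ) (h₁ : GoodA p N θ J₁ f₁) (h₂ : GoodA p N θ J₂ f₂) :
    ∀ g ∈ J₁, f₁ g = f₂ g := by
  classical
  intro g hg
  haveI : M.IsPrime := Cfsg.Agent.Lib.H23.isPrime_of_isPModular hM
  have hpp : p.Prime := hp
  have hN2 : N ≤ J₂ := hN1.trans h12
  -- index computations
  set m := N.relIndex J₁ with hm
  have hidx1 : m ∣ N.relIndex J₂ := by
    have := Subgroup.relIndex_mul_relIndex N J₁ J₂ hN1 h12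
    exact Dvd.intro _ this
  have hp1 : ¬ p ∣ m := fun hd => hp2 (hd.trans hidx1)
  have hm0 : 0 < m := Nat.pos_of_ne_zero (fun h0 => hp1 (h0 ▸ dvd_zero p))
  have hQ1 : ¬ p ∣ Q.relIndex J₁ := by
    rw [← Subgroup.relIndex_mul_relIndex Q N J₁ hQN hN1]
    intro hd
    rcases hpp.dvd_mul.1 hd with hd | hd
    · exact hQ hd
    · exact hp1 hd
  have hQ2 : ¬ p ∣ Q.relIndex J₂ := by
    rw [← Subgroup.relIndex_mul_relIndex Q N J₂ hQN hN2]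
    intro hd
    rcases hpp.dvd_mul.1 hd with hd | hd
    · exact hQ hd
    · exact hp2 hd
  -- Gallagher in `↥J₁`
  haveI : Fintype J₁ := Fintype.ofFinite _
  have hη : Cfsg.IsIrrCharacter J₁ (fun y : J₁ => f₁ y) := h₁.1.1
  have hηN := irr_subgroupOf_gen hirr J₁ hN1 f₁ h₁.1.2
  have hχ'c : Cfsg.IsCharacter J₁ (fun y : J₁ => f₂ y) := by
    have := Cfsg.Agent.Lib.L0.isCharacter_comp (Subgroup.inclusion h12)
      (Cfsg.Agent.Lib.L0.isCharacter_of_irr h₂.1.1)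
    exact this
  have hχ' : Cfsg.IsIrrCharacter J₁ (fun y : J₁ => f₂ y) :=
    Cfsg.Agent.Lib.H23.isIrrCharacter_of_restrict_irr (N.subgroupOf J₁) hχ'c
      (irr_subgroupOf_gen hirr J₁ hN1 f₂ h₂.1.2)
  obtain ⟨β, hβN, hβ⟩ := Cfsg.Agent.Lib.H23.exists_hom_of_restrict_eq (N.subgroupOf J₁) hη hχ' hηN
    (fun n => by
      have hn : ((n : J₁) : G) ∈ N := Subgroup.mem_subgroupOf.1 n.2
      show f₂ ((n : J₁) : G) = f₁ ((n : J₁) : G)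
      rw [h₂.1.2 _ hn, h₁.1.2 _ hn])
  have hβv : ∀ y : J₁, f₂ y = f₁ y * ((β y : ℂˣ) : ℂ) := by
    intro y
    have := congrFun hβ y
    rw [Pi.mul_apply, Cfsg.Agent.Lib.H23.homToFun_apply] at this
    exact this
  -- decompose `g`
  obtain ⟨n, hn, z, hz, rfl⟩ := hcov J₁ hN1 hp1 g hg
  have hz1 : z ∈ J₁ := by
    have : z = n⁻¹ * (n * z) := by group
    rw [this]
    exact J₁.mul_mem (J₁.inv_mem (hN1 hn)) hg
  have hz2 : z ∈ J₂ := h12 hz1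
  have hβn : β ⟨n, hN1 hn⟩ = 1 := hβN ⟨⟨n, hN1 hn⟩, Subgroup.mem_subgroupOf.2 hn⟩
  -- the two central character congruences
  have c1 := cc hM J₁ f₁ h₁.1.1 h₁.2 Q (hQN.trans hN1) hQ1 z hz1 hz
  have c2 := cc hM J₂ f₂ h₂.1.1 h₂.2 Q (hQN.trans hN2) hQ2 z hz2 hz
  -- the root of unity
  set ζ : ℂ := ((β ⟨z, hz1⟩ : ℂˣ) : ℂ) with hζ
  have hζm : ζ ^ m = 1 := by
    have hzm : z ^ m ∈ N := pow_relIndex_mem N J₁ hz1
    have h1 : β (⟨z, hz1⟩ ^ m) = 1 :=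
      hβN ⟨⟨z, hz1⟩ ^ m, Subgroup.mem_subgroupOf.2 (by simpa using hzm)⟩
    rw [map_pow] at h1
    rw [hζ, ← Units.val_pow_eq_pow_val, h1, Units.val_one]
  have hζint : IsIntegral ℤ ζ := IsIntegral.of_pow hm0 (by rw [hζm]; exact isIntegral_one)
  have hζloc : Cfsg.MemLocalRing M ζ :=
    Cfsg.Agent.Lib.H23.mem_localRing.1 (Cfsg.Agent.Lib.H23.isIntegral_mem_localRing hζint)
  have h21 : f₂ 1 = f₁ 1 := by rw [h₂.1.2 1 N.one_mem, h₁.1.2 1 N.one_mem]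
  have h2z : f₂ z = f₁ z * ζ := hβv ⟨z, hz1⟩
  have hdiff : ζ - 1 = (f₂ z / f₂ 1 - 1) - ζ * (f₁ z / f₁ 1 - 1) := by
    rw [h2z, h21]; ring
  have hmem : Cfsg.MemLocalIdeal M (ζ - 1) := by
    rw [hdiff]
    exact Cfsg.Agent.Lib.H23.memLocalIdeal_sub c2
      (Cfsg.Agent.Lib.H23.memLocalIdeal_mul_left hζloc c1)
  have h1 := root_eq_one hM ζ m hp1 hζm hmem
  have hfin := hβv ⟨n * z, hg⟩
  have hsplit : (⟨n * z, hg⟩ : J₁) = ⟨n, hN1 hn⟩ * ⟨z, hz1⟩ := rfl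
  rw [hsplit, map_mul, hβn, one_mul] at hfin
  rw [show ((β ⟨z, hz1⟩ : ℂˣ) : ℂ) = ζ from rfl, h1, mul_one] at hfin
  exact hfin.symm

end Cfsg.Agent.Lib.H10.AP
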