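import Mathlib
import Cfsg.Prelude.Def_Blocks
import Cfsg.Prelude.Def_CharExt
import Cfsg.Agent.Lib.H21.AD.Defs
import Cfsg.Agent.Lib.H28.NT.Defs
import Cfsg.Agent.Lib.H23.BlockLocal
import Cfsg.Agent.Lib.H23.ADCC
import Cfsg.Agent.Lib.H10.ADROOT
import Cfsg.Agent.Lib.H23.ExtGeneral
import Cfsg.Agent.Lib.H23.ExtDet
import Cfsg.Agent.Lib.H23.RelMGroup
import Cfsg.Agent.Lib.L0.CharOps
import Cfsg.Agent.Lib.L0.CharBasic

/-!
# S4892 piece (KEYF): base-free KEY (helper10)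

Two principal extensions of `θ` on `J₁ ≤ J₂` (`p ∤ |J₂ : N|`) agree on `J₁`.
-/

set_option autoImplicit false
open Cfsg.Agent.Lib.H21.AD Cfsg.Agent.Lib.H28.NT

namespace Cfsg.Agent.Lib.H10.NT

variable {G : Type*} [Group G] [Finite G] {p : ℕ} {M : Ideal Cfsg.AlgInt} {N Q : Subgroup G} {θ : G → ℂ}

/-- `c ^ |J : N| ∈ N` for `c ∈ J`, `N` normal -/
theorem pow_relIndex_mem' (N : Subgroup G) [N.Normal] (J : Subgroup G) {c : G} (hc : c ∈ J) :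
    c ^ N.relIndex J ∈ N := by
  have h := Subgroup.pow_index_mem (N.subgroupOf J) (⟨c, hc⟩ : J)
  rw [Subgroup.mem_subgroupOf] at h
  simpa [Subgroup.relIndex] using h

/-- an extension of `θ` on `J₂` restricts to an irreducible character of `J₁ ⊇ N` -/
theorem isExt_mono [N.Normal] (hirr : Cfsg.IsIrrCharacter N (fun n : N => θ n))
    (J₁ J₂ : Subgroup G) (hN1 : N ≤ J₁) (h12 : J₁ ≤ J₂) (f : G → ℂ) (hf : IsExt N θ J₂ f) :
    IsExt N θ J₁ f := by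
  obtain ⟨hirr2, hfN⟩ := hf
  have hchar2 : Cfsg.IsCharacter J₂ (fun y : J₂ => f y) :=
    Cfsg.Agent.Lib.L0.isCharacter_of_irr hirr2
  have hchar1 : Cfsg.IsCharacter J₁ (fun y : J₁ => f y) :=
    Cfsg.Agent.Lib.L0.isCharacter_comp (Subgroup.inclusion h12) hchar2
  have hirrN : Cfsg.IsIrrCharacter N (fun n : N => f n) := by
    have : (fun n : N => f n) = (fun n : N => θ n) := by
      funext n
      exact hfN n n.2
    rw [this]
    exact hirr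
  refine ⟨?_, hfN⟩
  refine Cfsg.Agent.Lib.H23.isIrrCharacter_of_restrict_irr (N.subgroupOf J₁) hchar1 ?_
  exact (Cfsg.Agent.Lib.H23.isIrrCharacter_restrict_subgroupOf_iff hN1 f).mpr hirrN

/-- (KEYF) base-free KEY: two principal extensions on `J₁ ≤ J₂` (`p ∤ |J₂ : N|`) agree on `J₁`. -/
theorem keyF [N.Normal] (h : Hyp p M N Q θ) (J₁ J₂ : Subgroup G) (hN1 : N ≤ J₁) (h12 : J₁ ≤ J₂)
    (hp2 : ¬ p ∣ N.relIndex J₂) (f₁ f₂ : G → ℂ) (h₁ : GoodA p N θ J₁ f₁) (h₂ : GoodA p N θ J₂ f₂) :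
    ∀ g ∈ J₁, f₁ g = f₂ g := by
  intro g hg
  have hM := h.hM
  have hMP : M.IsPrime := Cfsg.Agent.Lib.H23.isPrime_of_isPModular hM
  have hpp : p.Prime := h.hp
  have hN2 : N ≤ J₂ := hN1.trans h12
  -- index computations
  have hidx1 : N.relIndex J₁ ∣ N.relIndex J₂ :=
    Dvd.intro _ (Subgroup.relIndex_mul_relIndex N J₁ J₂ hN1 h12)
  have hp1 : ¬ p ∣ N.relIndex J₁ := fun hd => hp2 (hd.trans hidx1)
  have hQ1 : ¬ p ∣ Q.relIndex J₁ := by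
    rw [← Subgroup.relIndex_mul_relIndex Q N J₁ h.hQN hN1]
    intro hd
    rcases hpp.dvd_mul.1 hd with hd | hd
    · exact h.hQ hd
    · exact hp1 hd
  have hQ2 : ¬ p ∣ Q.relIndex J₂ := by
    rw [← Subgroup.relIndex_mul_relIndex Q N J₂ h.hQN hN2]
    intro hd
    rcases hpp.dvd_mul.1 hd with hd | hd
    · exact h.hQ hd
    · exact hp2 hd
  -- Gallagher inside `J₁`
  have hFin : Fintype ↥J₁ := Fintype.ofFinite _
  have hext2 : IsExt N θ J₁ f₂ := isExt_mono h.hirr J₁ J₂ hN1 h12 f₂ h₂.1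
  have hirrN1 : Cfsg.IsIrrCharacter (N.subgroupOf J₁)
      (fun n : N.subgroupOf J₁ => (fun y : J₁ => f₁ y) n) := by
    refine (Cfsg.Agent.Lib.H23.isIrrCharacter_restrict_subgroupOf_iff hN1 f₁).mpr ?_
    have : (fun n : N => f₁ n) = (fun n : N => θ n) := by
      funext n
      exact h₁.1.2 n n.2
    rw [this]
    exact h.hirr
  have hres : ∀ n : N.subgroupOf J₁, (fun y : J₁ => f₂ y) n = (fun y : J₁ => f₁ y) n := by
    intro n
    have hn : ((n : J₁) : G) ∈ N := Subgroup.mem_subgroupOf.mp n.2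
    show f₂ ((n : J₁) : G) = f₁ ((n : J₁) : G)
    rw [h₂.1.2 _ hn, h₁.1.2 _ hn]
  obtain ⟨β, hβN, hβ⟩ := Cfsg.Agent.Lib.H23.exists_hom_of_restrict_eq (N.subgroupOf J₁)
    h₁.1.1 hext2.1 hirrN1 hres
  have hval : ∀ y : J₁, f₂ y = f₁ y * (β y : ℂ) := by
    intro y
    have := congrFun hβ y
    simpa [Cfsg.Agent.Lib.H23.homToFun_apply] using this
  -- the decomposition `g = n * z`
  obtain ⟨n, hn, z, hz, rfl⟩ := h.hcov J₁ hN1 hp1 g hg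
  have hz1 : z ∈ J₁ := by
    have : z = n⁻¹ * (n * z) := by group
    rw [this]
    exact J₁.mul_mem (J₁.inv_mem (hN1 hn)) hg
  have hz2 : z ∈ J₂ := h12 hz1
  -- the root of unity
  obtain ⟨ζ, hζ⟩ : ∃ ζ : ℂ, ζ = (β ⟨z, hz1⟩ : ℂ) := ⟨_, rfl⟩
  set m := N.relIndex J₁ with hm
  have hzm : z ^ m ∈ N := pow_relIndex_mem' N J₁ hz1
  have hζm : ζ ^ m = 1 := by
    have h1 : β ((⟨z, hz1⟩ : J₁) ^ m) = 1 := by
      have hmem : ((⟨z, hz1⟩ : J₁) ^ m) ∈ N.subgroupOf J₁ := by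
        rw [Subgroup.mem_subgroupOf]
        simpa using hzm
      exact hβN ⟨_, hmem⟩
    rw [map_pow] at h1
    rw [hζ, ← Units.val_pow_eq_pow_val, h1, Units.val_one]
  have hm0 : 0 < m := Nat.pos_of_ne_zero (fun h0 => hp1 (h0 ▸ dvd_zero p))
  have hζint : IsIntegral ℤ ζ := IsIntegral.of_pow hm0 (by rw [hζm]; exact isIntegral_one)
  have hζloc : Cfsg.MemLocalRing M ζ :=
    Cfsg.Agent.Lib.H23.mem_localRing.1 (Cfsg.Agent.Lib.H23.isIntegral_mem_localRing hζint)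
  -- the two central character congruences
  have c1 := Cfsg.Agent.Lib.H23.AD.cc hM J₁ f₁ h₁.1.1 h₁.2 Q (h.hQN.trans hN1) hQ1 z hz1 hz
  have c2 := Cfsg.Agent.Lib.H23.AD.cc hM J₂ f₂ h₂.1.1 h₂.2 Q (h.hQN.trans hN2) hQ2 z hz2 hz
  have hfz : f₂ z = f₁ z * ζ := by
    rw [hζ]
    exact hval ⟨z, hz1⟩
  have hf1 : f₂ 1 = f₁ 1 := by
    rw [h₂.1.2 1 N.one_mem, h₁.1.2 1 N.one_mem]
  have hdiff : ζ - 1 = (f₂ z / f₂ 1 - 1) - ζ * (f₁ z / f₁ 1 - 1) := by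
    rw [hfz, hf1]; ring
  have hmem : Cfsg.MemLocalIdeal M (ζ - 1) := by
    rw [hdiff]
    exact Cfsg.Agent.Lib.H23.memLocalIdeal_sub c2
      (Cfsg.Agent.Lib.H23.memLocalIdeal_mul_left hζloc c1)
  have hζ1 : ζ = 1 := Cfsg.Agent.Lib.H10.AD.root_eq_one hM ζ m hp1 hζm hmem
  -- conclusion
  have hβz : β ⟨z, hz1⟩ = 1 := by
    apply Units.ext
    rw [← hζ, hζ1, Units.val_one]
  have hβn : β ⟨n, hN1 hn⟩ = 1 := by
    have hmem : (⟨n, hN1 hn⟩ : J₁) ∈ N.subgroupOf J₁ := by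
      rw [Subgroup.mem_subgroupOf]
      exact hn
    exact hβN ⟨_, hmem⟩
  have hβg : β ⟨n * z, hg⟩ = 1 := by
    have : (⟨n * z, hg⟩ : J₁) = ⟨n, hN1 hn⟩ * ⟨z, hz1⟩ := rfl
    rw [this, map_mul, hβn, hβz, one_mul]
  have := hval ⟨n * z, hg⟩
  rw [hβg, Units.val_one, mul_one] at this
  exact this.symm

end Cfsg.Agent.Lib.H10.NT
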