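import Mathlib
import Cfsg.Prelude.Def_Blocks
import Cfsg.Prelude.Def_CharExt
import Cfsg.Agent.Lib.H21.AD.Defs
import Cfsg.Agent.Lib.H28.NT.Defs
import Cfsg.Agent.Lib.H10.APKEYF
import Cfsg.Agent.Lib.H10.NTKEYF
import Cfsg.Agent.Lib.H9.NTCONJ
import Cfsg.Agent.Lib.H14.APSOLFCore
import Cfsg.Agent.Lib.H15.NTGLUE
import Cfsg.Agent.Lib.H23.ExtGeneral
import Cfsg.Agent.Lib.H24.CharLinearMul
import Cfsg.Agent.Lib.H4.ADCOSET
import Cfsg.Agent.Lib.H4.ADEND1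
import Cfsg.Agent.Lib.H6.ADLC4

/-!
# S4551 pieces (GOODC) + glue + (PART2), explicit hypotheses (helper10)

`GoodC p N θ H f` : `f` extends `θ` to `H` and is principal on every cyclic layer `N⟨c⟩`, `c ∈ H`.
Fed to the abstract `glue` of S4892 this gives an extension of every invariant `θ` in the principal block of `N`
to `G` (`p ∤ |G : N|`, `G = N C_G(Q)`); the twist of S4937 puts it in the principal block of `G`, and
`keyF_gen` on `⊤` gives uniqueness.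
-/

set_option autoImplicit false
set_option linter.unusedSectionVars false
set_option linter.unusedVariables false
open Cfsg.Agent.Lib.H21.AD Cfsg.Agent.Lib.H28.NT

namespace Cfsg.Agent.Lib.H10.AP

variable {G : Type*} [Group G] [Finite G] {p : ℕ} {M : Ideal Cfsg.AlgInt} {N Q : Subgroup G} {θ : G → ℂ}

/-- principal on every cyclic layer -/
def GoodC (p : ℕ) (N : Subgroup G) (θ : G → ℂ) (H : Subgroup G) (f : G → ℂ) : Prop :=
  IsExt N θ H f ∧ ∀ c ∈ H, sSum p (N ⊔ Subgroup.zpowers c) f ≠ 0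

/-- (CONJA') with explicit `hinv` -/
theorem goodA_conj_gen [N.Normal] (hinv : ∀ g : G, ∀ n ∈ N, θ (g * n * g⁻¹) = θ n) (J : Subgroup G)
    (f : G → ℂ) (hf : GoodA p N θ J f) (t : G) :
    GoodA p N θ (J.map (MulAut.conj t).toMonoidHom) (fun x => f (t⁻¹ * x * t)) := by
  obtain ⟨hext, hsum⟩ := hf
  refine ⟨Cfsg.Agent.Lib.H9.NT.isExt_conj hinv J f hext t, ?_⟩
  rw [Cfsg.Agent.Lib.H9.AD.sSum_conj]
  have : (fun g => f (t⁻¹ * (t * g * t⁻¹) * t)) = f := by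
    funext g
    congr 1
    group
  rw [this]
  exact hsum

/-- `p ∤ |J : N|` for every `J` when `p ∤ |G : N|` -/
theorem not_dvd_relIndex_of_index [N.Normal] (hidx : ¬ p ∣ N.index) (J : Subgroup G) :
    ¬ p ∣ N.relIndex J := fun h => hidx (h.trans (Subgroup.relIndex_dvd_index_of_normal N J))

theorem goodC_conj [N.Normal] (hinv : ∀ g : G, ∀ n ∈ N, θ (g * n * g⁻¹) = θ n) (H : Subgroup G)
    (f : G → ℂ) (hf : GoodC p N θ H f) (t : G) :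
    GoodC p N θ (H.map (MulAut.conj t).toMonoidHom) (fun x => f (t⁻¹ * x * t)) := by
  obtain ⟨hext, hsum⟩ := hf
  refine ⟨Cfsg.Agent.Lib.H9.NT.isExt_conj hinv H f hext t, ?_⟩
  rintro c ⟨c₀, hc₀, rfl⟩
  have h1 : (MulAut.conj t).toMonoidHom c₀ = t * c₀ * t⁻¹ := by simp [MulAut.conj_apply]
  rw [h1, ← Cfsg.Agent.Lib.H9.NT.map_conj_sup_zpowers, Cfsg.Agent.Lib.H9.AD.sSum_conj]
  have : (fun g => f (t⁻¹ * (t * g * t⁻¹) * t)) = f := by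
    funext g
    congr 1
    group
  rw [this]
  exact hsum c₀ hc₀

theorem goodC_restrict [N.Normal] (hirr : Cfsg.IsIrrCharacter N (fun n : N => θ n))
    (K H : Subgroup G) (hNK : N ≤ K) (hKH : K ≤ H) (f : G → ℂ) (hf : GoodC p N θ H f) :
    GoodC p N θ K f :=
  ⟨Cfsg.Agent.Lib.H10.NT.isExt_mono hirr K H hNK hKH f hf.1, fun c hc => hf.2 c (hKH hc)⟩

theorem goodC_unique [N.Normal] (hp : p.Prime) (hM : Cfsg.IsPModular p M) (hQN : Q ≤ N)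
    (hQ : ¬ p ∣ Q.relIndex N) (hidx : ¬ p ∣ N.index)
    (hcov : ∀ g : G, ∃ n ∈ N, ∃ z ∈ Subgroup.centralizer (Q : Set G), g = n * z)
    (hirr : Cfsg.IsIrrCharacter N (fun n : N => θ n))
    (H : Subgroup G) (hNH : N ≤ H) (f₁ f₂ : G → ℂ) (h₁ : GoodC p N θ H f₁) (h₂ : GoodC p N θ H f₂) :
    ∀ g ∈ H, f₁ g = f₂ g := by
  intro g hg
  have hN1 : N ≤ N ⊔ Subgroup.zpowers g := le_sup_left
  have h1H : N ⊔ Subgroup.zpowers g ≤ H := sup_le hNH ((Subgroup.zpowers_le).2 hg)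
  have hgJ : g ∈ N ⊔ Subgroup.zpowers g :=
    (le_sup_right : Subgroup.zpowers g ≤ _) (Subgroup.mem_zpowers g)
  have g₁ : GoodA p N θ (N ⊔ Subgroup.zpowers g) f₁ :=
    ⟨Cfsg.Agent.Lib.H10.NT.isExt_mono hirr _ H hN1 h1H f₁ h₁.1, h₁.2 g hg⟩
  have g₂ : GoodA p N θ (N ⊔ Subgroup.zpowers g) f₂ :=
    ⟨Cfsg.Agent.Lib.H10.NT.isExt_mono hirr _ H hN1 h1H f₂ h₂.1, h₂.2 g hg⟩
  exact keyF_gen hp hM hQN hQ (fun J _ _ g _ => hcov g) hirr _ _ hN1 le_rfl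
    (not_dvd_relIndex_of_index hidx _) f₁ f₂ g₁ g₂ g hgJ

/-- (SOLF') under the explicit hypotheses -/
theorem exists_goodA_of [N.Normal] (hp : p.Prime) (hM : Cfsg.IsPModular p M) (hQN : Q ≤ N)
    (hQ : ¬ p ∣ Q.relIndex N)
    (hcov : ∀ g : G, ∃ n ∈ N, ∃ z ∈ Subgroup.centralizer (Q : Set G), g = n * z)
    (hirr : Cfsg.IsIrrCharacter N (fun n : N => θ n)) (hB : sSum p N θ ≠ 0)
    (hinv : ∀ g : G, ∀ n ∈ N, θ (g * n * g⁻¹) = θ n)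
    (J : Subgroup G) (hNJ : N ≤ J) (hpJ : ¬ p ∣ N.relIndex J)
    (hsol : Group.IsSolvable (↥J ⧸ N.subgroupOf J)) : ∃ f : G → ℂ, GoodA p N θ J f :=
  Cfsg.Agent.Lib.H14.AP.exists_goodA_gen hirr hB
    (fun J₁ J₂ hN1 h12 hp2 f₁ f₂ h₁ h₂ =>
      keyF_gen hp hM hQN hQ (fun J _ _ g _ => hcov g) hirr J₁ J₂ hN1 h12 hp2 f₁ f₂ h₁ h₂)
    (fun J _ f hf t => goodA_conj_gen hinv J f hf t) (Nat.card J) J rfl hNJ hpJ hsol

theorem exists_goodC [N.Normal] (hp : p.Prime) (hM : Cfsg.IsPModular p M) (hQN : Q ≤ N)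
    (hQ : ¬ p ∣ Q.relIndex N) (hidx : ¬ p ∣ N.index)
    (hcov : ∀ g : G, ∃ n ∈ N, ∃ z ∈ Subgroup.centralizer (Q : Set G), g = n * z)
    (hirr : Cfsg.IsIrrCharacter N (fun n : N => θ n)) (hB : sSum p N θ ≠ 0)
    (hinv : ∀ g : G, ∀ n ∈ N, θ (g * n * g⁻¹) = θ n)
    (E : Subgroup G) (hE : Group.IsNilpotent E) : ∃ f : G → ℂ, GoodC p N θ (E ⊔ N) f := by
  have hsolE : Group.IsSolvable E := inferInstance
  have hsol : Group.IsSolvable (↥(E ⊔ N) ⧸ N.subgroupOf (E ⊔ N)) :=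
    Cfsg.Agent.Lib.H23.isSolvable_sup_quotient E hsolE
  have hkey : ∀ (J₁ J₂ : Subgroup G), N ≤ J₁ → J₁ ≤ J₂ → ¬ p ∣ N.relIndex J₂ →
      ∀ f₁ f₂ : G → ℂ, GoodA p N θ J₁ f₁ → GoodA p N θ J₂ f₂ → ∀ g ∈ J₁, f₁ g = f₂ g :=
    fun J₁ J₂ hN1 h12 hp2 f₁ f₂ h₁ h₂ =>
      keyF_gen hp hM hQN hQ (fun J _ _ g _ => hcov g) hirr J₁ J₂ hN1 h12 hp2 f₁ f₂ h₁ h₂
  obtain ⟨f, hf⟩ := exists_goodA_of hp hM hQN hQ hcov hirr hB hinv (E ⊔ N) le_sup_right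
    (not_dvd_relIndex_of_index hidx _) hsol
  refine ⟨f, hf.1, fun c hc => ?_⟩
  exact Cfsg.Agent.Lib.H14.AP.goodA_zpowers_gen hkey
    (fun J hNJ hpJ hs => exists_goodA_of hp hM hQN hQ hcov hirr hB hinv J hNJ hpJ hs)
    (E ⊔ N) le_sup_right (not_dvd_relIndex_of_index hidx _) f hf c hc

/-- (GOODC)+glue: every invariant `θ` in the principal block of `N` extends to `G` -/
theorem exists_ext_of_principal (hp : p.Prime) (hM : Cfsg.IsPModular p M) (N Q : Subgroup G)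
    [N.Normal] (hQN : Q ≤ N) (hQ : ¬ p ∣ Q.relIndex N) (hidx : ¬ p ∣ N.index)
    (hcov : ∀ g : G, ∃ n ∈ N, ∃ z ∈ Subgroup.centralizer (Q : Set G), g = n * z)
    (θ : G → ℂ) (hirr : Cfsg.IsIrrCharacter N (fun n : N => θ n)) (hB : sSum p N θ ≠ 0)
    (hinv : ∀ g : G, ∀ n ∈ N, θ (g * n * g⁻¹) = θ n) :
    ∃ χ' : G → ℂ, Cfsg.IsIrrCharacter G χ' ∧ ∀ n ∈ N, χ' n = θ n := by
  obtain ⟨χ, hχ, hχN, -⟩ := Cfsg.Agent.Lib.H15.NT.glue N θ hirr (GoodC p N θ)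
    (fun H f _ hf => hf.1)
    (fun H f₁ f₂ hNH h₁ h₂ => goodC_unique hp hM hQN hQ hidx hcov hirr H hNH f₁ f₂ h₁ h₂)
    (fun E hE => exists_goodC hp hM hQN hQ hidx hcov hirr hB hinv E hE)
    (fun K H f hNK hKH hf => goodC_restrict hirr K H hNK hKH f hf)
    (fun H f t _ hf => goodC_conj hinv H f hf t)
  exact ⟨χ, hχ, hχN⟩

end Cfsg.Agent.Lib.H10.AP
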