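import Mathlib
import Cfsg.Prelude.Def_Blocks
import Cfsg.Prelude.Def_CharExt
import Cfsg.Agent.Lib.H21.AD.Defs
import Cfsg.Agent.Lib.H28.NT.Defs
import Cfsg.Agent.Lib.H10.APKEYF
import Cfsg.Agent.Lib.H10.APGOODC
import Cfsg.Agent.Lib.H28.AP.INV
import Cfsg.Agent.Lib.H24.CharLinearMul
import Cfsg.Agent.Lib.H4.ADCOSET
import Cfsg.Agent.Lib.H4.ADEND1
import Cfsg.Agent.Lib.H6.ADLC4
import Cfsg.Agent.Lib.H2.ADSOL
import Cfsg.Agent.Lib.L0.CharOps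

/-!
# S4551 piece (PART2), explicit hypotheses (helper10)

Every `θ` in the principal block of `N` (`N ⊴ G`, `p ∤ |G : N|`, `G = N C_G(Q)`, `Q ≤ N` of `p'`-index)
has exactly one extension in the principal block of `G` (everything in the function form of `H21.AD.Defs`).
-/

set_option autoImplicit false
set_option linter.unusedSectionVars false
set_option linter.unusedVariables false
open Cfsg.Agent.Lib.H21.AD Cfsg.Agent.Lib.H28.NT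

namespace Cfsg.Agent.Lib.H10.AP

variable {G : Type*} [Group G] [Finite G] {p : ℕ} {M : Ideal Cfsg.AlgInt}

/-- existence, with invariance as a hypothesis: the extension of `exists_ext_of_principal`, twisted as in S4937 -/
theorem exists_principal_ext_of_inv (hp : p.Prime) (hM : Cfsg.IsPModular p M) (N Q : Subgroup G)
    [N.Normal] (hQN : Q ≤ N) (hQ : ¬ p ∣ Q.relIndex N) (hidx : ¬ p ∣ N.index)
    (hcov : ∀ g : G, ∃ n ∈ N, ∃ z ∈ Subgroup.centralizer (Q : Set G), g = n * z)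
    (θ : G → ℂ) (hirr : Cfsg.IsIrrCharacter N (fun n : N => θ n)) (hB : sSum p N θ ≠ 0)
    (hinv : ∀ g : G, ∀ n ∈ N, θ (g * n * g⁻¹) = θ n) :
    ∃ χ : G → ℂ, Cfsg.IsIrrCharacter G χ ∧ (∀ n ∈ N, χ n = θ n) ∧
      ∀ J : Subgroup G, N ≤ J → sSum p J χ ≠ 0 := by
  obtain ⟨ψ, hψ, hψθ⟩ := exists_ext_of_principal hp hM N Q hQN hQ hidx hcov θ hirr hB hinv
  have hψN : Cfsg.IsIrrCharacter N (fun n : N => ψ n) := by
    have h : (fun n : N => ψ n) = (fun n : N => θ n) := funext (fun n => hψθ n n.2)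
    rw [h]; exact hirr
  have hθ' : sSum p N ψ ≠ 0 := by
    rw [Cfsg.Agent.Lib.H2.AD.sSum_congr p N ψ θ hψθ]
    exact hB
  obtain ⟨lam, hlamN, hlam⟩ :=
    Cfsg.Agent.Lib.H6.AD.exists_lam hM N Q hQN hQ hcov ψ hψ hψN hθ'
  obtain ⟨χf, hχf⟩ : ∃ χf : G → ℂ, χf = fun g => ψ g * (lam g : ℂ) := ⟨_, rfl⟩
  have hχirr : Cfsg.IsIrrCharacter G χf := by
    rw [hχf]
    exact Cfsg.Agent.Lib.H24.isIrrCharacter_mul_hom ψ hψ lam
  have hχN : ∀ n ∈ N, χf n = θ n := fun n hn => by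
    rw [hχf]
    show ψ n * (lam n : ℂ) = _
    rw [hlamN n hn, hψθ n hn]; simp
  have hmain : ∀ J : Subgroup G, N ≤ J → sSum p J χf ≠ 0 := by
    intro J hNJ
    obtain ⟨k, hk, hsum⟩ := Cfsg.Agent.Lib.H4.AD.coset_count p N J hNJ χf
      (fun y _ hyp => by
        rw [hχf]
        exact Cfsg.Agent.Lib.H4.AD.coset_const hM N Q hQN hQ hcov ψ hψ hψN lam hlamN hlam y hyp)
    rw [hsum]
    have h1 : sSum p N χf = sSum p N ψ := by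
      apply Cfsg.Agent.Lib.H2.AD.sSum_congr
      intro g hg
      rw [hχf]
      show ψ g * (lam g : ℂ) = _
      rw [hlamN g hg]; simp
    rw [h1]
    exact mul_ne_zero (Nat.cast_ne_zero.2 hk.ne') hθ'
  exact ⟨χf, hχirr, hχN, hmain⟩

/-- irreducible on `G` gives irreducible on `⊤` -/
theorem isIrr_top (χ : G → ℂ) (hχ : Cfsg.IsIrrCharacter G χ) :
    Cfsg.IsIrrCharacter (⊤ : Subgroup G) (fun y : (⊤ : Subgroup G) => χ y) :=
  Cfsg.Agent.Lib.L0.isIrrCharacter_comp_of_surjective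
    (Subgroup.topEquiv (G := G)).toMonoidHom (Subgroup.topEquiv (G := G)).surjective hχ

/-- uniqueness: two principal extensions agree (no invariance needed) -/
theorem principal_ext_unique (hp : p.Prime) (hM : Cfsg.IsPModular p M) (N Q : Subgroup G)
    [N.Normal] (hQN : Q ≤ N) (hQ : ¬ p ∣ Q.relIndex N) (hidx : ¬ p ∣ N.index)
    (hcov : ∀ g : G, ∃ n ∈ N, ∃ z ∈ Subgroup.centralizer (Q : Set G), g = n * z)
    (θ : G → ℂ) (hirr : Cfsg.IsIrrCharacter N (fun n : N => θ n))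
    (χ₁ χ₂ : G → ℂ) (h₁ : Cfsg.IsIrrCharacter G χ₁) (h₁B : sSum p ⊤ χ₁ ≠ 0)
    (h₁N : ∀ n ∈ N, χ₁ n = θ n) (h₂ : Cfsg.IsIrrCharacter G χ₂) (h₂B : sSum p ⊤ χ₂ ≠ 0)
    (h₂N : ∀ n ∈ N, χ₂ n = θ n) : χ₁ = χ₂ := by
  funext g
  have g₁ : GoodA p N θ ⊤ χ₁ := ⟨⟨isIrr_top χ₁ h₁, h₁N⟩, h₁B⟩
  have g₂ : GoodA p N θ ⊤ χ₂ := ⟨⟨isIrr_top χ₂ h₂, h₂N⟩, h₂B⟩
  exact keyF_gen hp hM hQN hQ (fun J _ _ g _ => hcov g) hirr ⊤ ⊤ le_top le_rfl
    (not_dvd_relIndex_of_index hidx _) χ₁ χ₂ g₁ g₂ g (Subgroup.mem_top g)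

/-- (PART2) in function form: existence (also principal on every `J ⊇ N`) and uniqueness -/
theorem exists_unique_principal_ext (hp : p.Prime) (hM : Cfsg.IsPModular p M) (N Q : Subgroup G)
    [N.Normal] (hQN : Q ≤ N) (hQ : ¬ p ∣ Q.relIndex N) (hidx : ¬ p ∣ N.index)
    (hcov : ∀ g : G, ∃ n ∈ N, ∃ z ∈ Subgroup.centralizer (Q : Set G), g = n * z)
    (θ : G → ℂ) (hirr : Cfsg.IsIrrCharacter N (fun n : N => θ n)) (hB : sSum p N θ ≠ 0) :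
    ∃ χ : G → ℂ, (Cfsg.IsIrrCharacter G χ ∧ sSum p ⊤ χ ≠ 0 ∧ ∀ n ∈ N, χ n = θ n) ∧
      ∀ χ₂ : G → ℂ, (Cfsg.IsIrrCharacter G χ₂ ∧ sSum p ⊤ χ₂ ≠ 0 ∧ ∀ n ∈ N, χ₂ n = θ n) → χ₂ = χ := by
  have hinv := Cfsg.Agent.Lib.H28.AP.hinv_of_principal hp hM N Q hQN hQ θ hirr hB hidx hcov
  obtain ⟨χ, hχ, hχN, hmain⟩ :=
    exists_principal_ext_of_inv hp hM N Q hQN hQ hidx hcov θ hirr hB hinv
  refine ⟨χ, ⟨hχ, hmain ⊤ le_top, hχN⟩, ?_⟩
  rintro χ₂ ⟨h₂, h₂B, h₂N⟩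
  exact principal_ext_unique hp hM N Q hQN hQ hidx hcov θ hirr χ₂ χ h₂ h₂B h₂N hχ
    (hmain ⊤ le_top) hχN

/-- the shape of helper6's `hpart2` hypothesis -/
theorem hpart2 (hp : p.Prime) (hM : Cfsg.IsPModular p M) (N Q : Subgroup G)
    [N.Normal] (hQN : Q ≤ N) (hQ : ¬ p ∣ Q.relIndex N) (hidx : ¬ p ∣ N.index)
    (hcov : ∀ g : G, ∃ n ∈ N, ∃ z ∈ Subgroup.centralizer (Q : Set G), g = n * z) :
    ∀ θ : G → ℂ, Cfsg.IsIrrCharacter N (fun n : N => θ n) → sSum p N θ ≠ 0 →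
      ∃ χ' : G → ℂ, Cfsg.IsIrrCharacter G χ' ∧ sSum p ⊤ χ' ≠ 0 ∧ ∀ n ∈ N, χ' n = θ n := by
  intro θ hirr hB
  obtain ⟨χ, h, -⟩ := exists_unique_principal_ext hp hM N Q hQN hQ hidx hcov θ hirr hB
  exact ⟨χ, h⟩

end Cfsg.Agent.Lib.H10.AP
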