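import Mathlib
import Cfsg.Agent.Lib.H19.AlpDefs

set_option autoImplicit false

/-!
# S3782 (Alperin), piece FIXQ: passing to the quotient by an invariant normal subgroup does not
increase the number of fixed points of an automorphism.

`X = {x : α x ≡ x mod N}`; `X ≃ Fix(G/N) × N` (coset representatives), and
`x ↦ x⁻¹ α x : X → N` has fibres inside right cosets of `C_G(α)`, whence an injection
`X → C_G(α) × N`.
-/

namespace Cfsg.Agent.Lib.H10.ALP

open Cfsg.Agent.Lib.H19.ALP

universe u

variable {G : Type u} [Group G]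

/-- the elements fixed by `α` modulo `N` -/
abbrev fixModSet (α : MulAut G) (N : Subgroup G) [N.Normal] : Type u :=
  {x : G // ((α x : G) : G ⧸ N) = (x : G ⧸ N)}

theorem fixMod_mem (α : MulAut G) (N : Subgroup G) [N.Normal] (x : fixModSet α N) :
    (x.1)⁻¹ * α x.1 ∈ N := by
  have h := x.2
  exact QuotientGroup.eq.1 h.symm

/-- the map `x ↦ x⁻¹ α x` into `N` -/
def fixModMap (α : MulAut G) (N : Subgroup G) [N.Normal] (x : fixModSet α N) : N :=
  ⟨(x.1)⁻¹ * α x.1, fixMod_mem α N x⟩

/-- `X ≃ Fix(G/N) × N` -/
noncomputable def fixModEquiv (α : MulAut G) (N : Subgroup G) [N.Normal] (h : Inv α N) :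
    fixModSet α N ≃ {q : G ⧸ N // qAut α N h q = q} × N where
  toFun x :=
    (⟨(x.1 : G ⧸ N), by rw [qAut_mk]; exact x.2⟩,
      ⟨(Quotient.out ((x.1 : G) : G ⧸ N))⁻¹ * x.1, by
        apply QuotientGroup.eq.1
        exact QuotientGroup.out_eq' _⟩)
  invFun fn :=
    ⟨Quotient.out (fn.1.1 : G ⧸ N) * (fn.2 : G), by
      have h1 : ((Quotient.out (fn.1.1 : G ⧸ N) * (fn.2 : G) : G) : G ⧸ N) = fn.1.1 := by
        rw [QuotientGroup.mk_mul, QuotientGroup.out_eq', (QuotientGroup.eq_one_iff _).2 fn.2.2,
          mul_one]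
      rw [← qAut_mk α N h, h1]
      exact fn.1.2⟩
  left_inv x := by
    apply Subtype.ext
    show Quotient.out ((x.1 : G) : G ⧸ N) * ((Quotient.out ((x.1 : G) : G ⧸ N))⁻¹ * x.1) = x.1
    rw [mul_inv_cancel_left]
  right_inv fn := by
    obtain ⟨⟨q, hq⟩, ⟨n, hn⟩⟩ := fn
    have h1 : ((Quotient.out q * n : G) : G ⧸ N) = q := by
      rw [QuotientGroup.mk_mul, QuotientGroup.out_eq', (QuotientGroup.eq_one_iff _).2 hn,
        mul_one]
    refine Prod.ext (Subtype.ext h1) (Subtype.ext ?_)
    show (Quotient.out ((Quotient.out q * n : G) : G ⧸ N))⁻¹ * (Quotient.out q * n) = n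
    rw [h1, inv_mul_cancel_left]

/-- a base point in each fibre of `fixModMap` -/
noncomputable def fixModBase (α : MulAut G) (N : Subgroup G) [N.Normal] (n : N) : fixModSet α N :=
  by
    classical
    exact if hn : ∃ x : fixModSet α N, fixModMap α N x = n then Classical.choose hn
      else ⟨1, by simp⟩

theorem fixModBase_spec (α : MulAut G) (N : Subgroup G) [N.Normal] (x : fixModSet α N) :
    fixModMap α N (fixModBase α N (fixModMap α N x)) = fixModMap α N x := by
  classical
  have hn : ∃ y : fixModSet α N, fixModMap α N y = fixModMap α N x := ⟨x, rfl⟩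
  unfold fixModBase
  rw [dif_pos hn]
  exact Classical.choose_spec hn

/-- **FIXQ**: passing to a quotient does not increase the number of fixed points. -/
theorem fixCard_qAut_le [Finite G] (α : MulAut G) (N : Subgroup G) [N.Normal] (h : Inv α N) :
    fixCard (qAut α N h) ≤ fixCard α := by
  classical
  unfold fixCard
  have hfin : Finite (fixModSet α N) := by unfold fixModSet; infer_instance
  -- the injection `X → C × N`
  have hinj : Nat.card (fixModSet α N) ≤ Nat.card ({g : G // α g = g} × N) := by
    refine Nat.card_le_card_of_injective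
      (fun x : fixModSet α N =>
        ((⟨x.1 * ((fixModBase α N (fixModMap α N x)).1)⁻¹, by
          have h1 : ((fixModBase α N (fixModMap α N x)).1)⁻¹ *
              α (fixModBase α N (fixModMap α N x)).1 = (x.1)⁻¹ * α x.1 :=
            congrArg (fun n : N => (n : G)) (fixModBase_spec α N x)
          generalize (fixModBase α N (fixModMap α N x)).1 = b at h1
          have h2 : α x.1 = x.1 * (b⁻¹ * α b) := by rw [h1, mul_inv_cancel_left]
          rw [map_mul, map_inv, h2]
          group⟩ : {g : G // α g = g}), fixModMap α N x)) ?_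
    intro x y hxy
    have h1 : fixModMap α N x = fixModMap α N y := congrArg Prod.snd hxy
    have h2 := congrArg (fun z : {g : G // α g = g} × N => (z.1 : G)) hxy
    simp only at h2
    rw [h1] at h2
    exact Subtype.ext (mul_right_cancel h2)
  have hX : Nat.card (fixModSet α N) =
      Nat.card {q : G ⧸ N // qAut α N h q = q} * Nat.card N := by
    rw [Nat.card_congr (fixModEquiv α N h), Nat.card_prod]
  rw [hX, Nat.card_prod] at hinj
  exact Nat.le_of_mul_le_mul_right hinj Nat.card_pos

end Cfsg.Agent.Lib.H10.ALP
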