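import Mathlib
import Cfsg.Agent.Lib.H19.AlpDefs

set_option autoImplicit false

/-!
# S3782 (Alperin), piece FIXR: restriction to an invariant subgroup does not increase the
number of fixed points.
-/

namespace Cfsg.Agent.Lib.H10.ALP

open Cfsg.Agent.Lib.H19.ALP

universe u

variable {G : Type u} [Group G]

/-- **FIXR**: restriction does not increase the number of fixed points. -/
theorem fixCard_rAut_le [Finite G] (α : MulAut G) (N : Subgroup G) (h : Inv α N) :
    fixCard (rAut α N h) ≤ fixCard α := by
  unfold fixCard
  refine Nat.card_le_card_of_injective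
    (fun x : {g : N // rAut α N h g = g} =>
      (⟨(x.1 : G), by
        have h1 := x.2
        have h2 : ((rAut α N h x.1 : N) : G) = ((x.1 : N) : G) := by rw [h1]
        rwa [rAut_coe] at h2⟩ : {g : G // α g = g})) ?_
  intro x y hxy
  have h1 : ((x.1 : N) : G) = ((y.1 : N) : G) := by
    have := congrArg (fun z : {g : G // α g = g} => (z : G)) hxy
    simpa using this
  exact Subtype.ext (Subtype.ext h1)

end Cfsg.Agent.Lib.H10.ALP
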