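import Mathlib
import Cfsg.Agent.Lib.H19.AlpDefs
import Cfsg.Agent.Lib.H1.LieGh
import Cfsg.Agent.Lib.H22.PPrimeCore
import Cfsg.Agent.Lib.H10.AlpFIXQ
import Cfsg.Agent.Lib.H10.AlpFIXR
import Cfsg.Agent.S3780

set_option autoImplicit false

/-!
# S3782 (Alperin), piece PGB (core): far out, the lower central factors have bounded order,
given the exponent bound of piece PGA as a hypothesis.
-/

namespace Cfsg.Agent.Lib.H10.ALP

open Cfsg.Agent.Lib.H19.ALP
open Cfsg.Agent.Lib.H1 Cfsg.Agent.Lib.H1.LieG

universe u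

/-- a finite abelian group of exponent dividing `E` generated by `k` elements has order at most
`E ^ k` -/
theorem card_closure_finset_le {Q : Type*} [CommGroup Q] [Finite Q] (E : ℕ) (hE : 0 < E)
    (hexp : ∀ q : Q, q ^ E = 1) (S : Finset Q) :
    Nat.card (Subgroup.closure (S : Set Q)) ≤ E ^ S.card := by
  classical
  induction S using Finset.induction_on with
  | empty => simp
  | insert a S ha ih =>
    rw [Finset.card_insert_of_notMem ha, Finset.coe_insert, Set.insert_eq, Subgroup.closure_union]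
    have h1 : Nat.card (Subgroup.closure ({a} : Set Q) ⊔ Subgroup.closure (S : Set Q) : Subgroup Q) ≤
        Nat.card (Subgroup.closure ({a} : Set Q)) * Nat.card (Subgroup.closure (S : Set Q)) := by
      have hn : (Subgroup.closure (S : Set Q)).Normal := inferInstance
      exact Nat.le_of_dvd (Nat.mul_pos Nat.card_pos Nat.card_pos)
        (Cfsg.Agent.Lib.H22.card_sup_dvd_mul _ _)
    have h2 : Nat.card (Subgroup.closure ({a} : Set Q)) ≤ E := by
      rw [← Subgroup.zpowers_eq_closure, Nat.card_zpowers]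
      exact Nat.le_of_dvd hE (orderOf_dvd_of_pow_eq_one (hexp a))
    calc Nat.card (Subgroup.closure ({a} : Set Q) ⊔ Subgroup.closure (S : Set Q) : Subgroup Q)
        ≤ Nat.card (Subgroup.closure ({a} : Set Q)) * Nat.card (Subgroup.closure (S : Set Q)) := h1
      _ ≤ E * E ^ S.card := Nat.mul_le_mul h2 ih
      _ = E ^ (S.card + 1) := by rw [pow_succ, mul_comm]

section PGroup

variable {p : ℕ} [hp : Fact p.Prime] {G : Type u} [Group G]

/-- the automorphism induced on `Γ_w / Γ_{w+1}` -/
noncomputable def qwAut (α : MulAut G) (w : ℕ) : MulAut (Qw G w) :=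
  qAut (rAut α (Gam G w) (inv_of_characteristic α (Gam G w)))
    ((Gam G (w + 1)).subgroupOf (Gam G w))
    (by
      have h1 : Cfsg.Agent.Lib.H19.ALP.Inv α (Gam G (w + 1)) := inv_of_characteristic α (Gam G (w + 1))
      unfold Cfsg.Agent.Lib.H19.ALP.Inv
      ext x
      constructor
      · rintro ⟨y, hy, rfl⟩
        rw [SetLike.mem_coe, Subgroup.mem_subgroupOf] at hy
        rw [Subgroup.mem_subgroupOf, MulEquiv.coe_toMonoidHom, rAut_coe]
        exact (h1.mem_iff _).2 hy
      · intro hx
        rw [Subgroup.mem_subgroupOf] at hx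
        refine ⟨(rAut α (Gam G w) (inv_of_characteristic α (Gam G w))).symm x, ?_, by simp⟩
        rw [SetLike.mem_coe, Subgroup.mem_subgroupOf]
        rw [← h1.mem_iff, ← rAut_coe α (Gam G w) (inv_of_characteristic α (Gam G w))]
        simpa using hx)

theorem fixCard_qwAut_le [Finite G] (α : MulAut G) (w : ℕ) : fixCard (qwAut α w) ≤ fixCard α :=
  le_trans (fixCard_qAut_le _ _ _) (fixCard_rAut_le _ _ _)

theorem qwAut_pow_eq_one (α : MulAut G) (w : ℕ) {k : ℕ} (hk : α ^ k = 1) : qwAut α w ^ k = 1 :=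
  qAut_pow_eq_one _ _ _ (rAut_pow_eq_one _ _ _ hk)

/-- **PGB** with the conclusion of PGA (for this `w`) as a hypothesis: if `Γ_w / Γ_{w+1}` has
exponent dividing `p ^ expo p n`, it has order at most `p ^ width p n`. -/
theorem card_Qw_le_of [Finite G] (hG : IsPGroup p G) (α : MulAut G) (hα : α ^ p = 1) (n : ℕ)
    (hfix : fixCard α ≤ p ^ n) (w : ℕ)
    (hPGA : ∀ {x : G}, x ∈ Gam G w → x ^ (p ^ expo p n) ∈ Gam G (w + 1)) :
    Nat.card (Qw G w) ≤ p ^ width p n := by
  classical
  have hp1 : 1 ≤ p := hp.out.one_lt.le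
  set β := qwAut α w with hβ
  have hβp : β ^ p = 1 := qwAut_pow_eq_one α w hα
  have hβfix : fixCard β ≤ p ^ n := le_trans (fixCard_qwAut_le α w) hfix
  have hQp : IsPGroup p (Qw G w) := (hG.to_subgroup (Gam G w)).to_quotient _
  -- exponent
  have hexp : ∀ q : Qw G w, q ^ (p ^ expo p n) = 1 := by
    intro q
    induction q using QuotientGroup.induction_on with
    | H x =>
      rw [← QuotientGroup.mk_pow, QuotientGroup.eq_one_iff, Subgroup.mem_subgroupOf]
      rw [Subgroup.coe_pow]
      exact hPGA x.2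
  have hwid : n ≤ width p n := by unfold width; omega
  by_cases h1 : β = 1
  · -- everything is fixed
    have h2 : Nat.card (Qw G w) = fixCard β := by
      unfold fixCard
      refine Nat.card_congr (Equiv.subtypeUnivEquiv (fun q => ?_)).symm
      rw [h1]; rfl
    rw [h2]
    exact le_trans hβfix (Nat.pow_le_pow_right hp1 hwid)
  · have hord : orderOf β = p := orderOf_eq_prime hβp h1
    -- the number of fixed points is a power of `p`
    obtain ⟨m, hm⟩ : ∃ m, Nat.card {v : Qw G w // β v = v} = p ^ m := by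
      have h3 : IsPGroup p (MonoidHom.eqLocus β.toMonoidHom (MonoidHom.id (Qw G w))) :=
        hQp.to_subgroup _
      obtain ⟨m, hm⟩ := h3.exists_card_eq
      refine ⟨m, ?_⟩
      rw [← hm]
      exact Nat.card_congr (Equiv.subtypeEquivRight (fun v => Iff.rfl))
    have hmn : m ≤ n := by
      have h4 : p ^ m ≤ p ^ n := by rw [← hm]; exact hβfix
      exact (Nat.pow_le_pow_iff_right hp.out.one_lt).1 h4
    obtain ⟨S, hS, hcl⟩ := Cfsg.Agent.S3780.result hQp β hord m hm
    have h5 : Nat.card (Qw G w) ≤ (p ^ expo p n) ^ S.card := by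
      have h6 := card_closure_finset_le (p ^ expo p n) (Nat.pow_pos hp.out.pos) hexp S
      rw [hcl] at h6
      rwa [Nat.card_congr (Subgroup.topEquiv (G := Qw G w)).toEquiv] at h6
    calc Nat.card (Qw G w) ≤ (p ^ expo p n) ^ S.card := h5
      _ ≤ (p ^ expo p n) ^ (p * n) :=
          Nat.pow_le_pow_right (Nat.pow_pos hp.out.pos)
            (le_trans hS (Nat.mul_le_mul_left p hmn))
      _ = p ^ (expo p n * (p * n)) := by rw [← pow_mul]
      _ ≤ p ^ width p n := Nat.pow_le_pow_right hp1 (by unfold width; omega)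

end PGroup

end Cfsg.Agent.Lib.H10.ALP
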