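import Mathlib
import Cfsg.Agent.Lib.H19.AlpDefs
import Cfsg.Agent.Lib.H9.PPrimeCore
import Cfsg.Agent.Lib.H22.PPrimeCore

set_option autoImplicit false

/-!
# S3782 (Alperin), piece SD2: `O_{p'}(G / O_{p'}(G)) = 1` (wrapper around helper9's lemma).
-/

namespace Cfsg.Agent.Lib.H10.ALP

universe u

variable {p : ℕ} [hp : Fact p.Prime] {G : Type u} [Group G]

/-- **SD2**: the quotient by the `p'`-core has trivial `p'`-core. -/
theorem pPrimeCore_quotient_eq_bot [Finite G] :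
    haveI := Cfsg.Agent.Lib.H22.pPrimeCore_normal (G := G) p
    Cfsg.pPrimeCore p (G ⧸ Cfsg.pPrimeCore p G) = ⊥ := by
  exact Cfsg.Agent.Lib.H9.pPrimeCore_quotient_eq_bot p

end Cfsg.Agent.Lib.H10.ALP
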