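import Mathlib
import Cfsg.Agent.Lib.H1.QdGroup
import Cfsg.Agent.Lib.H1.SecLiftP

/-!
Sections `SL₂(p)` of automizers of `p`-subgroups (helper10): a finite group in which no automizer
`N(Q)/C(Q)` of a `p`-subgroup has a section `SL₂(p)` has all its sections `p`-stable in the
normalizer form (`p` odd).
-/

set_option autoImplicit false

universe u

namespace Cfsg.Agent.Lib.H10.AutSec

open Cfsg Cfsg.Agent.Lib.H1.QuadPair Cfsg.Agent.Lib.H1.QdSec Cfsg.Agent.Lib.H1.QuadStable
  Cfsg.Agent.Lib.H1.QuadMul Cfsg.Agent.Lib.H1.QdRecog Cfsg.Agent.Lib.H1.QdGroup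
open scoped commutatorElement

section EA

variable {p : ℕ} [hp : Fact p.Prime] {X : Type u} [Group X]

theorem rhoN_eq_one_of_mem_centralizer (V : Subgroup X) [hVn : V.Normal] [IsEA p ↥V] {g : X}
    (hg : g ∈ Subgroup.centralizer (V : Set X)) : rhoN p V g = 1 := by
  apply LinearEquiv.ext
  intro x
  obtain ⟨v, rfl⟩ : ∃ v : ↥V, EA.of p v = x := ⟨x.val, by simp⟩
  rw [rhoN_apply]
  show _ = EA.of p v
  congr 1
  apply Subtype.ext
  show g * v * g⁻¹ = v
  have := Subgroup.mem_centralizer_iff.1 hg v v.2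
  rw [← this]; group

/-- elementary abelian case: a subgroup mapping onto `SL₂(p)` with `C(V)` in the kernel -/
theorem exists_sl2_of_not_isPStableOn_EA [Finite X] (hp2 : p ≠ 2) (hD : DicksonHyp.{u} p)
    (V : Subgroup X) [hVn : V.Normal] (hV : Cfsg.IsElementaryAbelian p V)
    (h : ¬ Cfsg.IsPStableOn p V) :
    ∃ (M : Subgroup X) (φ : ↥M →* Matrix.SpecialLinearGroup (Fin 2) (ZMod p)),
      Function.Surjective φ ∧ ∀ m : ↥M, (m : X) ∈ Subgroup.centralizer (V : Set X) → φ m = 1 := by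
  unfold Cfsg.IsPStableOn at h
  push Not at h
  obtain ⟨a, hq, hna⟩ := h
  have : IsEA p ↥V := isEA_of hV
  have : Module.Finite (ZMod p) (EA p ↥V) := Module.Finite.of_finite
  have hQ : Quad (rhoN p V a) := quad_of_quadM (quadM_conjNormal V hq)
  have hN : NotInOp (rhoN p V) a := by
    intro N hN haN hP
    apply hna
    have hnorm : (N.map (QuotientGroup.mk' (Subgroup.centralizer (V : Set X)))).Normal :=
      hN.map _ (QuotientGroup.mk'_surjective _)
    refine Cfsg.Agent.Lib.H1.le_pCore hnorm ?_ ⟨a, haN, rfl⟩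
    rintro ⟨_, g, hg, rfl⟩
    obtain ⟨k, hk⟩ := hP ⟨g, hg⟩
    refine ⟨k, Subtype.ext ?_⟩
    simp only [MonoidHom.comp_apply, Subgroup.subtype_apply, ← map_pow] at hk
    have := mem_centralizer_of_rhoN_eq_one V hk
    simp only [Subgroup.coe_pow, Subgroup.coe_one, QuotientGroup.mk'_apply]
    rw [← QuotientGroup.mk_pow, QuotientGroup.eq_one_iff]
    exact this
  obtain ⟨s⟩ := natSec_of_notInOp hp2 hD (rhoN p V) hQ hN
  refine ⟨s.G₁, s.φ, s.hφ, ?_⟩
  intro m hm
  apply sl_eq_one_of_mulVec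
  intro y
  obtain ⟨x, hx, rfl⟩ := s.hκ y
  have h1 := s.equiv m x hx
  rw [rhoN_eq_one_of_mem_centralizer V hm] at h1
  exact h1.symm

end EA

section frattini

/-- reduction of `p`-stability on a normal `p`-subgroup `P` to the elementary abelian `P/Φ(P)` in
`X/Φ(P)` (helper1's `isPStableOn_of_quotient_EA`, keeping track of the quotient used) -/
theorem isPStableOn_of_frattini_quotient {X : Type*} [Group X] [Finite X] {p : ℕ} [Fact p.Prime]
    (P : Subgroup X) [P.Normal] (hP : IsPGroup p P)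
    (hst : ∀ (Φ : Subgroup X) [Φ.Normal], Φ ≤ P → ∀ (V : Subgroup (X ⧸ Φ)) [V.Normal],
      V = P.map (QuotientGroup.mk' Φ) → IsElementaryAbelian p V → IsPStableOn p V) :
    IsPStableOn p P := by
  classical
  intro a hq
  obtain ⟨Φ, hΦ⟩ : ∃ Φ : Subgroup X, Φ = (frattini ↥P).map P.subtype := ⟨_, rfl⟩
  have hΦn : Φ.Normal := by
    rw [← Subgroup.normalizer_eq_top_iff, eq_top_iff, hΦ]
    have h1 := Cfsg.Agent.Lib.H1.normalizer_le_normalizer_map_of_characteristic (K := P)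
      (frattini ↥P)
    rwa [Subgroup.normalizer_eq_top_iff.2 inferInstance] at h1
  have := hΦn
  have hΦP : Φ ≤ P := hΦ ▸ Subgroup.map_subtype_le _
  obtain ⟨π, hπ⟩ : ∃ π : X →* X ⧸ Φ, π = QuotientGroup.mk' Φ := ⟨_, rfl⟩
  have hπs : Function.Surjective π := hπ ▸ QuotientGroup.mk'_surjective Φ
  have hπk : ∀ x : X, π x = 1 ↔ x ∈ Φ := fun x => by
    rw [hπ]; exact QuotientGroup.eq_one_iff x
  obtain ⟨V, hVdef⟩ : ∃ V : Subgroup (X ⧸ Φ), V = P.map π := ⟨_, rfl⟩
  have hVn : V.Normal := hVdef ▸ Subgroup.Normal.map inferInstance π hπs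
  have hcomm : ∀ x ∈ P, ∀ y ∈ P, x * y * x⁻¹ * y⁻¹ ∈ Φ := by
    intro x hx y hy
    have h1 : ⁅(⟨x, hx⟩ : P), ⟨y, hy⟩⁆ ∈ frattini ↥P :=
      Cfsg.Agent.Lib.H1.isPGroup_commutator_le_frattini hP
        (Subgroup.commutator_mem_commutator (Subgroup.mem_top _) (Subgroup.mem_top _))
    rw [hΦ]
    exact ⟨_, h1, by simp [commutatorElement_def]⟩
  have hVea : IsElementaryAbelian p V := by
    constructor
    · constructor
      constructor
      rintro ⟨u, hu⟩ ⟨v, hv⟩
      rw [hVdef] at hu hv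
      obtain ⟨x, hx, rfl⟩ := hu
      obtain ⟨y, hy, rfl⟩ := hv
      apply Subtype.ext
      change π x * π y = π y * π x
      have h1 := (hπk _).2 (hcomm x hx y hy)
      rw [map_mul, map_mul, map_mul, map_inv, map_inv] at h1
      calc π x * π y = (π x * π y * (π x)⁻¹ * (π y)⁻¹) * (π y * π x) := by group
        _ = π y * π x := by rw [h1, one_mul]
    · intro u hu
      rw [hVdef] at hu
      obtain ⟨x, hx, rfl⟩ := hu
      rw [← map_pow, hπk, hΦ]
      have h1 := Cfsg.Agent.Lib.H1.isPGroup_pow_mem_frattini hP (⟨x, hx⟩ : P)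
      exact ⟨_, h1, by simp⟩
  have hst := hst Φ hΦP V (hπ ▸ hVdef) hVea
  have hqa : ⁅⁅V, Subgroup.zpowers (π a)⁆, Subgroup.zpowers (π a)⁆ = ⊥ := by
    rw [hVdef, ← MonoidHom.map_zpowers, ← Subgroup.map_commutator, ← Subgroup.map_commutator, hq,
      Subgroup.map_bot]
  have ha := hst (π a) hqa
  -- the subgroup D
  set Cb : Subgroup (X ⧸ Φ) := Subgroup.centralizer (V : Set (X ⧸ Φ)) with hCb
  set D : Subgroup X := (Cfsg.pCore p ((X ⧸ Φ) ⧸ Cb)).comap ((QuotientGroup.mk' Cb).comp π) with hD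
  have hDn : D.Normal := by
    have := Cfsg.Agent.Lib.H1.pCore_normal p ((X ⧸ Φ) ⧸ Cb)
    exact Subgroup.Normal.comap inferInstance _
  have haD : a ∈ D := ha
  -- elements acting trivially on P / Φ
  have hK : ∀ e : X, π e ∈ Cb → ∀ j : ℕ, (orderOf (e ^ (p ^ j))).Coprime p →
      e ^ (p ^ j) ∈ Subgroup.centralizer (P : Set X) := by
    intro e he j hj
    have h1 := Cfsg.Agent.Lib.H9.commute_of_commutator_mem_frattini hP
      (y := e ^ (p ^ j)) (by rw [Subgroup.normalizer_eq_top_iff.2 inferInstance]; trivial) hj ?_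
    · intro q hq
      exact (h1 q hq).symm
    · intro b hb q hq
      rw [← hΦ, ← hπk]
      have hbC : π b ∈ Cb := by
        have : Subgroup.zpowers (e ^ (p ^ j)) ≤ Cb.comap π := by
          rw [Subgroup.zpowers_le]
          exact Subgroup.pow_mem (Cb.comap π) (show e ∈ Cb.comap π from he) _
        exact this hb
      have h2 : π q * π b = π b * π q := hbC (π q) (hVdef ▸ Subgroup.mem_map_of_mem π hq)
      rw [map_mul, map_mul, map_mul, map_inv, map_inv, ← h2]
      group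
  have hDp : IsPGroup p (D.map (QuotientGroup.mk' (Subgroup.centralizer (P : Set X)))) := by
    rintro ⟨u, hu⟩
    obtain ⟨d, hd, rfl⟩ := hu
    have hpc := Cfsg.Agent.Lib.H1.pCore_isPGroup p ((X ⧸ Φ) ⧸ Cb)
    obtain ⟨k, hk⟩ := hpc ⟨_, hd⟩
    have hk' : ((QuotientGroup.mk' Cb).comp π) d ^ (p ^ k) = 1 := by
      simpa using congrArg Subtype.val hk
    have he : π (d ^ (p ^ k)) ∈ Cb := by
      rw [map_pow]
      have : (QuotientGroup.mk' Cb) (π d ^ (p ^ k)) = 1 := by
        rw [map_pow]; exact hk'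
      exact (QuotientGroup.eq_one_iff _).1 this
    obtain ⟨j, hj⟩ := Cfsg.Agent.Lib.H16.exists_pow_coprime_order (p := p) (d ^ (p ^ k))
    have h3 := hK _ he j hj
    refine ⟨k + j, Subtype.ext ?_⟩
    change (QuotientGroup.mk' (Subgroup.centralizer (P : Set X))) d ^ (p ^ (k + j)) = 1
    rw [← map_pow, pow_add, pow_mul]
    exact (QuotientGroup.eq_one_iff _).2 h3
  have hDmn : (D.map (QuotientGroup.mk' (Subgroup.centralizer (P : Set X)))).Normal :=
    Subgroup.Normal.map hDn _ (QuotientGroup.mk'_surjective _)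
  exact Cfsg.Agent.Lib.H1.le_pCore hDmn hDp (Subgroup.mem_map_of_mem _ haD)

/-- **Theorem Q, automizer form**: if `X` does not act `p`-stably on its normal `p`-subgroup `P`,
then a subgroup of `X` maps onto `SL₂(p)` with `C_X(P)` in the kernel. -/
theorem exists_sl2_of_not_isPStableOn {X : Type u} [Group X] [Finite X] {p : ℕ} [Fact p.Prime]
    (hp2 : p ≠ 2) (hD : DicksonHyp.{u} p) (P : Subgroup X) [P.Normal] (hP : IsPGroup p P)
    (h : ¬ IsPStableOn p P) :
    ∃ (M : Subgroup X) (φ : ↥M →* Matrix.SpecialLinearGroup (Fin 2) (ZMod p)),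
      Function.Surjective φ ∧ ∀ m : ↥M, (m : X) ∈ Subgroup.centralizer (P : Set X) → φ m = 1 := by
  by_contra hno
  apply h
  apply isPStableOn_of_frattini_quotient P hP
  intro Φ _ hΦP V _ hVdef hVea
  by_contra hns
  obtain ⟨Mb, φb, hsurj, hc⟩ := exists_sl2_of_not_isPStableOn_EA hp2 hD V hVea hns
  apply hno
  refine ⟨Mb.comap (QuotientGroup.mk' Φ), φb.comp ((QuotientGroup.mk' Φ).subgroupComap Mb),
    hsurj.comp ((QuotientGroup.mk' Φ).subgroupComap_surjective_of_surjective Mb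
      (QuotientGroup.mk'_surjective Φ)), ?_⟩
  intro m hm
  rw [MonoidHom.comp_apply]
  apply hc
  show (QuotientGroup.mk' Φ) (m : X) ∈ Subgroup.centralizer (V : Set (X ⧸ Φ))
  rw [Subgroup.mem_centralizer_iff]
  intro v hv
  rw [hVdef] at hv
  obtain ⟨x, hx, rfl⟩ := hv
  rw [← map_mul, ← map_mul, Subgroup.mem_centralizer_iff.1 hm x hx]

end frattini

section autsec

/-- some `p`-subgroup `Q` of `Y` has a subgroup `M` of `N_Y(Q)` mapping onto `S` with
`M ∩ C_Y(Q)` in the kernel: the automizer of `Q` has a section `S` -/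
def HasAutSec (p : ℕ) (S : Type*) [Group S] (Y : Type*) [Group Y] : Prop :=
  ∃ (Q M : Subgroup Y) (φ : ↥M →* S), IsPGroup p Q ∧ M ≤ Subgroup.normalizer (Q : Set Y) ∧
    Function.Surjective φ ∧ ∀ m : ↥M, (m : Y) ∈ Subgroup.centralizer (Q : Set Y) → φ m = 1

variable {p : ℕ} {S : Type*} [Group S]

theorem HasAutSec.of_subgroup {Y : Type*} [Group Y] (K : Subgroup Y) (h : HasAutSec p S ↥K) :
    HasAutSec p S Y := by
  obtain ⟨Q, M, φ, hQ, hMN, hφ, hc⟩ := h
  set e := Subgroup.equivMapOfInjective M K.subtype K.subtype_injective with he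
  refine ⟨Q.map K.subtype, M.map K.subtype, φ.comp e.symm.toMonoidHom, hQ.map _,
    (Subgroup.map_mono hMN).trans (Subgroup.le_normalizer_map K.subtype),
    hφ.comp e.symm.surjective, ?_⟩
  intro m hm
  rw [MonoidHom.comp_apply]
  apply hc
  have hval : ((e.symm m : ↥M) : ↥K).1 = (m : Y) := by
    have := Subgroup.coe_equivMapOfInjective_apply M K.subtype K.subtype_injective (e.symm m)
    rw [← he, MulEquiv.apply_symm_apply] at this
    exact this.symm
  rw [Subgroup.mem_centralizer_iff]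
  intro q hq
  apply Subtype.ext
  have := Subgroup.mem_centralizer_iff.1 hm (q : Y) ⟨q, hq, rfl⟩
  show (q : Y) * ((e.symm m : ↥M) : ↥K).1 = ((e.symm m : ↥M) : ↥K).1 * (q : Y)
  rw [hval]
  exact this

theorem HasAutSec.of_surjective [Fact p.Prime] {A B : Type*} [Group A] [Group B] [Finite A]
    (f : A →* B) (hf : Function.Surjective f) (h : HasAutSec p S B) : HasAutSec p S A := by
  obtain ⟨Q, M, φ, hQ, hMN, hφ, hc⟩ := h
  obtain ⟨P₁, hP₁, hP₁Q, hP₁N⟩ :=
    Cfsg.Agent.Lib.H1.SecLiftP.exists_lift_pSubgroup f hf Q hQ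
  refine ⟨P₁, Subgroup.normalizer (P₁ : Set A) ⊓ M.comap f,
    (φ.comp (f.subgroupComap M)).comp (Subgroup.inclusion inf_le_right), hP₁, inf_le_left, ?_, ?_⟩
  · intro s
    obtain ⟨m, rfl⟩ := hφ s
    have h1 : (m : B) ∈ (Subgroup.normalizer (P₁ : Set A)).map f := by
      rw [hP₁N]; exact hMN m.2
    obtain ⟨a, ha, ham⟩ := h1
    have haM : a ∈ M.comap f := by
      rw [Subgroup.mem_comap, ham]; exact m.2
    refine ⟨⟨a, ha, haM⟩, ?_⟩
    rw [MonoidHom.comp_apply, MonoidHom.comp_apply]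
    congr 1
    apply Subtype.ext
    exact ham
  · intro m hm
    rw [MonoidHom.comp_apply, MonoidHom.comp_apply]
    apply hc
    show f (m : A) ∈ Subgroup.centralizer (Q : Set B)
    rw [← hP₁Q, Subgroup.mem_centralizer_iff]
    rintro _ ⟨x, hx, rfl⟩
    rw [← map_mul, ← map_mul, Subgroup.mem_centralizer_iff.1 hm x hx]

theorem conj_mem_centralizer_of_mem_normalizer {Y : Type*} [Group Y] {Q : Subgroup Y} {n c : Y}
    (hn : n ∈ Subgroup.normalizer (Q : Set Y)) (hc : c ∈ Subgroup.centralizer (Q : Set Y)) :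
    n * c * n⁻¹ ∈ Subgroup.centralizer (Q : Set Y) := by
  rw [Subgroup.mem_centralizer_iff]
  intro q hq
  have h1 : n⁻¹ * q * n ∈ Q := by
    have := (Subgroup.mem_normalizer_iff.1 (Subgroup.inv_mem _ hn) q).1 hq
    simpa using this
  have h2 := Subgroup.mem_centralizer_iff.1 hc _ h1
  calc q * (n * c * n⁻¹) = n * ((n⁻¹ * q * n) * c) * n⁻¹ := by group
    _ = n * (c * (n⁻¹ * q * n)) * n⁻¹ := by rw [h2]
    _ = n * c * n⁻¹ * q := by group

/-- from the lifted form to an honest section `H/K` with `C(Q) ≤ K ≤ H ≤ N(Q)` -/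
theorem exists_section_of_hasAutSec {Y : Type*} [Group Y] (h : HasAutSec p S Y) :
    ∃ Q : Subgroup Y, IsPGroup p Q ∧ ∃ (H K : Subgroup Y) (_ : (K.subgroupOf H).Normal),
      Subgroup.centralizer (Q : Set Y) ≤ K ∧ K ≤ H ∧ H ≤ Subgroup.normalizer (Q : Set Y) ∧
      Nonempty ((↥H ⧸ K.subgroupOf H) ≃* S) := by
  obtain ⟨Q, M, φ, hQ, hMN, hφ, hc⟩ := h
  set C := Subgroup.centralizer (Q : Set Y) with hC
  set N := Subgroup.normalizer (Q : Set Y) with hN
  have hNC : N ≤ Subgroup.normalizer (C : Set Y) := by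
    intro n hn
    rw [Subgroup.mem_normalizer_iff]
    intro c
    constructor
    · intro hc'
      exact conj_mem_centralizer_of_mem_normalizer hn hc'
    · intro hc'
      have := conj_mem_centralizer_of_mem_normalizer (Subgroup.inv_mem _ hn) hc'
      have e : n⁻¹ * (n * c * n⁻¹) * n⁻¹⁻¹ = c := by group
      rwa [e] at this
  have hMC : M ≤ Subgroup.normalizer (C : Set Y) := hMN.trans hNC
  set H := M ⊔ C with hH
  set K₀ := φ.ker.map M.subtype with hK₀
  have hK₀M : K₀ ≤ M := Subgroup.map_subtype_le _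
  set K := K₀ ⊔ C with hK
  have hdec : ∀ h : ↥H, ∃ m : ↥M, ∃ c : Y, c ∈ C ∧ (h : Y) = (m : Y) * c := by
    intro h
    have h1 : (h : Y) ∈ ((M ⊔ C : Subgroup Y) : Set Y) := h.2
    rw [Subgroup.coe_mul_of_left_le_normalizer_right M C hMC, Set.mem_mul] at h1
    obtain ⟨m, hm, c, hc', hmc⟩ := h1
    exact ⟨⟨m, hm⟩, c, hc', hmc.symm⟩
  choose mm cc hcc hmc using hdec
  have key : ∀ (h : ↥H) (m : ↥M) (c : Y), c ∈ C → (h : Y) = (m : Y) * c → φ (mm h) = φ m := by
    intro h m c hc' hh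
    have h1 : ((m⁻¹ * mm h : ↥M) : Y) ∈ C := by
      have e : ((m⁻¹ * mm h : ↥M) : Y) = c * (cc h)⁻¹ := by
        have h2 : (m : Y) * c = (mm h : Y) * cc h := by rw [← hh, ← hmc h]
        rw [Subgroup.coe_mul, Subgroup.coe_inv]
        calc (m : Y)⁻¹ * (mm h : Y) = (m : Y)⁻¹ * ((mm h : Y) * cc h) * (cc h)⁻¹ := by group
          _ = (m : Y)⁻¹ * ((m : Y) * c) * (cc h)⁻¹ := by rw [h2]
          _ = c * (cc h)⁻¹ := by group
      rw [e]
      exact C.mul_mem hc' (C.inv_mem (hcc h))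
    have h2 := hc _ h1
    rw [map_mul, map_inv] at h2
    calc φ (mm h) = φ m * ((φ m)⁻¹ * φ (mm h)) := by group
      _ = φ m := by rw [h2, mul_one]
  let ψ : ↥H →* S := MonoidHom.mk' (fun h => φ (mm h)) (by
    intro h₁ h₂
    show φ (mm (h₁ * h₂)) = φ (mm h₁) * φ (mm h₂)
    rw [← map_mul]
    apply key (h₁ * h₂) (mm h₁ * mm h₂) ((mm h₂ : Y)⁻¹ * cc h₁ * (mm h₂ : Y) * cc h₂)
    · apply C.mul_mem _ (hcc h₂)
      have := conj_mem_centralizer_of_mem_normalizer
        (Subgroup.inv_mem _ (hMN (mm h₂).2)) (hcc h₁)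
      rw [inv_inv] at this
      exact this
    · rw [Subgroup.coe_mul, hmc h₁, hmc h₂, Subgroup.coe_mul]
      group)
  have hψ : ∀ h : ↥H, ψ h = φ (mm h) := fun _ => rfl
  have hψsurj : Function.Surjective ψ := by
    intro s
    obtain ⟨m, rfl⟩ := hφ s
    refine ⟨⟨m, Subgroup.mem_sup_left m.2⟩, ?_⟩
    rw [hψ]
    exact key _ m 1 C.one_mem (by simp)
  have hKH : K ≤ H := sup_le (hK₀M.trans le_sup_left) le_sup_right
  have hker : ψ.ker = K.subgroupOf H := by
    ext h
    rw [MonoidHom.mem_ker, Subgroup.mem_subgroupOf, hψ]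
    constructor
    · intro h1
      rw [hmc h]
      exact K.mul_mem (Subgroup.mem_sup_left ⟨mm h, h1, rfl⟩) (Subgroup.mem_sup_right (hcc h))
    · intro h1
      have h2 : (h : Y) ∈ ((K₀ ⊔ C : Subgroup Y) : Set Y) := h1
      rw [Subgroup.coe_mul_of_left_le_normalizer_right K₀ C (hK₀M.trans hMC), Set.mem_mul] at h2
      obtain ⟨k, hk, c, hc', hkc⟩ := h2
      obtain ⟨k', hk', rfl⟩ := hk
      rw [key h k' c hc' hkc.symm]
      exact hk'
  have hnorm : (K.subgroupOf H).Normal := hker ▸ MonoidHom.normal_ker ψ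
  refine ⟨Q, hQ, H, K, hnorm, le_sup_right, hKH,
    sup_le hMN (Subgroup.centralizer_le_normalizer _), ⟨?_⟩⟩
  exact (QuotientGroup.quotientMulEquivOfEq hker.symm).trans
    (QuotientGroup.quotientKerEquivOfSurjective ψ hψsurj)

end autsec

section final

open Cfsg.Agent.Lib.H1.QdStable

/-- a finite group which is not `p`-stable in the normalizer form has a `p`-subgroup whose automizer
has a section `SL₂(p)` (`p` odd) -/
theorem hasAutSec_of_not_isNormalizerPStable {Y : Type u} [Group Y] [Finite Y] {p : ℕ}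
    [Fact p.Prime] (hp2 : p ≠ 2) (hD : DicksonHyp.{u} p) (h : ¬ IsNormalizerPStable p Y) :
    HasAutSec p (Matrix.SpecialLinearGroup (Fin 2) (ZMod p)) Y := by
  unfold IsNormalizerPStable at h
  push Not at h
  obtain ⟨P, hP, g, hg, hq, hnot⟩ := h
  obtain ⟨N, hN⟩ : ∃ N : Subgroup Y, N = Subgroup.normalizer (P : Set Y) := ⟨_, rfl⟩
  have hPN : P ≤ N := hN ▸ Subgroup.le_normalizer
  have hgN : g ∈ N := hN ▸ hg
  have hP'n : (P.subgroupOf N).Normal := by
    rw [hN]; exact Subgroup.normal_in_normalizer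
  have hP'p : IsPGroup p (P.subgroupOf N) := hP.comap_of_injective _ N.subtype_injective
  have hmapP : (P.subgroupOf N).map N.subtype = P := Subgroup.map_subgroupOf_eq_of_le hPN
  have hq' : ⁅⁅P.subgroupOf N, Subgroup.zpowers (⟨g, hgN⟩ : N)⁆,
      Subgroup.zpowers (⟨g, hgN⟩ : N)⁆ = ⊥ := by
    rw [← Subgroup.map_eq_bot_iff_of_injective _ N.subtype_injective, Subgroup.map_commutator,
      Subgroup.map_commutator, hmapP, MonoidHom.map_zpowers]
    exact hq
  have hcent : Subgroup.centralizer ((P.subgroupOf N : Subgroup N) : Set N) =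
      (Subgroup.centralizer (P : Set Y)).subgroupOf N := by
    ext x
    rw [Subgroup.mem_subgroupOf, Subgroup.mem_centralizer_iff, Subgroup.mem_centralizer_iff]
    constructor
    · intro h y hy
      have := h ⟨y, hPN hy⟩ (by rw [SetLike.mem_coe, Subgroup.mem_subgroupOf]; exact hy)
      exact congrArg Subtype.val this
    · intro h y hy
      rw [SetLike.mem_coe, Subgroup.mem_subgroupOf] at hy
      exact Subtype.ext (h y hy)
  have hns : ¬ IsPStableOn p (P.subgroupOf N) := by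
    intro hst
    apply hnot
    have hst' := hst ⟨g, hgN⟩ hq'
    subst hN
    exact mem_pCore_quotient_of_eq hcent _ hst'
  obtain ⟨M, φ, hφ, hc⟩ := exists_sl2_of_not_isPStableOn hp2 hD (P.subgroupOf N) hP'p hns
  apply HasAutSec.of_subgroup N
  refine ⟨P.subgroupOf N, M, φ, hP'p, ?_, hφ, hc⟩
  rw [Subgroup.normalizer_eq_top]
  exact le_top

/-- **If no automizer `N_G(Q)/C_G(Q)` of a `p`-subgroup of `G` has a section `SL₂(p)` (`p` odd),
then every section of `G` is `p`-stable in the normalizer form.** -/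
theorem isNormalizerPStable_sections_of_free {G : Type u} [Group G] [Finite G] {p : ℕ}
    [Fact p.Prime] (hp : p ≠ 2) (hD : DicksonHyp.{u} p)
    (hfree : ∀ Q : Subgroup G, IsPGroup p ↥Q →
      ¬ ∃ (H K : Subgroup G) (_ : (K.subgroupOf H).Normal),
      Subgroup.centralizer (Q : Set G) ≤ K ∧ K ≤ H ∧ H ≤ Subgroup.normalizer (Q : Set G) ∧
      Nonempty ((↥H ⧸ K.subgroupOf H) ≃* Matrix.SpecialLinearGroup (Fin 2) (ZMod p)))
    (K R : Subgroup G) [hR : (R.subgroupOf K).Normal] :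
    Cfsg.IsNormalizerPStable p (↥K ⧸ R.subgroupOf K) := by
  by_contra h
  have h1 := hasAutSec_of_not_isNormalizerPStable hp hD h
  have h2 := h1.of_surjective (QuotientGroup.mk' (R.subgroupOf K)) (QuotientGroup.mk'_surjective _)
  have h3 := h2.of_subgroup K
  obtain ⟨Q, hQ, H, K', hn, h4⟩ := exists_section_of_hasAutSec h3
  exact hfree Q hQ ⟨H, K', hn, h4⟩

end final

end Cfsg.Agent.Lib.H10.AutSec
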