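import Mathlib
import Cfsg.Prelude.Def_Blocks
import Cfsg.Prelude.Def_Characters
import Cfsg.Agent.Lib.H23.BlockLocal

/-!
# S4484 piece (A5pre): `χ(x)/χ(1) ≡ 1 (mod M)` for `χ` in the principal block and
`|cl(x)|` prime to `p` (helper10)
-/

set_option autoImplicit false

namespace Cfsg.Agent.Lib.H10.BB

open Cfsg

/-- (A5pre) principal block: `χ(x)/χ(1) ≡ 1 (mod M)` when `|cl(x)|` is prime to `p`. -/
theorem principal_congr {G : Type*} [Group G] [Finite G] {p : ℕ} {M : Ideal AlgInt}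
    (hM : IsPModular p M) (χ : IrrCharacter G) (hχ : χ ∈ principalBlock M G) (x : G)
    (hx : ¬ p ∣ (Subgroup.centralizer ({x} : Set G)).index) :
    MemLocalIdeal M ((χ : G → ℂ) x / (χ : G → ℂ) 1 - 1) := by
  have hP := Cfsg.Agent.Lib.H23.isPrime_of_isPModular hM
  have hsame : SameBlock M (fun _ : G => (1 : ℂ)) (χ : G → ℂ) := hχ
  have h1 := hsame x
  set k : ℕ := (Subgroup.centralizer ({x} : Set G)).index with hk
  have hk0 : (k : ℂ) ≠ 0 := by
    intro h
    apply hx
    have : k = 0 := by exact_mod_cast h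
    rw [this]
    exact dvd_zero p
  have hinv := Cfsg.Agent.Lib.H23.memLocalRing_inv_natCast hM hx
  have h2 := Cfsg.Agent.Lib.H23.memLocalIdeal_neg
    (Cfsg.Agent.Lib.H23.memLocalIdeal_mul_left hinv h1)
  have heq : -((k : ℂ)⁻¹ * (centralChar (fun _ : G => (1 : ℂ)) x -
      centralChar (χ : G → ℂ) x)) = (χ : G → ℂ) x / (χ : G → ℂ) 1 - 1 := by
    unfold centralChar
    rw [← hk]
    field_simp
    ring
  rw [← heq]
  exact h2

end Cfsg.Agent.Lib.H10.BB
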