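import Mathlib

/-! helper10: auxiliary lemmas for the Frobenius-action-on-a-p-group lemma (board #1202 (X')). -/

set_option autoImplicit false

open scoped commutatorElement

namespace Cfsg.Agent.Lib.H10.FrobCyc

universe u
variable {X : Type u} [Group X]

theorem le_normalizer_of_conj_mem' {K N : Subgroup X}
    (h : ∀ x ∈ K, ∀ n ∈ N, x * n * x⁻¹ ∈ N) : K ≤ Subgroup.normalizer (N : Set X) := by
  intro x hx
  rw [Subgroup.mem_normalizer_iff]
  intro n
  constructor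
  · exact h x hx n
  · intro hn
    have := h x⁻¹ (K.inv_mem hx) _ hn
    have e : x⁻¹ * (x * n * x⁻¹) * x⁻¹⁻¹ = n := by group
    rwa [e] at this

theorem conj_mem_of_le_normalizer {K N : Subgroup X} (h : K ≤ Subgroup.normalizer (N : Set X))
    {x n : X} (hx : x ∈ K) (hn : n ∈ N) : x * n * x⁻¹ ∈ N :=
  (Subgroup.mem_normalizer_iff.mp (h hx) n).mp hn

theorem le_normalizer_inf'' {H K₁ K₂ : Subgroup X} (h1 : H ≤ Subgroup.normalizer (K₁ : Set X))
    (h2 : H ≤ Subgroup.normalizer (K₂ : Set X)) :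
    H ≤ Subgroup.normalizer ((K₁ ⊓ K₂ : Subgroup X) : Set X) :=
  (le_inf h1 h2).trans Subgroup.inf_normalizer_le_normalizer_inf

theorem le_normalizer_sup'' {H K₁ K₂ : Subgroup X} (h1 : H ≤ Subgroup.normalizer (K₁ : Set X))
    (h2 : H ≤ Subgroup.normalizer (K₂ : Set X)) :
    H ≤ Subgroup.normalizer ((K₁ ⊔ K₂ : Subgroup X) : Set X) :=
  (le_inf h1 h2).trans (Subgroup.normalizer_inf_normalizer_le_normalizer_sup K₁ K₂)

theorem le_normalizer_centralizer'' {H Q : Subgroup X} (h : H ≤ Subgroup.normalizer (Q : Set X)) :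
    H ≤ Subgroup.normalizer ((Subgroup.centralizer (Q : Set X) : Subgroup X) : Set X) := by
  apply le_normalizer_of_conj_mem'
  intro x hx c hc
  rw [Subgroup.mem_centralizer_iff] at hc ⊢
  intro q hq
  have hq' : x⁻¹ * q * x⁻¹⁻¹ ∈ Q := conj_mem_of_le_normalizer h (H.inv_mem hx) hq
  have h3 := hc _ hq'
  calc q * (x * c * x⁻¹) = x * ((x⁻¹ * q * x⁻¹⁻¹) * c) * x⁻¹ := by group
    _ = x * (c * (x⁻¹ * q * x⁻¹⁻¹)) * x⁻¹ := by rw [h3]
    _ = x * c * x⁻¹ * q := by group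

theorem le_normalizer_commutator'' {H K₁ K₂ : Subgroup X}
    (h1 : H ≤ Subgroup.normalizer (K₁ : Set X)) (h2 : H ≤ Subgroup.normalizer (K₂ : Set X)) :
    H ≤ Subgroup.normalizer ((⁅K₁, K₂⁆ : Subgroup X) : Set X) := by
  intro g hg
  rw [Subgroup.mem_normalizer_iff_map_conj_eq, Subgroup.map_commutator,
    Subgroup.mem_normalizer_iff_map_conj_eq.mp (h1 hg),
    Subgroup.mem_normalizer_iff_map_conj_eq.mp (h2 hg)]

/-- If `[A, S] ≤ N ≤ K ≤ A` then `S` normalizes `K`. -/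
theorem le_normalizer_of_between {N K A S : Subgroup X} (hNK : N ≤ K) (hKA : K ≤ A)
    (h : ∀ a ∈ A, ∀ s ∈ S, ⁅a, s⁆ ∈ N) : S ≤ Subgroup.normalizer (K : Set X) := by
  apply le_normalizer_of_conj_mem'
  intro s hs k hk
  have h1 : ⁅k, s⁆ ∈ N := h k (hKA hk) s hs
  have h2 : s * k * s⁻¹ = ⁅k, s⁆⁻¹ * k := by
    rw [commutatorElement_def]; group
  rw [h2]
  exact K.mul_mem (K.inv_mem (hNK h1)) hk

/-- In a `p`-group `S` with a proper normal subgroup `N`, there is `x ∈ S \ N` central mod `N` with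
`x ^ p ∈ N`. -/
theorem exists_central_mod [Finite X] {p : ℕ} [Fact p.Prime] {S N : Subgroup X}
    (hS : IsPGroup p S) (hNS : N ≤ S) (hSN : S ≤ Subgroup.normalizer (N : Set X)) (hne : N ≠ S) :
    ∃ x ∈ S, x ∉ N ∧ (∀ s ∈ S, ⁅x, s⁆ ∈ N) ∧ x ^ p ∈ N := by
  have : (N.subgroupOf S).Normal := Subgroup.normal_subgroupOf_of_le_normalizer hSN
  have hT : IsPGroup p (↥S ⧸ N.subgroupOf S) := hS.to_quotient _
  have : Nontrivial (↥S ⧸ N.subgroupOf S) := by
    rw [QuotientGroup.nontrivial_iff]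
    intro h
    rw [Subgroup.subgroupOf_eq_top] at h
    exact hne (le_antisymm hNS h)
  have := hT.center_nontrivial
  have hZ : IsPGroup p (Subgroup.center (↥S ⧸ N.subgroupOf S)) := hT.to_subgroup _
  have hdvd : p ∣ Nat.card (Subgroup.center (↥S ⧸ N.subgroupOf S)) := by
    rcases hZ.card_eq_or_dvd with h | h
    · exfalso
      have := (Subgroup.card_eq_one (H := Subgroup.center (↥S ⧸ N.subgroupOf S))).mp h
      exact (Subgroup.nontrivial_iff_ne_bot _).mp inferInstance this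
    · exact h
  obtain ⟨z, hz⟩ := exists_prime_orderOf_dvd_card' p hdvd
  obtain ⟨x, hx⟩ := QuotientGroup.mk_surjective (z : ↥S ⧸ N.subgroupOf S)
  have hp : p.Prime := Fact.out
  refine ⟨x.1, x.2, ?_, ?_, ?_⟩
  · intro hxN
    have h1 : (x : ↥S ⧸ N.subgroupOf S) = 1 := by
      rw [QuotientGroup.eq_one_iff, Subgroup.mem_subgroupOf]; exact hxN
    rw [hx] at h1
    have h2 : z = 1 := Subtype.ext h1
    rw [h2, orderOf_one] at hz
    exact hp.one_lt.ne hz
  · intro s hs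
    have h1 : ((⁅x, ⟨s, hs⟩⁆ : ↥S) : ↥S ⧸ N.subgroupOf S) = 1 := by
      have h2 : ((⁅x, ⟨s, hs⟩⁆ : ↥S) : ↥S ⧸ N.subgroupOf S) =
          ⁅(x : ↥S ⧸ N.subgroupOf S), ((⟨s, hs⟩ : ↥S) : ↥S ⧸ N.subgroupOf S)⁆ := by
        simp [commutatorElement_def]
      rw [h2, hx, commutatorElement_eq_one_iff_mul_comm]
      exact (Subgroup.mem_center_iff.mp z.2 _).symm
    rw [QuotientGroup.eq_one_iff, Subgroup.mem_subgroupOf] at h1
    simpa [commutatorElement_def] using h1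
  · have h1 : ((x ^ p : ↥S) : ↥S ⧸ N.subgroupOf S) = 1 := by
      rw [QuotientGroup.mk_pow, hx]
      have h2 : z ^ p = 1 := by rw [← hz]; exact pow_orderOf_eq_one z
      have := congrArg Subtype.val h2
      simpa using this
    rw [QuotientGroup.eq_one_iff, Subgroup.mem_subgroupOf] at h1
    simpa using h1

/-- `(x y)^p ∈ N` when `x, y ∈ S` commute mod the normal subgroup `N` and `x^p, y^p ∈ N`. -/
theorem mul_pow_mem_of_commutator_mem {S N : Subgroup X} (hSN : S ≤ Subgroup.normalizer (N : Set X))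
    {x y : X} (hx : x ∈ S) (hy : y ∈ S) (hc : ⁅x, y⁆ ∈ N) {n : ℕ} (hxn : x ^ n ∈ N)
    (hyn : y ^ n ∈ N) : (x * y) ^ n ∈ N := by
  have : (N.subgroupOf S).Normal := Subgroup.normal_subgroupOf_of_le_normalizer hSN
  let x' : ↥S := ⟨x, hx⟩
  let y' : ↥S := ⟨y, hy⟩
  have hcomm : Commute (x' : ↥S ⧸ N.subgroupOf S) (y' : ↥S ⧸ N.subgroupOf S) := by
    rw [← commutatorElement_eq_one_iff_commute]
    have h2 : ((⁅x', y'⁆ : ↥S) : ↥S ⧸ N.subgroupOf S) =
        ⁅(x' : ↥S ⧸ N.subgroupOf S), (y' : ↥S ⧸ N.subgroupOf S)⁆ := by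
      simp [commutatorElement_def]
    rw [← h2, QuotientGroup.eq_one_iff, Subgroup.mem_subgroupOf]
    simpa [commutatorElement_def, x', y'] using hc
  have h1 : (((x' * y') ^ n : ↥S) : ↥S ⧸ N.subgroupOf S) = 1 := by
    rw [QuotientGroup.mk_pow, QuotientGroup.mk_mul, hcomm.mul_pow]
    have hx1 : ((x' : ↥S ⧸ N.subgroupOf S)) ^ n = 1 := by
      rw [← QuotientGroup.mk_pow, QuotientGroup.eq_one_iff, Subgroup.mem_subgroupOf]
      simpa [x'] using hxn
    have hy1 : ((y' : ↥S ⧸ N.subgroupOf S)) ^ n = 1 := by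
      rw [← QuotientGroup.mk_pow, QuotientGroup.eq_one_iff, Subgroup.mem_subgroupOf]
      simpa [y'] using hyn
    rw [hx1, hy1, one_mul]
  rw [QuotientGroup.eq_one_iff, Subgroup.mem_subgroupOf] at h1
  simpa [x', y'] using h1

/-- The subgroup `Ω₁(Z(S mod N))`, as an existence statement with all the properties needed. -/
theorem exists_omegaZMod [Finite X] {p : ℕ} [Fact p.Prime] {S N : Subgroup X}
    (hS : IsPGroup p S) (hNS : N ≤ S) (hSN : S ≤ Subgroup.normalizer (N : Set X)) (hne : N ≠ S) :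
    ∃ A : Subgroup X, N ≤ A ∧ A ≤ S ∧ (∃ x ∈ A, x ∉ N) ∧ (∀ a ∈ A, ∀ s ∈ S, ⁅a, s⁆ ∈ N) ∧
      (∀ a ∈ A, a ^ p ∈ N) ∧
      (∀ g : X, g ∈ Subgroup.normalizer (S : Set X) → g ∈ Subgroup.normalizer (N : Set X) →
        g ∈ Subgroup.normalizer (A : Set X)) := by
  let A : Subgroup X :=
    { carrier := {x | x ∈ S ∧ (∀ s ∈ S, ⁅x, s⁆ ∈ N) ∧ x ^ p ∈ N}
      one_mem' := ⟨S.one_mem, fun s _ => by rw [commutatorElement_one_left]; exact N.one_mem,
        by rw [one_pow]; exact N.one_mem⟩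
      mul_mem' := by
        rintro x y ⟨hx, hxc, hxp⟩ ⟨hy, hyc, hyp⟩
        refine ⟨S.mul_mem hx hy, ?_, ?_⟩
        · intro s hs
          rw [commutatorElement_mul_left_eq_conj_mul]
          exact N.mul_mem (conj_mem_of_le_normalizer hSN hx (hyc s hs)) (hxc s hs)
        · exact mul_pow_mem_of_commutator_mem hSN hx hy (hxc y hy) hxp hyp
      inv_mem' := by
        rintro x ⟨hx, hxc, hxp⟩
        refine ⟨S.inv_mem hx, ?_, ?_⟩
        · intro s hs
          rw [commutatorElement_inv_left]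
          have h1 : ⁅s, x⁆ ∈ N := by
            rw [← commutatorElement_inv]; exact N.inv_mem (hxc s hs)
          have := conj_mem_of_le_normalizer hSN (S.inv_mem hx) h1
          simpa using this
        · rw [inv_pow]; exact N.inv_mem hxp }
  have hAmem : ∀ x, x ∈ A ↔ x ∈ S ∧ (∀ s ∈ S, ⁅x, s⁆ ∈ N) ∧ x ^ p ∈ N := fun x => Iff.rfl
  refine ⟨A, ?_, fun x hx => hx.1, ?_, fun a ha => ha.2.1, fun a ha => ha.2.2, ?_⟩
  · intro n hn
    refine ⟨hNS hn, ?_, N.pow_mem hn p⟩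
    intro s hs
    have h1 : s * n⁻¹ * s⁻¹ ∈ N := conj_mem_of_le_normalizer hSN hs (N.inv_mem hn)
    have h2 : ⁅n, s⁆ = n * (s * n⁻¹ * s⁻¹) := by rw [commutatorElement_def]; group
    rw [h2]; exact N.mul_mem hn h1
  · obtain ⟨x, hxS, hxN, hxc, hxp⟩ := exists_central_mod hS hNS hSN hne
    exact ⟨x, ⟨hxS, hxc, hxp⟩, hxN⟩
  · intro g hgS hgN
    have key : ∀ g : X, g ∈ Subgroup.normalizer (S : Set X) → g ∈ Subgroup.normalizer (N : Set X) →
        ∀ a ∈ A, g * a * g⁻¹ ∈ A := by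
      intro g hgS hgN a ha
      refine ⟨(Subgroup.mem_normalizer_iff.mp hgS a).mp ha.1, ?_, ?_⟩
      · intro s hs
        have hs' : g⁻¹ * s * g⁻¹⁻¹ ∈ S :=
          (Subgroup.mem_normalizer_iff.mp (Subgroup.inv_mem _ hgS) s).mp hs
        have h1 : ⁅a, g⁻¹ * s * g⁻¹⁻¹⁆ ∈ N := ha.2.1 _ hs'
        have h2 : ⁅g * a * g⁻¹, s⁆ = g * ⁅a, g⁻¹ * s * g⁻¹⁻¹⁆ * g⁻¹ := by
          simp only [commutatorElement_def]; group
        rw [h2]
        exact (Subgroup.mem_normalizer_iff.mp hgN _).mp h1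
      · rw [conj_pow]
        exact (Subgroup.mem_normalizer_iff.mp hgN _).mp ha.2.2
    rw [Subgroup.mem_normalizer_iff]
    intro a
    constructor
    · exact key g hgS hgN a
    · intro h
      have := key g⁻¹ (Subgroup.inv_mem _ hgS) (Subgroup.inv_mem _ hgN) _ h
      have e : g⁻¹ * (g * a * g⁻¹) * g⁻¹⁻¹ = a := by group
      rwa [e] at this

end Cfsg.Agent.Lib.H10.FrobCyc
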