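import Mathlib
import Cfsg.Agent.Lib.L0.DihedralSylow
import Cfsg.Agent.Lib.H1.PGroupBasic

/-!
# Coprime automorphisms of `p`-groups inside an ambient group (helper10)

Elementary tools about an element `h` of a finite group `G` normalizing a `p`-subgroup `W`,
where the order of `h` is prime to `p` (and often also to `p - 1`).
-/

set_option autoImplicit false

namespace Cfsg.Agent.Lib.H10.CopAut

variable {G : Type*} [Group G]

/-- Relative existence of intermediate subgroups of prescribed order in `p`-groups. -/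
theorem exists_between [Finite G] {p : ℕ} [Fact p.Prime] {A B : Subgroup G} (hAB : A ≤ B) {a m : ℕ}
    (hA : Nat.card A = p ^ a) (hB : p ^ m ∣ Nat.card B) (ham : a ≤ m) :
    ∃ K : Subgroup G, A ≤ K ∧ K ≤ B ∧ Nat.card K = p ^ m := by
  have hA' : Nat.card (A.subgroupOf B) = p ^ a := by
    rw [← hA]
    exact Nat.card_congr (Subgroup.subgroupOfEquivOfLe hAB).toEquiv
  obtain ⟨K, hK, hAK⟩ := Sylow.exists_subgroup_card_pow_prime_le p hB (A.subgroupOf B) hA' ham
  refine ⟨K.map B.subtype, ?_, ?_, ?_⟩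
  · intro x hx
    exact ⟨⟨x, hAB hx⟩, hAK (Subgroup.mem_subgroupOf.mpr hx), rfl⟩
  · rintro x ⟨y, -, rfl⟩
    exact y.2
  · rw [Subgroup.card_map_of_injective B.subtype_injective, hK]

/-- If `c = w⁻¹ (h⁻¹ w h)` commutes with `h` and has order prime to that of `h`, then `c = 1`. -/
theorem commute_of_commute_conj {w h : G} (hc : h * (w⁻¹ * (h⁻¹ * w * h)) = w⁻¹ * (h⁻¹ * w * h) * h)
    (hcop : (orderOf (w⁻¹ * (h⁻¹ * w * h))).Coprime (orderOf h)) : h * w = w * h := by
  set c := w⁻¹ * (h⁻¹ * w * h) with hcdef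
  have hwc : h⁻¹ * w * h = w * c := by rw [hcdef]; group
  have hcomm : Commute h c := hc
  have key : ∀ k : ℕ, (h ^ k)⁻¹ * w * h ^ k = w * c ^ k := by
    intro k
    induction k with
    | zero => simp
    | succ k ih =>
      have h1 : (h ^ (k + 1))⁻¹ * w * h ^ (k + 1) = h⁻¹ * ((h ^ k)⁻¹ * w * h ^ k) * h := by
        rw [pow_succ]; group
      rw [h1, ih]
      have h2 : h⁻¹ * (w * c ^ k) * h = (h⁻¹ * w * h) * (h⁻¹ * c ^ k * h) := by group
      have h3 : h⁻¹ * c ^ k * h = c ^ k := by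
        have : Commute h (c ^ k) := hcomm.pow_right k
        calc h⁻¹ * c ^ k * h = h⁻¹ * (c ^ k * h) := by rw [mul_assoc]
          _ = h⁻¹ * (h * c ^ k) := by rw [this.eq]
          _ = c ^ k := by group
      rw [h2, h3, hwc, pow_succ', mul_assoc]
  have h1 := key (orderOf h)
  rw [pow_orderOf_eq_one, inv_one, one_mul, mul_one] at h1
  have h2 : c ^ orderOf h = 1 := by
    have : w * 1 = w * c ^ orderOf h := by rw [mul_one]; exact h1
    exact (mul_left_cancel this).symm
  have h3 : orderOf c ∣ orderOf h := orderOf_dvd_of_pow_eq_one h2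
  have h4 : orderOf c = 1 := Nat.eq_one_of_dvd_coprimes hcop dvd_rfl h3
  have h5 : c = 1 := orderOf_eq_one_iff.mp h4
  have h6 : h⁻¹ * w * h = w := by rw [hwc, h5, mul_one]
  calc h * w = h * (h⁻¹ * w * h) := by rw [h6]
    _ = w * h := by group

/-- Stabilizing a chain `W₀ ≤ W` with trivial action on both factors forces trivial action
(coprime case). -/
theorem commute_of_chain [Finite G] {p : ℕ} [Fact p.Prime] {W₀ W : Subgroup G} (hWp : IsPGroup p W)
    (hW₀ : W₀ ≤ W) {h : G} (hcop : (orderOf h).Coprime p) (hc : ∀ x ∈ W₀, h * x = x * h)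
    (hq : ∀ w ∈ W, w⁻¹ * (h⁻¹ * w * h) ∈ W₀) : ∀ w ∈ W, h * w = w * h := by
  intro w hw
  apply commute_of_commute_conj (hc _ (hq w hw))
  have hcW : w⁻¹ * (h⁻¹ * w * h) ∈ W := hW₀ (hq w hw)
  obtain ⟨k, hk⟩ := (IsPGroup.iff_orderOf.mp hWp) ⟨_, hcW⟩
  rw [Subgroup.orderOf_mk] at hk
  rw [hk]
  exact (Nat.Coprime.pow_right k hcop).symm


/-- An element whose order is prime to `p` and to `p - 1` centralizes any cyclic `p`-subgroup
it normalizes. -/
theorem mem_centralizer_of_cyclic [Finite G] {p : ℕ} [hp : Fact p.Prime] (C : Subgroup G)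
    (hcyc : IsCyclic C) (hC : IsPGroup p C) {g : G} (hg : g ∈ Subgroup.normalizer (C : Set G))
    (hcop : (orderOf g).Coprime p) (hcop1 : (orderOf g).Coprime (p - 1)) :
    g ∈ Subgroup.centralizer (C : Set G) := by
  obtain ⟨k, hk⟩ := hC.exists_card_eq
  apply Cfsg.Agent.Lib.L0.mem_centralizer_of_normalizerMonoidHom_pow C hg (Nat.card (MulAut C))
  · rw [IsCyclic.card_mulAut, hk]
    rcases Nat.eq_zero_or_pos k with h0 | h0
    · subst h0; simp
    · rw [Nat.totient_prime_pow hp.out h0]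
      exact (Nat.Coprime.pow_right (k - 1) hcop).mul_right hcop1
  · exact pow_card_eq_one'

/-- `h` acts trivially on an `h`-invariant section `W / W₀` of order `p` when its order is
prime to `p - 1`. -/
theorem conj_mem_of_relIndex_prime [Finite G] {p : ℕ} [hp : Fact p.Prime] {W₀ W : Subgroup G} {h : G}
    (hnorm : W ≤ Subgroup.normalizer (W₀ : Set G)) (hidx : W₀.relIndex W = p)
    (hW : h ∈ Subgroup.normalizer (W : Set G)) (hW₀ : h ∈ Subgroup.normalizer (W₀ : Set G))
    (hcop : (orderOf h).Coprime p) (hcop1 : (orderOf h).Coprime (p - 1)) :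
    ∀ w ∈ W, w⁻¹ * (h⁻¹ * w * h) ∈ W₀ := by
  intro w hw
  set N := Subgroup.normalizer (W₀ : Set G) with hN
  set π := QuotientGroup.mk' (W₀.subgroupOf N) with hπ
  set Wb := (W.subgroupOf N).map π with hWb
  have hcard : Nat.card Wb = p := by
    rw [hWb, ← Subgroup.relIndex_ker, hπ, QuotientGroup.ker_mk', Subgroup.relIndex_subgroupOf hnorm]
    exact hidx
  have hcyc : IsCyclic Wb := isCyclic_of_prime_card hcard
  have hWbp : IsPGroup p Wb := IsPGroup.of_card (n := 1) (by rw [hcard, pow_one])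
  have hhn : π ⟨h, hW₀⟩ ∈ Subgroup.normalizer (Wb : Set (N ⧸ W₀.subgroupOf N)) := by
    apply Subgroup.le_normalizer_map
    refine ⟨⟨h, hW₀⟩, ?_, rfl⟩
    rw [SetLike.mem_coe, Subgroup.mem_normalizer_iff]
    intro x
    rw [Subgroup.mem_subgroupOf, Subgroup.mem_subgroupOf]
    exact Subgroup.mem_normalizer_iff.mp hW x
  have hord : orderOf (π ⟨h, hW₀⟩) ∣ orderOf h := by
    have := orderOf_map_dvd π (⟨h, hW₀⟩ : N)
    rwa [Subgroup.orderOf_mk] at this
  have hcent := mem_centralizer_of_cyclic Wb hcyc hWbp hhn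
    (Nat.Coprime.coprime_dvd_left hord hcop) (Nat.Coprime.coprime_dvd_left hord hcop1)
  have hwb : π ⟨w, hnorm hw⟩ ∈ Wb := ⟨⟨w, hnorm hw⟩, Subgroup.mem_subgroupOf.mpr hw, rfl⟩
  have hcomm := (Subgroup.mem_centralizer_iff.mp hcent) _ hwb
  have h1 : π (⟨w, hnorm hw⟩⁻¹ * (⟨h, hW₀⟩⁻¹ * ⟨w, hnorm hw⟩ * ⟨h, hW₀⟩)) = 1 := by
    rw [map_mul, map_mul, map_mul, map_inv, map_inv]
    rw [mul_assoc (π ⟨h, hW₀⟩)⁻¹, hcomm]
    group
  rw [hπ, QuotientGroup.mk'_apply, QuotientGroup.eq_one_iff, Subgroup.mem_subgroupOf] at h1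
  simpa using h1



/-- `(y a)^n = y^n a^n c^(n choose 2)` when `a y = y a c` and `c` commutes with `y` and `a`. -/
theorem mul_pow_comm2 {y a c : G} (hc : a * y = y * a * c) (hcy : c * y = y * c)
    (hca : c * a = a * c) (n : ℕ) : (y * a) ^ n = y ^ n * a ^ n * c ^ (n.choose 2) := by
  have hcyk : ∀ k : ℕ, c ^ k * y = y * c ^ k := fun k =>
    (Commute.pow_left (show Commute c y from hcy) k).eq
  have hcak : ∀ k : ℕ, c ^ k * a = a * c ^ k := fun k =>
    (Commute.pow_left (show Commute c a from hca) k).eq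
  have hcan : ∀ k m : ℕ, c ^ k * a ^ m = a ^ m * c ^ k := fun k m =>
    (Commute.pow_pow (show Commute c a from hca) k m).eq
  -- a^k * y = y * a^k * c^k
  have h1 : ∀ k : ℕ, a ^ k * y = y * a ^ k * c ^ k := by
    intro k
    induction k with
    | zero => simp
    | succ k ih =>
      calc a ^ (k + 1) * y = a ^ k * (a * y) := by rw [pow_succ, mul_assoc]
        _ = a ^ k * (y * a * c) := by rw [hc]
        _ = (a ^ k * y) * a * c := by simp only [mul_assoc]
        _ = (y * a ^ k * c ^ k) * a * c := by rw [ih]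
        _ = y * a ^ k * (c ^ k * a) * c := by simp only [mul_assoc]
        _ = y * a ^ k * (a * c ^ k) * c := by rw [hcak]
        _ = y * (a ^ k * a) * (c ^ k * c) := by simp only [mul_assoc]
        _ = y * a ^ (k + 1) * c ^ (k + 1) := by rw [← pow_succ, ← pow_succ]
  induction n with
  | zero => simp
  | succ n ih =>
    have hch : (n + 1).choose 2 = n + n.choose 2 := by
      rw [Nat.choose_succ_succ, Nat.choose_one_right]
    calc (y * a) ^ (n + 1) = (y * a) ^ n * (y * a) := pow_succ _ _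
      _ = y ^ n * a ^ n * c ^ (n.choose 2) * (y * a) := by rw [ih]
      _ = y ^ n * a ^ n * (c ^ (n.choose 2) * y) * a := by simp only [mul_assoc]
      _ = y ^ n * a ^ n * (y * c ^ (n.choose 2)) * a := by rw [hcyk]
      _ = y ^ n * (a ^ n * y) * (c ^ (n.choose 2) * a) := by simp only [mul_assoc]
      _ = y ^ n * (y * a ^ n * c ^ n) * (a * c ^ (n.choose 2)) := by rw [h1, hcak]
      _ = y ^ n * y * a ^ n * (c ^ n * a) * c ^ (n.choose 2) := by simp only [mul_assoc]
      _ = y ^ n * y * a ^ n * (a * c ^ n) * c ^ (n.choose 2) := by rw [hcak]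
      _ = (y ^ n * y) * (a ^ n * a) * (c ^ n * c ^ (n.choose 2)) := by simp only [mul_assoc]
      _ = y ^ (n + 1) * a ^ (n + 1) * c ^ ((n + 1).choose 2) := by
        rw [← pow_succ, ← pow_succ, ← pow_add, hch]

/-- `u g^n = g^n u c^n` when `u g = g u c` and `c` commutes with `g`. -/
theorem mul_pow_eq_of_comm {u g c : G} (h : u * g = g * u * c) (hcg : c * g = g * c) (n : ℕ) :
    u * g ^ n = g ^ n * u * c ^ n := by
  induction n with
  | zero => simp
  | succ n ih =>
    have hcn : c ^ n * g = g * c ^ n := (Commute.pow_left (show Commute c g from hcg) n).eq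
    calc u * g ^ (n + 1) = (u * g ^ n) * g := by rw [pow_succ, mul_assoc]
      _ = (g ^ n * u * c ^ n) * g := by rw [ih]
      _ = g ^ n * u * (c ^ n * g) := by simp only [mul_assoc]
      _ = g ^ n * u * (g * c ^ n) := by rw [hcn]
      _ = g ^ n * (u * g) * c ^ n := by simp only [mul_assoc]
      _ = g ^ n * (g * u * c) * c ^ n := by rw [h]
      _ = (g ^ n * g) * u * (c * c ^ n) := by simp only [mul_assoc]
      _ = g ^ (n + 1) * u * c ^ (n + 1) := by rw [← pow_succ, ← pow_succ']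


end Cfsg.Agent.Lib.H10.CopAut
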