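import Mathlib
import Cfsg.Agent.Lib.H10.CoprimeAut
import Cfsg.Agent.Lib.H10.SylowIn
import Cfsg.Agent.Lib.H9.FrattiniAction
import Cfsg.Agent.Lib.H10.LocalGlobalGen

/-!
# Subgroups of fixed order strongly closed in their normalizers (helper10)

Toolkit for S3031/S3032: `Fam`, `HypH`, members are normal in `P` and strongly closed, a coprime
automorphism lemma (`commute_of_card_gt`) and the local lemma `conj_mem_coatom`.
-/

set_option autoImplicit false

namespace Cfsg.Agent.Lib.H10.SFix

open Cfsg.Agent.Lib.H10.CopAut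
open scoped commutatorElement

variable {G : Type*} [Group G]

/-- The family: subgroups of `P` of order `p^d`, and of order `4` when `p^d = 2`. -/
def Fam (p d : ℕ) (P E : Subgroup G) : Prop :=
  E ≤ P ∧ (Nat.card E = p ^ d ∨ (p ^ d = 2 ∧ Nat.card E = 4))

/-- Every member of the family is strongly closed in its normalizer with respect to `G`. -/
def HypH (p d : ℕ) (P : Subgroup G) : Prop :=
  ∀ E : Subgroup G, Fam p d P E → ∀ g : G,
    E.map (MulAut.conj g).toMonoidHom ⊓ Subgroup.normalizer (E : Set G) ≤ E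

theorem mem_map_conj_iff {E : Subgroup G} {g x : G} :
    x ∈ E.map (MulAut.conj g).toMonoidHom ↔ g⁻¹ * x * g ∈ E := by
  constructor
  · rintro ⟨y, hy, rfl⟩
    have : g⁻¹ * ((MulAut.conj g).toMonoidHom y) * g = y := by
      simp [MulAut.conj_apply, mul_assoc]
    rw [this]; exact hy
  · intro h
    refine ⟨g⁻¹ * x * g, h, ?_⟩
    simp [MulAut.conj_apply, mul_assoc]

/-- Members of the family are normal in `P`. -/
theorem le_normalizer_of_hyp [Finite G] {p d : ℕ} [Fact p.Prime] {P E : Subgroup G}
    (hP : IsPGroup p P) (hH : HypH p d P) (hE : Fam p d P E) :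
    P ≤ Subgroup.normalizer (E : Set G) := by
  by_contra hcon
  set NP := P ⊓ Subgroup.normalizer (E : Set G) with hNP
  have hlt : NP < P := by
    refine lt_of_le_of_ne inf_le_left ?_
    intro heq
    apply hcon
    rw [← heq]
    exact inf_le_right
  have h2 := lt_inf_normalizer_of_lt hP hlt
  obtain ⟨x, hx, hxn⟩ := SetLike.exists_of_lt h2
  apply hxn
  refine ⟨hx.1, ?_⟩
  -- x normalizes NP, so x E x⁻¹ ≤ NP ≤ N(E), hence x E x⁻¹ ≤ E
  have hENP : E ≤ NP := le_inf hE.1 Subgroup.le_normalizer
  apply Cfsg.Agent.Lib.L0.mem_normalizer_of_forall_conj_mem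
  intro y hy
  have h3 : x * y * x⁻¹ ∈ NP := (Subgroup.mem_normalizer_iff.mp hx.2 y).mp (hENP hy)
  apply hH E hE x
  refine ⟨?_, h3.2⟩
  apply mem_map_conj_iff.mpr
  have : x⁻¹ * (x * y * x⁻¹) * x = y := by group
  rw [this]; exact hy

/-- Members of the family are strongly closed in `P` with respect to `G`. -/
theorem conj_mem_of_hyp [Finite G] {p d : ℕ} [Fact p.Prime] {P E : Subgroup G}
    (hP : IsPGroup p P) (hH : HypH p d P) (hE : Fam p d P E) {g x : G} (hx : x ∈ E)
    (hxg : g * x * g⁻¹ ∈ P) : g * x * g⁻¹ ∈ E := by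
  apply hH E hE g
  refine ⟨?_, le_normalizer_of_hyp hP hH hE hxg⟩
  apply mem_map_conj_iff.mpr
  have : g⁻¹ * (g * x * g⁻¹) * g = x := by group
  rw [this]; exact hx

/-- If `h` normalizes `R ≤ P` then it normalizes `E ⊓ R` for every member `E` of the family. -/
theorem mem_normalizer_inf_of_hyp [Finite G] {p d : ℕ} [Fact p.Prime] {P E R : Subgroup G}
    (hP : IsPGroup p P) (hH : HypH p d P) (hE : Fam p d P E) (hR : R ≤ P) {h : G}
    (hh : h ∈ Subgroup.normalizer (R : Set G)) :
    h ∈ Subgroup.normalizer ((E ⊓ R : Subgroup G) : Set G) := by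
  apply Cfsg.Agent.Lib.L0.mem_normalizer_of_forall_conj_mem
  intro x hx
  have h1 : h * x * h⁻¹ ∈ R := (Subgroup.mem_normalizer_iff.mp hh x).mp hx.2
  exact ⟨conj_mem_of_hyp hP hH hE hx.1 (hR h1), h1⟩

theorem mem_normalizer_of_hyp [Finite G] {p d : ℕ} [Fact p.Prime] {P E R : Subgroup G}
    (hP : IsPGroup p P) (hH : HypH p d P) (hE : Fam p d P E) (hR : R ≤ P) (hER : E ≤ R) {h : G}
    (hh : h ∈ Subgroup.normalizer (R : Set G)) :
    h ∈ Subgroup.normalizer (E : Set G) := by
  have := mem_normalizer_inf_of_hyp hP hH hE hR hh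
  rwa [inf_eq_left.mpr hER] at this

/-- The subgroup generated by `p`-th powers and commutators of `W` (the Frattini subgroup of the
`p`-group `W`, seen in `G`). -/
def powComm (p : ℕ) (W : Subgroup G) : Subgroup G :=
  Subgroup.closure {z | (∃ x ∈ W, z = x ^ p) ∨ (∃ x ∈ W, ∃ y ∈ W, z = x * y * x⁻¹ * y⁻¹)}

theorem powComm_le (p : ℕ) (W : Subgroup G) : powComm p W ≤ W := by
  rw [powComm, Subgroup.closure_le]
  rintro z (⟨x, hx, rfl⟩ | ⟨x, hx, y, hy, rfl⟩)
  · exact W.pow_mem hx p
  · exact W.mul_mem (W.mul_mem (W.mul_mem hx hy) (W.inv_mem hx)) (W.inv_mem hy)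

theorem pow_mem_powComm (p : ℕ) {W : Subgroup G} {x : G} (hx : x ∈ W) : x ^ p ∈ powComm p W :=
  Subgroup.subset_closure (Or.inl ⟨x, hx, rfl⟩)

theorem comm_mem_powComm (p : ℕ) {W : Subgroup G} {x y : G} (hx : x ∈ W) (hy : y ∈ W) :
    x * y * x⁻¹ * y⁻¹ ∈ powComm p W :=
  Subgroup.subset_closure (Or.inr ⟨x, hx, y, hy, rfl⟩)

theorem mem_normalizer_powComm [Finite G] (p : ℕ) {W : Subgroup G} {g : G}
    (hg : g ∈ Subgroup.normalizer (W : Set G)) :
    g ∈ Subgroup.normalizer ((powComm p W : Subgroup G) : Set G) := by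
  have hgW : ∀ x ∈ W, g * x * g⁻¹ ∈ W := fun x hx => (Subgroup.mem_normalizer_iff.mp hg x).mp hx
  apply Cfsg.Agent.Lib.L0.mem_normalizer_of_forall_conj_mem
  intro z hz
  rw [powComm] at hz
  induction hz using Subgroup.closure_induction with
  | mem z hz =>
    rcases hz with ⟨x, hx, rfl⟩ | ⟨x, hx, y, hy, rfl⟩
    · have : g * x ^ p * g⁻¹ = (g * x * g⁻¹) ^ p := by rw [conj_pow]
      rw [this]
      exact pow_mem_powComm p (hgW x hx)
    · have : g * (x * y * x⁻¹ * y⁻¹) * g⁻¹ =
          (g * x * g⁻¹) * (g * y * g⁻¹) * (g * x * g⁻¹)⁻¹ * (g * y * g⁻¹)⁻¹ := by group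
      rw [this]
      exact comm_mem_powComm p (hgW x hx) (hgW y hy)
  | one => simp
  | mul a b _ _ ha hb =>
    have : g * (a * b) * g⁻¹ = (g * a * g⁻¹) * (g * b * g⁻¹) := by group
    rw [this]
    exact Subgroup.mul_mem _ ha hb
  | inv a _ ha =>
    have : g * a⁻¹ * g⁻¹ = (g * a * g⁻¹)⁻¹ := by group
    rw [this]
    exact Subgroup.inv_mem _ ha

theorem powComm_ne [Finite G] {p : ℕ} [Fact p.Prime] {W : Subgroup G} (hWp : IsPGroup p W)
    (hW : W ≠ ⊥) : powComm p W ≠ W := by
  intro heq
  have : Nontrivial W := (Subgroup.nontrivial_iff_ne_bot W).mpr hW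
  obtain ⟨M, hM, -⟩ := (eq_top_or_exists_le_coatom (⊥ : Subgroup W)).resolve_left bot_ne_top
  have hΦ : frattini W ≤ M := frattini_le_coatom hM
  have hle : powComm p W ≤ M.map W.subtype := by
    rw [powComm, Subgroup.closure_le]
    rintro z (⟨x, hx, rfl⟩ | ⟨x, hx, y, hy, rfl⟩)
    · refine ⟨⟨x, hx⟩ ^ p, hΦ (Cfsg.Agent.Lib.H1.isPGroup_pow_mem_frattini hWp ⟨x, hx⟩), rfl⟩
    · refine ⟨⁅(⟨x, hx⟩ : W), ⟨y, hy⟩⁆, hΦ (Cfsg.Agent.Lib.H1.isPGroup_commutator_le_frattini hWp
        (Subgroup.commutator_mem_commutator (Subgroup.mem_top _) (Subgroup.mem_top _))), ?_⟩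
      rw [commutatorElement_def]
      rfl
  apply hM.1
  rw [eq_top_iff]
  intro w _
  have hwP : (w : G) ∈ powComm p W := by rw [heq]; exact w.2
  have : (w : G) ∈ M.map W.subtype := hle hwP
  obtain ⟨m, hm, hmw⟩ := this
  have : m = w := Subtype.ext hmw
  rw [← this]; exact hm


/-- The "Omega-lemma" step: if `h` (of order prime to `p`) centralizes every proper `h`-invariant
subgroup of the `p`-group `W` and all elements of `W` of order dividing `p` (resp. `4` for `p = 2`),
then `h` centralizes `W`. -/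
theorem commute_of_small_exponent [Finite G] {p : ℕ} [hp : Fact p.Prime] {W : Subgroup G} {h : G}
    (hWp : IsPGroup p W) (hWbot : W ≠ ⊥) (hW : h ∈ Subgroup.normalizer (W : Set G))
    (hcop : (orderOf h).Coprime p)
    (hsmall : ∀ x ∈ W, x ^ (if p = 2 then 4 else p) = 1 → h * x = x * h)
    (hprop : ∀ W' : Subgroup G, W' ≤ W → W' ≠ W → h ∈ Subgroup.normalizer (W' : Set G) →
      ∀ x ∈ W', h * x = x * h) :
    ∀ x ∈ W, h * x = x * h := by
  set Z := powComm p W with hZ
  have hZW : Z ≤ W := powComm_le p W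
  have hZne : Z ≠ W := powComm_ne hWp hWbot
  have hhZ : h ∈ Subgroup.normalizer (Z : Set G) := mem_normalizer_powComm p hW
  have hZc : ∀ z ∈ Z, h * z = z * h := hprop Z hZW hZne hhZ
  have hhW : ∀ x ∈ W, h * x * h⁻¹ ∈ W := fun x hx => (Subgroup.mem_normalizer_iff.mp hW x).mp hx
  have hhW' : ∀ x ∈ W, h⁻¹ * x * h ∈ W := fun x hx => by
    have := (Subgroup.mem_normalizer_iff.mp (Subgroup.inv_mem _ hW) x).mp hx
    simpa using this
  have hWZ : ∀ w ∈ W, ∀ z ∈ Z, w * z * w⁻¹ ∈ Z := fun w hw z hz =>
    (Subgroup.mem_normalizer_iff.mp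
      (mem_normalizer_powComm p (Subgroup.le_normalizer hw)) z).mp hz
  set K := W ⊓ Subgroup.centralizer (Z : Set G) with hK
  have hKW : K ≤ W := inf_le_left
  have hhK : h ∈ Subgroup.normalizer (K : Set G) := by
    apply Cfsg.Agent.Lib.L0.mem_normalizer_of_forall_conj_mem
    intro k hk
    refine ⟨hhW k hk.1, ?_⟩
    apply Subgroup.mem_centralizer_iff.mpr
    intro z hz
    have hz' : h⁻¹ * z * h ∈ Z := by
      have := (Subgroup.mem_normalizer_iff.mp (Subgroup.inv_mem _ hhZ) z).mp hz
      simpa using this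
    have h1 := (Subgroup.mem_centralizer_iff.mp hk.2) _ hz'
    calc z * (h * k * h⁻¹) = h * ((h⁻¹ * z * h) * k) * h⁻¹ := by group
      _ = h * (k * (h⁻¹ * z * h)) * h⁻¹ := by rw [h1]
      _ = h * k * h⁻¹ * z := by group
  have hq : ∀ w ∈ W, w⁻¹ * (h⁻¹ * w * h) ∈ K := by
    intro w hw
    refine ⟨W.mul_mem (W.inv_mem hw) (hhW' w hw), ?_⟩
    apply Subgroup.mem_centralizer_iff.mpr
    intro z hz
    have h1 : h * z = z * h := hZc z hz
    have h2 : h * (w * z * w⁻¹) = (w * z * w⁻¹) * h := hZc _ (hWZ w hw z hz)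
    have h1' : h⁻¹ * z = z * h⁻¹ := by
      calc h⁻¹ * z = h⁻¹ * (z * h) * h⁻¹ := by group
        _ = h⁻¹ * (h * z) * h⁻¹ := by rw [h1]
        _ = z * h⁻¹ := by group
    have h2' : h⁻¹ * (w * z * w⁻¹) * h = w * z * w⁻¹ := by
      calc h⁻¹ * (w * z * w⁻¹) * h = h⁻¹ * ((w * z * w⁻¹) * h) := by group
        _ = h⁻¹ * (h * (w * z * w⁻¹)) := by rw [h2]
        _ = w * z * w⁻¹ := by group
    calc z * (w⁻¹ * (h⁻¹ * w * h))
        = w⁻¹ * ((w * z * w⁻¹) * h⁻¹) * w * h := by group
      _ = w⁻¹ * (h⁻¹ * (h * (w * z * w⁻¹) * h⁻¹)) * w * h := by group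
      _ = w⁻¹ * (h⁻¹ * ((w * z * w⁻¹) * h * h⁻¹)) * w * h := by rw [h2]
      _ = w⁻¹ * h⁻¹ * w * (z * h) := by group
      _ = w⁻¹ * h⁻¹ * w * (h * z) := by rw [h1]
      _ = w⁻¹ * (h⁻¹ * w * h) * z := by group
  by_cases hKeq : K = W
  · -- `Z` is central in `W`
    have hcen : ∀ w ∈ W, ∀ z ∈ Z, z * w = w * z := by
      intro w hw z hz
      have hwK : w ∈ K := by rw [hKeq]; exact hw
      exact (Subgroup.mem_centralizer_iff.mp hwK.2) z hz
    intro w hw
    set a := w⁻¹ with ha
    set b := h⁻¹ * w * h with hb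
    have haW : a ∈ W := W.inv_mem hw
    have hbW : b ∈ W := hhW' w hw
    set k := b⁻¹ * a⁻¹ * b * a with hk
    have hkZ : k ∈ Z := by
      have := comm_mem_powComm p (W.inv_mem hbW) (W.inv_mem haW)
      simpa [hk] using this
    have hba : b * a = a * b * k := by rw [hk]; group
    have hka : k * a = a * k := hcen a haW k hkZ
    have hkb : k * b = b * k := hcen b hbW k hkZ
    have hkp : k ^ p = 1 := by
      have h1 := mul_pow_eq_of_comm hba hka p
      have h2 : a ^ p * b = b * a ^ p := hcen b hbW _ (pow_mem_powComm p haW)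
      rw [h2] at h1
      have : b * a ^ p * 1 = b * a ^ p * k ^ p := by rw [mul_one]; exact h1
      exact (mul_left_cancel this).symm
    have hpow : ∀ n : ℕ, w ^ n ∈ Z → (a * b) ^ n = k ^ (n.choose 2) := by
      intro n hn
      rw [mul_pow_comm2 hba hka hkb n]
      have h1 : h * w ^ n = w ^ n * h := hZc _ hn
      have h2 : b ^ n = w ^ n := by
        have hb' : b = h⁻¹ * w * (h⁻¹)⁻¹ := by rw [hb, inv_inv]
        rw [hb', conj_pow, inv_inv]
        calc h⁻¹ * w ^ n * h = h⁻¹ * (w ^ n * h) := by rw [mul_assoc]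
          _ = h⁻¹ * (h * w ^ n) := by rw [h1]
          _ = w ^ n := by group
      rw [h2, ha, inv_pow, inv_mul_cancel, one_mul]
    have hce : (a * b) ^ (if p = 2 then 4 else p) = 1 := by
      split_ifs with h2
      · subst h2
        rw [hpow 4 ?_]
        · have : Nat.choose 4 2 = 2 * 3 := by decide
          rw [this, pow_mul, hkp, one_pow]
        · have : w ^ 4 = (w ^ 2) ^ 2 := by rw [← pow_mul]
          rw [this]
          exact Z.pow_mem (pow_mem_powComm 2 hw) 2
      · rw [hpow p (pow_mem_powComm p hw)]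
        have h2p : 2 < p := lt_of_le_of_ne hp.out.two_le (Ne.symm h2)
        obtain ⟨m, hm⟩ := hp.out.dvd_choose_self (by norm_num : 2 ≠ 0) h2p
        rw [hm, pow_mul, hkp, one_pow]
    have hab : a * b ∈ W := W.mul_mem haW hbW
    have hcomm : h * (a * b) = (a * b) * h := hsmall _ hab hce
    apply commute_of_commute_conj hcomm
    obtain ⟨j, hj⟩ := (IsPGroup.iff_orderOf.mp hWp) ⟨_, hab⟩
    rw [Subgroup.orderOf_mk] at hj
    rw [hj]
    exact (Nat.Coprime.pow_right j hcop).symm
  · have hKc : ∀ x ∈ K, h * x = x * h := hprop K hKW hKeq hhK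
    exact commute_of_chain hWp hKW hcop hKc hq

theorem relIndex_eq_prime_of_normal {E T W : Subgroup G} {p : ℕ} (hp : p.Prime) (hET : E ≤ T)
    (hTE : T ≤ Subgroup.normalizer (E : Set G)) (hidx : E.relIndex T = p) (hWT : W ≤ T)
    (hWE : ¬ W ≤ E) : E.relIndex W = p := by
  have hn : (E.subgroupOf T).Normal :=
    (Subgroup.normal_subgroupOf_iff_le_normalizer hET).mpr hTE
  have h1 := Subgroup.relIndex_dvd_index_of_normal (E.subgroupOf T) (W.subgroupOf T)
  rw [Subgroup.relIndex_subgroupOf hWT] at h1
  have h2 : (E.subgroupOf T).index = p := hidx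
  rw [h2] at h1
  rcases (Nat.dvd_prime hp).mp h1 with h3 | h3
  · exact absurd (Subgroup.relIndex_eq_one.mp h3) hWE
  · exact h3

theorem relIndex_eq_of_card {H K : Subgroup G} [Finite G] (h : H ≤ K) {p : ℕ}
    (hc : Nat.card K = Nat.card H * p) : H.relIndex K = p := by
  have h1 := Subgroup.relIndex_mul_relIndex ⊥ H K bot_le h
  rw [Subgroup.relIndex_bot_left, Subgroup.relIndex_bot_left, hc] at h1
  exact Nat.eq_of_mul_eq_mul_left Nat.card_pos h1

theorem normalizer_inf_le (A B : Subgroup G) :
    Subgroup.normalizer (A : Set G) ⊓ Subgroup.normalizer (B : Set G) ≤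
      Subgroup.normalizer ((A ⊓ B : Subgroup G) : Set G) := by
  intro g hg
  rw [Subgroup.mem_normalizer_iff]
  intro x
  rw [Subgroup.mem_inf, Subgroup.mem_inf, ← Subgroup.mem_normalizer_iff.mp hg.1 x,
    ← Subgroup.mem_normalizer_iff.mp hg.2 x]

theorem isCyclic_of_le_cyclic {W T : Subgroup G} (hWT : W ≤ T) (hT : IsCyclic T) : IsCyclic W := by
  have : IsCyclic (W.subgroupOf T) := Subgroup.isCyclic _
  exact isCyclic_of_surjective (Subgroup.subgroupOfEquivOfLe hWT).toMonoidHom
    (Subgroup.subgroupOfEquivOfLe hWT).surjective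

/-- An `h`-invariant maximal subgroup centralized by `h` forces `h` to centralize. -/
theorem commute_of_invariant_max [Finite G] {p : ℕ} [Fact p.Prime] {W₀ W : Subgroup G} {h : G}
    (hWp : IsPGroup p W) (hle : W₀ ≤ W) (hnorm : W ≤ Subgroup.normalizer (W₀ : Set G))
    (hidx : W₀.relIndex W = p) (hW : h ∈ Subgroup.normalizer (W : Set G))
    (hW₀ : h ∈ Subgroup.normalizer (W₀ : Set G))
    (hcop : (orderOf h).Coprime p) (hcop1 : (orderOf h).Coprime (p - 1))
    (hc : ∀ x ∈ W₀, h * x = x * h) : ∀ x ∈ W, h * x = x * h :=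
  commute_of_chain hWp hle hcop hc (conj_mem_of_relIndex_prime hnorm hidx hW hW₀ hcop hcop1)

/-- **Coprime automorphism lemma.** If `h` (order prime to `p` and `p - 1`) normalizes `R₀ ≤ P` with
`p^d < |R₀|`, then `h` centralizes `R₀`. -/
theorem commute_of_card_gt [Finite G] {p d : ℕ} [hp : Fact p.Prime] {P R₀ : Subgroup G}
    (hP : IsPGroup p P) (hH : HypH p d P) (hd : 0 < d) (hR₀ : R₀ ≤ P) {h : G}
    (hh : h ∈ Subgroup.normalizer (R₀ : Set G)) (hcop : (orderOf h).Coprime p)
    (hcop1 : (orderOf h).Coprime (p - 1)) (hcard : p ^ d < Nat.card R₀) :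
    ∀ x ∈ R₀, h * x = x * h := by
  obtain ⟨r, hr⟩ := (hP.to_le hR₀).exists_card_eq
  have hdr : d < r := by
    rw [hr] at hcard
    exact (Nat.pow_lt_pow_iff_right hp.out.one_lt).mp hcard
  have main : ∀ n : ℕ, ∀ W : Subgroup G, W ≤ R₀ → Nat.card W = n →
      h ∈ Subgroup.normalizer (W : Set G) → ∀ x ∈ W, h * x = x * h := by
    intro n
    induction n using Nat.strong_induction_on with
    | _ n ih =>
      intro W hWR hWn hhW
      have hWP : W ≤ P := hWR.trans hR₀
      have hWp : IsPGroup p W := hP.to_le hWP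
      have IH : ∀ W' : Subgroup G, W' ≤ W → W' ≠ W → h ∈ Subgroup.normalizer (W' : Set G) →
          ∀ x ∈ W', h * x = x * h := by
        intro W' hW'W hne hhW'
        have hlt : Nat.card W' < n := by
          rw [← hWn]
          exact card_lt_card_of_lt (lt_of_le_of_ne hW'W hne)
        exact ih _ hlt W' (hW'W.trans hWR) rfl hhW'
      by_cases hbot : W = ⊥
      · intro x hx
        rw [hbot, Subgroup.mem_bot] at hx
        subst hx; simp
      by_cases hcyc : IsCyclic W
      · intro x hx
        have := mem_centralizer_of_cyclic W hcyc hWp hhW hcop hcop1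
        exact ((Subgroup.mem_centralizer_iff.mp this) x hx).symm
      obtain ⟨a, ha⟩ := hWp.exists_card_eq
      have hfam : ∀ E : Subgroup G, E ≤ R₀ →
          (Nat.card E = p ^ d ∨ (p ^ d = 2 ∧ Nat.card E = 4)) →
          h ∈ Subgroup.normalizer (E : Set G) := fun E hER hE =>
        mem_normalizer_of_hyp hP hH ⟨hER.trans hR₀, hE⟩ hR₀ hER hh
      by_cases hbig : p ^ d < Nat.card W
      · -- Case A
        have hda : d < a := by
          rw [ha] at hbig
          exact (Nat.pow_lt_pow_iff_right hp.out.one_lt).mp hbig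
        apply commute_of_small_exponent hWp hbot hhW hcop _ IH
        intro x hx hxe
        have hXW : Subgroup.zpowers x ≤ W := by rw [Subgroup.zpowers_le]; exact hx
        have hXcard : Nat.card (Subgroup.zpowers x) = orderOf x := Nat.card_zpowers x
        have hord : ∃ b : ℕ, orderOf x = p ^ b ∧ (b ≤ d ∨ (p ^ d = 2 ∧ p ^ b = 4)) := by
          have hdvd := orderOf_dvd_of_pow_eq_one hxe
          by_cases h2 : p = 2
          · rw [if_pos h2] at hdvd
            subst h2
            have h4 : (4:ℕ) = 2 ^ 2 := by norm_num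
            rw [h4] at hdvd
            obtain ⟨b, hb, hb'⟩ := (Nat.dvd_prime_pow Nat.prime_two).mp hdvd
            refine ⟨b, hb', ?_⟩
            by_cases hbd : b ≤ d
            · exact Or.inl hbd
            · right
              have hb2 : b = 2 := by omega
              have hd1 : d = 1 := by omega
              subst hb2; subst hd1; norm_num
          · rw [if_neg h2] at hdvd
            have hdvd' : orderOf x ∣ p ^ 1 := by rwa [pow_one]
            obtain ⟨b, hb, hb'⟩ := (Nat.dvd_prime_pow hp.out).mp hdvd'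
            exact ⟨b, hb', Or.inl (by omega)⟩
        obtain ⟨b, hb, hbd⟩ := hord
        rcases hbd with hbd | ⟨h2, h4⟩
        · obtain ⟨E, hXE, hEW, hEcard⟩ := exists_between hXW (hXcard.trans hb)
            (show p ^ d ∣ Nat.card W by rw [ha]; exact pow_dvd_pow p hda.le) hbd
          have hEne : E ≠ W := by
            intro heq
            rw [heq] at hEcard
            omega
          exact IH E hEW hEne (hfam E (hEW.trans hWR) (Or.inl hEcard)) x
            (hXE (Subgroup.mem_zpowers x))
        · have hXne : Subgroup.zpowers x ≠ W := by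
            intro heq
            apply hcyc
            rw [← heq]
            infer_instance
          exact IH _ hXW hXne
            (hfam _ (hXW.trans hWR) (Or.inr ⟨h2, by rw [hXcard, hb, h4]⟩)) x
            (Subgroup.mem_zpowers x)
      · -- Case B
        have had : a ≤ d := by
          rw [ha] at hbig
          by_contra hcon
          exact hbig ((Nat.pow_lt_pow_iff_right hp.out.one_lt).mpr (by omega))
        obtain ⟨T, hWT, hTR, hTcard⟩ := exists_between hWR ha
          (show p ^ (d + 1) ∣ Nat.card R₀ by rw [hr]; exact pow_dvd_pow p hdr)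
          (by omega : a ≤ d + 1)
        have hTP : T ≤ P := hTR.trans hR₀
        have hTp : IsPGroup p T := hP.to_le hTP
        have hmax : ∀ E : Subgroup G, E ≤ T → Nat.card E = p ^ d →
            h ∈ Subgroup.normalizer (E : Set G) ∧ T ≤ Subgroup.normalizer (E : Set G) ∧
              E.relIndex T = p := by
          intro E hET hEcard
          refine ⟨hfam E (hET.trans hTR) (Or.inl hEcard),
            hTP.trans (le_normalizer_of_hyp hP hH ⟨hET.trans hTP, Or.inl hEcard⟩), ?_⟩
          exact relIndex_eq_of_card hET (by rw [hTcard, hEcard, pow_succ])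
        by_cases hall : ∀ E : Subgroup G, E ≤ T → Nat.card E = p ^ d → W ≤ E
        · by_cases hTcyc : IsCyclic T
          · exact absurd (isCyclic_of_le_cyclic hWT hTcyc) hcyc
          · have hhT : h ∈ Subgroup.normalizer (T : Set G) := by
              apply Cfsg.Agent.Lib.L0.mem_normalizer_of_forall_conj_mem
              intro x hx
              have hXT : Subgroup.zpowers x ≤ T := by rw [Subgroup.zpowers_le]; exact hx
              have hXne : Subgroup.zpowers x ≠ T := by
                intro heq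
                apply hTcyc
                rw [← heq]
                infer_instance
              obtain ⟨b, hb⟩ := (hTp.to_le hXT).exists_card_eq
              have hbd : b ≤ d := by
                have hlt := card_lt_card_of_lt (lt_of_le_of_ne hXT hXne)
                rw [hb, hTcard] at hlt
                have := (Nat.pow_lt_pow_iff_right hp.out.one_lt).mp hlt
                omega
              obtain ⟨E, hXE, hET, hEcard⟩ := exists_between hXT hb
                (by rw [hTcard]; exact pow_dvd_pow p (Nat.le_succ d)) hbd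
              have := (hmax E hET hEcard).1
              exact hET ((Subgroup.mem_normalizer_iff.mp this x).mp (hXE (Subgroup.mem_zpowers x)))
            have hfr : ∀ a' ∈ Subgroup.zpowers h, ∀ q ∈ T,
                a' * q * a'⁻¹ * q⁻¹ ∈ (frattini ↥T).map T.subtype := by
              intro a' ha' q hq
              have ha'T : a' ∈ Subgroup.normalizer (T : Set G) :=
                (Subgroup.zpowers_le.mpr hhT) ha'
              have hord : orderOf a' ∣ orderOf h := orderOf_dvd_of_mem_zpowers ha'
              have hy : a' * q * a'⁻¹ * q⁻¹ ∈ T :=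
                T.mul_mem ((Subgroup.mem_normalizer_iff.mp ha'T q).mp hq) (T.inv_mem hq)
              refine ⟨⟨_, hy⟩, ?_, rfl⟩
              rw [SetLike.mem_coe, Cfsg.Agent.Lib.H1.frattini_eq_iInf]
              simp only [Subgroup.mem_iInf]
              intro M hM
              have hMidx : M.index = p := Cfsg.Agent.Lib.H1.isPGroup_coatom_index hTp hM
              have hMcard : Nat.card (M.map T.subtype) = p ^ d := by
                rw [Subgroup.card_map_of_injective T.subtype_injective]
                have h1 := Subgroup.card_mul_index M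
                rw [hMidx, hTcard, pow_succ] at h1
                exact Nat.eq_of_mul_eq_mul_right hp.out.pos h1
              have hM'T : M.map T.subtype ≤ T := by
                rintro x ⟨y, -, rfl⟩; exact y.2
              obtain ⟨hhM, hTM, hidx⟩ := hmax _ hM'T hMcard
              have ha'M : a'⁻¹ ∈ Subgroup.normalizer ((M.map T.subtype : Subgroup G) : Set G) :=
                Subgroup.inv_mem _ ((Subgroup.zpowers_le.mpr hhM) ha')
              have h1 := conj_mem_of_relIndex_prime hTM hidx (Subgroup.inv_mem _ ha'T) ha'M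
                (by rw [orderOf_inv]; exact Nat.Coprime.coprime_dvd_left hord hcop)
                (by rw [orderOf_inv]; exact Nat.Coprime.coprime_dvd_left hord hcop1)
                q⁻¹ (T.inv_mem hq)
              have h2 : a' * q * a'⁻¹ * q⁻¹ = (q⁻¹⁻¹ * (a'⁻¹⁻¹ * q⁻¹ * a'⁻¹))⁻¹ := by group
              have h3 : a' * q * a'⁻¹ * q⁻¹ ∈ M.map T.subtype := by
                rw [h2]; exact Subgroup.inv_mem _ h1
              obtain ⟨m, hm, hmy⟩ := h3
              have : m = ⟨_, hy⟩ := Subtype.ext hmy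
              rw [← this]; exact hm
            have := Cfsg.Agent.Lib.H9.commute_of_commutator_mem_frattini hTp hhT hcop hfr
            intro x hx
            exact this x (hWT hx)
        · obtain ⟨E, hE⟩ := not_forall.mp hall
          obtain ⟨hET, hE⟩ := Classical.not_imp.mp hE
          obtain ⟨hEcard, hWE⟩ := Classical.not_imp.mp hE
          obtain ⟨hhE, hTE, hidx⟩ := hmax E hET hEcard
          have hW₀ : h ∈ Subgroup.normalizer ((E ⊓ W : Subgroup G) : Set G) :=
            mem_normalizer_inf_of_hyp hP hH ⟨hET.trans hTP, Or.inl hEcard⟩ hWP hhW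
          have hnorm : W ≤ Subgroup.normalizer ((E ⊓ W : Subgroup G) : Set G) :=
            le_trans (le_inf (hWT.trans hTE) Subgroup.le_normalizer) (normalizer_inf_le E W)
          have hrel : (E ⊓ W).relIndex W = p := by
            rw [Subgroup.inf_relIndex_right]
            have hn : (E.subgroupOf T).Normal :=
              (Subgroup.normal_subgroupOf_iff_le_normalizer hET).mpr hTE
            have h1 := Subgroup.relIndex_dvd_index_of_normal (E.subgroupOf T) (W.subgroupOf T)
            rw [Subgroup.relIndex_subgroupOf hWT] at h1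
            have h2 : (E.subgroupOf T).index = p := hidx
            rw [h2] at h1
            rcases (Nat.dvd_prime hp.out).mp h1 with h3 | h3
            · exact absurd (Subgroup.relIndex_eq_one.mp h3) hWE
            · exact h3
          have hne : E ⊓ W ≠ W := by
            intro heq
            apply hWE
            rw [← heq]; exact inf_le_left
          exact commute_of_invariant_max hWp inf_le_right hnorm hrel hhW hW₀ hcop hcop1
            (IH _ inf_le_right hne hW₀)
  exact main _ R₀ le_rfl rfl hh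

end Cfsg.Agent.Lib.H10.SFix
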