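import Mathlib
import Cfsg.Agent.Lib.H7.CoprimeGen
import Cfsg.Agent.Lib.H1.CoprimeSylow

/-!
# Hyperplane decomposition of an abelian group under a coprime elementary abelian group (helper10)

`V` a normal abelian subgroup of the finite group `G`, `Q` an elementary abelian `q`-subgroup with
`C_V(Q) = 1`.  For the subgroups `B` of index `q` in `Q` ("hyperplanes") the centralizers
`C_V(B)` generate `V` (`le_iSup_hyp`) and are independent (`eq_one_of_mem_iSup_hyp`); the projection
onto `C_V(B)` is (a power of) the trace map `tr V B`.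
-/

set_option autoImplicit false
set_option linter.unusedSectionVars false
set_option linter.style.haveILetI false

namespace Cfsg.Agent.Lib.H10.BG36

open Subgroup
open scoped Pointwise IsMulCommutative

variable {G : Type*} [Group G]

/-- `B` is a subgroup of index `q` in `Q` -/
def IsHyp (q : ℕ) (Q B : Subgroup G) : Prop := B ≤ Q ∧ B.relIndex Q = q

section Conj

variable (V : Subgroup G) [hVn : V.Normal]

/-- conjugation by `g` on the normal subgroup `V` -/
def cj (g : G) : ↥V →* ↥V where
  toFun v := ⟨g * v * g⁻¹, hVn.conj_mem v v.2 g⟩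
  map_one' := by
    apply Subtype.ext
    simp
  map_mul' a b := by
    apply Subtype.ext
    simp only [Subgroup.coe_mul]
    group

@[simp] theorem cj_apply_coe (g : G) (v : V) : ((cj V g v : V) : G) = g * v * g⁻¹ := rfl

theorem cj_one (v : V) : cj V 1 v = v := by
  apply Subtype.ext
  simp

theorem cj_mul (g h : G) (v : V) : cj V (g * h) v = cj V g (cj V h v) := by
  apply Subtype.ext
  simp only [cj_apply_coe]
  group

theorem cj_pow (g : G) (n : ℕ) (v : V) : cj V (g ^ n) v = (cj V g)^[n] v := by
  induction n with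
  | zero => simp [cj_one]
  | succ n ih =>
    rw [pow_succ', cj_mul, ih, Function.iterate_succ_apply']

theorem cj_eq_self_iff (g : G) (v : V) : cj V g v = v ↔ g * (v : G) = v * g := by
  constructor
  · intro h
    have h1 : g * (v : G) * g⁻¹ = v := congrArg Subtype.val h
    calc g * (v : G) = (g * v * g⁻¹) * g := by group
      _ = v * g := by rw [h1]
  · intro h
    apply Subtype.ext
    rw [cj_apply_coe, h]
    group

theorem cj_comm_of_comm {g h : G} (hgh : g * h = h * g) (v : V) :
    cj V g (cj V h v) = cj V h (cj V g v) := by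
  rw [← cj_mul, ← cj_mul, hgh]

end Conj

section Trace

variable [Finite G] (V : Subgroup G) [hVn : V.Normal] [IsMulCommutative V]

/-- the trace map of the subgroup `B` on `V` -/
noncomputable def tr (B : Subgroup G) : ↥V →* ↥V :=
  letI := Fintype.ofFinite B
  ∏ b : B, cj V (b : G)

theorem tr_apply (B : Subgroup G) (v : V) :
    tr V B v = letI := Fintype.ofFinite B; ∏ b : B, cj V (b : G) v := by
  unfold tr
  rw [MonoidHom.finsetProd_apply]

/-- the trace is fixed by `B` -/
theorem cj_tr (B : Subgroup G) {b : G} (hb : b ∈ B) (v : V) : cj V b (tr V B v) = tr V B v := by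
  letI := Fintype.ofFinite B
  rw [tr_apply, map_prod]
  simp only [← cj_mul]
  exact Fintype.prod_equiv (Equiv.mulLeft (⟨b, hb⟩ : B)) _ _ (fun a => rfl)

theorem tr_mem_centralizer (B : Subgroup G) (v : V) :
    ((tr V B v : V) : G) ∈ V ⊓ centralizer (B : Set G) := by
  refine Subgroup.mem_inf.mpr ⟨(tr V B v).2, ?_⟩
  rw [Subgroup.mem_centralizer_iff]
  intro b hb
  exact (cj_eq_self_iff V b _).mp (cj_tr V B hb v)

/-- on `C_V(B)` the trace is the `|B|`-th power -/
theorem tr_of_mem_centralizer (B : Subgroup G) (v : V)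
    (hv : (v : G) ∈ centralizer (B : Set G)) : tr V B v = v ^ Nat.card B := by
  letI := Fintype.ofFinite B
  rw [tr_apply]
  have : ∀ b : B, cj V (b : G) v = v := by
    intro b
    rw [cj_eq_self_iff]
    exact Subgroup.mem_centralizer_iff.mp hv b b.2
  simp only [this, Finset.prod_const, Finset.card_univ, Nat.card_eq_fintype_card]

/-- an element commuting with `B` elementwise commutes with the trace -/
theorem cj_tr_comm (B : Subgroup G) {c : G} (hc : ∀ b ∈ B, c * b = b * c) (v : V) :
    cj V c (tr V B v) = tr V B (cj V c v) := by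
  letI := Fintype.ofFinite B
  rw [tr_apply, tr_apply, map_prod]
  apply Finset.prod_congr rfl
  intro b _
  exact cj_comm_of_comm V (hc b b.2) v

end Trace

section Hyp

variable [Finite G] {q : ℕ} {Q : Subgroup G}

theorem IsHyp.sup_eq (hq : q.Prime) {B B' : Subgroup G} (hB : IsHyp q Q B) (hB' : IsHyp q Q B')
    (hne : B ≠ B') : B ⊔ B' = Q := by
  have hle : B ⊔ B' ≤ Q := sup_le hB.1 hB'.1
  have h1 := Subgroup.relIndex_mul_relIndex B (B ⊔ B') Q le_sup_left hle
  rw [hB.2] at h1
  have h2 : B.relIndex (B ⊔ B') ∣ q := Dvd.intro _ h1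
  rcases (Nat.dvd_prime hq).mp h2 with h3 | h3
  · exfalso
    have h4 : B ⊔ B' ≤ B := Subgroup.relIndex_eq_one.mp h3
    have h5 : B' ≤ B := le_sup_right.trans h4
    -- equal indices
    have h6 := Subgroup.relIndex_mul_relIndex B' B Q h5 hB.1
    rw [hB.2, hB'.2] at h6
    have hqpos : 0 < q := hq.pos
    have h7 : B'.relIndex B = 1 := by
      have : B'.relIndex B * q = 1 * q := by rw [h6, one_mul]
      exact Nat.eq_of_mul_eq_mul_right hqpos this
    have h8 : B ≤ B' := Subgroup.relIndex_eq_one.mp h7
    exact hne (le_antisymm h8 h5)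
  · rw [h3] at h1
    have hqpos : 0 < q := hq.pos
    have h4 : (B ⊔ B').relIndex Q = 1 := by
      have : q * (B ⊔ B').relIndex Q = q * 1 := by rw [h1, mul_one]
      exact Nat.eq_of_mul_eq_mul_left hqpos this
    exact le_antisymm hle (Subgroup.relIndex_eq_one.mp h4)

theorem IsHyp.ne_self (hq : q.Prime) {B : Subgroup G} (hB : IsHyp q Q B) : B ≠ Q := by
  intro h
  have := hB.2
  rw [h, Subgroup.relIndex_self] at this
  exact hq.one_lt.ne this

theorem IsHyp.conj {B : Subgroup G} (hB : IsHyp q Q B) {g : G}
    (hg : g ∈ normalizer (Q : Set G)) : IsHyp q Q (MulAut.conj g • B) := by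
  have hQ : MulAut.conj g • Q = Q :=
    Cfsg.Agent.Lib.H1.conj_smul_eq_self_iff_mem_normalizer.mpr hg
  refine ⟨?_, ?_⟩
  · have := Subgroup.pointwise_smul_le_pointwise_smul_iff (a := MulAut.conj g) |>.mpr hB.1
    rwa [hQ] at this
  · have h1 : (MulAut.conj g • B).relIndex (MulAut.conj g • Q) = B.relIndex Q :=
      Subgroup.relIndex_pointwise_smul (MulAut.conj g) B Q
    rw [hQ] at h1
    rw [h1, hB.2]

end Hyp

end Cfsg.Agent.Lib.H10.BG36
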