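import Mathlib
import Cfsg.Agent.Lib.H10.BG36b

/-!
# Hyperplane decomposition: generation and independence (helper10)
-/

set_option autoImplicit false
set_option linter.unusedSectionVars false
set_option linter.style.haveILetI false

namespace Cfsg.Agent.Lib.H10.BG36

open Subgroup
open scoped Pointwise IsMulCommutative

variable {G : Type*} [Group G] [Finite G]

/-- the standing hypotheses: `V` of exponent `p`, `Q` elementary abelian of exponent `q ≠ p`,
`C_V(Q) = 1`. -/
structure HS (p q : ℕ) (V Q : Subgroup G) : Prop where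
  hp : p.Prime
  hq : q.Prime
  hpq : p ≠ q
  expV : ∀ v ∈ V, v ^ p = 1
  commQ : ∀ a ∈ Q, ∀ b ∈ Q, a * b = b * a
  expQ : ∀ a ∈ Q, a ^ q = 1
  fixQ : V ⊓ centralizer (Q : Set G) = ⊥

variable {p q : ℕ} {V Q : Subgroup G} [hVn : V.Normal] [IsMulCommutative V]

theorem HS.isPGroup_Q (h : HS p q V Q) : IsPGroup q Q := by
  intro a
  refine ⟨1, ?_⟩
  apply Subtype.ext
  rw [pow_one]
  simpa using h.expQ a a.2

theorem HS.isPGroup_V (h : HS p q V Q) : IsPGroup p V := by
  intro a
  refine ⟨1, ?_⟩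
  apply Subtype.ext
  rw [pow_one]
  simpa using h.expV a a.2

theorem HS.coprime_card (h : HS p q V Q) : (Nat.card V).Coprime q := by
  haveI : Fact p.Prime := ⟨h.hp⟩
  obtain ⟨n, hn⟩ := IsPGroup.iff_card.mp h.isPGroup_V
  rw [hn]
  exact Nat.Coprime.pow_left n ((Nat.coprime_primes h.hp h.hq).mpr h.hpq)

/-- the trace of `B` kills `C_V(B')` for a different hyperplane `B'` -/
theorem HS.tr_eq_one (h : HS p q V Q) {B B' : Subgroup G} (hB : IsHyp q Q B)
    (hB' : IsHyp q Q B') (hne : B ≠ B') (v : V) (hv : (v : G) ∈ centralizer (B' : Set G)) :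
    tr V B v = 1 := by
  set t := tr V B v with ht
  have h1 : (t : G) ∈ V ⊓ centralizer (B : Set G) := tr_mem_centralizer V B v
  have h2 : ∀ b' ∈ B', b' * (t : G) = t * b' := by
    intro b' hb'
    rw [← cj_eq_self_iff]
    have hc : ∀ b ∈ B, b' * b = b * b' := fun b hb => h.commQ b' (hB'.1 hb') b (hB.1 hb)
    rw [ht, cj_tr_comm V B hc v]
    congr 1
    rw [cj_eq_self_iff]
    exact Subgroup.mem_centralizer_iff.mp hv b' hb'
  have h3 : B ⊔ B' ≤ centralizer ({(t : G)} : Set G) := by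
    refine sup_le ?_ ?_
    · intro b hb
      rw [Subgroup.mem_centralizer_iff]
      intro y hy
      rw [Set.mem_singleton_iff] at hy
      rw [hy]
      exact (Subgroup.mem_centralizer_iff.mp h1.2 b hb).symm
    · intro b hb
      rw [Subgroup.mem_centralizer_iff]
      intro y hy
      rw [Set.mem_singleton_iff] at hy
      rw [hy]
      exact (h2 b hb).symm
  rw [IsHyp.sup_eq h.hq hB hB' hne] at h3
  have h4 : (t : G) ∈ V ⊓ centralizer (Q : Set G) := by
    refine Subgroup.mem_inf.mpr ⟨t.2, ?_⟩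
    rw [Subgroup.mem_centralizer_iff]
    intro a ha
    have := Subgroup.mem_centralizer_iff.mp (h3 ha) (t : G) (Set.mem_singleton _)
    exact this.symm
  rw [h.fixQ, Subgroup.mem_bot] at h4
  exact Subtype.ext h4

/-- the trace of `B` is injective on `C_V(B)` -/
theorem HS.eq_one_of_tr_eq_one (h : HS p q V Q) {B : Subgroup G} (hB : IsHyp q Q B) (v : V)
    (hv : (v : G) ∈ centralizer (B : Set G)) (ht : tr V B v = 1) : v = 1 := by
  haveI : Fact q.Prime := ⟨h.hq⟩
  rw [tr_of_mem_centralizer V B v hv] at ht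
  have hBq : IsPGroup q B := h.isPGroup_Q.to_le hB.1
  obtain ⟨k, hk⟩ := IsPGroup.iff_card.mp hBq
  have h1 : v ^ p = 1 := by
    apply Subtype.ext
    simpa using h.expV v v.2
  have h2 := pow_gcd_eq_one.mpr ⟨ht, h1⟩
  have h3 : (Nat.card B).gcd p = 1 := by
    rw [hk]
    exact Nat.Coprime.pow_left k ((Nat.coprime_primes h.hq h.hp).mpr h.hpq.symm)
  rwa [h3, pow_one] at h2

/-- **Independence** of the hyperplane centralizers. -/
theorem HS.eq_one_of_mem_iSup (h : HS p q V Q) {B : Subgroup G} (hB : IsHyp q Q B)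
    (S : Set (Subgroup G)) (hS : ∀ B' ∈ S, IsHyp q Q B') (hBS : B ∉ S) {u : G}
    (hu : u ∈ V ⊓ centralizer (B : Set G))
    (hu' : u ∈ ⨆ B' ∈ S, V ⊓ centralizer ((B' : Subgroup G) : Set G)) : u = 1 := by
  set K : Subgroup G := (tr V B).ker.map V.subtype with hK
  have hle : (⨆ B' ∈ S, V ⊓ centralizer ((B' : Subgroup G) : Set G)) ≤ K := by
    refine iSup₂_le ?_
    intro B' hB' w hw
    have hne : B ≠ B' := fun e => hBS (e ▸ hB')
    refine ⟨⟨w, hw.1⟩, ?_, rfl⟩
    rw [SetLike.mem_coe, MonoidHom.mem_ker]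
    exact h.tr_eq_one hB (hS B' hB') hne ⟨w, hw.1⟩ hw.2
  obtain ⟨w, hw, hwu⟩ := hle hu'
  have hwu' : (w : G) = u := hwu
  have h1 : w = 1 := by
    refine h.eq_one_of_tr_eq_one hB w ?_ hw
    rw [hwu']
    exact hu.2
  rw [← hwu', h1]
  rfl

/-- **Generation** by the hyperplane centralizers. -/
theorem HS.le_iSup_hyp (h : HS p q V Q) :
    V ≤ ⨆ B : {B : Subgroup G // IsHyp q Q B}, V ⊓ centralizer ((B : Subgroup G) : Set G) := by
  haveI : Fact q.Prime := ⟨h.hq⟩
  have hQV : Q ≤ normalizer (V : Set G) := by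
    rw [Subgroup.normalizer_eq_top_iff.mpr hVn]
    exact le_top
  have h1 := Cfsg.Agent.Lib.H7.le_hypGen q (A := Q) (X := V) h.commQ h.expQ h.coprime_card hQV
  refine h1.trans ?_
  unfold Cfsg.Agent.Lib.H7.hypGen
  refine iSup_le ?_
  rintro ⟨B, hBQ, hBi⟩
  -- the index is `1` or `q`
  have hd : B.relIndex Q ∣ Nat.card Q := Subgroup.relIndex_dvd_card B Q
  obtain ⟨n, hn⟩ := IsPGroup.iff_card.mp h.isPGroup_Q
  rw [hn] at hd
  obtain ⟨j, -, hj⟩ := (Nat.dvd_prime_pow h.hq).mp hd
  rcases Nat.eq_zero_or_pos j with h0 | h0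
  · -- `B = Q`
    rw [h0, pow_zero] at hj
    have hQB : Q ≤ B := Subgroup.relIndex_eq_one.mp hj
    have : V ⊓ centralizer (B : Set G) ≤ V ⊓ centralizer (Q : Set G) :=
      inf_le_inf_left _ (Subgroup.centralizer_le hQB)
    rw [h.fixQ] at this
    exact this.trans bot_le
  · have hq' : B.relIndex Q = q := by
      apply le_antisymm hBi
      rw [hj]
      calc q = q ^ 1 := (pow_one q).symm
        _ ≤ q ^ j := Nat.pow_le_pow_right h.hq.pos h0
    exact le_iSup (fun B : {B : Subgroup G // IsHyp q Q B} =>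
      V ⊓ centralizer ((B : Subgroup G) : Set G)) ⟨B, hBQ, hq'⟩

/-- an element of `Q` lying in all hyperplanes with nontrivial centralizer in `V` centralizes
`V` -/
theorem HS.mem_centralizer_of_forall (h : HS p q V Q) {a : G}
    (ha : ∀ B : Subgroup G, IsHyp q Q B → V ⊓ centralizer (B : Set G) ≠ ⊥ → a ∈ B) :
    a ∈ centralizer (V : Set G) := by
  have h1 : V ≤ centralizer ({a} : Set G) := by
    refine h.le_iSup_hyp.trans (iSup_le ?_)
    rintro ⟨B, hB⟩
    by_cases hne : V ⊓ centralizer (B : Set G) = ⊥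
    · rw [hne]; exact bot_le
    · intro v hv
      rw [Subgroup.mem_centralizer_iff]
      intro y hy
      rw [Set.mem_singleton_iff] at hy
      rw [hy]
      exact Subgroup.mem_centralizer_iff.mp hv.2 a (ha B hB hne)
  rw [Subgroup.mem_centralizer_iff]
  intro v hv
  exact (Subgroup.mem_centralizer_iff.mp (h1 hv) a (Set.mem_singleton a)).symm

end Cfsg.Agent.Lib.H10.BG36
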