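import Mathlib
import Cfsg.Agent.Lib.H10.BG36c

/-!
# The action of an element of prime order on the hyperplane decomposition (helper10)
-/

set_option autoImplicit false
set_option linter.unusedSectionVars false
set_option linter.style.haveILetI false

namespace Cfsg.Agent.Lib.H10.BG36

open Subgroup
open scoped Pointwise IsMulCommutative

variable {G : Type*} [Group G] [Finite G]

variable {p q : ℕ} {V Q : Subgroup G} [hVn : V.Normal] [IsMulCommutative V]

omit [Finite G] [IsMulCommutative V] in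
/-- conjugation moves `C_V(B)` to `C_V(gBg⁻¹)` -/
theorem conj_mem_inf_centralizer {B : Subgroup G} {u : G} (g : G)
    (hu : u ∈ V ⊓ centralizer (B : Set G)) :
    g * u * g⁻¹ ∈ V ⊓ centralizer ((MulAut.conj g • B : Subgroup G) : Set G) := by
  refine Subgroup.mem_inf.mpr ⟨hVn.conj_mem u hu.1 g, ?_⟩
  rw [Subgroup.mem_centralizer_iff]
  intro b hb
  rw [SetLike.mem_coe, Subgroup.mem_pointwise_smul_iff_inv_smul_mem] at hb
  have hb' : g⁻¹ * b * g ∈ B := by
    have : (MulAut.conj g)⁻¹ • b = g⁻¹ * b * g := by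
      rw [← map_inv, MulAut.smul_def, MulAut.conj_apply, inv_inv]
    rwa [this] at hb
  have h1 := Subgroup.mem_centralizer_iff.mp hu.2 _ hb'
  calc b * (g * u * g⁻¹) = g * ((g⁻¹ * b * g) * u) * g⁻¹ := by group
    _ = g * (u * (g⁻¹ * b * g)) * g⁻¹ := by rw [h1]
    _ = g * u * g⁻¹ * b := by group

omit [Finite G] [IsMulCommutative V] in
theorem inf_centralizer_conj_ne_bot {B : Subgroup G} (g : G)
    (h : V ⊓ centralizer (B : Set G) ≠ ⊥) :
    V ⊓ centralizer ((MulAut.conj g • B : Subgroup G) : Set G) ≠ ⊥ := by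
  obtain ⟨u, hu1⟩ := (Subgroup.ne_bot_iff_exists_ne_one.mp h)
  have hu' : (u : G) ∈ V ⊓ centralizer (B : Set G) := u.2
  intro hbot
  have h1 := conj_mem_inf_centralizer (V := V) g hu'
  rw [hbot, Subgroup.mem_bot] at h1
  apply hu1
  apply Subtype.ext
  have : (u : G) = g⁻¹ * (g * u * g⁻¹) * g := by group
  rw [this, h1]
  simp

/-- the norm map of `⟨x⟩` (with `x ^ r = 1`) on `V` -/
noncomputable def nm (V : Subgroup G) [V.Normal] [IsMulCommutative V] (x : G) (r : ℕ) : ↥V →* ↥V :=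
  ∏ i ∈ Finset.range r, cj V (x ^ i)

omit [Finite G] in
theorem nm_apply (x : G) (r : ℕ) (v : V) : nm V x r v = ∏ i ∈ Finset.range r, cj V (x ^ i) v := by
  unfold nm
  rw [MonoidHom.finsetProd_apply]

omit [Finite G] in
theorem cj_nm {x : G} {r : ℕ} (hxr : x ^ r = 1) (v : V) : cj V x (nm V x r v) = nm V x r v := by
  rw [nm_apply, map_prod]
  have h1 : ∀ i, cj V x (cj V (x ^ i) v) = cj V (x ^ (i + 1)) v := by
    intro i
    rw [← cj_mul, ← pow_succ']
  simp only [h1]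
  have h2 := Finset.prod_range_succ' (fun i => cj V (x ^ i) v) r
  have h3 := Finset.prod_range_succ (fun i => cj V (x ^ i) v) r
  rw [h3, hxr, pow_zero] at h2
  exact (mul_right_cancel h2).symm

omit [Finite G] in
theorem nm_mem {x : G} {r : ℕ} (hxr : x ^ r = 1) (v : V) :
    ((nm V x r v : V) : G) ∈ V ⊓ centralizer ({x} : Set G) := by
  refine Subgroup.mem_inf.mpr ⟨(nm V x r v).2, ?_⟩
  rw [Subgroup.mem_centralizer_iff]
  intro y hy
  rw [Set.mem_singleton_iff] at hy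
  rw [hy]
  exact (cj_eq_self_iff V x _).mp (cj_nm hxr v)

omit [Finite G] in
theorem nm_eq_mul {x : G} {r : ℕ} (hr : 0 < r) (v : V) :
    nm V x r v = v * ∏ i ∈ Finset.Ico 1 r, cj V (x ^ i) v := by
  rw [nm_apply, Finset.range_eq_Ico, Finset.prod_eq_prod_Ico_succ_bot hr, pow_zero, cj_one]

/-- powers of `x` not in the normalizer -/
theorem pow_notMem_normalizer {x : G} {r : ℕ} (hr : r.Prime) (hxr : x ^ r = 1) {B : Subgroup G}
    (hx : x ∉ normalizer (B : Set G)) {i : ℕ} (hi0 : 0 < i) (hir : i < r) :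
    x ^ i ∉ normalizer (B : Set G) := by
  intro h
  apply hx
  have hcop : Nat.Coprime i r := by
    rw [Nat.coprime_comm, Nat.Prime.coprime_iff_not_dvd hr]
    intro hd
    exact absurd (Nat.le_of_dvd hi0 hd) (not_le.mpr hir)
  obtain ⟨k, -, hk⟩ := Nat.exists_mul_mod_eq_one_of_coprime hcop hr.one_lt
  have h1 : (x ^ i) ^ k = x := by
    rw [← pow_mul]
    have : x ^ (i * k) = x ^ (i * k % r) := by
      conv_lhs => rw [← Nat.div_add_mod (i * k) r, pow_add, pow_mul, hxr, one_pow, one_mul]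
    rw [this, hk, pow_one]
  rw [← h1]
  exact Subgroup.pow_mem _ h k

theorem conj_pow_ne {x : G} {r : ℕ} (hr : r.Prime) (hxr : x ^ r = 1) {B : Subgroup G}
    (hx : x ∉ normalizer (B : Set G)) {i : ℕ} (hi0 : 0 < i) (hir : i < r) :
    MulAut.conj (x ^ i) • B ≠ B := by
  intro h
  exact pow_notMem_normalizer hr hxr hx hi0 hir
    (Cfsg.Agent.Lib.H1.conj_smul_eq_self_iff_mem_normalizer.mp h)

section Main

variable (h : HS p q V Q) {x : G} {r : ℕ} (hr : r.Prime) (hxr : x ^ r = 1)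
  (hxQ : x ∈ normalizer (Q : Set G))

include h hr hxr hxQ

theorem isHyp_conj_pow {B : Subgroup G} (hB : IsHyp q Q B) (i : ℕ) :
    IsHyp q Q (MulAut.conj (x ^ i) • B) :=
  hB.conj (Subgroup.pow_mem _ hxQ i)

/-- the tail of the norm lies in the span of the other conjugates -/
theorem tail_mem {B : Subgroup G} (u : V) (hu : (u : G) ∈ centralizer (B : Set G)) :
    ((∏ i ∈ Finset.Ico 1 r, cj V (x ^ i) u : V) : G) ∈
      ⨆ B' ∈ {B' : Subgroup G | ∃ i, 0 < i ∧ i < r ∧ B' = MulAut.conj (x ^ i) • B},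
        V ⊓ centralizer ((B' : Subgroup G) : Set G) := by
  refine Finset.prod_induction (fun i => cj V (x ^ i) u) (fun v : V => (v : G) ∈
      ⨆ B' ∈ {B' : Subgroup G | ∃ i, 0 < i ∧ i < r ∧ B' = MulAut.conj (x ^ i) • B},
        V ⊓ centralizer ((B' : Subgroup G) : Set G)) ?_ ?_ ?_
  · intro a b ha hb
    exact Subgroup.mul_mem _ ha hb
  · exact Subgroup.one_mem _
  intro i hi
  rw [Finset.mem_Ico] at hi
  have h1 : ((cj V (x ^ i) u : V) : G) ∈
      V ⊓ centralizer ((MulAut.conj (x ^ i) • B : Subgroup G) : Set G) :=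
    conj_mem_inf_centralizer (x ^ i) (Subgroup.mem_inf.mpr ⟨u.2, hu⟩)
  exact Subgroup.mem_iSup_of_mem (MulAut.conj (x ^ i) • B)
    (Subgroup.mem_iSup_of_mem ⟨i, hi.1, hi.2, rfl⟩ h1)

/-- **F1**: the norm map is injective on `C_V(B)` when `x` moves `B`. -/
theorem eq_one_of_nm_eq_one {B : Subgroup G} (hB : IsHyp q Q B)
    (hx : x ∉ normalizer (B : Set G)) (u : V) (hu : (u : G) ∈ centralizer (B : Set G))
    (hn : nm V x r u = 1) : u = 1 := by
  rw [nm_eq_mul hr.pos] at hn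
  have h1 : u = (∏ i ∈ Finset.Ico 1 r, cj V (x ^ i) u)⁻¹ := eq_inv_of_mul_eq_one_left hn
  have h2 := tail_mem h hr hxr hxQ u hu
  have h3 : (u : G) ∈ ⨆ B' ∈ {B' : Subgroup G | ∃ i, 0 < i ∧ i < r ∧ B' = MulAut.conj (x ^ i) • B},
        V ⊓ centralizer ((B' : Subgroup G) : Set G) := by
    have h4 := Subgroup.inv_mem _ h2
    have h5 : (u : G) = ((∏ i ∈ Finset.Ico 1 r, cj V (x ^ i) u : V) : G)⁻¹ := by
      conv_lhs => rw [h1]
      rfl
    rw [h5]
    exact h4
  have h6 : (u : G) = 1 := by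
    refine h.eq_one_of_mem_iSup hB _ ?_ ?_ (Subgroup.mem_inf.mpr ⟨u.2, hu⟩) h3
    · rintro B' ⟨i, -, -, rfl⟩
      exact isHyp_conj_pow h hr hxr hxQ hB i
    · rintro ⟨i, hi0, hir, hi⟩
      exact conj_pow_ne hr hxr hx hi0 hir hi.symm
  exact Subtype.ext h6

/-- **F2a**: the trace of a hyperplane outside the orbit kills the norm -/
theorem tr_nm_eq_one {B B₁ : Subgroup G} (hB : IsHyp q Q B) (hB₁ : IsHyp q Q B₁)
    (hne : ∀ i : ℕ, MulAut.conj (x ^ i) • B ≠ B₁) (u : V)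
    (hu : (u : G) ∈ centralizer (B : Set G)) : tr V B₁ (nm V x r u) = 1 := by
  rw [nm_apply, map_prod]
  apply Finset.prod_eq_one
  intro i _
  have h1 : ((cj V (x ^ i) u : V) : G) ∈
      V ⊓ centralizer ((MulAut.conj (x ^ i) • B : Subgroup G) : Set G) :=
    conj_mem_inf_centralizer (x ^ i) (Subgroup.mem_inf.mpr ⟨u.2, hu⟩)
  exact h.tr_eq_one hB₁ (isHyp_conj_pow h hr hxr hxQ hB i) (hne i).symm _ h1.2

/-- **F2b**: the trace of `B` on the norm of `u ∈ C_V(B)` -/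
theorem tr_nm_self {B : Subgroup G} (hB : IsHyp q Q B)
    (hx : x ∉ normalizer (B : Set G)) (u : V) (hu : (u : G) ∈ centralizer (B : Set G)) :
    tr V B (nm V x r u) = u ^ Nat.card B := by
  rw [nm_eq_mul hr.pos, map_mul, tr_of_mem_centralizer V B u hu, map_prod]
  have : ∏ i ∈ Finset.Ico 1 r, tr V B (cj V (x ^ i) u) = 1 := by
    apply Finset.prod_eq_one
    intro i hi
    rw [Finset.mem_Ico] at hi
    have h1 : ((cj V (x ^ i) u : V) : G) ∈
        V ⊓ centralizer ((MulAut.conj (x ^ i) • B : Subgroup G) : Set G) :=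
      conj_mem_inf_centralizer (x ^ i) (Subgroup.mem_inf.mpr ⟨u.2, hu⟩)
    exact h.tr_eq_one hB (isHyp_conj_pow h hr hxr hxQ hB i)
      (conj_pow_ne hr hxr hx hi.1 hi.2).symm _ h1.2
  rw [this, mul_one]

/-- **F3**: `|C_V(B)| ≤ |C_V(x)|` when `x` moves `B`. -/
theorem card_le_of_notMem_normalizer {B : Subgroup G} (hB : IsHyp q Q B)
    (hx : x ∉ normalizer (B : Set G)) :
    Nat.card ↥(V ⊓ centralizer (B : Set G)) ≤ Nat.card ↥(V ⊓ centralizer ({x} : Set G)) := by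
  let f : ↥(V ⊓ centralizer (B : Set G)) → ↥(V ⊓ centralizer ({x} : Set G)) := fun u =>
    ⟨(nm V x r ⟨u, u.2.1⟩ : V), nm_mem hxr _⟩
  apply Nat.card_le_card_of_injective f
  intro u u' huu'
  have h1 : nm V x r ⟨u, u.2.1⟩ = nm V x r ⟨u', u'.2.1⟩ := by
    apply Subtype.ext
    have h0 := congrArg (fun z : ↥(V ⊓ centralizer ({x} : Set G)) => (z : G)) huu'
    exact h0
  have h2 : nm V x r (⟨u, u.2.1⟩ * (⟨u', u'.2.1⟩ : V)⁻¹) = 1 := by
    rw [map_mul, map_inv, h1, mul_inv_cancel]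
  have h3 : ((⟨u, u.2.1⟩ * (⟨u', u'.2.1⟩ : V)⁻¹ : V) : G) ∈ centralizer (B : Set G) := by
    show (u : G) * (u' : G)⁻¹ ∈ centralizer (B : Set G)
    exact Subgroup.mul_mem _ u.2.2 (Subgroup.inv_mem _ u'.2.2)
  have h4 := eq_one_of_nm_eq_one h hr hxr hxQ hB hx _ h3 h2
  have h5 : (u : G) * (u' : G)⁻¹ = 1 := congrArg Subtype.val h4
  apply Subtype.ext
  exact mul_inv_eq_one.mp h5

/-- **F4**: two hyperplanes moved by `x`, with nontrivial centralizers in `V`, are conjugate under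
`⟨x⟩` when `|C_V(x)| ≤ p`. -/
theorem exists_conj_pow_eq {B B' : Subgroup G} (hB : IsHyp q Q B) (hB' : IsHyp q Q B')
    (hx : x ∉ normalizer (B : Set G)) (hx' : x ∉ normalizer (B' : Set G))
    (hVB : V ⊓ centralizer (B : Set G) ≠ ⊥) (hVB' : V ⊓ centralizer (B' : Set G) ≠ ⊥)
    (hfix : Nat.card ↥(V ⊓ centralizer ({x} : Set G)) ≤ p) :
    ∃ i : ℕ, MulAut.conj (x ^ i) • B' = B := by
  haveI : Fact p.Prime := ⟨h.hp⟩
  by_contra hcon
  have hne : ∀ i : ℕ, MulAut.conj (x ^ i) • B' ≠ B := fun i hi => hcon ⟨i, hi⟩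
  obtain ⟨u, hu1⟩ := Subgroup.ne_bot_iff_exists_ne_one.mp hVB
  obtain ⟨u', hu1'⟩ := Subgroup.ne_bot_iff_exists_ne_one.mp hVB'
  have huV : (u : G) ∈ V := u.2.1
  have huV' : (u' : G) ∈ V := u'.2.1
  set n : V := nm V x r ⟨u, huV⟩ with hn
  set n' : V := nm V x r ⟨u', huV'⟩ with hn'
  have hn1 : n ≠ 1 := by
    intro e
    have := eq_one_of_nm_eq_one h hr hxr hxQ hB hx ⟨u, huV⟩ u.2.2 e
    apply hu1
    apply Subtype.ext
    exact congrArg (fun z : V => (z : G)) this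
  have hn1' : n' ≠ 1 := by
    intro e
    have := eq_one_of_nm_eq_one h hr hxr hxQ hB' hx' ⟨u', huV'⟩ u'.2.2 e
    apply hu1'
    apply Subtype.ext
    exact congrArg (fun z : V => (z : G)) this
  set C : Subgroup G := V ⊓ centralizer ({x} : Set G) with hC
  have hnC : (n : G) ∈ C := nm_mem hxr _
  have hnC' : (n' : G) ∈ C := nm_mem hxr _
  -- `C` has order `p`
  have hord : orderOf (n : G) = p := by
    apply orderOf_eq_prime
    · exact h.expV _ n.2
    · intro e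
      exact hn1 (Subtype.ext e)
  have hzle : zpowers (n : G) ≤ C := Subgroup.zpowers_le.mpr hnC
  have hzcard : Nat.card (zpowers (n : G)) = p := by rw [Nat.card_zpowers, hord]
  have hCcard : Nat.card C = p :=
    le_antisymm hfix (hzcard ▸ Subgroup.card_le_of_le hzle)
  -- the kernel of the trace of `B` inside `C`
  set D : Subgroup G := C ⊓ (tr V B).ker.map V.subtype with hD
  have hn'D : (n' : G) ∈ D := by
    refine Subgroup.mem_inf.mpr ⟨hnC', n', ?_, rfl⟩
    rw [SetLike.mem_coe, MonoidHom.mem_ker]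
    exact tr_nm_eq_one h hr hxr hxQ hB' hB hne ⟨u', huV'⟩ u'.2.2
  have hnD : (n : G) ∉ D := by
    intro hmem
    obtain ⟨w, hw, hwn⟩ := hmem.2
    have hwn' : w = n := Subtype.ext hwn
    rw [SetLike.mem_coe, MonoidHom.mem_ker, hwn', hn,
      tr_nm_self h hr hxr hxQ hB hx ⟨u, huV⟩ u.2.2] at hw
    -- `u ^ |B| = 1` forces `u = 1`
    have hut : tr V B ⟨u, huV⟩ = 1 := by
      rw [tr_of_mem_centralizer V B ⟨u, huV⟩ u.2.2]
      exact hw
    have := h.eq_one_of_tr_eq_one hB ⟨u, huV⟩ u.2.2 hut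
    apply hu1
    apply Subtype.ext
    exact congrArg (fun z : V => (z : G)) this
  have hDC : D ≤ C := inf_le_left
  have hDdvd : Nat.card D ∣ p := hCcard ▸ Subgroup.card_dvd_of_le hDC
  rcases (Nat.dvd_prime h.hp).mp hDdvd with h1 | h1
  · have hDbot : D = ⊥ := Subgroup.card_eq_one.mp h1
    rw [hDbot, Subgroup.mem_bot] at hn'D
    exact hn1' (Subtype.ext hn'D)
  · have hDC' : D = C := Subgroup.eq_of_le_of_card_ge hDC (by rw [h1, hCcard])
    exact hnD (hDC' ▸ hnC)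

end Main

end Cfsg.Agent.Lib.H10.BG36
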