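import Mathlib
import Cfsg.Agent.Lib.H10.BG36d
import Cfsg.Agent.Lib.H1.FpfAction
import Cfsg.Agent.Lib.H1.CoprimeAbelian

/-!
# The orbit counting theorem (helper10)

`B7.false`: the final configuration in the proof of B&G Theorem 3.6 (elementary abelian `Q`) is
impossible.
-/

set_option autoImplicit false
set_option linter.unusedSectionVars false
set_option linter.style.haveILetI false

namespace Cfsg.Agent.Lib.H10.BG36

open Subgroup
open scoped Pointwise IsMulCommutative commutatorElement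

variable {G : Type*} [Group G]

theorem conj_mem_of_mem_normalizer {C : Subgroup G} {g c : G}
    (hg : g ∈ normalizer (C : Set G)) (hc : c ∈ C) : g * c * g⁻¹ ∈ C :=
  (Subgroup.mem_normalizer_iff.mp hg c).mp hc

theorem conj_mem_of_mem_normalizer' {C : Subgroup G} {g c : G}
    (hg : g ∈ normalizer (C : Set G)) (hc : c ∈ C) : g⁻¹ * c * g ∈ C := by
  have := conj_mem_of_mem_normalizer (Subgroup.inv_mem _ hg) hc
  simpa using this

theorem mem_normalizer_centralizer {A : Subgroup G} {x : G} (hx : x ∈ normalizer (A : Set G)) :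
    x ∈ normalizer ((centralizer (A : Set G) : Subgroup G) : Set G) := by
  rw [Subgroup.mem_normalizer_iff]
  intro c
  constructor
  · intro hc
    rw [Subgroup.mem_centralizer_iff] at hc ⊢
    intro a ha
    have ha' : x⁻¹ * a * x ∈ A := conj_mem_of_mem_normalizer' hx ha
    have h1 := hc _ ha'
    calc a * (x * c * x⁻¹) = x * ((x⁻¹ * a * x) * c) * x⁻¹ := by group
      _ = x * (c * (x⁻¹ * a * x)) * x⁻¹ := by rw [h1]
      _ = x * c * x⁻¹ * a := by group
  · intro hc
    rw [Subgroup.mem_centralizer_iff] at hc ⊢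
    intro a ha
    have ha' : x * a * x⁻¹ ∈ A := conj_mem_of_mem_normalizer hx ha
    have h1 := hc _ ha'
    have h2 : x * (a * c) * x⁻¹ = x * (c * a) * x⁻¹ := by
      calc x * (a * c) * x⁻¹ = (x * a * x⁻¹) * (x * c * x⁻¹) := by group
        _ = (x * c * x⁻¹) * (x * a * x⁻¹) := h1
        _ = x * (c * a) * x⁻¹ := by group
    exact mul_left_cancel (mul_right_cancel h2)

theorem mem_normalizer_conj_smul {g y : G} {B : Subgroup G}
    (h : y⁻¹ * g * y ∈ normalizer (B : Set G)) : g ∈ normalizer ((MulAut.conj y • B : Subgroup G) : Set G) := by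
  rw [← Cfsg.Agent.Lib.H1.conj_smul_eq_self_iff_mem_normalizer] at h ⊢
  have h1 : MulAut.conj g • MulAut.conj y • B = MulAut.conj y • MulAut.conj (y⁻¹ * g * y) • B := by
    rw [Cfsg.Agent.Lib.H1.conj_smul_conj_smul, Cfsg.Agent.Lib.H1.conj_smul_conj_smul]
    congr 2
    group
  rw [h1, h]

/-- elements normalizing a cyclic subgroup have a commutator centralizing it -/
theorem commutator_mem_centralizer_of_isCyclic {C : Subgroup G} [hC : IsCyclic C] {a b : G}
    (ha : a ∈ normalizer (C : Set G)) (hb : b ∈ normalizer (C : Set G)) :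
    ⁅a, b⁆ ∈ centralizer (C : Set G) := by
  set N : Subgroup G := normalizer (C : Set G) with hN
  let σa : C →* C := Cfsg.Agent.Lib.H1.conjHomOfNormalizer (A := N) (V := C) le_rfl ⟨a, ha⟩
  let σb : C →* C := Cfsg.Agent.Lib.H1.conjHomOfNormalizer (A := N) (V := C) le_rfl ⟨b, hb⟩
  obtain ⟨m, hm⟩ := MonoidHom.map_cyclic σa
  obtain ⟨n, hn⟩ := MonoidHom.map_cyclic σb
  have key : ∀ c ∈ C, a * b * c * b⁻¹ * a⁻¹ = b * a * c * a⁻¹ * b⁻¹ := by
    intro c hc
    have h1 : σa (σb ⟨c, hc⟩) = σb (σa ⟨c, hc⟩) := by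
      rw [hn, hm, hm, hn, ← zpow_mul, ← zpow_mul, mul_comm]
    have h2 := congrArg (fun z : C => (z : G)) h1
    simp only [σa, σb, Cfsg.Agent.Lib.H1.conjHomOfNormalizer_apply] at h2
    calc a * b * c * b⁻¹ * a⁻¹ = a * (b * c * b⁻¹) * a⁻¹ := by group
      _ = b * (a * c * a⁻¹) * b⁻¹ := h2
      _ = b * a * c * a⁻¹ * b⁻¹ := by group
  rw [Subgroup.mem_centralizer_iff]
  intro c hc
  have hd : a⁻¹ * b⁻¹ * c * b * a ∈ C := by
    have h1 : b⁻¹ * c * b ∈ C := conj_mem_of_mem_normalizer' hb hc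
    have h2 := conj_mem_of_mem_normalizer' ha h1
    have : a⁻¹ * b⁻¹ * c * b * a = a⁻¹ * (b⁻¹ * c * b) * a := by group
    rw [this]; exact h2
  have h := key _ hd
  symm
  calc ⁅a, b⁆ * c = (a * b * (a⁻¹ * b⁻¹ * c * b * a) * b⁻¹ * a⁻¹) * ⁅a, b⁆ := by
        rw [commutatorElement_def]; group
    _ = (b * a * (a⁻¹ * b⁻¹ * c * b * a) * a⁻¹ * b⁻¹) * ⁅a, b⁆ := by rw [h]
    _ = c * ⁅a, b⁆ := by group

variable [Finite G]

/-- a fixed-point-free element of prime order `r`: `|P| ≡ 1 (mod r)` -/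
theorem card_modEq_one_of_fpf {P : Subgroup G} {x : G} {r : ℕ} (hr : r.Prime) (hxr : x ^ r = 1)
    (hxP : x ∈ normalizer (P : Set G)) (hfpf : ∀ g ∈ P, x * g = g * x → g = 1) :
    Nat.card P ≡ 1 [MOD r] := by
  haveI : Fact r.Prime := ⟨hr⟩
  set S := Subgroup.zpowers x with hS
  have hSP : S ≤ normalizer (P : Set G) := by
    rw [hS, Subgroup.zpowers_le]; exact hxP
  have hSr : IsPGroup r S := by
    intro s
    refine ⟨1, ?_⟩
    obtain ⟨k, hk⟩ := Subgroup.mem_zpowers_iff.mp s.2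
    apply Subtype.ext
    rw [pow_one, Subgroup.coe_pow, ← hk, Subgroup.coe_one, ← zpow_natCast, ← zpow_mul, mul_comm,
      zpow_mul, zpow_natCast, hxr, one_zpow]
  letI : MulAction S P := MulAction.compHom P (Cfsg.Agent.Lib.H1.conjAutHom hSP)
  have h1 := hSr.card_modEq_card_fixedPoints P
  have h2 : Nat.card (MulAction.fixedPoints S P) = 1 := by
    rw [Nat.card_eq_one_iff_unique]
    have hone : (1 : P) ∈ MulAction.fixedPoints S P := by
      intro s
      show Cfsg.Agent.Lib.H1.conjAutHom hSP s 1 = 1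
      exact map_one _
    have hall : ∀ b ∈ MulAction.fixedPoints S P, b = 1 := by
      intro b hb
      have hbx := hb ⟨x, Subgroup.mem_zpowers x⟩
      have hbx' : Cfsg.Agent.Lib.H1.conjAutHom hSP ⟨x, Subgroup.mem_zpowers x⟩ b = b := hbx
      have h2 := congrArg Subtype.val hbx'
      rw [Cfsg.Agent.Lib.H1.conjAutHom_apply] at h2
      simp only at h2
      apply Subtype.ext
      apply hfpf _ b.2
      calc x * (b : G) = (x * b * x⁻¹) * x := by group
        _ = b * x := by rw [h2]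
    refine ⟨⟨?_⟩, ⟨⟨1, hone⟩⟩⟩
    rintro ⟨b, hb⟩ ⟨b', hb'⟩
    apply Subtype.ext
    show b = b'
    rw [hall b hb, hall b' hb']
  rwa [h2] at h1

section Hyp

variable {q : ℕ} {Q : Subgroup G}

theorem IsHyp.eq_or_eq (hq : q.Prime) {B K : Subgroup G} (hB : IsHyp q Q B) (hBK : B ≤ K)
    (hKQ : K ≤ Q) : K = B ∨ K = Q := by
  have h1 := Subgroup.relIndex_mul_relIndex B K Q hBK hKQ
  rw [hB.2] at h1
  have h2 : B.relIndex K ∣ q := Dvd.intro _ h1
  rcases (Nat.dvd_prime hq).mp h2 with h3 | h3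
  · left
    exact le_antisymm (Subgroup.relIndex_eq_one.mp h3) hBK
  · right
    rw [h3] at h1
    have h4 : K.relIndex Q = 1 := by
      have : q * K.relIndex Q = q * 1 := by rw [h1, mul_one]
      exact Nat.eq_of_mul_eq_mul_left hq.pos this
    exact le_antisymm hKQ (Subgroup.relIndex_eq_one.mp h4)

end Hyp

/-- the final configuration -/
structure B7 (p q r : ℕ) (V Q P : Subgroup G) (x : G) [V.Normal] [IsMulCommutative V] : Prop where
  hs : HS p q V Q
  hr : r.Prime
  hp2 : p ≠ 2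
  hr2 : r ≠ 2
  hrp : r ≠ p
  hxr : x ^ r = 1
  hxQ : x ∈ normalizer (Q : Set G)
  hxP : x ∈ normalizer (P : Set G)
  hPQ : P ≤ normalizer (Q : Set G)
  hPp : IsPGroup p P
  hP1 : P ≠ ⊥
  fpf : ∀ g ∈ P, x * g = g * x → g = 1
  minP : ∀ P₁ : Subgroup G, P₁ ≤ P → x ∈ normalizer (P₁ : Set G) → P₁ = ⊥ ∨ P₁ = P
  minQ : ∀ Q₁ : Subgroup G, Q₁ ≤ Q → P ≤ normalizer (Q₁ : Set G) →
    x ∈ normalizer (Q₁ : Set G) → Q₁ = ⊥ ∨ Q₁ = Q
  hPQc : ¬ P ≤ centralizer (Q : Set G)
  hQV : Q ⊓ centralizer (V : Set G) = ⊥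
  hfix : Nat.card ↥(V ⊓ centralizer ({x} : Set G)) ≤ p

namespace B7

variable {p q r : ℕ} {V Q P : Subgroup G} {x : G} [hVn : V.Normal] [IsMulCommutative V]

/-- the intersection of the relevant hyperplanes is trivial -/
theorem eq_one_of_forall (h : B7 p q r V Q P x) {a : G} (haQ : a ∈ Q)
    (ha : ∀ B : Subgroup G, IsHyp q Q B → V ⊓ centralizer (B : Set G) ≠ ⊥ → a ∈ B) : a = 1 := by
  have h1 := h.hs.mem_centralizer_of_forall ha
  have h2 : a ∈ Q ⊓ centralizer (V : Set G) := ⟨haQ, h1⟩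
  rw [h.hQV, Subgroup.mem_bot] at h2
  exact h2

/-- an `x`-invariant hyperplane has trivial normalizer in `P` -/
theorem inf_normalizer_eq_bot (h : B7 p q r V Q P x) {B : Subgroup G} (hB : IsHyp q Q B)
    (hxB : x ∈ normalizer (B : Set G)) : P ⊓ normalizer (B : Set G) = ⊥ := by
  have hx1 : x ∈ normalizer ((P ⊓ normalizer (B : Set G) : Subgroup G) : Set G) :=
    Subgroup.inf_normalizer_le_normalizer_inf ⟨h.hxP, Subgroup.le_normalizer hxB⟩
  rcases h.minP _ inf_le_left hx1 with h1 | h1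
  · exact h1
  exfalso
  have hPB : P ≤ normalizer (B : Set G) := inf_eq_left.mp h1
  rcases h.minQ B hB.1 hPB hxB with h2 | h2
  · have hcard : Nat.card Q = q := by
      have := hB.2
      rw [h2, Subgroup.relIndex_bot_left] at this
      exact this
    haveI : Fact q.Prime := ⟨h.hs.hq⟩
    haveI : IsCyclic Q := isCyclic_of_prime_card hcard
    have hx2 : x ∈ normalizer ((P ⊓ centralizer (Q : Set G) : Subgroup G) : Set G) :=
      Subgroup.inf_normalizer_le_normalizer_inf ⟨h.hxP, mem_normalizer_centralizer h.hxQ⟩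
    rcases h.minP _ inf_le_left hx2 with h3 | h3
    · apply h.hP1
      rw [eq_bot_iff]
      intro g hg
      rw [Subgroup.mem_bot]
      apply h.fpf g hg
      have hc : ⁅g, x⁆ ∈ P ⊓ centralizer (Q : Set G) := by
        refine ⟨?_, commutator_mem_centralizer_of_isCyclic (h.hPQ hg) h.hxQ⟩
        rw [commutatorElement_def]
        have h4 : x * g⁻¹ * x⁻¹ ∈ P := conj_mem_of_mem_normalizer h.hxP (Subgroup.inv_mem _ hg)
        have : g * x * g⁻¹ * x⁻¹ = g * (x * g⁻¹ * x⁻¹) := by group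
        rw [this]
        exact Subgroup.mul_mem _ hg h4
      rw [h3, Subgroup.mem_bot] at hc
      exact (commutatorElement_eq_one_iff_commute.mp hc).eq.symm
    · exact h.hPQc (inf_eq_left.mp h3)
  · exact hB.ne_self h.hs.hq h2

theorem odd_card_P (h : B7 p q r V Q P x) : Odd (Nat.card P) := by
  haveI : Fact p.Prime := ⟨h.hs.hp⟩
  obtain ⟨k, hk⟩ := IsPGroup.iff_card.mp h.hPp
  rw [hk]
  exact Odd.pow (h.hs.hp.eq_two_or_odd'.resolve_left h.hp2)

theorem one_lt_card_P (h : B7 p q r V Q P x) : 1 < Nat.card P := by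
  rw [Subgroup.one_lt_card_iff_ne_bot]
  exact h.hP1

/-- Case 1: some relevant hyperplane is `x`-invariant. -/
theorem case1 (h : B7 p q r V Q P x) {B₀ : Subgroup G} (hB₀ : IsHyp q Q B₀)
    (hVB₀ : V ⊓ centralizer (B₀ : Set G) ≠ ⊥) (hxB₀ : x ∈ normalizer (B₀ : Set G)) : False := by
  classical
  have hPN := h.inf_normalizer_eq_bot hB₀ hxB₀
  -- nontrivial elements of `P` move `B₀` to a hyperplane not fixed by `x`
  have hmove : ∀ g ∈ P, g ≠ 1 → x ∉ normalizer ((MulAut.conj g • B₀ : Subgroup G) : Set G) := by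
    intro g hg hg1 hx
    apply hg1
    apply h.fpf g hg
    have e1 : MulAut.conj x • (MulAut.conj g • B₀) = MulAut.conj g • B₀ :=
      Cfsg.Agent.Lib.H1.conj_smul_eq_self_iff_mem_normalizer.mpr hx
    have e2 : MulAut.conj (g⁻¹ * x * g) • B₀ = B₀ := by
      rw [← Cfsg.Agent.Lib.H1.conj_smul_conj_smul, ← Cfsg.Agent.Lib.H1.conj_smul_conj_smul, e1,
        Cfsg.Agent.Lib.H1.conj_smul_conj_smul, inv_mul_cancel, map_one, one_smul]
    have h1 : g⁻¹ * x * g ∈ normalizer (B₀ : Set G) :=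
      Cfsg.Agent.Lib.H1.conj_smul_eq_self_iff_mem_normalizer.mp e2
    have h2 : x⁻¹ * (g⁻¹ * x * g) ∈ normalizer (B₀ : Set G) :=
      Subgroup.mul_mem _ (Subgroup.inv_mem _ hxB₀) h1
    have h3 : x⁻¹ * (g⁻¹ * x * g) ∈ P := by
      have h4 : x⁻¹ * g⁻¹ * x ∈ P := conj_mem_of_mem_normalizer' h.hxP (Subgroup.inv_mem _ hg)
      have : x⁻¹ * (g⁻¹ * x * g) = (x⁻¹ * g⁻¹ * x) * g := by group
      rw [this]
      exact Subgroup.mul_mem _ h4 hg
    have h5 : x⁻¹ * (g⁻¹ * x * g) ∈ P ⊓ normalizer (B₀ : Set G) := ⟨h3, h2⟩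
    rw [hPN, Subgroup.mem_bot] at h5
    have h6 : g⁻¹ * x * g = x := by
      have : g⁻¹ * x * g = x * (x⁻¹ * (g⁻¹ * x * g)) := by group
      rw [this, h5, mul_one]
    calc x * g = g * (g⁻¹ * x * g) := by group
      _ = g * x := by rw [h6]
  obtain ⟨⟨g₀, hg₀⟩, hg₀1⟩ := Subgroup.ne_bot_iff_exists_ne_one.mp h.hP1
  have hg₀1' : g₀ ≠ 1 := fun e => hg₀1 (Subtype.ext e)
  set B₁ : Subgroup G := MulAut.conj g₀ • B₀ with hB₁def
  have hB₁ : IsHyp q Q B₁ := hB₀.conj (h.hPQ hg₀)
  have hVB₁ : V ⊓ centralizer (B₁ : Set G) ≠ ⊥ := inf_centralizer_conj_ne_bot g₀ hVB₀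
  have hxB₁ : x ∉ normalizer (B₁ : Set G) := hmove g₀ hg₀ hg₀1'
  have hex : ∀ g : {g : P // g ≠ 1}, ∃ i : Fin r,
      MulAut.conj (x ^ (i : ℕ)) • B₁ = MulAut.conj ((g : P) : G) • B₀ := by
    rintro ⟨⟨g, hg⟩, hg1⟩
    have hg1' : g ≠ 1 := fun e => hg1 (Subtype.ext e)
    obtain ⟨i, hi⟩ := exists_conj_pow_eq h.hs h.hr h.hxr h.hxQ (hB₀.conj (h.hPQ hg)) hB₁
      (hmove g hg hg1') hxB₁ (inf_centralizer_conj_ne_bot g hVB₀) hVB₁ h.hfix
    refine ⟨⟨i % r, Nat.mod_lt _ h.hr.pos⟩, ?_⟩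
    show MulAut.conj (x ^ (i % r)) • B₁ = MulAut.conj g • B₀
    rw [← pow_eq_pow_mod i h.hxr]
    exact hi
  choose f hf using hex
  let F : P → Option (Fin r) := fun g => if hg : g = 1 then none else some (f ⟨g, hg⟩)
  have hF : Function.Injective F := by
    intro g g' hgg
    by_cases hg : g = 1
    · by_cases hg' : g' = 1
      · rw [hg, hg']
      · simp only [F, hg, hg', dif_pos, dif_neg, not_false_eq_true] at hgg
        exact absurd hgg (by simp)
    · by_cases hg' : g' = 1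
      · simp only [F, hg, hg', dif_pos, dif_neg, not_false_eq_true] at hgg
        exact absurd hgg (by simp)
      · simp only [F, hg, hg', dif_neg, not_false_eq_true, Option.some.injEq] at hgg
        have e1 := hf ⟨g, hg⟩
        have e2 := hf ⟨g', hg'⟩
        rw [hgg] at e1
        have e3 : MulAut.conj ((g : P) : G) • B₀ = MulAut.conj ((g' : P) : G) • B₀ := by
          rw [← e1, ← e2]
        have e4 : MulAut.conj ((g : G)⁻¹ * (g' : G)) • B₀ = B₀ := by
          rw [← Cfsg.Agent.Lib.H1.conj_smul_conj_smul, ← e3,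
            Cfsg.Agent.Lib.H1.conj_smul_conj_smul, inv_mul_cancel, map_one, one_smul]
        have e5 : (g : G)⁻¹ * (g' : G) ∈ P ⊓ normalizer (B₀ : Set G) :=
          ⟨Subgroup.mul_mem _ (Subgroup.inv_mem _ g.2) g'.2,
            Cfsg.Agent.Lib.H1.conj_smul_eq_self_iff_mem_normalizer.mp e4⟩
        rw [hPN, Subgroup.mem_bot] at e5
        apply Subtype.ext
        exact (inv_mul_eq_one.mp e5)
  have hle : Nat.card P ≤ r + 1 := by
    have := Nat.card_le_card_of_injective F hF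
    rwa [Nat.card_eq_fintype_card (α := Option (Fin r)), Fintype.card_option, Fintype.card_fin]
      at this
  have hmod := card_modEq_one_of_fpf h.hr h.hxr h.hxP h.fpf
  have h1lt := h.one_lt_card_P
  have hodd := h.odd_card_P
  have hrodd : Odd r := h.hr.eq_two_or_odd'.resolve_left h.hr2
  have hdvd : r ∣ Nat.card P - 1 := (Nat.modEq_iff_dvd' (by omega)).mp hmod.symm
  have hge : r ≤ Nat.card P - 1 := Nat.le_of_dvd (by omega) hdvd
  have heq : Nat.card P = r + 1 := by omega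
  rw [heq] at hodd
  rcases hrodd with ⟨k, hk⟩
  rcases hodd with ⟨l, hl⟩
  omega

/-- the relevant hyperplanes -/
def Hy (q : ℕ) (V Q : Subgroup G) : Type _ :=
  {B : Subgroup G // IsHyp q Q B ∧ V ⊓ centralizer (B : Set G) ≠ ⊥}

/-- the conjugation action of `P` on the relevant hyperplanes -/
@[reducible] noncomputable def hyAction (h : B7 p q r V Q P x) : MulAction P (Hy q V Q) where
  smul g B := ⟨MulAut.conj (g : G) • B.1, B.2.1.conj (h.hPQ g.2),
    inf_centralizer_conj_ne_bot (g : G) B.2.2⟩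
  one_smul B := by
    apply Subtype.ext
    show MulAut.conj ((1 : P) : G) • B.1 = B.1
    rw [Subgroup.coe_one, map_one, one_smul]
  mul_smul g g' B := by
    apply Subtype.ext
    show MulAut.conj ((g * g' : P) : G) • B.1 = MulAut.conj (g : G) • MulAut.conj (g' : G) • B.1
    rw [Subgroup.coe_mul, map_mul, mul_smul]

/-- Case 2: no relevant hyperplane is `x`-invariant. -/
theorem case2 (h : B7 p q r V Q P x)
    (hno : ∀ B : Subgroup G, IsHyp q Q B → V ⊓ centralizer (B : Set G) ≠ ⊥ →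
      x ∉ normalizer (B : Set G)) : False := by
  classical
  haveI : Fact p.Prime := ⟨h.hs.hp⟩
  -- there is a relevant hyperplane
  have hex : ∃ B₁ : Subgroup G, IsHyp q Q B₁ ∧ V ⊓ centralizer (B₁ : Set G) ≠ ⊥ := by
    by_contra hcon
    apply h.hPQc
    intro g _
    rw [Subgroup.mem_centralizer_iff]
    intro a ha
    have : a = 1 := h.eq_one_of_forall ha (fun B hB hVB => absurd ⟨B, hB, hVB⟩ hcon)
    rw [this, one_mul, mul_one]
  obtain ⟨B₁, hB₁, hVB₁⟩ := hex
  have hxB₁ := hno B₁ hB₁ hVB₁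
  -- every relevant hyperplane is an `x`-conjugate of `B₁`
  have hconj : ∀ B : Hy q V Q, ∃ i : Fin r, MulAut.conj (x ^ (i : ℕ)) • B₁ = B.1 := by
    rintro ⟨B, hB, hVB⟩
    obtain ⟨i, hi⟩ := exists_conj_pow_eq h.hs h.hr h.hxr h.hxQ hB hB₁
      (hno B hB hVB) hxB₁ hVB hVB₁ h.hfix
    refine ⟨⟨i % r, Nat.mod_lt _ h.hr.pos⟩, ?_⟩
    show MulAut.conj (x ^ (i % r)) • B₁ = B
    rw [← pow_eq_pow_mod i h.hxr]
    exact hi
  let e : Fin r → Hy q V Q := fun i =>
    ⟨MulAut.conj (x ^ (i : ℕ)) • B₁, hB₁.conj (Subgroup.pow_mem _ h.hxQ _),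
      inf_centralizer_conj_ne_bot _ hVB₁⟩
  have hinj : Function.Injective e := by
    -- a helper: `i < j` impossible
    have key : ∀ i j : ℕ, i < j → j < r →
        MulAut.conj (x ^ i) • B₁ = MulAut.conj (x ^ j) • B₁ → False := by
      intro i j hij hjr heq
      have h1 : MulAut.conj (x ^ (j - i)) • B₁ = B₁ := by
        have h2 : x ^ j = x ^ i * x ^ (j - i) := by
          rw [← pow_add]; congr 1; omega
        rw [h2, ← Cfsg.Agent.Lib.H1.conj_smul_conj_smul] at heq
        have h3 := congrArg (fun K : Subgroup G => MulAut.conj (x ^ i)⁻¹ • K) heq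
        simp only [Cfsg.Agent.Lib.H1.conj_smul_conj_smul, inv_mul_cancel, map_one, one_smul] at h3
        rw [← mul_assoc, inv_mul_cancel, one_mul] at h3
        exact h3.symm
      exact conj_pow_ne h.hr h.hxr hxB₁ (by omega) (by omega) h1
    intro i j hij
    have hij' : MulAut.conj (x ^ (i : ℕ)) • B₁ = MulAut.conj (x ^ (j : ℕ)) • B₁ :=
      congrArg Subtype.val hij
    apply Fin.ext
    rcases lt_trichotomy (i : ℕ) (j : ℕ) with hlt | heq | hgt
    · exact (key i j hlt j.2 hij').elim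
    · exact heq
    · exact (key j i hgt i.2 hij'.symm).elim
  have hsurj : Function.Surjective e := by
    intro B
    obtain ⟨i, hi⟩ := hconj B
    exact ⟨i, Subtype.ext hi⟩
  have hcard : Nat.card (Hy q V Q) = r := by
    have := Nat.card_eq_of_bijective e ⟨hinj, hsurj⟩
    rw [Nat.card_fin] at this
    exact this.symm
  letI : MulAction P (Hy q V Q) := hyAction h
  have hnd : ¬ p ∣ Nat.card (Hy q V Q) := by
    rw [hcard]
    intro hd
    exact h.hrp ((Nat.prime_dvd_prime_iff_eq h.hs.hp h.hr).mp hd).symm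
  obtain ⟨B₂, hB₂⟩ := h.hPp.nonempty_fixed_point_of_prime_not_dvd_card (Hy q V Q) hnd
  have hPB₂ : P ≤ normalizer ((B₂.1 : Subgroup G) : Set G) := by
    intro g hg
    have h1 := hB₂ ⟨g, hg⟩
    have h2 : MulAut.conj g • B₂.1 = B₂.1 := congrArg Subtype.val h1
    exact Cfsg.Agent.Lib.H1.conj_smul_eq_self_iff_mem_normalizer.mp h2
  have hxB₂ := hno B₂.1 B₂.2.1 B₂.2.2
  -- all relevant hyperplanes are `P`-invariant
  have hPall : ∀ B : Subgroup G, IsHyp q Q B → V ⊓ centralizer (B : Set G) ≠ ⊥ →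
      P ≤ normalizer (B : Set G) := by
    intro B hB hVB
    obtain ⟨i, hi⟩ := exists_conj_pow_eq h.hs h.hr h.hxr h.hxQ hB B₂.2.1
      (hno B hB hVB) hxB₂ hVB B₂.2.2 h.hfix
    rw [← hi]
    intro g hg
    apply mem_normalizer_conj_smul
    apply hPB₂
    exact conj_mem_of_mem_normalizer' (Subgroup.pow_mem _ h.hxP i) hg
  -- the commutators lie in every relevant hyperplane
  apply h.hPQc
  intro g hg
  rw [Subgroup.mem_centralizer_iff]
  intro a ha
  have hcomm : ⁅a, g⁆ = 1 := by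
    have hQmem : ⁅a, g⁆ ∈ Q := by
      rw [commutatorElement_def]
      have h4 : g * a⁻¹ * g⁻¹ ∈ Q := conj_mem_of_mem_normalizer (h.hPQ hg) (Subgroup.inv_mem _ ha)
      have : a * g * a⁻¹ * g⁻¹ = a * (g * a⁻¹ * g⁻¹) := by group
      rw [this]
      exact Subgroup.mul_mem _ ha h4
    apply h.eq_one_of_forall hQmem
    intro B hB hVB
    set W : Subgroup G := V ⊓ centralizer (B : Set G) with hW
    -- `W` has order `p`
    have hWle : Nat.card W ≤ p :=
      (card_le_of_notMem_normalizer h.hs h.hr h.hxr h.hxQ hB (hno B hB hVB)).trans h.hfix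
    have hWp : IsPGroup p W := h.hs.isPGroup_V.to_le inf_le_left
    obtain ⟨k, hk⟩ := IsPGroup.iff_card.mp hWp
    have hWcard : Nat.card W = p := by
      have h1 : 1 < Nat.card W := by
        rw [Subgroup.one_lt_card_iff_ne_bot]; exact hVB
      rcases k with _ | k
      · rw [hk, pow_zero] at h1; omega
      · apply le_antisymm hWle
        rw [hk]
        calc p = p ^ 1 := (pow_one p).symm
          _ ≤ p ^ (k + 1) := Nat.pow_le_pow_right h.hs.hp.pos (by omega)
    haveI : IsCyclic W := isCyclic_of_prime_card hWcard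
    -- `a` and `g` normalize `W`
    have hVtop : ∀ y : G, y ∈ normalizer (V : Set G) := by
      intro y
      rw [Subgroup.normalizer_eq_top_iff.mpr hVn]
      exact Subgroup.mem_top y
    have haB : a ∈ normalizer (B : Set G) := by
      rw [Subgroup.mem_normalizer_iff]
      intro b
      constructor
      · intro hb
        have : a * b * a⁻¹ = b := by
          rw [h.hs.commQ a ha b (hB.1 hb)]; group
        rw [this]; exact hb
      · intro hb
        have hbQ : b ∈ Q := by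
          have h1 := hB.1 hb
          have h2 := Subgroup.mul_mem _ (Subgroup.mul_mem _ (Subgroup.inv_mem _ ha) h1) ha
          have : a⁻¹ * (a * b * a⁻¹) * a = b := by group
          rwa [this] at h2
        have : a * b * a⁻¹ = b := by
          rw [h.hs.commQ a ha b hbQ]; group
        rwa [this] at hb
    have haW : a ∈ normalizer (W : Set G) :=
      Subgroup.inf_normalizer_le_normalizer_inf ⟨hVtop a, mem_normalizer_centralizer haB⟩
    have hgW : g ∈ normalizer (W : Set G) :=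
      Subgroup.inf_normalizer_le_normalizer_inf
        ⟨hVtop g, mem_normalizer_centralizer (hPall B hB hVB hg)⟩
    have hcW : ⁅a, g⁆ ∈ centralizer (W : Set G) :=
      commutator_mem_centralizer_of_isCyclic haW hgW
    -- `C_Q(W) = B`
    set K : Subgroup G := Q ⊓ centralizer (W : Set G) with hK
    have hBK : B ≤ K := by
      intro b hb
      refine Subgroup.mem_inf.mpr ⟨hB.1 hb, ?_⟩
      rw [Subgroup.mem_centralizer_iff]
      intro w hw
      exact (Subgroup.mem_centralizer_iff.mp hw.2 b hb).symm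
    rcases hB.eq_or_eq h.hs.hq hBK inf_le_left with h1 | h1
    · rw [← h1]
      exact ⟨hQmem, hcW⟩
    · exfalso
      apply hVB
      rw [eq_bot_iff, ← h.hs.fixQ]
      intro w hw
      refine Subgroup.mem_inf.mpr ⟨hw.1, ?_⟩
      rw [Subgroup.mem_centralizer_iff]
      intro c hc
      have hcK : c ∈ K := h1 ▸ hc
      exact (Subgroup.mem_centralizer_iff.mp hcK.2 w hw).symm
  have := commutatorElement_eq_one_iff_commute.mp hcomm
  exact this.eq

/-- **Theorem B7**: the configuration is impossible. -/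
theorem false (h : B7 p q r V Q P x) : False := by
  by_cases hex : ∃ B₀ : Subgroup G, IsHyp q Q B₀ ∧ V ⊓ centralizer (B₀ : Set G) ≠ ⊥ ∧
      x ∈ normalizer (B₀ : Set G)
  · obtain ⟨B₀, hB₀, hVB₀, hxB₀⟩ := hex
    exact h.case1 hB₀ hVB₀ hxB₀
  · exact h.case2 (fun B hB hVB hx => hex ⟨B, hB, hVB, hx⟩)

end B7

end Cfsg.Agent.Lib.H10.BG36
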