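import Mathlib
import Cfsg.Agent.Lib.H10.BG36e

/-!
# General lemmas for B&G 3.6 (helper10)
-/

set_option autoImplicit false
set_option linter.unusedSectionVars false
set_option linter.style.haveILetI false

namespace Cfsg.Agent.Lib.H10.BG36

open Subgroup
open scoped Pointwise commutatorElement

variable {G : Type*} [Group G]

/-! ### generators of subgroups of prime order -/

theorem centralizer_zpowers (x : G) :
    centralizer ((zpowers x : Subgroup G) : Set G) = centralizer ({x} : Set G) := by
  apply le_antisymm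
  · apply Subgroup.centralizer_le
    intro y hy
    rw [Set.mem_singleton_iff] at hy
    rw [hy]
    exact Subgroup.mem_zpowers x
  · intro g hg
    rw [Subgroup.mem_centralizer_iff] at hg ⊢
    intro y hy
    obtain ⟨k, rfl⟩ := Subgroup.mem_zpowers_iff.mp hy
    have h1 : Commute x g := hg x (Set.mem_singleton x)
    exact (h1.zpow_left k).eq

theorem zpowers_eq_of_prime_card [Finite G] {R : Subgroup G} (h : (Nat.card R).Prime) {e : G}
    (he : e ∈ R) (he1 : e ≠ 1) : zpowers e = R := by
  have hle : zpowers e ≤ R := Subgroup.zpowers_le.mpr he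
  apply Subgroup.eq_of_le_of_card_ge hle
  have hd : Nat.card (zpowers e) ∣ Nat.card R := Subgroup.card_dvd_of_le hle
  rcases (Nat.dvd_prime h).mp hd with h1 | h1
  · exfalso
    rw [Nat.card_zpowers, orderOf_eq_one_iff] at h1
    exact he1 h1
  · rw [h1]

theorem exists_generator_of_prime_card [Finite G] {R : Subgroup G} (h : (Nat.card R).Prime) :
    ∃ x : G, x ≠ 1 ∧ zpowers x = R ∧ orderOf x = Nat.card R := by
  have hR1 : R ≠ ⊥ := by
    intro e
    rw [e, Subgroup.card_bot] at h
    exact Nat.not_prime_one h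
  obtain ⟨⟨x, hx⟩, hx1⟩ := Subgroup.ne_bot_iff_exists_ne_one.mp hR1
  have hx1' : x ≠ 1 := fun e => hx1 (Subtype.ext e)
  have h1 := zpowers_eq_of_prime_card h hx hx1'
  refine ⟨x, hx1', h1, ?_⟩
  rw [← Nat.card_zpowers, h1]

/-- in a subgroup of prime order, the centralizer of a nontrivial element is the centralizer of the
subgroup -/
theorem centralizer_singleton_eq_of_prime_card [Finite G] {R : Subgroup G} (h : (Nat.card R).Prime)
    {e : G} (he : e ∈ R) (he1 : e ≠ 1) :
    centralizer ({e} : Set G) = centralizer (R : Set G) := by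
  rw [← centralizer_zpowers, zpowers_eq_of_prime_card h he he1]

/-! ### normalizers of commutators -/

theorem mem_normalizer_commutator {A B : Subgroup G} {g : G} (hA : g ∈ normalizer (A : Set G))
    (hB : g ∈ normalizer (B : Set G)) : g ∈ normalizer ((⁅A, B⁆ : Subgroup G) : Set G) := by
  have key : ∀ y : G, y ∈ normalizer (A : Set G) → y ∈ normalizer (B : Set G) →
      ∀ c ∈ ⁅A, B⁆, y * c * y⁻¹ ∈ ⁅A, B⁆ := by
    intro y hyA hyB c hc
    have h1 : ⁅A, B⁆ ≤ (⁅A, B⁆ : Subgroup G).comap (MulAut.conj y).toMonoidHom := by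
      rw [Subgroup.commutator_le]
      intro a ha b hb
      rw [Subgroup.mem_comap]
      have h2 : (MulAut.conj y).toMonoidHom ⁅a, b⁆ = ⁅y * a * y⁻¹, y * b * y⁻¹⁆ := by
        simp only [MulEquiv.coe_toMonoidHom, MulAut.conj_apply, commutatorElement_def]
        group
      rw [h2]
      exact Subgroup.commutator_mem_commutator (conj_mem_of_mem_normalizer hyA ha)
        (conj_mem_of_mem_normalizer hyB hb)
    have := h1 hc
    rw [Subgroup.mem_comap] at this
    simpa using this
  rw [Subgroup.mem_normalizer_iff]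
  intro c
  constructor
  · exact key g hA hB c
  · intro hc
    have := key g⁻¹ (Subgroup.inv_mem _ hA) (Subgroup.inv_mem _ hB) _ hc
    have e : g⁻¹ * (g * c * g⁻¹) * g⁻¹⁻¹ = c := by group
    rwa [e] at this

theorem le_normalizer_commutator {X A B : Subgroup G} (hA : X ≤ normalizer (A : Set G))
    (hB : X ≤ normalizer (B : Set G)) : X ≤ normalizer ((⁅A, B⁆ : Subgroup G) : Set G) :=
  fun _ hg => mem_normalizer_commutator (hA hg) (hB hg)

theorem le_normalizer_inf {X A B : Subgroup G} (hA : X ≤ normalizer (A : Set G))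
    (hB : X ≤ normalizer (B : Set G)) : X ≤ normalizer ((A ⊓ B : Subgroup G) : Set G) :=
  fun _ hg => Subgroup.inf_normalizer_le_normalizer_inf ⟨hA hg, hB hg⟩

theorem le_normalizer_centralizer {X A : Subgroup G} (hA : X ≤ normalizer (A : Set G)) :
    X ≤ normalizer ((centralizer (A : Set G) : Subgroup G) : Set G) :=
  fun _ hg => mem_normalizer_centralizer (hA hg)

theorem le_normalizer_sup' {X A B : Subgroup G} (hA : X ≤ normalizer (A : Set G))
    (hB : X ≤ normalizer (B : Set G)) : X ≤ normalizer ((A ⊔ B : Subgroup G) : Set G) :=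
  fun _ hg => Subgroup.normalizer_inf_normalizer_le_normalizer_sup A B ⟨hA hg, hB hg⟩

/-- `[A, B] ≤ A` when `B` normalizes `A` -/
theorem commutator_le_of_le_normalizer {A B : Subgroup G} (h : B ≤ normalizer (A : Set G)) :
    ⁅A, B⁆ ≤ A :=
  (Subgroup.le_normalizer_iff_commutator_le_left).mp h

theorem le_centralizer_iff_commutator_eq_bot {A B : Subgroup G} :
    A ≤ centralizer (B : Set G) ↔ ⁅A, B⁆ = ⊥ := by
  rw [Subgroup.commutator_eq_bot_iff_le_centralizer]

/-! ### Z-groups -/

section ZGroup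

variable [Finite G] {p : ℕ} [hp : Fact p.Prime]

theorem isCyclic_of_isZGroup_of_le {K T : Subgroup G} [hK : IsZGroup ↥K] (hTK : T ≤ K)
    (hT : IsPGroup p T) : IsCyclic ↥T := by
  have h1 : IsPGroup p (T.subgroupOf K) :=
    hT.of_equiv (Subgroup.subgroupOfEquivOfLe hTK).symm
  haveI : IsCyclic ↥(T.subgroupOf K) := h1.isCyclic_of_isZGroup
  exact isCyclic_of_surjective (Subgroup.subgroupOfEquivOfLe hTK).toMonoidHom
    (Subgroup.subgroupOfEquivOfLe hTK).surjective

omit hp in
theorem card_le_of_isCyclic_of_exp {T : Subgroup G} [hT : IsCyclic T] (hp0 : 0 < p)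
    (hexp : ∀ t ∈ T, t ^ p = 1) : Nat.card T ≤ p := by
  obtain ⟨g, hg⟩ := IsCyclic.exists_generator (α := T)
  have h1 : orderOf g = Nat.card T := orderOf_eq_card_of_forall_mem_zpowers hg
  rw [← h1]
  apply Nat.le_of_dvd hp0
  apply orderOf_dvd_of_pow_eq_one
  apply Subtype.ext
  simpa using hexp g g.2

/-- two nontrivial subgroups of a cyclic `p`-group meet nontrivially -/
theorem inf_ne_bot_of_isCyclic {T A B : Subgroup G} [hT : IsCyclic T] (hTp : IsPGroup p T)
    (hAT : A ≤ T) (hBT : B ≤ T) (hA : A ≠ ⊥) (hB : B ≠ ⊥) : A ⊓ B ≠ ⊥ := by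
  classical
  -- elements of order `p`
  have hex : ∀ C : Subgroup G, C ≤ T → C ≠ ⊥ → ∃ c ∈ C, orderOf c = p := by
    intro C hCT hC
    have hCp : IsPGroup p C := hTp.to_le hCT
    obtain ⟨k, hk⟩ := IsPGroup.iff_card.mp hCp
    have hdvd : p ∣ Nat.card C := by
      rcases k with _ | k
      · exfalso
        rw [pow_zero] at hk
        exact hC (Subgroup.card_eq_one.mp hk)
      · rw [hk]; exact dvd_pow_self p (Nat.succ_ne_zero k)
    obtain ⟨c, hc⟩ := exists_prime_orderOf_dvd_card' p hdvd
    refine ⟨c, c.2, ?_⟩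
    rw [← hc]
    exact (Subgroup.orderOf_coe c)
  obtain ⟨a, haA, hap⟩ := hex A hAT hA
  obtain ⟨b, hbB, hbp⟩ := hex B hBT hB
  -- the `p`-torsion of `T`
  set E : Subgroup G :=
    { carrier := {t | t ∈ T ∧ t ^ p = 1}
      one_mem' := ⟨Subgroup.one_mem _, one_pow _⟩
      mul_mem' := by
        rintro s t ⟨hs, hs1⟩ ⟨ht, ht1⟩
        refine ⟨Subgroup.mul_mem _ hs ht, ?_⟩
        have hcomm : Commute s t := by
          letI := IsCyclic.commGroup (α := T)
          have := mul_comm (⟨s, hs⟩ : T) ⟨t, ht⟩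
          exact congrArg Subtype.val this
        rw [hcomm.mul_pow, hs1, ht1, one_mul]
      inv_mem' := by
        rintro s ⟨hs, hs1⟩
        exact ⟨Subgroup.inv_mem _ hs, by rw [inv_pow, hs1, inv_one]⟩ } with hE
  have hET : E ≤ T := fun t ht => ht.1
  haveI : IsCyclic E := Subgroup.isCyclic_of_le hET
  have hEcard : Nat.card E ≤ p := card_le_of_isCyclic_of_exp hp.out.pos (fun t ht => ht.2)
  have haE : a ∈ E := ⟨hAT haA, by rw [← hap]; exact pow_orderOf_eq_one a⟩
  have hbE : b ∈ E := ⟨hBT hbB, by rw [← hbp]; exact pow_orderOf_eq_one b⟩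
  have hza : zpowers a = E := by
    apply Subgroup.eq_of_le_of_card_ge (Subgroup.zpowers_le.mpr haE)
    rw [Nat.card_zpowers, hap]
    exact hEcard
  have hbA : b ∈ A := by
    have : b ∈ zpowers a := by rw [hza]; exact hbE
    exact (Subgroup.zpowers_le.mpr haA) this
  intro hbot
  have : b ∈ A ⊓ B := ⟨hbA, hbB⟩
  rw [hbot, Subgroup.mem_bot] at this
  rw [this, orderOf_one] at hbp
  exact hp.out.one_lt.ne hbp

/-- a group `L = [L, R]` with cyclic derived group and `O_p(L) = 1` is a `p'`-group -/
theorem coprime_card_of_isCyclic_commutator {L R : Subgroup G}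
    (hRL : R ≤ normalizer (L : Set G)) [hcyc : IsCyclic ↥⁅L, L⁆] (hLR : ⁅L, R⁆ = L)
    (hOp : ∀ D : Subgroup G, D ≤ L → L ≤ normalizer (D : Set G) → IsPGroup p D → D = ⊥) :
    (Nat.card L).Coprime p := by
  have hLL : ⁅L, L⁆ ≤ L := commutator_le_of_le_normalizer Subgroup.le_normalizer
  -- `L` centralizes `L'`
  have hcent : L ≤ centralizer ((⁅L, L⁆ : Subgroup G) : Set G) := by
    have h0 : ⁅L, R⁆ ≤ centralizer ((⁅L, L⁆ : Subgroup G) : Set G) := by
      rw [Subgroup.commutator_le]
      intro l hl ρ hρ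
      exact commutator_mem_centralizer_of_isCyclic
        (Subgroup.normalizer_commutator_ge_left L L hl)
        (mem_normalizer_commutator (hRL hρ) (hRL hρ))
    calc L = ⁅L, R⁆ := hLR.symm
      _ ≤ _ := h0
  -- central `p`-elements of `L` are trivial
  have hcentral : ∀ z ∈ L, (∀ l ∈ L, l * z = z * l) → z ^ p = 1 → z = 1 := by
    intro z hz hzc hzp
    have h1 : zpowers z = ⊥ := by
      apply hOp _ (Subgroup.zpowers_le.mpr hz)
      · intro l hl
        have : l ∈ centralizer ((zpowers z : Subgroup G) : Set G) := by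
          rw [centralizer_zpowers, Subgroup.mem_centralizer_iff]
          intro y hy
          rw [Set.mem_singleton_iff] at hy
          rw [hy]
          exact (hzc l hl).symm
        exact Subgroup.centralizer_le_normalizer _ this
      · by_cases h : z = 1
        · apply IsPGroup.of_card (n := 0)
          rw [Nat.card_zpowers, h, orderOf_one, pow_zero]
        · apply IsPGroup.of_card (n := 1)
          rw [Nat.card_zpowers, pow_one]
          exact orderOf_eq_prime hzp h
    have : z ∈ zpowers z := Subgroup.mem_zpowers z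
    rw [h1, Subgroup.mem_bot] at this
    exact this
  rw [Nat.coprime_comm, Nat.Prime.coprime_iff_not_dvd hp.out]
  intro hdvd
  obtain ⟨g, hg⟩ := exists_prime_orderOf_dvd_card' p hdvd
  have hgp : (g : G) ^ p = 1 := by
    have := pow_orderOf_eq_one g
    rw [hg] at this
    have h' := congrArg Subtype.val this
    simpa using h'
  have hg1 : (g : G) ≠ 1 := by
    intro h
    have : g = 1 := Subtype.ext h
    rw [this, orderOf_one] at hg
    exact hp.out.one_lt.ne hg
  apply hg1
  apply hcentral _ g.2 _ hgp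
  intro l hl
  -- `z = [l, g]` is central with `z ^ p = 1`
  set z : G := ⁅l, (g : G)⁆ with hz
  have hzLL : z ∈ ⁅L, L⁆ := Subgroup.commutator_mem_commutator hl g.2
  have hzL : z ∈ L := hLL hzLL
  have hzc : ∀ y ∈ L, y * z = z * y := by
    intro y hy
    exact (Subgroup.mem_centralizer_iff.mp (hcent hy) z hzLL).symm
  have hconj : l * (g : G) * l⁻¹ = z * g := by
    rw [hz, commutatorElement_def]; group
  have hpow : ∀ n : ℕ, l * (g : G) ^ n * l⁻¹ = z ^ n * (g : G) ^ n := by
    intro n
    have h1 : l * (g : G) ^ n * l⁻¹ = (l * (g : G) * l⁻¹) ^ n := by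
      rw [conj_pow]
    rw [h1, hconj]
    have hcomm : Commute z (g : G) := (hzc g g.2).symm
    exact hcomm.mul_pow n
  have hzp : z ^ p = 1 := by
    have := hpow p
    rw [hgp, mul_one, mul_inv_cancel, mul_one] at this
    exact this.symm
  have hz1 := hcentral z hzL hzc hzp
  rw [hz1, one_mul] at hconj
  calc l * (g : G) = (l * g * l⁻¹) * l := by group
    _ = g * l := by rw [hconj]

/-- a `p`-group acting on a nontrivial `p`-group has nontrivial fixed points -/
theorem inf_centralizer_ne_bot_of_isPGroup {P V : Subgroup G} (hP : IsPGroup p P)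
    (hV : IsPGroup p V) (hV1 : V ≠ ⊥) (hPV : P ≤ normalizer (V : Set G)) :
    V ⊓ centralizer (P : Set G) ≠ ⊥ := by
  obtain ⟨k, hk⟩ := IsPGroup.iff_card.mp hV
  have hdvd : p ∣ Nat.card V := by
    rcases k with _ | k
    · exfalso
      rw [pow_zero] at hk
      exact hV1 (Subgroup.card_eq_one.mp hk)
    · rw [hk]; exact dvd_pow_self p (Nat.succ_ne_zero k)
  letI : MulAction P V := MulAction.compHom V (Cfsg.Agent.Lib.H1.conjAutHom hPV)
  have h1 : (1 : V) ∈ MulAction.fixedPoints P V := by
    intro s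
    show Cfsg.Agent.Lib.H1.conjAutHom hPV s 1 = 1
    exact map_one _
  obtain ⟨b, hb, hb1⟩ := hP.exists_fixed_point_of_prime_dvd_card_of_fixed_point V hdvd h1
  intro hbot
  apply hb1
  have h3 : (b : G) ∈ V ⊓ centralizer (P : Set G) := by
    refine ⟨b.2, ?_⟩
    show (b : G) ∈ centralizer (P : Set G)
    rw [Subgroup.mem_centralizer_iff]
    intro y hy
    have hby := hb ⟨y, hy⟩
    have hby' : Cfsg.Agent.Lib.H1.conjAutHom hPV ⟨y, hy⟩ b = b := hby
    have h2 := congrArg Subtype.val hby'
    rw [Cfsg.Agent.Lib.H1.conjAutHom_apply] at h2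
    simp only at h2
    calc y * (b : G) = (y * b * y⁻¹) * y := by group
      _ = b * y := by rw [h2]
  rw [hbot, Subgroup.mem_bot] at h3
  exact (Subtype.ext h3).symm

end ZGroup

end Cfsg.Agent.Lib.H10.BG36
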