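import Mathlib
import Cfsg.Agent.Lib.H19.PLength

/-!
# `p`-length one: utilities (helper10)

* `plengthLE_one_of_normal_pgroup` : a normal `p`-subgroup of `p'`-index gives `p`-length `≤ 1`.
* `exists_series_of_plengthLE_one` : unfolding `p`-length `≤ 1` into a series.
* `exists_normal_sylow_of_plengthLE_one` : `p`-length `≤ 1` and no nontrivial normal `p'`-subgroup
  gives a normal Sylow `p`-subgroup.
* `plengthLE_prod`, `plengthLE_of_inf_eq_bot` : subdirect products.
-/

set_option autoImplicit false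
open Cfsg

namespace Cfsg.Agent.Lib.H10.BG36

open Cfsg.Agent.Lib.H19

universe u v

section Basic

variable {X : Type u} [Group X]

theorem Reach.zero_inv {p : ℕ} {N : Subgroup X} (h : Reach p 0 N) : N = ⊥ := by
  cases h
  rfl

theorem Reach.succ_inv {p j : ℕ} {M : Subgroup X} (h : Reach p (j + 1) M) :
    ∃ N : Subgroup X, Reach p j N ∧ N ≤ M ∧ M.Normal ∧
      ((Even j ∧ (N.relIndex M).Coprime p) ∨ (¬ Even j ∧ ∃ m : ℕ, N.relIndex M = p ^ m)) := by
  cases h with
  | even h hj hle hn hc => exact ⟨_, h, hle, hn, Or.inl ⟨hj, hc⟩⟩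
  | odd h hj hle hn hc => exact ⟨_, h, hle, hn, Or.inr ⟨hj, hc⟩⟩

variable [Finite X] {p : ℕ} [hp : Fact p.Prime]

/-- a normal `p`-subgroup of index prime to `p` gives `p`-length at most one -/
theorem plengthLE_one_of_normal_pgroup (S : Subgroup X) [hSn : S.Normal] (hS : IsPGroup p S)
    (hidx : S.index.Coprime p) : PLengthLE p 1 X := by
  rw [plengthLE_iff]
  have h1 : Reach p 1 (⊥ : Subgroup X) := Reach.zero.succ
  obtain ⟨m, hm⟩ := IsPGroup.iff_card.mp hS
  have h2 : Reach p 2 S :=
    Reach.odd h1 (by decide) bot_le hSn ⟨m, by rw [Subgroup.relIndex_bot_left]; exact hm⟩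
  exact Reach.even h2 (by decide) le_top inferInstance
    (by rw [Subgroup.relIndex_top_right]; exact hidx)

/-- unfolding `p`-length at most one -/
theorem exists_series_of_plengthLE_one (h : PLengthLE p 1 X) :
    ∃ N₁ N₂ : Subgroup X, N₁.Normal ∧ N₂.Normal ∧ N₁ ≤ N₂ ∧ (Nat.card N₁).Coprime p ∧
      (∃ m : ℕ, N₁.relIndex N₂ = p ^ m) ∧ N₂.index.Coprime p := by
  rw [plengthLE_iff] at h
  have h3 : Reach p (2 + 1) (⊤ : Subgroup X) := h
  obtain ⟨N₂, h2, -, -, h3' | h3'⟩ := Reach.succ_inv h3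
  · have h2' : Reach p (1 + 1) N₂ := h2
    obtain ⟨N₁, h1, hle, hn2, h2'' | h2''⟩ := Reach.succ_inv h2'
    · exact absurd h2''.1 (by decide)
    · have h1' : Reach p (0 + 1) N₁ := h1
      obtain ⟨N₀, h0, -, hn1, h1'' | h1''⟩ := Reach.succ_inv h1'
      · have hN0 : N₀ = ⊥ := Reach.zero_inv h0
        refine ⟨N₁, N₂, hn1, hn2, hle, ?_, h2''.2, ?_⟩
        · have := h1''.2
          rwa [hN0, Subgroup.relIndex_bot_left] at this
        · have := h3'.2
          rwa [Subgroup.relIndex_top_right] at this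
      · exact absurd (by decide : Even 0) h1''.1
  · exact absurd (by decide : Even 2) h3'.1

/-- `p`-length one without normal `p'`-subgroups: a normal Sylow `p`-subgroup -/
theorem exists_normal_sylow_of_plengthLE_one (h : PLengthLE p 1 X)
    (hO : ∀ N : Subgroup X, N.Normal → (Nat.card N).Coprime p → N = ⊥) :
    ∃ S : Subgroup X, S.Normal ∧ IsPGroup p S ∧ S.index.Coprime p := by
  obtain ⟨N₁, N₂, hn1, hn2, -, hc1, ⟨m, hm⟩, hidx⟩ := exists_series_of_plengthLE_one h
  have h1 : N₁ = ⊥ := hO N₁ hn1 hc1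
  refine ⟨N₂, hn2, ?_, hidx⟩
  rw [h1, Subgroup.relIndex_bot_left] at hm
  exact IsPGroup.of_card hm

end Basic

section Prod

variable {X : Type u} [Group X] {Y : Type v} [Group Y]

theorem relIndex_prod [Finite X] [Finite Y] {N N' : Subgroup X} {M M' : Subgroup Y} (hN : N ≤ N')
    (hM : M ≤ M') : (N.prod M).relIndex (N'.prod M') = N.relIndex N' * M.relIndex M' := by
  have h1 : Nat.card (N.prod M) * (N.prod M).relIndex (N'.prod M') = Nat.card (N'.prod M') := by
    have := Subgroup.relIndex_mul_relIndex ⊥ (N.prod M) (N'.prod M') bot_le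
      (Subgroup.prod_mono hN hM)
    rwa [Subgroup.relIndex_bot_left, Subgroup.relIndex_bot_left] at this
  have h2 : Nat.card N * N.relIndex N' = Nat.card N' := by
    have := Subgroup.relIndex_mul_relIndex ⊥ N N' bot_le hN
    rwa [Subgroup.relIndex_bot_left, Subgroup.relIndex_bot_left] at this
  have h3 : Nat.card M * M.relIndex M' = Nat.card M' := by
    have := Subgroup.relIndex_mul_relIndex ⊥ M M' bot_le hM
    rwa [Subgroup.relIndex_bot_left, Subgroup.relIndex_bot_left] at this
  have c1 : Nat.card (N.prod M) = Nat.card N * Nat.card M := by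
    rw [Nat.card_congr (Subgroup.prodEquiv N M).toEquiv, Nat.card_prod]
  have c2 : Nat.card (N'.prod M') = Nat.card N' * Nat.card M' := by
    rw [Nat.card_congr (Subgroup.prodEquiv N' M').toEquiv, Nat.card_prod]
  rw [c1, c2, ← h2, ← h3] at h1
  have hpos : 0 < Nat.card N * Nat.card M := Nat.mul_pos Nat.card_pos Nat.card_pos
  apply Nat.eq_of_mul_eq_mul_left hpos
  rw [h1]
  ring

theorem Reach.prod [Finite X] [Finite Y] {p : ℕ} :
    ∀ (j : ℕ) {N : Subgroup X} {M : Subgroup Y}, Reach p j N → Reach p j M →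
      Reach p j (N.prod M) := by
  intro j
  induction j with
  | zero =>
    intro N M hN hM
    rw [Reach.zero_inv hN, Reach.zero_inv hM, Subgroup.bot_prod_bot]
    exact Reach.zero
  | succ j ih =>
    intro N M hN hM
    obtain ⟨N', hN', hNle, hNn, hNc⟩ := Reach.succ_inv hN
    obtain ⟨M', hM', hMle, hMn, hMc⟩ := Reach.succ_inv hM
    have hr := ih hN' hM'
    have hle : N'.prod M' ≤ N.prod M := Subgroup.prod_mono hNle hMle
    have hn : (N.prod M).Normal := Subgroup.prod_normal N M
    rcases hNc with ⟨hj, hc1⟩ | ⟨hj, m1, hm1⟩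
    · rcases hMc with ⟨_, hc2⟩ | ⟨hj', _⟩
      · refine Reach.even hr hj hle hn ?_
        rw [relIndex_prod hNle hMle]
        exact Nat.Coprime.mul_left hc1 hc2
      · exact absurd hj hj'
    · rcases hMc with ⟨hj', _⟩ | ⟨_, m2, hm2⟩
      · exact absurd hj' hj
      · refine Reach.odd hr hj hle hn ⟨m1 + m2, ?_⟩
        rw [relIndex_prod hNle hMle, hm1, hm2, pow_add]

variable [Finite X] [Finite Y] {p : ℕ} [hp : Fact p.Prime]

theorem plengthLE_prod {k : ℕ} (hX : PLengthLE p k X) (hY : PLengthLE p k Y) :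
    PLengthLE p k (X × Y) := by
  rw [plengthLE_iff] at hX hY ⊢
  have := Reach.prod (2 * k + 1) hX hY
  rwa [Subgroup.top_prod_top] at this

/-- `p`-length passes to subdirect products -/
theorem plengthLE_of_inf_eq_bot {k : ℕ} (A B : Subgroup X) [A.Normal] [B.Normal]
    (hAB : A ⊓ B = ⊥) (hA : PLengthLE p k (X ⧸ A)) (hB : PLengthLE p k (X ⧸ B)) :
    PLengthLE p k X := by
  let f : X →* (X ⧸ A) × (X ⧸ B) := (QuotientGroup.mk' A).prod (QuotientGroup.mk' B)
  have hf : Function.Injective f := by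
    rw [injective_iff_map_eq_one]
    intro x hx
    have h1 : QuotientGroup.mk' A x = 1 := congrArg Prod.fst hx
    have h2 : QuotientGroup.mk' B x = 1 := congrArg Prod.snd hx
    have h3 : x ∈ A := by
      rw [← QuotientGroup.ker_mk' A]; exact h1
    have h4 : x ∈ B := by
      rw [← QuotientGroup.ker_mk' B]; exact h2
    have : x ∈ A ⊓ B := ⟨h3, h4⟩
    rw [hAB] at this
    exact this
  have h1 : PLengthLE p k ((X ⧸ A) × (X ⧸ B)) := plengthLE_prod hA hB
  have h2 : PLengthLE p k ↥f.range := plengthLE_subgroup h1 f.range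
  exact plengthLE_of_mulEquiv h2 (MonoidHom.ofInjective hf).symm

end Prod

end Cfsg.Agent.Lib.H10.BG36
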