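import Mathlib
import Cfsg.Agent.Lib.H10.BG36a
import Cfsg.Agent.Lib.H8.FrobComm

/-!
# B&G Theorem 3.6: the induction skeleton (helper10)

`Hyp H R R₀`: the hypotheses of the theorem; `Ctx p H R R₀`: a minimal counterexample, with the
induction hypothesis available for subgroups `H₁R₁` and for quotients `G/N`.
-/

set_option autoImplicit false
set_option linter.unusedSectionVars false
set_option linter.style.haveILetI false

namespace Cfsg.Agent.Lib.H10.BG36

open Subgroup Cfsg Cfsg.Agent.Lib.H19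
open scoped Pointwise

universe u

/-- the hypotheses of B&G 3.6 -/
structure Hyp {G : Type u} [Group G] (H R R₀ : Subgroup G) : Prop where
  solv : Group.IsSolvable G
  odd : Odd (Nat.card G)
  normal : H.Normal
  hall : (Nat.card H).Coprime H.index
  compl : IsComplement' H R
  le : R₀ ≤ R
  prime : (Nat.card R₀).Prime
  zgroup : IsZGroup ↥(H ⊓ centralizer (R₀ : Set G))

/-- a minimal counterexample -/
structure Ctx (p : ℕ) {G : Type u} [Group G] [Finite G] (H R R₀ : Subgroup G) : Prop where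
  hyp : Hyp H R R₀
  sub : ∀ H₁ R₁ : Subgroup G, H₁ ≤ H → R₀ ≤ R₁ → R₁ ≤ R → R₁ ≤ normalizer (H₁ : Set G) →
    (H₁ ≠ H ∨ R₁ ≠ R) → PLengthLE p 1 ↥⁅H₁, R₁⁆
  quot : ∀ (N : Subgroup G) [N.Normal], N ≤ H → N ≠ ⊥ →
    PLengthLE p 1 ↥(⁅H, R⁆.map (QuotientGroup.mk' N))
  bad : ¬ PLengthLE p 1 ↥⁅H, R⁆

section basic

variable {G : Type u} [Group G]

theorem mem_sup_of_le_normalizer {N A : Subgroup G} (h : A ≤ normalizer (N : Set G)) {g : G} :
    g ∈ N ⊔ A ↔ ∃ n ∈ N, ∃ a ∈ A, g = n * a := by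
  have h1 := Subgroup.coe_mul_of_right_le_normalizer_left N A h
  have h2 : g ∈ N ⊔ A ↔ g ∈ ((N ⊔ A : Subgroup G) : Set G) := Iff.rfl
  rw [h2, h1, Set.mem_mul]
  constructor
  · rintro ⟨n, hn, a, ha, e⟩
    exact ⟨n, hn, a, ha, e.symm⟩
  · rintro ⟨n, hn, a, ha, e⟩
    exact ⟨n, hn, a, ha, e.symm⟩

theorem Hyp.inf_eq_bot {H R R₀ : Subgroup G} (h : Hyp H R R₀) : H ⊓ R = ⊥ :=
  disjoint_iff.mp h.compl.disjoint

theorem Hyp.index_eq {H R R₀ : Subgroup G} (h : Hyp H R R₀) : H.index = Nat.card R :=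
  h.compl.symm.index_eq_card

theorem Hyp.coprime {H R R₀ : Subgroup G} (h : Hyp H R R₀) : (Nat.card H).Coprime (Nat.card R) := by
  rw [← h.index_eq]
  exact h.hall

theorem Hyp.mem_mul {H R R₀ : Subgroup G} (h : Hyp H R R₀) (g : G) :
    ∃ a ∈ H, ∃ b ∈ R, g = a * b := by
  have h1 : ((H : Set G) * (R : Set G)) = Set.univ := h.compl.mul_eq
  have h2 : g ∈ ((H : Set G) * (R : Set G)) := by rw [h1]; exact Set.mem_univ g
  obtain ⟨a, ha, b, hb, e⟩ := Set.mem_mul.mp h2
  exact ⟨a, ha, b, hb, e.symm⟩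

end basic

section T1

variable {G : Type u} [Group G] [Finite G] {p : ℕ} [Fact p.Prime]

/-- the hypotheses pass to `H₁R₁` -/
theorem Hyp.subgroup {H R R₀ : Subgroup G} (h : Hyp H R R₀) {H₁ R₁ : Subgroup G} (hH₁ : H₁ ≤ H)
    (hR₀R₁ : R₀ ≤ R₁) (hR₁R : R₁ ≤ R) (hN : R₁ ≤ normalizer (H₁ : Set G)) :
    Hyp (H₁.subgroupOf (H₁ ⊔ R₁)) (R₁.subgroupOf (H₁ ⊔ R₁)) (R₀.subgroupOf (H₁ ⊔ R₁)) := by
  haveI := h.solv
  set K : Subgroup G := H₁ ⊔ R₁ with hK
  have hH₁K : H₁ ≤ K := le_sup_left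
  have hR₁K : R₁ ≤ K := le_sup_right
  have hR₀K : R₀ ≤ K := hR₀R₁.trans hR₁K
  have hKN : K ≤ normalizer (H₁ : Set G) := sup_le Subgroup.le_normalizer hN
  have hnorm : (H₁.subgroupOf K).Normal := (Subgroup.normal_subgroupOf_iff_le_normalizer hH₁K).mpr hKN
  have hcardH : Nat.card (H₁.subgroupOf K) = Nat.card H₁ :=
    Nat.card_congr (Subgroup.subgroupOfEquivOfLe hH₁K).toEquiv
  have hcardR : Nat.card (R₁.subgroupOf K) = Nat.card R₁ :=
    Nat.card_congr (Subgroup.subgroupOfEquivOfLe hR₁K).toEquiv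
  have hcardR₀ : Nat.card (R₀.subgroupOf K) = Nat.card R₀ :=
    Nat.card_congr (Subgroup.subgroupOfEquivOfLe hR₀K).toEquiv
  have hcompl : IsComplement' (H₁.subgroupOf K) (R₁.subgroupOf K) := by
    apply Subgroup.isComplement'_of_disjoint_and_mul_eq_univ
    · rw [Subgroup.disjoint_def]
      intro x hx1 hx2
      have h1 : (x : G) ∈ H ⊓ R := ⟨hH₁ (Subgroup.mem_subgroupOf.mp hx1),
        hR₁R (Subgroup.mem_subgroupOf.mp hx2)⟩
      rw [h.inf_eq_bot, Subgroup.mem_bot] at h1
      exact Subtype.ext h1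
    · rw [Set.eq_univ_iff_forall]
      intro x
      obtain ⟨a, ha, b, hb, e⟩ := (mem_sup_of_le_normalizer hN).mp x.2
      refine Set.mem_mul.mpr ⟨⟨a, hH₁K ha⟩, ?_, ⟨b, hR₁K hb⟩, ?_, ?_⟩
      · exact Subgroup.mem_subgroupOf.mpr ha
      · exact Subgroup.mem_subgroupOf.mpr hb
      · apply Subtype.ext
        exact e.symm
  refine
    { solv := inferInstance
      odd := Odd.of_dvd_nat h.odd (Subgroup.card_subgroup_dvd_card K)
      normal := hnorm
      hall := ?_
      compl := hcompl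
      le := ?_
      prime := by rw [hcardR₀]; exact h.prime
      zgroup := ?_ }
  · rw [hcompl.symm.index_eq_card, hcardH, hcardR]
    exact Nat.Coprime.coprime_dvd_left (Subgroup.card_dvd_of_le hH₁)
      (Nat.Coprime.coprime_dvd_right (Subgroup.card_dvd_of_le hR₁R) h.coprime)
  · intro x hx
    exact Subgroup.mem_subgroupOf.mpr (hR₀R₁ (Subgroup.mem_subgroupOf.mp hx))
  · haveI := h.zgroup
    let f : ↥(H₁.subgroupOf K ⊓ centralizer ((R₀.subgroupOf K : Subgroup K) : Set K)) →*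
        ↥(H ⊓ centralizer (R₀ : Set G)) :=
      (K.subtype.comp (Subgroup.subtype _)).codRestrict (H ⊓ centralizer (R₀ : Set G)) (by
        intro x
        refine ⟨hH₁ (Subgroup.mem_subgroupOf.mp x.2.1), ?_⟩
        show ((x : K) : G) ∈ centralizer (R₀ : Set G)
        rw [Subgroup.mem_centralizer_iff]
        intro y hy
        have h1 := Subgroup.mem_centralizer_iff.mp x.2.2 ⟨y, hR₀K hy⟩
          (Subgroup.mem_subgroupOf.mpr hy)
        exact congrArg Subtype.val h1)
    have hf : Function.Injective f := by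
      intro x y hxy
      have h1 : ((x : K) : G) = ((y : K) : G) :=
        congrArg (fun z : ↥(H ⊓ centralizer (R₀ : Set G)) => (z : G)) hxy
      exact Subtype.ext (Subtype.ext h1)
    exact IsZGroup.of_injective hf

theorem card_sup_lt {H R R₀ : Subgroup G} (h : Hyp H R R₀) {H₁ R₁ : Subgroup G} (hH₁ : H₁ ≤ H)
    (hR₁R : R₁ ≤ R) (hN : R₁ ≤ normalizer (H₁ : Set G)) (hne : H₁ ≠ H ∨ R₁ ≠ R) :
    Nat.card ↥(H₁ ⊔ R₁) < Nat.card G := by
  apply lt_of_le_of_ne (Subgroup.card_le_card_group _)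
  intro hcard
  have htop : H₁ ⊔ R₁ = ⊤ := Subgroup.eq_top_of_card_eq _ hcard
  have hall : ∀ g : G, ∃ a ∈ H₁, ∃ b ∈ R₁, g = a * b := by
    intro g
    have : g ∈ H₁ ⊔ R₁ := by rw [htop]; exact Subgroup.mem_top g
    exact (mem_sup_of_le_normalizer hN).mp this
  rcases hne with hne | hne
  · apply hne
    apply le_antisymm hH₁
    intro g hg
    obtain ⟨a, ha, b, hb, e⟩ := hall g
    have h1 : b ∈ H ⊓ R := by
      refine ⟨?_, hR₁R hb⟩
      have : b = a⁻¹ * g := by rw [e]; group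
      rw [this]
      exact Subgroup.mul_mem _ (Subgroup.inv_mem _ (hH₁ ha)) hg
    rw [h.inf_eq_bot, Subgroup.mem_bot] at h1
    rw [e, h1, mul_one]
    exact ha
  · apply hne
    apply le_antisymm hR₁R
    intro g hg
    obtain ⟨a, ha, b, hb, e⟩ := hall g
    have h1 : a ∈ H ⊓ R := by
      refine ⟨hH₁ ha, ?_⟩
      have : a = g * b⁻¹ := by rw [e]; group
      rw [this]
      exact Subgroup.mul_mem _ hg (Subgroup.inv_mem _ (hR₁R hb))
    rw [h.inf_eq_bot, Subgroup.mem_bot] at h1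
    rw [e, h1, one_mul]
    exact hb

/-- transporting the conclusion back from `H₁R₁` -/
theorem plengthLE_of_subgroupOf {H₁ R₁ : Subgroup G}
    (hc : PLengthLE p 1 ↥⁅H₁.subgroupOf (H₁ ⊔ R₁), R₁.subgroupOf (H₁ ⊔ R₁)⁆) :
    PLengthLE p 1 ↥⁅H₁, R₁⁆ := by
  set K : Subgroup G := H₁ ⊔ R₁ with hK
  have hH₁K : H₁ ≤ K := le_sup_left
  have hR₁K : R₁ ≤ K := le_sup_right
  have h1 : (⁅H₁.subgroupOf K, R₁.subgroupOf K⁆).map K.subtype = ⁅H₁, R₁⁆ := by
    rw [Subgroup.map_commutator, Subgroup.map_subgroupOf_eq_of_le hH₁K,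
      Subgroup.map_subgroupOf_eq_of_le hR₁K]
  have e1 : ↥⁅H₁.subgroupOf K, R₁.subgroupOf K⁆ ≃* ↥((⁅H₁.subgroupOf K, R₁.subgroupOf K⁆).map K.subtype) :=
    Subgroup.equivMapOfInjective _ K.subtype (Subgroup.subtype_injective K)
  have e2 : ↥((⁅H₁.subgroupOf K, R₁.subgroupOf K⁆).map K.subtype) ≃* ↥⁅H₁, R₁⁆ :=
    MulEquiv.subgroupCongr h1
  exact plengthLE_of_mulEquiv hc (e1.trans e2)

end T1

section T2

variable {G : Type u} [Group G] [Finite G] {p : ℕ} [Fact p.Prime]

/-- the hypotheses pass to `G/N` -/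
theorem Hyp.quotient {H R R₀ : Subgroup G} (h : Hyp H R R₀) (N : Subgroup G) [hNn : N.Normal]
    (hNH : N ≤ H) :
    Hyp (H.map (QuotientGroup.mk' N)) (R.map (QuotientGroup.mk' N))
      (R₀.map (QuotientGroup.mk' N)) := by
  haveI := h.solv
  haveI := h.normal
  set π := QuotientGroup.mk' N with hπ
  have hπs : Function.Surjective π := QuotientGroup.mk'_surjective N
  have hker : π.ker = N := QuotientGroup.ker_mk' N
  have hcardH : Nat.card (H.map π) ∣ Nat.card H := Subgroup.card_map_dvd H π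
  have hcardR : Nat.card (R.map π) ∣ Nat.card R := Subgroup.card_map_dvd R π
  have hcop : (Nat.card (H.map π)).Coprime (Nat.card (R.map π)) :=
    Nat.Coprime.coprime_dvd_left hcardH (Nat.Coprime.coprime_dvd_right hcardR h.coprime)
  have hcompl : IsComplement' (H.map π) (R.map π) := by
    apply Subgroup.isComplement'_of_disjoint_and_mul_eq_univ
    · exact Subgroup.disjoint_of_coprime_natCard hcop
    · rw [Set.eq_univ_iff_forall]
      intro y
      obtain ⟨g, rfl⟩ := hπs y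
      obtain ⟨a, ha, b, hb, e⟩ := h.mem_mul g
      refine Set.mem_mul.mpr ⟨π a, Subgroup.mem_map_of_mem _ ha, π b, Subgroup.mem_map_of_mem _ hb, ?_⟩
      rw [e, map_mul]
  have hidx : (H.map π).index = H.index := Subgroup.index_map_eq H hπs (by rw [hker]; exact hNH)
  have hsolvH : Group.IsSolvable H := inferInstance
  have hcopR₀ : (Nat.card R₀).Coprime (Nat.card H) :=
    Nat.Coprime.coprime_dvd_left (Subgroup.card_dvd_of_le h.le) h.coprime.symm
  refine
    { solv := Group.isSolvable_of_surjective hπs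
      odd := Odd.of_dvd_nat h.odd (Subgroup.card_quotient_dvd_card N)
      normal := Subgroup.Normal.map h.normal π hπs
      hall := by
        rw [hidx]
        exact Nat.Coprime.coprime_dvd_left hcardH h.hall
      compl := hcompl
      le := Subgroup.map_mono h.le
      prime := ?_
      zgroup := ?_ }
  · have hd : Nat.card (R₀.map π) ∣ Nat.card R₀ := Subgroup.card_map_dvd R₀ π
    rcases (Nat.dvd_prime h.prime).mp hd with h1 | h1
    · exfalso
      have h2 : R₀.map π = ⊥ := Subgroup.card_eq_one.mp h1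
      have h3 : R₀ ≤ N := by
        rw [← hker]
        exact (Subgroup.map_eq_bot_iff R₀).mp h2
      have h4 : R₀ ≤ H ⊓ R := le_inf (h3.trans hNH) h.le
      rw [h.inf_eq_bot, le_bot_iff] at h4
      have h5 := h.prime
      rw [h4, Subgroup.card_bot] at h5
      exact Nat.not_prime_one h5
    · rw [h1]; exact h.prime
  · haveI := h.zgroup
    have hmap := Cfsg.Agent.Lib.H8.map_inf_centralizer_eq H N R₀ hNH hsolvH hcopR₀
    have hZ1 : IsZGroup ↥((H ⊓ centralizer (R₀ : Set G)).map π) :=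
      IsZGroup.of_surjective (f := π.subgroupMap (H ⊓ centralizer (R₀ : Set G)))
        (π.subgroupMap_surjective _)
    rw [hmap] at hZ1
    exact hZ1

end T2

section Induction

variable {p : ℕ} [Fact p.Prime]

/-- the conclusion of B&G 3.6 for all groups of order at most `n` -/
def Goal (p n : ℕ) : Prop :=
  ∀ (G : Type u) [Group G] [Finite G] (H R R₀ : Subgroup G), Hyp H R R₀ → Nat.card G ≤ n →
    PLengthLE p 1 ↥⁅H, R⁆

/-- a counterexample of least order gives a `Ctx` -/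
theorem goal_of_ctx
    (hctx : ∀ (G : Type u) [Group G] [Finite G] (H R R₀ : Subgroup G), Ctx p H R R₀ → False) :
    ∀ n : ℕ, Goal.{u} p n := by
  intro n
  induction n with
  | zero =>
    intro G _ _ H R R₀ _ hcard
    exfalso
    have : 0 < Nat.card G := Nat.card_pos
    omega
  | succ n ih =>
    intro G _ _ H R R₀ hyp hcard
    by_contra hbad
    haveI := hyp.normal
    apply hctx G H R R₀
    refine
      { hyp := hyp
        sub := ?_
        quot := ?_
        bad := hbad }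
    · intro H₁ R₁ hH₁ hR₀R₁ hR₁R hN hne
      apply plengthLE_of_subgroupOf
      apply ih ↥(H₁ ⊔ R₁) _ _ _ (hyp.subgroup hH₁ hR₀R₁ hR₁R hN)
      have := card_sup_lt hyp hH₁ hR₁R hN hne
      omega
    · intro N hNn hNH hN1
      have h1 := ih (G ⧸ N) _ _ _ (hyp.quotient N hNH) (by
        have h2 : Nat.card (G ⧸ N) < Nat.card G := by
          rw [← Subgroup.index_eq_card, ← Subgroup.card_mul_index N]
          have hpos : 0 < N.index := Nat.pos_of_ne_zero Subgroup.index_ne_zero_of_finite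
          have hN1' : 1 < Nat.card N := (Subgroup.one_lt_card_iff_ne_bot N).mpr hN1
          nlinarith
        omega)
      rw [← Subgroup.map_commutator] at h1
      exact h1

/-- B&G 3.6 follows once minimal counterexamples are excluded -/
theorem result_of_ctx
    (hctx : ∀ (G : Type u) [Group G] [Finite G] (H R R₀ : Subgroup G), Ctx p H R R₀ → False)
    {G : Type u} [Group G] [Finite G] (H R R₀ : Subgroup G) (h : Hyp H R R₀) :
    PLengthLE p 1 ↥⁅H, R⁆ :=
  goal_of_ctx hctx (Nat.card G) G H R R₀ h le_rfl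

end Induction

end Cfsg.Agent.Lib.H10.BG36
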