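import Mathlib
import Cfsg.Agent.Lib.H10.BG36g
import Cfsg.Agent.Lib.H10.BG36f
import Cfsg.Agent.Lib.H8.BG37

/-!
# `p`-length one: consequences in subgroup form (helper10)
-/

set_option autoImplicit false
set_option linter.unusedSectionVars false
set_option linter.style.haveILetI false

namespace Cfsg.Agent.Lib.H10.BG36

open Subgroup Cfsg Cfsg.Agent.Lib.H19
open Cfsg.Agent.Lib.H16.BG Cfsg.Agent.Lib.H7.BG7
open scoped Pointwise commutatorElement

universe u

section Abstract

variable {X : Type u} [Group X] [Finite X] {p : ℕ} [hp : Fact p.Prime]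

/-- a normal `p`-subgroup of index prime to `p` contains every `p`-subgroup -/
theorem le_of_normal_of_index_coprime {S D : Subgroup X} [hS : S.Normal] (hSp : IsPGroup p S)
    (hidx : S.index.Coprime p) (hD : IsPGroup p D) : D ≤ S := by
  have hnd : ¬ p ∣ S.index := by
    intro hd
    have := Nat.eq_one_of_dvd_coprimes hidx hd (dvd_refl p)
    exact hp.out.one_lt.ne' this
  let P : Sylow p X := hSp.toSylow hnd
  have hPS : (P : Subgroup X) = S := rfl
  obtain ⟨Q, hQ⟩ := hD.exists_le_sylow
  obtain ⟨g, hg⟩ := MulAction.exists_smul_eq X P Q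
  haveI : (P : Subgroup X).Normal := hPS ▸ hS
  have h1 : g • P = P := Sylow.smul_eq_of_normal
  rw [h1] at hg
  rw [← hPS, hg]
  exact hQ

/-- the reduction modulo a "Frattini-like" normal subgroup `N` of `V = O_p(X)` -/
theorem index_coprime_of_quot (V N : Subgroup X) [hVn : V.Normal] [hNn : N.Normal]
    (hNV : N ≤ V) (hV : IsPGroup p V)
    (hO : ∀ S : Subgroup X, S.Normal → IsPGroup p S → S ≤ V)
    (hC : centralizer (V : Set X) ≤ V)
    (hB : ∀ y : X, (orderOf y).Coprime p →
      (∀ a ∈ zpowers y, ∀ v ∈ V, a * v * a⁻¹ * v⁻¹ ∈ N) → ∀ v ∈ V, y * v = v * y)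
    (hq : PLengthLE p 1 (X ⧸ N)) : V.index.Coprime p := by
  set π := QuotientGroup.mk' N with hπ
  have hπs : Function.Surjective π := QuotientGroup.mk'_surjective N
  have hker : π.ker = N := QuotientGroup.ker_mk' N
  obtain ⟨j, hj⟩ := IsPGroup.iff_card.mp hV
  have hVmap : IsPGroup p (V.map π) := hV.map π
  have hO' : ∀ Nq : Subgroup (X ⧸ N), Nq.Normal → (Nat.card Nq).Coprime p → Nq = ⊥ := by
    intro Nq hn hc
    set K : Subgroup X := Nq.comap π with hK
    haveI hKn : K.Normal := Subgroup.Normal.comap hn π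
    have hdisj : Nq ⊓ V.map π = ⊥ := by
      apply disjoint_iff.mp
      apply Subgroup.disjoint_of_coprime_natCard
      obtain ⟨i, hi⟩ := IsPGroup.iff_card.mp hVmap
      rw [hi]
      exact Nat.Coprime.pow_right i hc
    have hKp : IsPGroup p K := by
      rintro ⟨k, hk⟩
      have hn0 : orderOf k ≠ 0 := (orderOf_pos k).ne'
      obtain ⟨b, m, hm, hnm⟩ := Nat.exists_eq_pow_mul_and_not_dvd hn0 p hp.out.ne_one
      refine ⟨b, ?_⟩
      apply Subtype.ext
      show k ^ p ^ b = 1
      set y : X := k ^ p ^ b with hy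
      have hyK : y ∈ K := Subgroup.pow_mem _ hk _
      have hym : y ^ m = 1 := by
        rw [hy, ← pow_mul, ← hnm]
        exact pow_orderOf_eq_one k
      have hycop : (orderOf y).Coprime p := by
        have h1 : orderOf y ∣ m := orderOf_dvd_of_pow_eq_one hym
        have h2 : m.Coprime p := by
          rw [Nat.coprime_comm]
          exact (Nat.Prime.coprime_iff_not_dvd hp.out).mpr hm
        exact Nat.Coprime.coprime_dvd_left h1 h2
      have hcond : ∀ a ∈ zpowers y, ∀ v ∈ V, a * v * a⁻¹ * v⁻¹ ∈ N := by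
        intro a ha v hv
        have haK : a ∈ K := (Subgroup.zpowers_le.mpr hyK) ha
        have h1 : a * v * a⁻¹ * v⁻¹ ∈ V :=
          Subgroup.mul_mem _ (hVn.conj_mem v hv a) (Subgroup.inv_mem _ hv)
        have h2 : a * v * a⁻¹ * v⁻¹ ∈ K := by
          have h3 : v * a⁻¹ * v⁻¹ ∈ K := hKn.conj_mem _ (Subgroup.inv_mem _ haK) v
          have : a * v * a⁻¹ * v⁻¹ = a * (v * a⁻¹ * v⁻¹) := by group
          rw [this]
          exact Subgroup.mul_mem _ haK h3
        have h4 : π (a * v * a⁻¹ * v⁻¹) ∈ Nq ⊓ V.map π :=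
          ⟨h2, Subgroup.mem_map_of_mem _ h1⟩
        rw [hdisj, Subgroup.mem_bot] at h4
        rw [← hker]
        exact h4
      have hcent := hB y hycop hcond
      have hyV : y ∈ V := by
        apply hC
        rw [Subgroup.mem_centralizer_iff]
        intro v hv
        exact (hcent v hv).symm
      obtain ⟨i, hi⟩ := hV ⟨y, hyV⟩
      have hi' : y ^ p ^ i = 1 := by
        have := congrArg Subtype.val hi
        simpa using this
      have h5 : orderOf y ∣ p ^ i := orderOf_dvd_of_pow_eq_one hi'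
      have h6 : orderOf y = 1 :=
        Nat.eq_one_of_dvd_coprimes (Nat.Coprime.pow_right i hycop) (dvd_refl _) h5
      exact orderOf_eq_one_iff.mp h6
    have hmap : K.map π = Nq := Subgroup.map_comap_eq_self_of_surjective hπs Nq
    have hNqp : IsPGroup p Nq := hmap ▸ hKp.map π
    obtain ⟨i, hi⟩ := IsPGroup.iff_card.mp hNqp
    rcases i with _ | i
    · rw [pow_zero] at hi
      exact Subgroup.card_eq_one.mp hi
    · exfalso
      rw [hi] at hc
      have := Nat.Coprime.coprime_dvd_left (dvd_pow_self p (Nat.succ_ne_zero i)) hc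
      rw [Nat.coprime_self] at this
      exact hp.out.one_lt.ne' this
  obtain ⟨Sq, hSn, hSp, hSidx⟩ := exists_normal_sylow_of_plengthLE_one hq hO'
  set S : Subgroup X := Sq.comap π with hS
  have hSnorm : S.Normal := Subgroup.Normal.comap hSn π
  have hSpg : IsPGroup p S := by
    rintro ⟨s, hs⟩
    obtain ⟨i, hi⟩ := hSp ⟨π s, hs⟩
    have hi' : (π s) ^ p ^ i = 1 := by
      have := congrArg Subtype.val hi
      simpa using this
    have h1 : s ^ p ^ i ∈ N := by
      rw [← hker, MonoidHom.mem_ker, map_pow]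
      exact hi'
    obtain ⟨j', hj'⟩ := hV ⟨s ^ p ^ i, hNV h1⟩
    have hj'' : (s ^ p ^ i) ^ p ^ j' = 1 := by
      have := congrArg Subtype.val hj'
      simpa using this
    refine ⟨i + j', ?_⟩
    apply Subtype.ext
    show s ^ p ^ (i + j') = 1
    rw [pow_add, pow_mul]
    exact hj''
  have hSV : S ≤ V := hO S hSnorm hSpg
  have hmapS : S.map π = Sq := Subgroup.map_comap_eq_self_of_surjective hπs Sq
  have hle : Sq ≤ V.map π := hmapS ▸ Subgroup.map_mono hSV
  have hdvd : (V.map π).index ∣ Sq.index := Subgroup.index_dvd_of_le hle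
  have hidx : (V.map π).index = V.index := Subgroup.index_map_eq V hπs (by rw [hker]; exact hNV)
  rw [← hidx]
  exact Nat.Coprime.coprime_dvd_left hdvd hSidx

end Abstract

section Sub

variable {G : Type u} [Group G] [Finite G] {p : ℕ} [hp : Fact p.Prime]

theorem le_normalizer_map_subtype {Y : Subgroup G} (S : Subgroup Y) [hS : S.Normal] :
    Y ≤ normalizer ((S.map Y.subtype : Subgroup G) : Set G) := by
  apply Cfsg.Agent.Lib.H8.le_normalizer_of_conj_mem
  rintro g hg _ ⟨s, hs, rfl⟩
  refine ⟨⟨g, hg⟩ * s * ⟨g, hg⟩⁻¹, hS.conj_mem s hs ⟨g, hg⟩, ?_⟩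
  simp

/-- a group of `p`-length one with `O_{p'} = 1`: every `p`-subgroup lies in `O_p` -/
theorem le_piCoreOf_of_plengthLE_one {Y : Subgroup G} (h : PLengthLE p 1 ↥Y)
    (hO : piCoreOf (primesNotDvd p) Y = ⊥) {D : Subgroup G} (hDY : D ≤ Y) (hD : IsPGroup p D) :
    D ≤ piCoreOf {p} Y := by
  have hO' : ∀ N : Subgroup Y, N.Normal → (Nat.card N).Coprime p → N = ⊥ := by
    intro N hN hc
    have h1 : N.map Y.subtype ≤ piCoreOf (primesNotDvd p) Y := by
      apply le_piCoreOf_primesNotDvd (Subgroup.map_subtype_le N) (le_normalizer_map_subtype N)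
      rw [Subgroup.card_map_of_injective (Subgroup.subtype_injective Y)]
      exact hc
    rw [hO, le_bot_iff] at h1
    exact (Subgroup.map_eq_bot_iff_of_injective N (Subgroup.subtype_injective Y)).mp h1
  obtain ⟨S, hSn, hSp, hSidx⟩ := exists_normal_sylow_of_plengthLE_one h hO'
  have hD' : IsPGroup p (D.subgroupOf Y) := hD.of_equiv (Subgroup.subgroupOfEquivOfLe hDY).symm
  have h2 : D.subgroupOf Y ≤ S := le_of_normal_of_index_coprime hSp hSidx hD'
  have h3 : S.map Y.subtype ≤ piCoreOf {p} Y := by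
    apply le_piCoreOf (Subgroup.map_subtype_le S) (le_normalizer_map_subtype S)
    exact isPiCard_card_of_isPGroup (Set.mem_singleton p) (hSp.map Y.subtype)
  have h4 := Subgroup.map_mono (f := Y.subtype) h2
  rw [Subgroup.map_subgroupOf_eq_of_le hDY] at h4
  exact h4.trans h3

/-- a normal `p`-subgroup of index prime to `p` gives `p`-length one -/
theorem plengthLE_one_of_relIndex {H V : Subgroup G} (hVH : V ≤ H)
    (hHV : H ≤ normalizer (V : Set G)) (hV : IsPGroup p V) (hidx : (V.relIndex H).Coprime p) :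
    PLengthLE p 1 ↥H := by
  haveI : (V.subgroupOf H).Normal := (Subgroup.normal_subgroupOf_iff_le_normalizer hVH).mpr hHV
  exact plengthLE_one_of_normal_pgroup (V.subgroupOf H)
    (hV.of_equiv (Subgroup.subgroupOfEquivOfLe hVH).symm) hidx

/-- the quotient form of the induction hypothesis -/
theorem plengthLE_quotient_subgroupOf {H N : Subgroup G} [hN : N.Normal] {k : ℕ}
    (h : PLengthLE p k ↥(H.map (QuotientGroup.mk' N))) :
    PLengthLE p k (↥H ⧸ N.subgroupOf H) := by
  let φ : ↥H →* ↥(H.map (QuotientGroup.mk' N)) := (QuotientGroup.mk' N).subgroupMap H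
  have hφ : Function.Surjective φ := (QuotientGroup.mk' N).subgroupMap_surjective H
  have hker : φ.ker = N.subgroupOf H := by
    ext x
    rw [MonoidHom.mem_ker, Subgroup.mem_subgroupOf]
    constructor
    · intro hx
      have h1 : (QuotientGroup.mk' N) (x : G) = 1 := congrArg Subtype.val hx
      rwa [← MonoidHom.mem_ker, QuotientGroup.ker_mk'] at h1
    · intro hx
      apply Subtype.ext
      show (QuotientGroup.mk' N) (x : G) = 1
      rw [← MonoidHom.mem_ker, QuotientGroup.ker_mk']
      exact hx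
  have e1 : ↥H ⧸ φ.ker ≃* ↥(H.map (QuotientGroup.mk' N)) :=
    QuotientGroup.quotientKerEquivOfSurjective φ hφ
  have e2 : ↥H ⧸ φ.ker ≃* ↥H ⧸ N.subgroupOf H := QuotientGroup.quotientMulEquivOfEq hker
  exact plengthLE_of_mulEquiv h (e1.symm.trans e2)

end Sub

end Cfsg.Agent.Lib.H10.BG36
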