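import Mathlib
import Cfsg.Agent.Lib.H10.BG36h
import Cfsg.Agent.Lib.H9.FrattiniAction
import Cfsg.Agent.Lib.H1.PGroupBasic

/-!
# B&G 3.6: the first reductions in a minimal counterexample (helper10)

`H = [H, R]`, `O_{p'}(H) = 1`, `V = O_p(H) = F(H)` is elementary abelian and self-centralizing.
-/

set_option autoImplicit false
set_option linter.unusedSectionVars false
set_option linter.style.haveILetI false

namespace Cfsg.Agent.Lib.H10.BG36

open Subgroup Cfsg Cfsg.Agent.Lib.H19 Cfsg.Agent.Lib.H1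
open Cfsg.Agent.Lib.H16.BG Cfsg.Agent.Lib.H7.BG7
open scoped Pointwise commutatorElement

universe u

variable {G : Type u} [Group G] [Finite G] {p : ℕ} [hp : Fact p.Prime] {H R R₀ : Subgroup G}

namespace Ctx

theorem normalizer_H (c : Ctx p H R R₀) : normalizer (H : Set G) = ⊤ :=
  Subgroup.normalizer_eq_top_iff.mpr c.hyp.normal

theorem solvH (c : Ctx p H R R₀) : Group.IsSolvable ↥H := by
  haveI := c.hyp.solv
  infer_instance

theorem coprimeAction (c : Ctx p H R R₀) : CoprimeAction R H where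
  normalizes := by rw [c.normalizer_H]; exact le_top
  coprime := c.hyp.coprime.symm
  solvable := Or.inr c.solvH

theorem commutator_eq (c : Ctx p H R R₀) : ⁅H, R⁆ = H := by
  haveI := c.hyp.normal
  by_contra hne
  have hle : ⁅H, R⁆ ≤ H := Subgroup.commutator_le_left H R
  have h1 := c.sub ⁅H, R⁆ R hle c.hyp.le le_rfl (Subgroup.normalizer_commutator_ge_right H R)
    (Or.inl hne)
  rw [coprime_commutator_commutator c.coprimeAction] at h1
  exact c.bad h1

theorem badH (c : Ctx p H R R₀) : ¬ PLengthLE p 1 ↥H := by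
  have := c.bad
  rwa [c.commutator_eq] at this

theorem quotH (c : Ctx p H R R₀) (N : Subgroup G) [N.Normal] (hNH : N ≤ H) (hN1 : N ≠ ⊥) :
    PLengthLE p 1 (↥H ⧸ N.subgroupOf H) := by
  have := c.quot N hNH hN1
  rw [c.commutator_eq] at this
  exact plengthLE_quotient_subgroupOf this

theorem eq_bot_of_coprime (c : Ctx p H R R₀) (N : Subgroup G) [N.Normal] (hNH : N ≤ H)
    (hc : (Nat.card N).Coprime p) : N = ⊥ := by
  by_contra hN1
  have hq := c.quotH N hNH hN1
  have h0 : PLengthLE p 0 ↥(N.subgroupOf H) := by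
    apply plengthLE_zero_of_coprime
    rw [Nat.card_congr (Subgroup.subgroupOfEquivOfLe hNH).toEquiv]
    exact hc
  have := plengthLE_of_extension (N.subgroupOf H) h0 hq
  rw [Nat.zero_add] at this
  exact c.badH this

/-- two normal subgroups of `G` inside `H` meeting trivially: one is trivial -/
theorem sd (c : Ctx p H R R₀) (A B : Subgroup G) [A.Normal] [B.Normal] (hA : A ≤ H) (hB : B ≤ H)
    (hAB : A ⊓ B = ⊥) : A = ⊥ ∨ B = ⊥ := by
  by_contra hcon
  rw [not_or] at hcon
  have hqA := c.quotH A hA hcon.1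
  have hqB := c.quotH B hB hcon.2
  have hinf : A.subgroupOf H ⊓ B.subgroupOf H = ⊥ := by
    rw [eq_bot_iff]
    intro x hx
    have h1 : (x : G) ∈ A ⊓ B := ⟨Subgroup.mem_subgroupOf.mp hx.1, Subgroup.mem_subgroupOf.mp hx.2⟩
    rw [hAB, Subgroup.mem_bot] at h1
    rw [Subgroup.mem_bot]
    exact Subtype.ext h1
  exact c.badH (plengthLE_of_inf_eq_bot _ _ hinf hqA hqB)

theorem H_ne_bot (c : Ctx p H R R₀) : H ≠ ⊥ := by
  intro h
  apply c.badH
  apply plengthLE_one_of_isPGroup (m := 0)
  rw [h, Subgroup.card_bot, pow_zero]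

theorem normal_of_normalizer_le (c : Ctx p H R R₀) {K : Subgroup G}
    (h : normalizer (H : Set G) ≤ normalizer (K : Set G)) : K.Normal := by
  rw [← Subgroup.normalizer_eq_top_iff, eq_top_iff, ← c.normalizer_H]
  exact h

theorem piCoreOf_normal (c : Ctx p H R R₀) (π : Set ℕ) : (piCoreOf π H).Normal :=
  c.normal_of_normalizer_le (normalizer_le_normalizer_piCoreOf π H)

theorem le_V (_c : Ctx p H R R₀) {D : Subgroup G} (hDH : D ≤ H)
    (hHD : H ≤ normalizer (D : Set G)) (hD : IsPGroup p D) : D ≤ piCoreOf {p} H :=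
  le_piCoreOf hDH hHD (isPiCard_card_of_isPGroup (Set.mem_singleton p) hD)

theorem piCoreOf_eq_bot (c : Ctx p H R R₀) {q : ℕ} (hq : q.Prime) (hqp : q ≠ p) :
    piCoreOf {q} H = ⊥ := by
  haveI : Fact q.Prime := ⟨hq⟩
  haveI := c.piCoreOf_normal {q}
  apply c.eq_bot_of_coprime _ (piCoreOf_le _ _)
  obtain ⟨k, hk⟩ := IsPGroup.iff_card.mp (isPGroup_piCoreOf_singleton q H)
  rw [hk]
  exact Nat.Coprime.pow_left k ((Nat.coprime_primes hq hp.out).mpr hqp)

theorem fittingOf_eq (c : Ctx p H R R₀) : fittingOf H = piCoreOf {p} H := by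
  apply le_antisymm
  · refine (le_iSup_piCoreOf_singleton (fittingOf_isNilpotent H)).trans (iSup_le ?_)
    intro q
    have h1 : piCoreOf {(q : ℕ)} (fittingOf H) ≤ piCoreOf {(q : ℕ)} H :=
      piCoreOf_le_piCoreOf_of_normal _ (fittingOf_le H) (le_normalizer_fittingOf H)
    by_cases hqp : (q : ℕ) = p
    · rw [hqp] at h1 ⊢
      exact h1
    · rw [c.piCoreOf_eq_bot q.2 hqp] at h1
      exact h1.trans bot_le
  · exact piCoreOf_singleton_le_fittingOf p H

theorem cent_le (c : Ctx p H R R₀) :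
    H ⊓ centralizer ((piCoreOf {p} H : Subgroup G) : Set G) ≤ piCoreOf {p} H := by
  have := inf_centralizer_fittingOf_le c.solvH
  rwa [c.fittingOf_eq] at this

theorem V_ne_bot (c : Ctx p H R R₀) : piCoreOf {p} H ≠ ⊥ := by
  rw [← c.fittingOf_eq]
  exact fittingOf_ne_bot c.solvH c.H_ne_bot

theorem frattini_eq_bot (c : Ctx p H R R₀) : frattini ↥(piCoreOf {p} H) = ⊥ := by
  set V : Subgroup G := piCoreOf {p} H with hV
  haveI hVn : V.Normal := c.piCoreOf_normal {p}
  have hVH : V ≤ H := piCoreOf_le _ _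
  have hVp : IsPGroup p V := isPGroup_piCoreOf_singleton p H
  set Φ : Subgroup G := (frattini ↥V).map V.subtype with hΦ
  have hΦV : Φ ≤ V := Subgroup.map_subtype_le _
  have hΦH : Φ ≤ H := hΦV.trans hVH
  haveI hΦn : Φ.Normal := by
    rw [← Subgroup.normalizer_eq_top_iff, eq_top_iff]
    have h1 : normalizer (V : Set G) = ⊤ := Subgroup.normalizer_eq_top_iff.mpr hVn
    rw [← h1]
    exact normalizer_le_normalizer_map_of_characteristic (frattini ↥V)
  by_contra hne
  have hΦ1 : Φ ≠ ⊥ := by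
    intro h
    apply hne
    exact (Subgroup.map_eq_bot_iff_of_injective _ (Subgroup.subtype_injective V)).mp h
  have hq := c.quotH Φ hΦH hΦ1
  have hidx : (V.subgroupOf H).index.Coprime p := by
    apply index_coprime_of_quot (V.subgroupOf H) (Φ.subgroupOf H)
    · intro x hx
      exact hΦV hx
    · exact hVp.of_equiv (Subgroup.subgroupOfEquivOfLe hVH).symm
    · intro S hS hSp
      haveI := hS
      have h1 : S.map H.subtype ≤ V :=
        c.le_V (Subgroup.map_subtype_le S) (le_normalizer_map_subtype S) (hSp.map H.subtype)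
      intro x hx
      exact h1 (Subgroup.mem_map_of_mem H.subtype hx)
    · intro x hx
      have h1 : (x : G) ∈ H ⊓ centralizer (V : Set G) := by
        refine ⟨x.2, ?_⟩
        show (x : G) ∈ centralizer (V : Set G)
        rw [Subgroup.mem_centralizer_iff]
        intro v hv
        have h2 := Subgroup.mem_centralizer_iff.mp hx ⟨v, hVH hv⟩ (Subgroup.mem_subgroupOf.mpr hv)
        exact congrArg Subtype.val h2
      exact c.cent_le h1
    · intro y hy hcond v hv
      have h1 := Cfsg.Agent.Lib.H9.commute_of_commutator_mem_frattini (G := G) hVp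
        (y := (y : G)) (by
          rw [Subgroup.normalizer_eq_top_iff.mpr hVn]; exact Subgroup.mem_top _)
        (by rw [Subgroup.orderOf_coe]; exact hy)
        (by
          intro a ha q hq
          obtain ⟨k, rfl⟩ := Subgroup.mem_zpowers_iff.mp ha
          have h2 := hcond (y ^ k) (Subgroup.zpow_mem_zpowers y k) ⟨q, hVH hq⟩
            (Subgroup.mem_subgroupOf.mpr hq)
          have h3 : ((y ^ k * ⟨q, hVH hq⟩ * (y ^ k)⁻¹ * (⟨q, hVH hq⟩ : ↥H)⁻¹ : ↥H) : G) ∈ Φ :=
            Subgroup.mem_subgroupOf.mp h2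
          have h4 : ((y ^ k * ⟨q, hVH hq⟩ * (y ^ k)⁻¹ * (⟨q, hVH hq⟩ : ↥H)⁻¹ : ↥H) : G) =
              (y : G) ^ k * q * ((y : G) ^ k)⁻¹ * q⁻¹ := by
            simp
          rw [h4] at h3
          exact h3)
      apply Subtype.ext
      exact h1 (v : G) (Subgroup.mem_subgroupOf.mp hv)
    · exact hq
  exact c.badH (plengthLE_one_of_relIndex hVH (by rw [Subgroup.normalizer_eq_top_iff.mpr hVn]; exact le_top)
    hVp hidx)

end Ctx

/-- the situation after the first reductions -/
structure St2 (p : ℕ) {G : Type u} [Group G] [Finite G] (H R R₀ V : Subgroup G) : Prop where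
  ctx : Ctx p H R R₀
  Vn : V.Normal
  VH : V ≤ H
  Vp : IsPGroup p V
  V1 : V ≠ ⊥
  Vcomm : ∀ a ∈ V, ∀ b ∈ V, a * b = b * a
  Vexp : ∀ v ∈ V, v ^ p = 1
  VF : fittingOf H = V
  CV : H ⊓ centralizer (V : Set G) ≤ V
  leV : ∀ D : Subgroup G, D ≤ H → H ≤ normalizer (D : Set G) → IsPGroup p D → D ≤ V

theorem Ctx.st2 (c : Ctx p H R R₀) : St2 p H R R₀ (piCoreOf {p} H) := by
  have hVp : IsPGroup p (piCoreOf {p} H) := isPGroup_piCoreOf_singleton p H
  have hfr := c.frattini_eq_bot
  refine
    { ctx := c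
      Vn := c.piCoreOf_normal {p}
      VH := piCoreOf_le _ _
      Vp := hVp
      V1 := c.V_ne_bot
      Vcomm := ?_
      Vexp := ?_
      VF := c.fittingOf_eq
      CV := c.cent_le
      leV := fun D hDH hHD hD => c.le_V hDH hHD hD }
  · intro a ha b hb
    have h1 : ⁅(⟨a, ha⟩ : ↥(piCoreOf {p} H)), ⟨b, hb⟩⁆ ∈ commutator ↥(piCoreOf {p} H) := by
      rw [commutator_def]
      exact Subgroup.commutator_mem_commutator (Subgroup.mem_top _) (Subgroup.mem_top _)
    have h2 := isPGroup_commutator_le_frattini hVp h1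
    rw [hfr, Subgroup.mem_bot] at h2
    have h3 := commutatorElement_eq_one_iff_commute.mp h2
    exact congrArg Subtype.val h3.eq
  · intro v hv
    have h2 := isPGroup_pow_mem_frattini hVp (⟨v, hv⟩ : ↥(piCoreOf {p} H))
    rw [hfr, Subgroup.mem_bot] at h2
    have := congrArg Subtype.val h2
    simpa using this

end Cfsg.Agent.Lib.H10.BG36
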