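import Mathlib
import Cfsg.Agent.Lib.H10.BG36i
import Cfsg.Agent.Lib.H1.FrattiniArg
import Cfsg.Agent.Lib.H1.CoprimeAbelian

/-!
# B&G 3.6: the complement `L` of `V` in `H` (helper10)
-/

set_option autoImplicit false
set_option linter.unusedSectionVars false
set_option linter.style.haveILetI false

namespace Cfsg.Agent.Lib.H10.BG36

open Subgroup Cfsg Cfsg.Agent.Lib.H19 Cfsg.Agent.Lib.H1
open Cfsg.Agent.Lib.H16.BG Cfsg.Agent.Lib.H7.BG7
open scoped Pointwise commutatorElement IsMulCommutative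

universe u

variable {G : Type u} [Group G] [Finite G] {p : ℕ} [hp : Fact p.Prime] {H R R₀ V : Subgroup G}

namespace St2

theorem isMulCommutative (s : St2 p H R R₀ V) : IsMulCommutative V :=
  ⟨⟨fun a b => Subtype.ext (s.Vcomm a a.2 b b.2)⟩⟩

theorem normalizer_V (s : St2 p H R R₀ V) : normalizer (V : Set G) = ⊤ :=
  Subgroup.normalizer_eq_top_iff.mpr s.Vn

theorem le_normalizer_V (s : St2 p H R R₀ V) (X : Subgroup G) : X ≤ normalizer (V : Set G) := by
  rw [s.normalizer_V]; exact le_top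

/-- a subgroup of the abelian group `V` is normalized by `V` -/
theorem V_le_normalizer (s : St2 p H R R₀ V) {A : Subgroup G} (hAV : A ≤ V) :
    V ≤ normalizer (A : Set G) := by
  apply Cfsg.Agent.Lib.H8.le_normalizer_of_conj_mem
  intro v hv a ha
  have : v * a * v⁻¹ = a := by
    rw [s.Vcomm v hv a (hAV ha)]; group
  rw [this]; exact ha

/-- a `p'`-subgroup of the `p`-group `V` is trivial -/
theorem eq_bot_of_le_V (s : St2 p H R R₀ V) {X : Subgroup G} (hXV : X ≤ V)
    (hXp : (Nat.card X).Coprime p) : X = ⊥ := by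
  obtain ⟨n, hn⟩ := IsPGroup.iff_card.mp s.Vp
  have h1 : Nat.card X ∣ p ^ n := hn ▸ Subgroup.card_dvd_of_le hXV
  have h2 : Nat.card X = 1 :=
    Nat.eq_one_of_dvd_coprimes (Nat.Coprime.pow_right n hXp) (dvd_refl _) h1
  exact Subgroup.card_eq_one.mp h2

theorem coprime_card_V (s : St2 p H R R₀ V) {X : Subgroup G} (hXp : (Nat.card X).Coprime p) :
    (Nat.card X).Coprime (Nat.card V) := by
  obtain ⟨n, hn⟩ := IsPGroup.iff_card.mp s.Vp
  rw [hn]
  exact Nat.Coprime.pow_right n hXp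

/-- `C_V(X) = 1` for a nontrivial `p'`-subgroup `X` of `H` with `G = V N_G(X)`. -/
theorem inf_centralizer_eq_bot (s : St2 p H R R₀ V) {X : Subgroup G} (hXH : X ≤ H)
    (hXp : (Nat.card X).Coprime p) (hX1 : X ≠ ⊥)
    (hXN : V ⊔ normalizer (X : Set G) = ⊤) : V ⊓ centralizer (X : Set G) = ⊥ := by
  haveI := s.Vn
  haveI := s.isMulCommutative
  set A₁ : Subgroup G := V ⊓ centralizer (X : Set G) with hA₁
  set B₁ : Subgroup G := ⁅V, X⁆ with hB₁
  have hXV : X ≤ normalizer (V : Set G) := s.le_normalizer_V X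
  have hB₁V : B₁ ≤ V := commutator_le_of_le_normalizer hXV
  haveI hA₁n : A₁.Normal := by
    rw [← Subgroup.normalizer_eq_top_iff, eq_top_iff, ← hXN]
    refine sup_le (s.V_le_normalizer inf_le_left) ?_
    exact le_normalizer_inf (s.le_normalizer_V _) (le_normalizer_centralizer le_rfl)
  haveI hB₁n : B₁.Normal := by
    rw [← Subgroup.normalizer_eq_top_iff, eq_top_iff, ← hXN]
    refine sup_le (s.V_le_normalizer hB₁V) ?_
    exact le_normalizer_commutator (s.le_normalizer_V _) le_rfl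
  have hdisj : A₁ ⊓ B₁ = ⊥ :=
    coprime_abelian_centralizer_inf_commutator hXV (s.coprime_card_V hXp)
  rcases s.ctx.sd A₁ B₁ (inf_le_left.trans s.VH) (hB₁V.trans s.VH) hdisj with h | h
  · exact h
  · exfalso
    apply hX1
    have h1 : V ≤ centralizer (X : Set G) := le_centralizer_of_commutator_eq_bot h
    have h2 : X ≤ centralizer (V : Set G) := le_centralizer_comm h1
    have h3 : X ≤ V := (le_inf hXH h2).trans s.CV
    exact s.eq_bot_of_le_V h3 hXp

theorem V_ne_H (s : St2 p H R R₀ V) : V ≠ H := by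
  intro e
  apply s.ctx.badH
  apply plengthLE_one_of_relIndex s.VH (s.le_normalizer_V H) s.Vp
  rw [e, Subgroup.relIndex_self]
  exact Nat.coprime_one_left p

/-- the complement -/
theorem exists_complement (s : St2 p H R R₀ V) :
    ∃ L : Subgroup G, L ≤ H ∧ V ⊓ L = ⊥ ∧ V ⊔ L = H ∧ R ≤ normalizer (L : Set G) := by
  haveI hVn := s.Vn
  haveI := s.ctx.hyp.solv
  haveI := s.ctx.hyp.normal
  have c := s.ctx
  set π := QuotientGroup.mk' V with hπ
  have hπs : Function.Surjective π := QuotientGroup.mk'_surjective V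
  have hker : π.ker = V := QuotientGroup.ker_mk' V
  set Hb : Subgroup (G ⧸ V) := H.map π with hHb
  have hHb1 : Hb ≠ ⊥ := by
    intro h
    have h1 : H ≤ π.ker := (Subgroup.map_eq_bot_iff H).mp h
    rw [hker] at h1
    exact s.V_ne_H (le_antisymm s.VH h1)
  haveI hHbn : Hb.Normal := Subgroup.Normal.map inferInstance π hπs
  have hHbN : normalizer (Hb : Set (G ⧸ V)) = ⊤ := Subgroup.normalizer_eq_top_iff.mpr hHbn
  haveI : Group.IsSolvable (G ⧸ V) := Group.isSolvable_of_surjective hπs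
  have hsolvHb : Group.IsSolvable ↥Hb := inferInstance
  have hF1 : fittingOf Hb ≠ ⊥ := fittingOf_ne_bot hsolvHb hHb1
  have hexq : ∃ q : Nat.Primes, piCoreOf {(q : ℕ)} (fittingOf Hb) ≠ ⊥ := by
    by_contra hcon
    apply hF1
    rw [eq_bot_iff]
    refine (le_iSup_piCoreOf_singleton (fittingOf_isNilpotent Hb)).trans (iSup_le ?_)
    intro q
    by_contra hq
    apply hcon
    refine ⟨q, fun h => hq ?_⟩
    rw [h]
  obtain ⟨⟨q, hq⟩, hqF⟩ := hexq
  haveI : Fact q.Prime := ⟨hq⟩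
  set Ob : Subgroup (G ⧸ V) := piCoreOf {q} Hb with hOb
  have hOb1 : Ob ≠ ⊥ := by
    have h1 : piCoreOf {q} (fittingOf Hb) ≤ Ob :=
      piCoreOf_le_piCoreOf_of_normal _ (fittingOf_le Hb) (le_normalizer_fittingOf Hb)
    exact Cfsg.Agent.Lib.H16.BG.ne_bot_of_le_ne_bot hqF h1
  have hObq : IsPGroup q Ob := isPGroup_piCoreOf_singleton q Hb
  have hObn : Ob.Normal := by
    rw [← Subgroup.normalizer_eq_top_iff, eq_top_iff, ← hHbN]
    exact normalizer_le_normalizer_piCoreOf {q} Hb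
  set A : Subgroup G := Ob.comap π with hA
  haveI hAn : A.Normal := Subgroup.Normal.comap hObn π
  have hVA : V ≤ A := by rw [← hker]; exact MonoidHom.ker_le_comap π Ob
  have hAH : A ≤ H := by
    have h2 : A ≤ Hb.comap π := Subgroup.comap_mono (piCoreOf_le _ _)
    rw [hHb, Subgroup.comap_map_eq, hker, sup_eq_left.mpr s.VH] at h2
    exact h2
  have hAmap : A.map π = Ob := Subgroup.map_comap_eq_self_of_surjective hπs Ob
  have hVmap : V.map π = ⊥ := (Subgroup.map_eq_bot_iff V).mpr hker.ge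
  have hqp : q ≠ p := by
    intro e
    have hAp : IsPGroup p A := by
      rw [e] at hObq
      exact hObq.comap_of_ker_isPGroup π (by rw [hker]; exact s.Vp)
    have h1 : A ≤ V := s.leV A hAH (by
      rw [Subgroup.normalizer_eq_top_iff.mpr hAn]; exact le_top) hAp
    apply hOb1
    rw [← hAmap, eq_bot_iff, ← hVmap]
    exact Subgroup.map_mono h1
  have hcaA : CoprimeAction R A :=
    { normalizes := by rw [Subgroup.normalizer_eq_top_iff.mpr hAn]; exact le_top
      coprime := Nat.Coprime.coprime_dvd_right (Subgroup.card_dvd_of_le hAH) c.hyp.coprime.symm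
      solvable := Or.inr inferInstance }
  obtain ⟨Q, hQ, hRQ⟩ := coprime_exists_invariant_sylow hcaA q
  have hQq : IsPGroup q Q := hQ.isPGroup
  have hQA : Q ≤ A := hQ.le
  have hQH : Q ≤ H := hQA.trans hAH
  have hQp : (Nat.card Q).Coprime p := by
    obtain ⟨k, hk⟩ := IsPGroup.iff_card.mp hQq
    rw [hk]
    exact Nat.Coprime.pow_left k ((Nat.coprime_primes hq hp.out).mpr hqp)
  have hVQ : V ⊓ Q = ⊥ := disjoint_iff.mp (IsPGroup.disjoint_of_ne p q hqp.symm V Q s.Vp hQq)
  -- `A = VQ`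
  have hAVQ : A ≤ V ⊔ Q := by
    have hle : V ⊔ Q ≤ A := sup_le hVA hQA
    set d := (V ⊔ Q).relIndex A with hd
    have h1 : d ∣ V.relIndex A := Subgroup.relIndex_dvd_of_le_left A le_sup_left
    have h2 : V.relIndex A = Nat.card Ob := by
      have := Subgroup.relIndex_ker (K := A) π
      rw [hker, hAmap] at this
      exact this
    have h3 : d ∣ Q.relIndex A := Subgroup.relIndex_dvd_of_le_left A le_sup_right
    have h4 : ¬ q ∣ Q.relIndex A := hQ.not_dvd_relIndex
    obtain ⟨b, hb⟩ := IsPGroup.iff_card.mp hObq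
    rw [h2, hb] at h1
    obtain ⟨j, -, hj⟩ := (Nat.dvd_prime_pow hq).mp h1
    rcases j with _ | j
    · rw [pow_zero] at hj
      exact Subgroup.relIndex_eq_one.mp hj
    · exfalso
      apply h4
      refine dvd_trans ?_ h3
      rw [hj]
      exact dvd_pow_self q (Nat.succ_ne_zero j)
  have hQ1 : Q ≠ ⊥ := by
    intro e
    apply hOb1
    rw [e, sup_bot_eq] at hAVQ
    rw [← hAmap, eq_bot_iff, ← hVmap]
    exact Subgroup.map_mono hAVQ
  have hFr : normalizer (Q : Set G) ⊔ A = ⊤ := hQ.normalizer_sup_eq_top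
  have hVN : V ⊔ normalizer (Q : Set G) = ⊤ := by
    rw [eq_top_iff, ← hFr]
    refine sup_le le_sup_right (hAVQ.trans (sup_le le_sup_left ?_))
    exact (Subgroup.le_normalizer).trans le_sup_right
  have hfix : V ⊓ centralizer (Q : Set G) = ⊥ := s.inf_centralizer_eq_bot hQH hQp hQ1 hVN
  refine ⟨H ⊓ normalizer (Q : Set G), inf_le_left, ?_, ?_, ?_⟩
  · -- `V ∩ L = 1`
    rw [eq_bot_iff, ← hfix]
    have h1 : V ⊓ normalizer (Q : Set G) ≤ centralizer (Q : Set G) := by
      apply le_centralizer_of_inf_eq_bot inf_le_right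
      · exact le_normalizer_inf (s.le_normalizer_V Q)
          (Subgroup.le_normalizer.trans Subgroup.le_normalizer)
      · rw [eq_bot_iff, ← hVQ]
        exact le_inf (inf_le_left.trans inf_le_left) inf_le_right
    intro x hx
    exact ⟨hx.1, h1 ⟨hx.1, hx.2.2⟩⟩
  · -- `VL = H`
    apply le_antisymm (sup_le s.VH inf_le_left)
    intro h hh
    have h1 : h ∈ V ⊔ normalizer (Q : Set G) := by rw [hVN]; exact Subgroup.mem_top h
    obtain ⟨v, hv, n, hn, e⟩ := (mem_sup_of_le_normalizer (s.le_normalizer_V _)).mp h1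
    have hnH : n ∈ H := by
      have : n = v⁻¹ * h := by rw [e]; group
      rw [this]
      exact Subgroup.mul_mem _ (Subgroup.inv_mem _ (s.VH hv)) hh
    rw [e]
    exact Subgroup.mul_mem_sup hv ⟨hnH, hn⟩
  · exact le_normalizer_inf (by rw [c.normalizer_H]; exact le_top)
      (hRQ.trans Subgroup.le_normalizer)

end St2

/-- the situation with a complement `L` of `V` in `H` -/
structure St3 (p : ℕ) {G : Type u} [Group G] [Finite G] (H R R₀ V L : Subgroup G) : Prop
    extends St2 p H R R₀ V where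
  LH : L ≤ H
  VL : V ⊓ L = ⊥
  VLH : V ⊔ L = H
  RL : R ≤ normalizer (L : Set G)

namespace St3

variable {L : Subgroup G}

theorem mem_mul (t : St3 p H R R₀ V L) {h : G} (hh : h ∈ H) : ∃ v ∈ V, ∃ l ∈ L, h = v * l := by
  rw [← t.VLH] at hh
  exact (mem_sup_of_le_normalizer (t.toSt2.le_normalizer_V L)).mp hh

/-- Dedekind: a subgroup `D` of `L` with `L ≤ VD` is `L`. -/
theorem le_of_le_sup (t : St3 p H R R₀ V L) {D : Subgroup G} (hDL : D ≤ L) (h : L ≤ V ⊔ D) :
    L ≤ D := by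
  intro l hl
  obtain ⟨v, hv, d, hd, e⟩ := (mem_sup_of_le_normalizer (t.toSt2.le_normalizer_V D)).mp (h hl)
  have h1 : v ∈ V ⊓ L := by
    refine ⟨hv, ?_⟩
    have : v = l * d⁻¹ := by rw [e]; group
    rw [this]
    exact Subgroup.mul_mem _ hl (Subgroup.inv_mem _ (hDL hd))
  rw [t.VL, Subgroup.mem_bot] at h1
  rw [e, h1, one_mul]
  exact hd

theorem L_inf_centralizer (t : St3 p H R R₀ V L) : L ⊓ centralizer (V : Set G) = ⊥ := by
  rw [eq_bot_iff, ← t.VL]
  intro x hx
  exact ⟨t.CV ⟨t.LH hx.1, hx.2⟩, hx.1⟩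

/-- `O_p(L) = 1` -/
theorem eq_bot_of_isPGroup (t : St3 p H R R₀ V L) {D : Subgroup G} (hDL : D ≤ L)
    (hLD : L ≤ normalizer (D : Set G)) (hD : IsPGroup p D) : D = ⊥ := by
  haveI := t.Vn
  have h1 : IsPGroup p (V ⊔ D : Subgroup G) := IsPGroup.to_sup_of_normal_left t.Vp hD
  have h2 : V ⊔ D ≤ H := sup_le t.VH (hDL.trans t.LH)
  have h3 : H ≤ normalizer ((V ⊔ D : Subgroup G) : Set G) := by
    rw [← t.VLH]
    refine sup_le ((le_sup_left : V ≤ V ⊔ D).trans Subgroup.le_normalizer) ?_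
    exact le_normalizer_sup' (t.toSt2.le_normalizer_V L) hLD
  have h4 : V ⊔ D ≤ V := t.leV _ h2 h3 h1
  rw [eq_bot_iff, ← t.VL]
  exact le_inf (le_sup_right.trans h4) hDL

theorem coprimeActionL (t : St3 p H R R₀ V L) : CoprimeAction R L :=
  t.ctx.coprimeAction.mono t.LH t.RL

/-- `L = [L, R]` -/
theorem commutator_L (t : St3 p H R R₀ V L) : ⁅L, R⁆ = L := by
  have hle : ⁅L, R⁆ ≤ L := commutator_le_of_le_normalizer t.RL
  apply le_antisymm hle
  apply t.le_of_le_sup hle
  have h1 : H ≤ V ⊔ ⁅L, R⁆ := by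
    have h0 : ⁅H, R⁆ ≤ V ⊔ ⁅L, R⁆ := by
      rw [Subgroup.commutator_le]
      intro h hh ρ hρ
      obtain ⟨v, hv, l, hl, e⟩ := t.mem_mul hh
      have h2 : ⁅h, ρ⁆ = v * ⁅l, ρ⁆ * (ρ * v⁻¹ * ρ⁻¹) := by
        rw [e, commutatorElement_def, commutatorElement_def]; group
      rw [h2]
      refine Subgroup.mul_mem _ (Subgroup.mul_mem _ (Subgroup.mem_sup_left hv)
        (Subgroup.mem_sup_right (Subgroup.commutator_mem_commutator hl hρ)))
        (Subgroup.mem_sup_left ?_)
      exact t.Vn.conj_mem _ (Subgroup.inv_mem _ hv) ρ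
    rw [t.ctx.commutator_eq] at h0
    exact h0
  exact t.LH.trans h1

/-- `C_V(X) = 1` for nontrivial `p'`-subgroups `X` of `L` normalized by `L` and `R`. -/
theorem inf_centralizer_eq_bot (t : St3 p H R R₀ V L) {X : Subgroup G} (hXL : X ≤ L)
    (hLX : L ≤ normalizer (X : Set G)) (hRX : R ≤ normalizer (X : Set G))
    (hXp : (Nat.card X).Coprime p) (hX1 : X ≠ ⊥) : V ⊓ centralizer (X : Set G) = ⊥ := by
  apply t.toSt2.inf_centralizer_eq_bot (hXL.trans t.LH) hXp hX1
  rw [eq_top_iff, ← t.ctx.hyp.compl.sup_eq_top, ← t.VLH]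
  refine sup_le (sup_le le_sup_left (hLX.trans le_sup_right)) (hRX.trans le_sup_right)

/-- if `L` is a `p'`-group we are done -/
theorem false_of_coprime (t : St3 p H R R₀ V L) (h : (Nat.card L).Coprime p) : False := by
  haveI := t.Vn
  apply t.ctx.badH
  apply plengthLE_one_of_relIndex t.VH (t.toSt2.le_normalizer_V H) t.Vp
  rw [← t.VLH, Subgroup.relIndex_sup_left, ← Subgroup.inf_relIndex_right, t.VL,
    Subgroup.relIndex_bot_left]
  exact h

end St3

theorem St2.exists_st3 (s : St2 p H R R₀ V) : ∃ L : Subgroup G, St3 p H R R₀ V L := by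
  obtain ⟨L, h1, h2, h3, h4⟩ := s.exists_complement
  exact ⟨L, { toSt2 := s, LH := h1, VL := h2, VLH := h3, RL := h4 }⟩

end Cfsg.Agent.Lib.H10.BG36
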