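import Mathlib
import Cfsg.Agent.Lib.H10.BG36j

/-!
# B&G 3.6: the invariant Sylow `p`-subgroup of `L`, the Z-group hypothesis (helper10)
-/

set_option autoImplicit false
set_option linter.unusedSectionVars false
set_option linter.style.haveILetI false

namespace Cfsg.Agent.Lib.H10.BG36

open Subgroup Cfsg Cfsg.Agent.Lib.H19 Cfsg.Agent.Lib.H1
open Cfsg.Agent.Lib.H16.BG Cfsg.Agent.Lib.H7.BG7
open scoped Pointwise commutatorElement IsMulCommutative

universe u

variable {G : Type u} [Group G] [Finite G] {p : ℕ} [hp : Fact p.Prime] {H R R₀ V L : Subgroup G}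

namespace St2

/-- `O_{p'}(Y) = 1` for subgroups `Y` of `H` normalized by `V` -/
theorem pPrimeCoreOf_eq_bot (s : St2 p H R R₀ V) {Y : Subgroup G} (hYH : Y ≤ H)
    (hVY : V ≤ normalizer (Y : Set G)) : piCoreOf (primesNotDvd p) Y = ⊥ := by
  set O : Subgroup G := piCoreOf (primesNotDvd p) Y with hO
  have hVO : V ≤ normalizer (O : Set G) := hVY.trans (normalizer_le_normalizer_piCoreOf _ Y)
  have hOH : O ≤ H := (piCoreOf_le _ _).trans hYH
  have hOp : (Nat.card O).Coprime p := card_piCoreOf_primesNotDvd_coprime p Y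
  have hdisj : O ⊓ V = ⊥ :=
    disjoint_iff.mp (Subgroup.disjoint_of_coprime_natCard (s.coprime_card_V hOp))
  have h1 : O ≤ centralizer (V : Set G) :=
    le_centralizer_of_inf_eq_bot (s.le_normalizer_V O) hVO hdisj
  exact s.eq_bot_of_le_V ((le_inf hOH h1).trans s.CV) hOp

end St2

namespace St3

theorem exists_sylow (t : St3 p H R R₀ V L) :
    ∃ P, IsSylowOf p L P ∧ R ≤ normalizer (P : Set G) :=
  coprime_exists_invariant_sylow t.coprimeActionL p

theorem P_ne_bot (t : St3 p H R R₀ V L) {P : Subgroup G} (hP : IsSylowOf p L P) : P ≠ ⊥ := by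
  intro e
  apply t.false_of_coprime
  have h1 := hP.card_eq
  rw [e, Subgroup.card_bot] at h1
  have h2 : (Nat.card L).factorization p = 0 := by
    by_contra h0
    have : 1 < p ^ (Nat.card L).factorization p :=
      Nat.one_lt_pow h0 hp.out.one_lt
    omega
  rw [Nat.coprime_comm, Nat.Prime.coprime_iff_not_dvd hp.out]
  rcases (Nat.factorization_eq_zero_iff _ _).mp h2 with h3 | h3 | h3
  · exact absurd hp.out h3
  · exact h3
  · exact absurd h3 Nat.card_pos.ne'

/-- the Z-group hypothesis: `C_V(R₀) = 1` or `C_P(R₀) = 1` -/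
theorem fix_split (t : St3 p H R R₀ V L) {P : Subgroup G} (hPL : P ≤ L) (hPp : IsPGroup p P) :
    V ⊓ centralizer (R₀ : Set G) = ⊥ ∨ P ⊓ centralizer (R₀ : Set G) = ⊥ := by
  by_contra hcon
  rw [not_or] at hcon
  obtain ⟨hA1, hB1⟩ := hcon
  haveI := t.ctx.hyp.zgroup
  set A : Subgroup G := V ⊓ centralizer (R₀ : Set G) with hA
  set B : Subgroup G := P ⊓ centralizer (R₀ : Set G) with hB
  have hAp : IsPGroup p A := t.Vp.to_le inf_le_left
  have hBp : IsPGroup p B := hPp.to_le inf_le_left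
  have hBA : B ≤ normalizer (A : Set G) :=
    le_normalizer_inf (t.toSt2.le_normalizer_V B) (inf_le_right.trans Subgroup.le_normalizer)
  have hTp : IsPGroup p (A ⊔ B : Subgroup G) := IsPGroup.to_sup_of_normal_left' hAp hBp hBA
  have hTK : A ⊔ B ≤ H ⊓ centralizer (R₀ : Set G) :=
    sup_le (inf_le_inf_right _ t.VH) (inf_le_inf_right _ (hPL.trans t.LH))
  haveI : IsCyclic ↥(A ⊔ B : Subgroup G) := isCyclic_of_isZGroup_of_le hTK hTp
  have h1 := inf_ne_bot_of_isCyclic hTp (le_sup_left : A ≤ A ⊔ B) le_sup_right hA1 hB1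
  apply h1
  rw [eq_bot_iff, ← t.VL]
  exact le_inf (inf_le_left.trans inf_le_left) (inf_le_right.trans (inf_le_left.trans hPL))

theorem card_fix_le (t : St3 p H R R₀ V L) :
    Nat.card ↥(V ⊓ centralizer (R₀ : Set G)) ≤ p := by
  haveI := t.ctx.hyp.zgroup
  have hAp : IsPGroup p ↥(V ⊓ centralizer (R₀ : Set G)) := t.Vp.to_le inf_le_left
  haveI : IsCyclic ↥(V ⊓ centralizer (R₀ : Set G)) :=
    isCyclic_of_isZGroup_of_le (inf_le_inf_right _ t.VH) hAp
  exact card_le_of_isCyclic_of_exp hp.out.pos (fun v hv => t.Vexp v hv.1)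

theorem not_dvd_card_H (t : St3 p H R R₀ V L) : ¬ Nat.card R₀ ∣ Nat.card H := by
  intro hd
  have h1 : Nat.card R₀ ∣ Nat.card R := Subgroup.card_dvd_of_le t.ctx.hyp.le
  have h2 := Nat.eq_one_of_dvd_coprimes t.ctx.hyp.coprime hd h1
  exact t.ctx.hyp.prime.one_lt.ne' h2

/-- Case `C_V(R₀) = 1`. -/
theorem caseA (t : St3 p H R R₀ V L) (h : V ⊓ centralizer (R₀ : Set G) = ⊥) : False := by
  haveI := t.ctx.hyp.normal
  haveI := t.ctx.hyp.zgroup
  obtain ⟨x, hx1, hzx, hox⟩ := exists_generator_of_prime_card t.ctx.hyp.prime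
  have hfix : fittingOf H ⊓ centralizer ({x} : Set G) = ⊥ := by
    rw [t.VF, ← centralizer_zpowers, hzx]
    exact h
  have h37 := Cfsg.Agent.Lib.H8.BG37.commutator_zpowers_le_fittingOf t.ctx.hyp.solv
    t.ctx.hyp.odd (K := H) t.ctx.hyp.prime hox t.not_dvd_card_H hfix
  rw [hzx, t.VF] at h37
  have hR₀L : R₀ ≤ normalizer (L : Set G) := t.ctx.hyp.le.trans t.RL
  have h1 : ⁅L, R₀⁆ = ⊥ := by
    rw [eq_bot_iff, ← t.VL]
    exact le_inf ((Subgroup.commutator_mono t.LH le_rfl).trans h37)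
      (commutator_le_of_le_normalizer hR₀L)
  have h2 : L ≤ centralizer (R₀ : Set G) := le_centralizer_of_commutator_eq_bot h1
  have hLK : L ≤ H ⊓ centralizer (R₀ : Set G) := le_inf t.LH h2
  haveI : IsZGroup ↥L := IsZGroup.of_injective (f := Subgroup.inclusion hLK)
    (Subgroup.inclusion_injective hLK)
  haveI : IsCyclic ↥(commutator ↥L) := IsZGroup.isCyclic_commutator ↥L
  have hmap : (commutator ↥L).map L.subtype = ⁅L, L⁆ := by
    rw [commutator_def, Subgroup.map_commutator, ← MonoidHom.range_eq_map, Subgroup.range_subtype]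
  haveI : IsCyclic ↥⁅L, L⁆ := by
    rw [← hmap]
    exact isCyclic_of_surjective
      ((commutator ↥L).equivMapOfInjective L.subtype (Subgroup.subtype_injective L)).toMonoidHom
      ((commutator ↥L).equivMapOfInjective L.subtype (Subgroup.subtype_injective L)).surjective
  exact t.false_of_coprime (coprime_card_of_isCyclic_commutator t.RL t.commutator_L
    (fun D hDL hLD hD => t.eq_bot_of_isPGroup hDL hLD hD))

/-- if `C_P(R₀) = 1` then `R₀ = R` -/
theorem R₀_eq (t : St3 p H R R₀ V L) {P : Subgroup G} (hP : IsSylowOf p L P)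
    (hRP : R ≤ normalizer (P : Set G)) (hfix : P ⊓ centralizer (R₀ : Set G) = ⊥) : R₀ = R := by
  haveI := t.ctx.hyp.normal
  by_contra hne
  have hPp : IsPGroup p P := hP.isPGroup
  have hPH : P ≤ H := hP.le.trans t.LH
  have h1 := t.ctx.sub H R₀ le_rfl le_rfl t.ctx.hyp.le
    (by rw [t.ctx.normalizer_H]; exact le_top) (Or.inr hne)
  set Y : Subgroup G := ⁅H, R₀⁆ with hY
  have hYH : Y ≤ H := Subgroup.commutator_le_left H R₀
  have hHY : H ≤ normalizer (Y : Set G) := Subgroup.normalizer_commutator_ge_left H R₀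
  have hO := t.toSt2.pPrimeCoreOf_eq_bot hYH (t.VH.trans hHY)
  have hR₀P : R₀ ≤ normalizer (P : Set G) := t.ctx.hyp.le.trans hRP
  have hDP : ⁅P, R₀⁆ ≤ P := commutator_le_of_le_normalizer hR₀P
  have hDY : ⁅P, R₀⁆ ≤ Y := Subgroup.commutator_mono hPH le_rfl
  have h2 : ⁅P, R₀⁆ ≤ piCoreOf {p} Y := le_piCoreOf_of_plengthLE_one h1 hO hDY (hPp.to_le hDP)
  have h3 : piCoreOf {p} Y ≤ V :=
    t.leV _ ((piCoreOf_le _ _).trans hYH) (hHY.trans (normalizer_le_normalizer_piCoreOf _ Y))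
      (isPGroup_piCoreOf_singleton p Y)
  have h4 : ⁅P, R₀⁆ = ⊥ := by
    rw [eq_bot_iff, ← t.VL]
    exact le_inf (h2.trans h3) (hDP.trans hP.le)
  have h5 : P ≤ centralizer (R₀ : Set G) := le_centralizer_of_commutator_eq_bot h4
  apply t.P_ne_bot hP
  rw [eq_bot_iff, ← hfix]
  exact le_inf le_rfl h5

end St3

end Cfsg.Agent.Lib.H10.BG36
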