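import Mathlib
import Cfsg.Agent.Lib.H10.BG36k

/-!
# B&G 3.6: the case `R = R₀`, `C_P(R) = 1`: the structure `L = QP` (helper10)
-/

set_option autoImplicit false
set_option linter.unusedSectionVars false
set_option linter.style.haveILetI false

namespace Cfsg.Agent.Lib.H10.BG36

open Subgroup Cfsg Cfsg.Agent.Lib.H19 Cfsg.Agent.Lib.H1
open Cfsg.Agent.Lib.H16.BG Cfsg.Agent.Lib.H7.BG7
open scoped Pointwise commutatorElement IsMulCommutative

universe u

variable {G : Type u} [Group G] [Finite G] {p : ℕ} [hp : Fact p.Prime] {H R V L P : Subgroup G}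

/-- the case `R = R₀` acting without fixed points on the Sylow `p`-subgroup `P` of `L` -/
structure St4 (p : ℕ) {G : Type u} [Group G] [Finite G] (H R V L P : Subgroup G) : Prop
    extends St3 p H R R V L where
  PS : IsSylowOf p L P
  RP : R ≤ normalizer (P : Set G)
  PR : P ⊓ centralizer (R : Set G) = ⊥

namespace St4

theorem PL (u : St4 p H R V L P) : P ≤ L := u.PS.le

theorem Pp (u : St4 p H R V L P) : IsPGroup p P := u.PS.isPGroup

theorem P1 (u : St4 p H R V L P) : P ≠ ⊥ := u.toSt3.P_ne_bot u.PS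

theorem solvL (u : St4 p H R V L P) : Group.IsSolvable ↥L := by
  haveI := u.ctx.hyp.solv
  infer_instance

/-- an `R`-invariant subgroup of `P` is its own commutator with `R` -/
theorem commutator_eq_of_le (u : St4 p H R V L P) {P₁ : Subgroup G} (hP₁ : P₁ ≤ P)
    (hR : R ≤ normalizer (P₁ : Set G)) : ⁅P₁, R⁆ = P₁ := by
  have hca : CoprimeAction R P₁ := u.toSt3.coprimeActionL.mono (hP₁.trans u.PL) hR
  have h1 := coprime_commutator_sup_centralizer hca
  have h2 : P₁ ⊓ centralizer (R : Set G) = ⊥ := by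
    rw [eq_bot_iff, ← u.PR]
    exact inf_le_inf_right _ hP₁
  rw [h2, sup_bot_eq] at h1
  exact h1

/-- the key consequence of the induction hypothesis -/
theorem L2 (u : St4 p H R V L P) {A B : Subgroup G} (hAL : A ≤ L) (hBL : B ≤ L)
    (hRA : R ≤ normalizer (A : Set G)) (hRB : R ≤ normalizer (B : Set G))
    (hBA : B ≤ normalizer (A : Set G)) (hA : (Nat.card A).Coprime p) (hB : IsPGroup p B)
    (hne : A ⊔ B ≠ L) : ⁅B, R⁆ ≤ centralizer (A : Set G) := by
  have hABL : A ⊔ B ≤ L := sup_le hAL hBL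
  set H₁ : Subgroup G := V ⊔ (A ⊔ B) with hH₁
  have hH₁H : H₁ ≤ H := sup_le u.VH (hABL.trans u.LH)
  have hRH₁ : R ≤ normalizer (H₁ : Set G) :=
    le_normalizer_sup' (u.toSt2.le_normalizer_V R) (le_normalizer_sup' hRA hRB)
  have hH₁ne : H₁ ≠ H := by
    intro e
    apply hne
    apply le_antisymm hABL
    apply u.toSt3.le_of_le_sup hABL
    rw [← hH₁, e]
    exact u.LH
  have h1 := u.ctx.sub H₁ R hH₁H le_rfl le_rfl hRH₁ (Or.inl hH₁ne)
  set Y : Subgroup G := ⁅H₁, R⁆ with hY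
  have hYH₁ : Y ≤ H₁ := commutator_le_of_le_normalizer hRH₁
  have hH₁Y : H₁ ≤ normalizer (Y : Set G) := Subgroup.normalizer_commutator_ge_left H₁ R
  have hO := u.toSt2.pPrimeCoreOf_eq_bot (hYH₁.trans hH₁H)
    ((le_sup_left : V ≤ H₁).trans hH₁Y)
  have hBH₁ : B ≤ H₁ := le_sup_right.trans le_sup_right
  have hAH₁ : A ≤ H₁ := le_sup_left.trans le_sup_right
  have hDB : ⁅B, R⁆ ≤ B := commutator_le_of_le_normalizer hRB
  have hDY : ⁅B, R⁆ ≤ Y := Subgroup.commutator_mono hBH₁ le_rfl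
  set S : Subgroup G := piCoreOf {p} Y with hS
  have hDS : ⁅B, R⁆ ≤ S := le_piCoreOf_of_plengthLE_one h1 hO hDY (hB.to_le hDB)
  have hAS : A ≤ normalizer (S : Set G) :=
    hAH₁.trans (hH₁Y.trans (normalizer_le_normalizer_piCoreOf _ Y))
  have hSp : IsPGroup p S := isPGroup_piCoreOf_singleton p Y
  have hAS0 : A ⊓ S = ⊥ := by
    obtain ⟨k, hk⟩ := IsPGroup.iff_card.mp hSp
    apply disjoint_iff.mp
    apply Subgroup.disjoint_of_coprime_natCard
    rw [hk]
    exact Nat.Coprime.pow_right k hA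
  have hcomm : ⁅A, ⁅B, R⁆⁆ = ⊥ := by
    rw [eq_bot_iff, ← hAS0, Subgroup.commutator_le]
    intro a ha d hd
    refine ⟨?_, ?_⟩
    · have h2 : d * a⁻¹ * d⁻¹ ∈ A :=
        conj_mem_of_mem_normalizer (hBA (hDB hd)) (Subgroup.inv_mem _ ha)
      have : ⁅a, d⁆ = a * (d * a⁻¹ * d⁻¹) := by rw [commutatorElement_def]; group
      rw [this]
      exact Subgroup.mul_mem _ ha h2
    · have h2 : a * d * a⁻¹ ∈ S := conj_mem_of_mem_normalizer (hAS ha) (hDS hd)
      have : ⁅a, d⁆ = (a * d * a⁻¹) * d⁻¹ := by rw [commutatorElement_def]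
      rw [this]
      exact Subgroup.mul_mem _ h2 (Subgroup.inv_mem _ (hDS hd))
  exact le_centralizer_comm (le_centralizer_of_commutator_eq_bot hcomm)

theorem piCoreOf_p_eq_bot (u : St4 p H R V L P) : piCoreOf {p} L = ⊥ :=
  u.toSt3.eq_bot_of_isPGroup (piCoreOf_le _ _) (le_normalizer_piCoreOf _ _)
    (isPGroup_piCoreOf_singleton p L)

theorem R_le_normalizer_piCoreOf (u : St4 p H R V L P) (π : Set ℕ) :
    R ≤ normalizer ((piCoreOf π L : Subgroup G) : Set G) :=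
  u.RL.trans (normalizer_le_normalizer_piCoreOf π L)

theorem coprime_of_isPGroup (u : St4 p H R V L P) {q : ℕ} (hq : q.Prime) (hqp : q ≠ p)
    {Q : Subgroup G} (hQ : IsPGroup q Q) : (Nat.card Q).Coprime p := by
  haveI : Fact q.Prime := ⟨hq⟩
  obtain ⟨k, hk⟩ := IsPGroup.iff_card.mp hQ
  rw [hk]
  exact Nat.Coprime.pow_left k ((Nat.coprime_primes hq hp.out).mpr hqp)

/-- some `O_q(L)` supplements `P` -/
theorem exists_q (u : St4 p H R V L P) :
    ∃ q : ℕ, q.Prime ∧ q ≠ p ∧ piCoreOf {q} L ⊔ P = L := by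
  by_contra hcon
  have hall : ∀ q : ℕ, q.Prime → q ≠ p → piCoreOf {q} L ⊔ P ≠ L :=
    fun q hq hqp e => hcon ⟨q, hq, hqp, e⟩
  set F : Subgroup G := fittingOf L with hF
  have hFnil : Group.IsNilpotent F := fittingOf_isNilpotent L
  have hFP : F ≤ centralizer (P : Set G) := by
    apply le_centralizer_of_forall_piCoreOf hFnil
    intro q hq
    haveI : Fact q.Prime := ⟨hq⟩
    have h1 : piCoreOf {q} F ≤ piCoreOf {q} L :=
      piCoreOf_le_piCoreOf_of_normal _ (fittingOf_le L) (le_normalizer_fittingOf L)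
    by_cases hqp : q = p
    · rw [hqp, u.piCoreOf_p_eq_bot] at h1
      rw [hqp]
      exact h1.trans bot_le
    · refine h1.trans ?_
      have h2 := u.L2 (A := piCoreOf {q} L) (B := P) (piCoreOf_le _ _) u.PL
        (u.R_le_normalizer_piCoreOf _) u.RP (u.PL.trans (le_normalizer_piCoreOf _ _))
        (u.coprime_of_isPGroup hq hqp (isPGroup_piCoreOf_singleton q L)) u.Pp (hall q hq hqp)
      rw [u.commutator_eq_of_le le_rfl u.RP] at h2
      exact le_centralizer_comm h2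
  have hPF : P ≤ F :=
    (le_inf u.PL (le_centralizer_comm hFP)).trans (inf_centralizer_fittingOf_le u.solvL)
  have h3 : P ≤ piCoreOf {p} F :=
    le_piCoreOf_of_nilpotent hFnil hPF (isPiCard_card_of_isPGroup (Set.mem_singleton p) u.Pp)
  have h4 : piCoreOf {p} F ≤ piCoreOf {p} L :=
    piCoreOf_le_piCoreOf_of_normal _ (fittingOf_le L) (le_normalizer_fittingOf L)
  rw [u.piCoreOf_p_eq_bot] at h4
  exact u.P1 (le_bot_iff.mp (h3.trans h4))

end St4

/-- `L = QP` with `Q = O_q(L)` -/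
structure St5 (p q : ℕ) {G : Type u} [Group G] [Finite G] (H R V L P Q : Subgroup G) : Prop
    extends St4 p H R V L P where
  hq : q.Prime
  hqp : q ≠ p
  Qdef : Q = piCoreOf {q} L
  QP : Q ⊔ P = L

namespace St5

variable {q : ℕ} {Q : Subgroup G}

theorem QL (w : St5 p q H R V L P Q) : Q ≤ L := by rw [w.Qdef]; exact piCoreOf_le _ _

theorem LQ (w : St5 p q H R V L P Q) : L ≤ normalizer (Q : Set G) := by
  rw [w.Qdef]; exact le_normalizer_piCoreOf _ _

theorem RQ (w : St5 p q H R V L P Q) : R ≤ normalizer (Q : Set G) := by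
  rw [w.Qdef]; exact w.toSt4.R_le_normalizer_piCoreOf _

theorem PQ (w : St5 p q H R V L P Q) : P ≤ normalizer (Q : Set G) := w.PL.trans w.LQ

theorem Qq (w : St5 p q H R V L P Q) : IsPGroup q Q := by
  haveI : Fact q.Prime := ⟨w.hq⟩
  rw [w.Qdef]; exact isPGroup_piCoreOf_singleton q L

theorem Qcop (w : St5 p q H R V L P Q) : (Nat.card Q).Coprime p :=
  w.toSt4.coprime_of_isPGroup w.hq w.hqp w.Qq

theorem Q_inf_P (w : St5 p q H R V L P Q) : Q ⊓ P = ⊥ := by
  haveI : Fact q.Prime := ⟨w.hq⟩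
  exact disjoint_iff.mp (IsPGroup.disjoint_of_ne q p w.hqp Q P w.Qq w.Pp)

/-- Dedekind for subgroups of `Q` -/
theorem eq_Q_of_sup (w : St5 p q H R V L P Q) {Q₁ : Subgroup G} (hQ₁ : Q₁ ≤ Q)
    (hPQ₁ : P ≤ normalizer (Q₁ : Set G)) (h : Q₁ ⊔ P = L) : Q₁ = Q := by
  apply le_antisymm hQ₁
  intro y hy
  have hyL : y ∈ Q₁ ⊔ P := by rw [h]; exact w.QL hy
  obtain ⟨a, ha, b, hb, e⟩ := (mem_sup_of_le_normalizer hPQ₁).mp hyL
  have h1 : b ∈ Q ⊓ P := by
    refine ⟨?_, hb⟩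
    have : b = a⁻¹ * y := by rw [e]; group
    rw [this]
    exact Subgroup.mul_mem _ (Subgroup.inv_mem _ (hQ₁ ha)) hy
  rw [w.Q_inf_P, Subgroup.mem_bot] at h1
  rw [e, h1, mul_one]
  exact ha

/-- Dedekind for subgroups of `P` -/
theorem eq_P_of_sup (w : St5 p q H R V L P Q) {P₁ : Subgroup G} (hP₁ : P₁ ≤ P)
    (h : Q ⊔ P₁ = L) : P₁ = P := by
  apply le_antisymm hP₁
  intro g hg
  have hgL : g ∈ Q ⊔ P₁ := by rw [h]; exact w.PL hg
  obtain ⟨a, ha, b, hb, e⟩ := (mem_sup_of_le_normalizer (hP₁.trans w.PQ)).mp hgL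
  have h1 : a ∈ Q ⊓ P := by
    refine ⟨ha, ?_⟩
    have : a = g * b⁻¹ := by rw [e]; group
    rw [this]
    exact Subgroup.mul_mem _ hg (Subgroup.inv_mem _ (hP₁ hb))
  rw [w.Q_inf_P, Subgroup.mem_bot] at h1
  rw [e, h1, one_mul]
  exact hb

/-- proper `PR`-invariant subgroups of `Q` are centralized by `P` -/
theorem le_centralizer_of_ne (w : St5 p q H R V L P Q) {Q₁ : Subgroup G} (hQ₁ : Q₁ ≤ Q)
    (hPQ₁ : P ≤ normalizer (Q₁ : Set G)) (hRQ₁ : R ≤ normalizer (Q₁ : Set G)) (hne : Q₁ ≠ Q) :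
    Q₁ ≤ centralizer (P : Set G) := by
  have h2 := w.toSt4.L2 (A := Q₁) (B := P) (hQ₁.trans w.QL) w.PL hRQ₁ w.RP hPQ₁
    (Nat.Coprime.coprime_dvd_left (Subgroup.card_dvd_of_le hQ₁) w.Qcop) w.Pp
    (fun e => hne (w.eq_Q_of_sup hQ₁ hPQ₁ e))
  rw [w.toSt4.commutator_eq_of_le le_rfl w.RP] at h2
  exact le_centralizer_comm h2

theorem card_L_dvd (w : St5 p q H R V L P Q) : Nat.card L ∣ Nat.card Q * Nat.card P := by
  have := Cfsg.Agent.Lib.H16.SylComm.card_sup_dvd_of_le_normalizer (H := P) (N := Q) w.PQ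
  rw [sup_comm, w.QP, mul_comm] at this
  exact this

theorem fittingOf_le_Q (w : St5 p q H R V L P Q) : fittingOf L ≤ Q := by
  haveI : Fact q.Prime := ⟨w.hq⟩
  refine (le_iSup_piCoreOf_singleton (fittingOf_isNilpotent L)).trans (iSup_le ?_)
  intro s
  haveI : Fact (s : ℕ).Prime := ⟨s.2⟩
  have h1 : piCoreOf {(s : ℕ)} (fittingOf L) ≤ piCoreOf {(s : ℕ)} L :=
    piCoreOf_le_piCoreOf_of_normal _ (fittingOf_le L) (le_normalizer_fittingOf L)
  by_cases hsq : (s : ℕ) = q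
  · rw [hsq] at h1 ⊢
    rw [w.Qdef]
    exact h1
  by_cases hsp : (s : ℕ) = p
  · rw [hsp] at h1 ⊢
    rw [w.toSt4.piCoreOf_p_eq_bot] at h1
    exact h1.trans bot_le
  have hnd : ¬ (s : ℕ) ∣ Nat.card L := by
    intro hd
    have h2 := hd.trans w.card_L_dvd
    obtain ⟨a, ha⟩ := IsPGroup.iff_card.mp w.Qq
    obtain ⟨b, hb⟩ := IsPGroup.iff_card.mp w.Pp
    rw [ha, hb] at h2
    rcases (Nat.Prime.dvd_mul s.2).mp h2 with h3 | h3
    · exact hsq ((Nat.prime_dvd_prime_iff_eq s.2 w.hq).mp (s.2.dvd_of_dvd_pow h3))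
    · exact hsp ((Nat.prime_dvd_prime_iff_eq s.2 hp.out).mp (s.2.dvd_of_dvd_pow h3))
  rw [Cfsg.Agent.Lib.H8.BG37.piCoreOf_singleton_eq_bot_of_not_dvd hnd] at h1
  exact h1.trans bot_le

theorem inf_centralizer_Q_le (w : St5 p q H R V L P Q) : L ⊓ centralizer (Q : Set G) ≤ Q := by
  have h1 : L ⊓ centralizer (Q : Set G) ≤ L ⊓ centralizer ((fittingOf L : Subgroup G) : Set G) :=
    inf_le_inf_left _ (Subgroup.centralizer_le w.fittingOf_le_Q)
  exact h1.trans ((inf_centralizer_fittingOf_le w.toSt4.solvL).trans w.fittingOf_le_Q)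

/-- a subgroup of `P` centralizing `Q` is trivial -/
theorem eq_bot_of_le_centralizer (w : St5 p q H R V L P Q) {P₁ : Subgroup G} (hP₁ : P₁ ≤ P)
    (h : P₁ ≤ centralizer (Q : Set G)) : P₁ = ⊥ := by
  rw [eq_bot_iff, ← w.Q_inf_P]
  exact le_inf ((le_inf (hP₁.trans w.PL) h).trans w.inf_centralizer_Q_le) hP₁

theorem not_le_centralizer (w : St5 p q H R V L P Q) : ¬ P ≤ centralizer (Q : Set G) :=
  fun h => w.P1 (w.eq_bot_of_le_centralizer le_rfl h)

theorem Q1 (w : St5 p q H R V L P Q) : Q ≠ ⊥ := by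
  intro e
  apply w.not_le_centralizer
  rw [e]
  intro g _
  rw [Subgroup.mem_centralizer_iff]
  intro y hy
  have : y = 1 := by simpa using hy
  rw [this, one_mul, mul_one]

/-- `P` is a minimal `R`-invariant subgroup -/
theorem eq_bot_of_ne (w : St5 p q H R V L P Q) {P₁ : Subgroup G} (hP₁ : P₁ ≤ P)
    (hRP₁ : R ≤ normalizer (P₁ : Set G)) (hne : P₁ ≠ P) : P₁ = ⊥ := by
  have h2 := w.toSt4.L2 (A := Q) (B := P₁) w.QL (hP₁.trans w.PL) w.RQ hRP₁ (hP₁.trans w.PQ)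
    w.Qcop (w.Pp.to_le hP₁) (fun e => hne (w.eq_P_of_sup hP₁ e))
  rw [w.toSt4.commutator_eq_of_le hP₁ hRP₁] at h2
  exact w.eq_bot_of_le_centralizer hP₁ h2

theorem coprimeActionPQ (w : St5 p q H R V L P Q) : CoprimeAction P Q where
  normalizes := w.PQ
  coprime := by
    obtain ⟨b, hb⟩ := IsPGroup.iff_card.mp w.Pp
    rw [hb]
    exact Nat.Coprime.pow_left b w.Qcop.symm
  solvable := Or.inl (by haveI := w.ctx.hyp.solv; infer_instance)

/-- `Q = [Q, P]` -/
theorem commutator_QP (w : St5 p q H R V L P Q) : ⁅Q, P⁆ = Q := by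
  by_contra hne
  have hle : ⁅Q, P⁆ ≤ Q := commutator_le_of_le_normalizer w.PQ
  have h1 : ⁅Q, P⁆ ≤ centralizer (P : Set G) :=
    w.le_centralizer_of_ne hle (Subgroup.normalizer_commutator_ge_right Q P)
      (le_normalizer_commutator w.RQ w.RP) hne
  have h2 : ⁅⁅Q, P⁆, P⁆ = ⊥ := commutator_eq_bot_of_le_centralizer h1
  rw [coprime_commutator_commutator w.coprimeActionPQ] at h2
  apply w.not_le_centralizer
  exact le_centralizer_comm (le_centralizer_of_commutator_eq_bot h2)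

end St5

theorem St4.exists_st5 (u : St4 p H R V L P) :
    ∃ (q : ℕ) (Q : Subgroup G), St5 p q H R V L P Q := by
  obtain ⟨q, hq, hqp, h⟩ := u.exists_q
  exact ⟨q, piCoreOf {q} L, { toSt4 := u, hq := hq, hqp := hqp, Qdef := rfl, QP := h }⟩

end Cfsg.Agent.Lib.H10.BG36
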