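import Mathlib
import Cfsg.Agent.Lib.H10.BG36l

/-!
# B&G 3.6: the case of abelian `Q` (helper10)
-/

set_option autoImplicit false
set_option linter.unusedSectionVars false
set_option linter.style.haveILetI false

namespace Cfsg.Agent.Lib.H10.BG36

open Subgroup Cfsg Cfsg.Agent.Lib.H19 Cfsg.Agent.Lib.H1
open Cfsg.Agent.Lib.H16.BG Cfsg.Agent.Lib.H7.BG7
open scoped Pointwise commutatorElement IsMulCommutative

universe u

variable {G : Type u} [Group G] [Finite G] {p q : ℕ} [hp : Fact p.Prime]
  {H R V L P Q : Subgroup G}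

namespace St5

theorem p_dvd_card_V (w : St5 p q H R V L P Q) : p ∣ Nat.card V := by
  obtain ⟨n, hn⟩ := IsPGroup.iff_card.mp w.Vp
  rcases n with _ | n
  · exfalso
    rw [pow_zero] at hn
    exact w.V1 (Subgroup.card_eq_one.mp hn)
  · rw [hn]; exact dvd_pow_self p (Nat.succ_ne_zero n)

theorem not_two_dvd (w : St5 p q H R V L P Q) : ¬ 2 ∣ Nat.card G := by
  rw [← even_iff_two_dvd, Nat.not_even_iff_odd]
  exact w.ctx.hyp.odd

theorem p_ne_two (w : St5 p q H R V L P Q) : p ≠ 2 := by
  intro e
  apply w.not_two_dvd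
  rw [← e]
  exact w.p_dvd_card_V.trans (Subgroup.card_subgroup_dvd_card V)

theorem r_ne_two (w : St5 p q H R V L P Q) : Nat.card R ≠ 2 := by
  intro e
  apply w.not_two_dvd
  rw [← e]
  exact Subgroup.card_subgroup_dvd_card R

theorem r_ne_p (w : St5 p q H R V L P Q) : Nat.card R ≠ p := by
  intro e
  have h1 : p ∣ Nat.card H := w.p_dvd_card_V.trans (Subgroup.card_dvd_of_le w.VH)
  have h2 : p ∣ Nat.card R := by rw [e]
  have := Nat.eq_one_of_dvd_coprimes w.ctx.hyp.coprime h1 h2
  exact hp.out.one_lt.ne' this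

theorem r_ne_q (w : St5 p q H R V L P Q) : Nat.card R ≠ q := by
  haveI : Fact q.Prime := ⟨w.hq⟩
  intro e
  have hq1 : q ∣ Nat.card Q := by
    obtain ⟨n, hn⟩ := IsPGroup.iff_card.mp w.Qq
    rcases n with _ | n
    · exfalso
      rw [pow_zero] at hn
      exact w.Q1 (Subgroup.card_eq_one.mp hn)
    · rw [hn]; exact dvd_pow_self q (Nat.succ_ne_zero n)
  have h1 : q ∣ Nat.card H := hq1.trans (Subgroup.card_dvd_of_le (w.QL.trans w.LH))
  have h2 : q ∣ Nat.card R := by rw [e]
  have := Nat.eq_one_of_dvd_coprimes w.ctx.hyp.coprime h1 h2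
  exact w.hq.one_lt.ne' this

/-- an element commuting with a nontrivial element of `R` centralizes `R` -/
theorem mem_centralizer_R (w : St5 p q H R V L P Q) {e g : G} (he : e ∈ R) (he1 : e ≠ 1)
    (h : e * g = g * e) : g ∈ centralizer (R : Set G) := by
  rw [← centralizer_singleton_eq_of_prime_card w.ctx.hyp.prime he he1,
    Subgroup.mem_centralizer_iff]
  intro y hy
  rw [Set.mem_singleton_iff] at hy
  rw [hy]
  exact h

/-- the case where `Q` is abelian -/
theorem false_of_comm (w : St5 p q H R V L P Q) (hab : ∀ a ∈ Q, ∀ b ∈ Q, a * b = b * a) :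
    False := by
  haveI := w.Vn
  haveI : IsMulCommutative V := w.toSt2.isMulCommutative
  haveI : IsMulCommutative Q := ⟨⟨fun a b => Subtype.ext (hab a a.2 b b.2)⟩⟩
  haveI : Fact q.Prime := ⟨w.hq⟩
  obtain ⟨x, hx1, hzx, hox⟩ := exists_generator_of_prime_card w.ctx.hyp.prime
  have hr : (Nat.card R).Prime := w.ctx.hyp.prime
  have hxR : x ∈ R := hzx ▸ Subgroup.mem_zpowers x
  have hcent : centralizer ({x} : Set G) = centralizer (R : Set G) :=
    centralizer_singleton_eq_of_prime_card hr hxR hx1
  have hRle : ∀ {K : Subgroup G}, x ∈ normalizer (K : Set G) → R ≤ normalizer (K : Set G) := by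
    intro K hK
    rw [← hzx]
    exact Subgroup.zpowers_le.mpr hK
  -- `C_Q(P) = 1`
  have hZ : Q ⊓ centralizer (P : Set G) = ⊥ := by
    have h1 := coprime_abelian_centralizer_inf_commutator w.PQ w.coprimeActionPQ.coprime
    rw [w.commutator_QP] at h1
    rw [eq_bot_iff, ← h1]
    exact le_inf le_rfl inf_le_left
  -- `Q` has exponent `q`
  have hexp : ∀ y ∈ Q, y ^ q = 1 := by
    set T : Subgroup G :=
      { carrier := {t | ∃ y ∈ Q, t = y ^ q}
        one_mem' := ⟨1, Subgroup.one_mem _, (one_pow q).symm⟩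
        mul_mem' := by
          rintro _ _ ⟨y, hy, rfl⟩ ⟨z, hz, rfl⟩
          refine ⟨y * z, Subgroup.mul_mem _ hy hz, ?_⟩
          have hc : Commute y z := hab y hy z hz
          exact (hc.mul_pow q).symm
        inv_mem' := by
          rintro _ ⟨y, hy, rfl⟩
          exact ⟨y⁻¹, Subgroup.inv_mem _ hy, (inv_pow y q).symm⟩ } with hT
    have hTQ : T ≤ Q := by
      rintro _ ⟨y, hy, rfl⟩
      exact Subgroup.pow_mem _ hy q
    have hTN : normalizer (Q : Set G) ≤ normalizer (T : Set G) := by
      apply Cfsg.Agent.Lib.H8.le_normalizer_of_conj_mem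
      rintro g hg _ ⟨y, hy, rfl⟩
      refine ⟨g * y * g⁻¹, conj_mem_of_mem_normalizer hg hy, ?_⟩
      rw [conj_pow]
    have hTne : T ≠ Q := by
      intro e
      -- an element of order `q`
      obtain ⟨n, hn⟩ := IsPGroup.iff_card.mp w.Qq
      have hq1 : q ∣ Nat.card Q := by
        rcases n with _ | n
        · exfalso
          rw [pow_zero] at hn
          exact w.Q1 (Subgroup.card_eq_one.mp hn)
        · rw [hn]; exact dvd_pow_self q (Nat.succ_ne_zero n)
      obtain ⟨y₀, hy₀⟩ := exists_prime_orderOf_dvd_card' q hq1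
      let f : Q → Q := fun y => y ^ q
      have hsurj : Function.Surjective f := by
        intro z
        have hz : (z : G) ∈ T := by rw [e]; exact z.2
        obtain ⟨y, hy, hzy⟩ := hz
        refine ⟨⟨y, hy⟩, ?_⟩
        apply Subtype.ext
        exact hzy.symm
      have hinj : Function.Injective f := Finite.injective_iff_surjective.mpr hsurj
      have h1 : f y₀ = f 1 := by
        show y₀ ^ q = 1 ^ q
        rw [one_pow, ← hy₀]
        exact pow_orderOf_eq_one y₀
      have h2 := hinj h1
      rw [h2, orderOf_one] at hy₀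
      exact w.hq.one_lt.ne hy₀
    have hTP : T ≤ centralizer (P : Set G) :=
      w.le_centralizer_of_ne hTQ (w.PQ.trans hTN) (w.RQ.trans hTN) hTne
    intro y hy
    have h1 : y ^ q ∈ Q ⊓ centralizer (P : Set G) := ⟨Subgroup.pow_mem _ hy q, hTP ⟨y, hy, rfl⟩⟩
    rw [hZ, Subgroup.mem_bot] at h1
    exact h1
  apply B7.false (p := p) (q := q) (r := Nat.card R) (V := V) (Q := Q) (P := P) (x := x)
  exact
    { hs :=
        { hp := hp.out
          hq := w.hq
          hpq := w.hqp.symm
          expV := w.Vexp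
          commQ := hab
          expQ := hexp
          fixQ := w.toSt3.inf_centralizer_eq_bot w.QL w.LQ w.RQ w.Qcop w.Q1 }
      hr := hr
      hp2 := w.p_ne_two
      hr2 := w.r_ne_two
      hrp := w.r_ne_p
      hxr := by rw [← hox]; exact pow_orderOf_eq_one x
      hxQ := w.RQ hxR
      hxP := w.RP hxR
      hPQ := w.PQ
      hPp := w.Pp
      hP1 := w.P1
      fpf := by
        intro g hg hxg
        have h1 : g ∈ P ⊓ centralizer (R : Set G) := ⟨hg, w.mem_centralizer_R hxR hx1 hxg⟩
        rw [w.PR, Subgroup.mem_bot] at h1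
        exact h1
      minP := by
        intro P₁ hP₁ hxP₁
        by_cases e : P₁ = P
        · exact Or.inr e
        · exact Or.inl (w.eq_bot_of_ne hP₁ (hRle hxP₁) e)
      minQ := by
        intro Q₁ hQ₁ hPQ₁ hxQ₁
        by_cases e : Q₁ = Q
        · exact Or.inr e
        · left
          have h1 := w.le_centralizer_of_ne hQ₁ hPQ₁ (hRle hxQ₁) e
          rw [eq_bot_iff, ← hZ]
          exact le_inf hQ₁ h1
      hPQc := w.not_le_centralizer
      hQV := by
        rw [eq_bot_iff, ← w.toSt3.L_inf_centralizer]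
        exact inf_le_inf_right _ w.QL
      hfix := by
        rw [hcent]
        exact w.toSt3.card_fix_le }

end St5

end Cfsg.Agent.Lib.H10.BG36
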