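import Mathlib
import Cfsg.Agent.Lib.H10.BG36m
import Cfsg.Agent.Lib.H8.FrobFormula2

/-!
# B&G 3.6: the case of nonabelian `Q` (helper10)
-/

set_option autoImplicit false
set_option linter.unusedSectionVars false
set_option linter.style.haveILetI false

namespace Cfsg.Agent.Lib.H10.BG36

open Subgroup Cfsg Cfsg.Agent.Lib.H19 Cfsg.Agent.Lib.H1
open Cfsg.Agent.Lib.H16.BG Cfsg.Agent.Lib.H7.BG7 Cfsg.Agent.Lib.H8
open scoped Pointwise commutatorElement IsMulCommutative

universe u

variable {G : Type u} [Group G] [Finite G] {p q : ℕ} [hp : Fact p.Prime]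
  {H R V L P Q : Subgroup G}

namespace St5

theorem R_ne_bot (w : St5 p q H R V L P Q) : R ≠ ⊥ := by
  intro e
  have := w.ctx.hyp.prime
  rw [e, Subgroup.card_bot] at this
  exact Nat.not_prime_one this

/-- `X ∩ UR = 1` for subgroups `X, U` of `H` with `X ∩ U = 1` -/
theorem inf_sup_R_eq_bot (w : St5 p q H R V L P Q) {X U : Subgroup G} (hXH : X ≤ H)
    (hUH : U ≤ H) (hRU : R ≤ normalizer (U : Set G)) (hXU : X ⊓ U = ⊥) : X ⊓ (U ⊔ R) = ⊥ := by
  rw [eq_bot_iff]
  rintro g ⟨hgX, hgUR⟩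
  obtain ⟨a, ha, b, hb, e⟩ := (mem_sup_of_le_normalizer hRU).mp hgUR
  have h1 : b ∈ H ⊓ R := by
    refine ⟨?_, hb⟩
    have : b = a⁻¹ * g := by rw [e]; group
    rw [this]
    exact Subgroup.mul_mem _ (Subgroup.inv_mem _ (hUH ha)) (hXH hgX)
  rw [w.ctx.hyp.inf_eq_bot, Subgroup.mem_bot] at h1
  have h2 : g ∈ X ⊓ U := by
    refine ⟨hgX, ?_⟩
    rw [e, h1, mul_one]
    exact ha
  rw [hXU] at h2
  exact h2

theorem coprime_card_sup_R (_w : St5 p q H R V L P Q) {X U : Subgroup G}
    (hRU : R ≤ normalizer (U : Set G)) (h1 : (Nat.card X).Coprime (Nat.card U))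
    (h2 : (Nat.card X).Coprime (Nat.card R)) : (Nat.card X).Coprime (Nat.card ↥(U ⊔ R)) := by
  have h3 := Cfsg.Agent.Lib.H16.SylComm.card_sup_dvd_of_le_normalizer (H := R) (N := U) hRU
  rw [sup_comm] at h3
  exact Nat.Coprime.coprime_dvd_right h3 (Nat.Coprime.mul_right h2 h1)

theorem coprime_p_card_R (w : St5 p q H R V L P Q) : p.Coprime (Nat.card R) :=
  (Nat.coprime_primes hp.out w.ctx.hyp.prime).mpr w.r_ne_p.symm

theorem coprime_q_card_R (w : St5 p q H R V L P Q) : q.Coprime (Nat.card R) :=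
  (Nat.coprime_primes w.hq w.ctx.hyp.prime).mpr w.r_ne_q.symm

/-- the Frobenius-type action of `PR` on `Q` -/
theorem frobAct_PRQ (w : St5 p q H R V L P Q) : FrobAct P R Q := by
  haveI : Fact q.Prime := ⟨w.hq⟩
  haveI := w.ctx.hyp.solv
  obtain ⟨a, ha⟩ := IsPGroup.iff_card.mp w.Qq
  obtain ⟨b, hb⟩ := IsPGroup.iff_card.mp w.Pp
  exact
    { hU1 := w.P1
      hE1 := w.R_ne_bot
      hUE := by
        rw [eq_bot_iff, ← w.ctx.hyp.inf_eq_bot]
        exact inf_le_inf_right _ (w.PL.trans w.LH)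
      hUn := fun e he u hu => conj_mem_of_mem_normalizer (w.RP he) hu
      hfpf := by
        intro e he he1 u hu heu
        have h1 : u ∈ P ⊓ centralizer (R : Set G) := ⟨hu, w.mem_centralizer_R he he1 heu⟩
        rw [w.PR, Subgroup.mem_bot] at h1
        exact h1
      hHn := fun x hx h hh => conj_mem_of_mem_normalizer ((sup_le w.PQ w.RQ) hx) hh
      hdisj := w.inf_sup_R_eq_bot (w.QL.trans w.LH) (w.PL.trans w.LH) w.RP w.Q_inf_P
      hsolv := inferInstance
      hcop := by
        apply w.coprime_card_sup_R w.RP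
        · rw [ha, hb]
          exact Nat.Coprime.pow a b ((Nat.coprime_primes w.hq hp.out).mpr w.hqp)
        · rw [ha]
          exact Nat.Coprime.pow_left a w.coprime_q_card_R }

/-- the case where `Q` is not abelian -/
theorem false_of_not_comm (w : St5 p q H R V L P Q)
    (hnab : ¬ ∀ a ∈ Q, ∀ b ∈ Q, a * b = b * a) : False := by
  haveI hVn := w.Vn
  haveI : Fact q.Prime := ⟨w.hq⟩
  haveI := w.ctx.hyp.solv
  have hr : (Nat.card R).Prime := w.ctx.hyp.prime
  set Z : Subgroup G := Q ⊓ centralizer (P : Set G) with hZ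
  set ZQ : Subgroup G := Q ⊓ centralizer (Q : Set G) with hZQ
  have hNZQ : normalizer (Q : Set G) ≤ normalizer (ZQ : Set G) :=
    le_normalizer_inf le_rfl (le_normalizer_centralizer le_rfl)
  -- `Z(Q) ≤ Z`
  have hZQne : ZQ ≠ Q := by
    intro e
    apply hnab
    intro a ha b hb
    have h1 : a ∈ ZQ := e ▸ ha
    exact (Subgroup.mem_centralizer_iff.mp h1.2 b hb).symm
  have hZQZ : ZQ ≤ Z :=
    le_inf inf_le_left (w.le_centralizer_of_ne inf_le_left (w.PQ.trans hNZQ) (w.RQ.trans hNZQ) hZQne)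
  -- `Q' ≤ Z`
  have hQ'le : ⁅Q, Q⁆ ≤ Q := commutator_le_of_le_normalizer Subgroup.le_normalizer
  have hQ'ne : ⁅Q, Q⁆ ≠ Q := by
    intro e
    haveI : Nontrivial ↥Q := (Subgroup.nontrivial_iff_ne_bot Q).mpr w.Q1
    have h1 := Group.IsSolvable.commutator_lt_top_of_nontrivial ↥Q
    have hmap : (commutator ↥Q).map Q.subtype = ⁅Q, Q⁆ := by
      rw [commutator_def, Subgroup.map_commutator, ← MonoidHom.range_eq_map,
        Subgroup.range_subtype]
    have h2 : (commutator ↥Q).map Q.subtype = (⊤ : Subgroup ↥Q).map Q.subtype := by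
      rw [hmap, e, ← MonoidHom.range_eq_map, Subgroup.range_subtype]
    have h3 := Subgroup.map_injective (Subgroup.subtype_injective Q) h2
    exact (ne_of_lt h1) h3
  have hQ'Z : ⁅Q, Q⁆ ≤ Z :=
    le_inf hQ'le (w.le_centralizer_of_ne hQ'le (le_normalizer_commutator w.PQ w.PQ)
      (le_normalizer_commutator w.RQ w.RQ) hQ'ne)
  -- `Z ≤ Z(Q)`
  have hZcQ : Z ≤ centralizer (Q : Set G) := by
    have h1 : ⁅⁅P, Z⁆, Q⁆ = ⊥ := by
      have : ⁅P, Z⁆ = ⊥ := commutator_eq_bot_of_le_centralizer (le_centralizer_comm inf_le_right)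
      rw [this, Subgroup.commutator_bot_left]
    have h2 : ⁅⁅Z, Q⁆, P⁆ = ⊥ := by
      apply commutator_eq_bot_of_le_centralizer
      exact ((Subgroup.commutator_mono inf_le_left le_rfl).trans hQ'Z).trans inf_le_right
    have h3 := Subgroup.commutator_commutator_eq_bot_of_rotate h1 h2
    rw [w.commutator_QP] at h3
    exact le_centralizer_comm (le_centralizer_of_commutator_eq_bot h3)
  have hZZQ : Z ≤ ZQ := le_inf inf_le_left hZcQ
  have hZne : Z ≠ Q := by
    intro e
    apply w.not_le_centralizer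
    apply le_centralizer_comm
    rw [← e]
    exact inf_le_right
  have hZL : Z ≤ L := inf_le_left.trans w.QL
  have hLZ : L ≤ centralizer (Z : Set G) := by
    rw [← w.QP]
    exact sup_le (le_centralizer_comm hZcQ) (le_centralizer_comm inf_le_right)
  have hRZ : R ≤ normalizer (Z : Set G) := le_normalizer_inf w.RQ (le_normalizer_centralizer w.RP)
  have hZcomm : ∀ a ∈ Z, ∀ b ∈ Z, a * b = b * a := by
    intro a ha b hb
    exact (Subgroup.mem_centralizer_iff.mp (hZcQ ha) b hb.1).symm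
  haveI : IsMulCommutative Z := ⟨⟨fun a b => Subtype.ext (hZcomm a a.2 b b.2)⟩⟩
  have hZq : IsPGroup q Z := w.Qq.to_le inf_le_left
  -- `R` centralizes `Z`
  have hZR : Z ≤ centralizer (R : Set G) := by
    apply le_centralizer_of_commutator_eq_bot
    by_contra hZ₁
    set Z₁ : Subgroup G := ⁅Z, R⁆ with hZ₁def
    have hZ₁Z : Z₁ ≤ Z := commutator_le_of_le_normalizer hRZ
    have hZ₁L : Z₁ ≤ L := hZ₁Z.trans hZL
    have hLZ₁ : L ≤ normalizer (Z₁ : Set G) :=
      (hLZ.trans (Subgroup.centralizer_le hZ₁Z)).trans (Subgroup.centralizer_le_normalizer _)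
    have hRZ₁ : R ≤ normalizer (Z₁ : Set G) := Subgroup.normalizer_commutator_ge_right Z R
    have hZ₁q : IsPGroup q Z₁ := hZq.to_le hZ₁Z
    have hZ₁p : (Nat.card Z₁).Coprime p := w.toSt4.coprime_of_isPGroup w.hq w.hqp hZ₁q
    have hfixZ₁ : V ⊓ centralizer (Z₁ : Set G) = ⊥ :=
      w.toSt3.inf_centralizer_eq_bot hZ₁L hLZ₁ hRZ₁ hZ₁p hZ₁
    obtain ⟨n, hn⟩ := IsPGroup.iff_card.mp w.Vp
    have hFA : FrobAct Z₁ R V :=
      { hU1 := hZ₁
        hE1 := w.R_ne_bot
        hUE := by
          rw [eq_bot_iff, ← w.ctx.hyp.inf_eq_bot]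
          exact inf_le_inf_right _ (hZ₁L.trans w.LH)
        hUn := fun e he u hu => conj_mem_of_mem_normalizer (hRZ₁ he) hu
        hfpf := by
          intro e he he1 u hu heu
          have h1 : u ∈ (Z ⊓ centralizer (R : Set G)) ⊓ ⁅Z, R⁆ :=
            ⟨⟨hZ₁Z hu, w.mem_centralizer_R he he1 heu⟩, hu⟩
          have h2 : (Nat.card R).Coprime (Nat.card Z) := by
            obtain ⟨a, ha⟩ := IsPGroup.iff_card.mp hZq
            rw [ha]
            exact Nat.Coprime.pow_right a w.coprime_q_card_R.symm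
          rw [coprime_abelian_centralizer_inf_commutator hRZ h2, Subgroup.mem_bot] at h1
          exact h1
        hHn := fun x _ h hh => hVn.conj_mem h hh x
        hdisj := by
          apply w.inf_sup_R_eq_bot w.VH (hZ₁L.trans w.LH) hRZ₁
          rw [eq_bot_iff, ← w.VL]
          exact inf_le_inf_left _ hZ₁L
        hsolv := inferInstance
        hcop := by
          apply w.coprime_card_sup_R hRZ₁
          · rw [hn]
            exact Nat.Coprime.pow_left n hZ₁p.symm
          · rw [hn]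
            exact Nat.Coprime.pow_left n w.coprime_p_card_R }
    -- the fixed point formula for `V`
    have hF1 := frobFormula Z₁ R V hFA
    unfold FrobFormula at hF1
    have hbot1 : V ⊓ centralizer ((Z₁ ⊔ R : Subgroup G) : Set G) = ⊥ := by
      rw [eq_bot_iff, ← hfixZ₁]
      exact inf_le_inf_left _ (Subgroup.centralizer_le (le_sup_left : Z₁ ≤ Z₁ ⊔ R))
    rw [hbot1, hfixZ₁, Subgroup.card_bot, one_pow, one_mul, mul_one] at hF1
    -- the fixed point formula for `W = C_V(P)`
    set W : Subgroup G := V ⊓ centralizer (P : Set G) with hW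
    have hW1 : W ≠ ⊥ :=
      inf_centralizer_ne_bot_of_isPGroup w.Pp w.Vp w.V1 (w.toSt2.le_normalizer_V P)
    have hNW : Z₁ ⊔ R ≤ normalizer (W : Set G) := by
      apply le_normalizer_inf (w.toSt2.le_normalizer_V _)
      refine sup_le ?_ (le_normalizer_centralizer w.RP)
      exact (hZ₁Z.trans inf_le_right).trans Subgroup.le_normalizer
    have hFAW : FrobAct Z₁ R W :=
      hFA.sub inf_le_left (fun x hx m hm => conj_mem_of_mem_normalizer (hNW hx) hm)
    have hF2 := frobFormula Z₁ R W hFAW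
    unfold FrobFormula at hF2
    have hbot2 : W ⊓ centralizer (Z₁ : Set G) = ⊥ := by
      rw [eq_bot_iff, ← hfixZ₁]
      exact inf_le_inf_right _ inf_le_left
    have hbot3 : W ⊓ centralizer ((Z₁ ⊔ R : Subgroup G) : Set G) = ⊥ := by
      rw [eq_bot_iff, ← hbot2]
      exact inf_le_inf_left _ (Subgroup.centralizer_le (le_sup_left : Z₁ ≤ Z₁ ⊔ R))
    rw [hbot3, hbot2, Subgroup.card_bot, one_pow, one_mul, mul_one] at hF2
    -- numerics
    set c := Nat.card ↥(V ⊓ centralizer (R : Set G)) with hc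
    set c' := Nat.card ↥(W ⊓ centralizer (R : Set G)) with hc'
    have hcle : c ≤ p := w.toSt3.card_fix_le
    have hc'c : c' ≤ c := Subgroup.card_le_of_le (inf_le_inf_right _ inf_le_left)
    have hc'dvd : c' ∣ p ^ n := by
      rw [← hn]
      exact Subgroup.card_dvd_of_le (inf_le_left.trans inf_le_left)
    obtain ⟨j, -, hj⟩ := (Nat.dvd_prime_pow hp.out).mp hc'dvd
    have hWcard1 : 1 < Nat.card W := (Subgroup.one_lt_card_iff_ne_bot W).mpr hW1
    have hj0 : j ≠ 0 := by
      intro e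
      rw [hj, e, pow_zero, one_pow] at hF2
      omega
    have hc'p : p ≤ c' := by
      rw [hj]
      calc p = p ^ 1 := (pow_one p).symm
        _ ≤ p ^ j := Nat.pow_le_pow_right hp.out.pos (Nat.pos_of_ne_zero hj0)
    have hcc' : c = c' := by omega
    have hWV : W = V := by
      apply Subgroup.eq_of_le_of_card_ge inf_le_left
      rw [hF1, hF2, hcc']
    have hPV : P ≤ centralizer (V : Set G) := by
      apply le_centralizer_comm
      rw [← hWV]
      exact inf_le_right
    apply w.P1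
    rw [eq_bot_iff, ← w.toSt3.L_inf_centralizer]
    exact le_inf w.PL hPV
  -- `C_Q(R) ≤ Z(Q)`
  set C : Subgroup G := Q ⊓ centralizer (R : Set G) with hC
  haveI := w.ctx.hyp.zgroup
  haveI hCcyc : IsCyclic ↥C :=
    isCyclic_of_isZGroup_of_le (K := H ⊓ centralizer (R : Set G))
      (inf_le_inf_right _ (w.QL.trans w.LH)) (w.Qq.to_le inf_le_left)
  have hcaRQ : CoprimeAction R Q := w.toSt3.coprimeActionL.mono w.QL w.RQ
  have hCcQ : C ≤ centralizer (Q : Set G) := by
    intro c hc
    have hcQ : c ∈ Q := hc.1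
    have hcR : ∀ ρ ∈ R, c * ρ = ρ * c := fun ρ hρ =>
      (Subgroup.mem_centralizer_iff.mp hc.2 ρ hρ).symm
    have hQle : Q ≤ centralizer ({c} : Set G) := by
      rw [← coprime_commutator_sup_centralizer hcaRQ]
      refine sup_le ?_ ?_
      · rw [Subgroup.commutator_le]
        intro y hy ρ hρ
        rw [Subgroup.mem_centralizer_iff]
        intro c₀ hc₀
        rw [Set.mem_singleton_iff] at hc₀
        rw [hc₀]
        set z : G := c * y * c⁻¹ * y⁻¹ with hz
        set wd : G := y * ρ * y⁻¹ * ρ⁻¹ with hwd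
        have hzZ : z ∈ Z := by
          apply hQ'Z
          have : z = ⁅c, y⁆ := by rw [commutatorElement_def]
          rw [this]
          exact Subgroup.commutator_mem_commutator hcQ hy
        have hwQ : wd ∈ Q := by
          have h1 : ρ * y⁻¹ * ρ⁻¹ ∈ Q :=
            conj_mem_of_mem_normalizer (w.RQ hρ) (Subgroup.inv_mem _ hy)
          have : wd = y * (ρ * y⁻¹ * ρ⁻¹) := by rw [hwd]; group
          rw [this]
          exact Subgroup.mul_mem _ hy h1
        have hzw : z * wd = wd * z := (Subgroup.mem_centralizer_iff.mp (hZcQ hzZ) wd hwQ).symm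
        have hzρ : Commute z ρ := (Subgroup.mem_centralizer_iff.mp (hZR hzZ) ρ hρ).symm
        have e2 : c * ρ * c⁻¹ = ρ := by rw [hcR ρ hρ]; group
        have e1 : c * wd * c⁻¹ = (z * y) * (c * ρ * c⁻¹) * (z * y)⁻¹ * (c * ρ * c⁻¹)⁻¹ := by
          rw [hz, hwd]; group
        rw [e2] at e1
        have e3 : (z * y) * ρ * (z * y)⁻¹ * ρ⁻¹ = z * wd * z⁻¹ := by
          calc (z * y) * ρ * (z * y)⁻¹ * ρ⁻¹ = z * y * ρ * y⁻¹ * (z⁻¹ * ρ⁻¹) := by group
            _ = z * y * ρ * y⁻¹ * (ρ⁻¹ * z⁻¹) := by rw [(hzρ.inv_inv).eq]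
            _ = z * wd * z⁻¹ := by rw [hwd]; group
        have e4 : z * wd * z⁻¹ = wd := by rw [hzw]; group
        have e5 : c * wd * c⁻¹ = wd := by rw [e1, e3, e4]
        show c * ⁅y, ρ⁆ = ⁅y, ρ⁆ * c
        have : ⁅y, ρ⁆ = wd := by rw [commutatorElement_def]
        rw [this]
        calc c * wd = (c * wd * c⁻¹) * c := by group
          _ = wd * c := by rw [e5]
      · intro c' hc'
        rw [Subgroup.mem_centralizer_iff]
        intro c₀ hc₀
        rw [Set.mem_singleton_iff] at hc₀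
        rw [hc₀]
        letI := IsCyclic.commGroup (α := ↥C)
        have := mul_comm (⟨c, hc⟩ : ↥C) ⟨c', hc'⟩
        exact congrArg Subtype.val this
    rw [Subgroup.mem_centralizer_iff]
    intro y hy
    exact (Subgroup.mem_centralizer_iff.mp (hQle hy) c (Set.mem_singleton c)).symm
  have hCZ : C ≤ Z := (le_inf inf_le_left hCcQ).trans hZQZ
  -- the fixed point formula for `Q`
  have hF := frobFormula P R Q w.frobAct_PRQ
  unfold FrobFormula at hF
  have h1 : Q ⊓ centralizer ((P ⊔ R : Subgroup G) : Set G) = Z := by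
    apply le_antisymm
    · exact inf_le_inf_left _ (Subgroup.centralizer_le (le_sup_left : P ≤ P ⊔ R))
    · refine le_inf inf_le_left ?_
      apply le_centralizer_comm
      exact sup_le (le_centralizer_comm inf_le_right) (le_centralizer_comm hZR)
  have h2 : Q ⊓ centralizer (R : Set G) = Z :=
    le_antisymm hCZ (le_inf inf_le_left hZR)
  rw [h1, h2] at hF
  have hpos : 0 < Nat.card Z ^ Nat.card R := pow_pos Nat.card_pos _
  have h3 : Nat.card Q = Nat.card Z := Nat.eq_of_mul_eq_mul_left hpos hF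
  apply hZne
  exact Subgroup.eq_of_le_of_card_ge inf_le_left (le_of_eq h3)

/-- the final contradiction in the configuration `L = QP` -/
theorem false (w : St5 p q H R V L P Q) : False := by
  by_cases hab : ∀ a ∈ Q, ∀ b ∈ Q, a * b = b * a
  · exact w.false_of_comm hab
  · exact w.false_of_not_comm hab

end St5

end Cfsg.Agent.Lib.H10.BG36
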