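import Mathlib
import Cfsg.Agent.Lib.H10.BG36n

/-!
# B&G Theorem 3.6 (helper10)

`bg36`: `G` solvable of odd order, `H ⊴ G` a normal Hall subgroup with complement `R`, `R₀ ≤ R` of
prime order with `C_H(R₀)` a Z-group.  Then `[H, R]` has `p`-length at most one for every prime `p`.
-/

set_option autoImplicit false
set_option linter.unusedSectionVars false
set_option linter.style.haveILetI false

namespace Cfsg.Agent.Lib.H10.BG36

open Subgroup Cfsg Cfsg.Agent.Lib.H19 Cfsg.Agent.Lib.H1
open scoped Pointwise commutatorElement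

universe u

/-- there is no minimal counterexample -/
theorem Ctx.false {G : Type u} [Group G] [Finite G] {p : ℕ} [hp : Fact p.Prime]
    {H R R₀ : Subgroup G} (c : Ctx p H R R₀) : False := by
  have s := c.st2
  obtain ⟨L, t⟩ := s.exists_st3
  obtain ⟨P, hP, hRP⟩ := t.exists_sylow
  rcases t.fix_split hP.le hP.isPGroup with h | h
  · exact t.caseA h
  · have hRR := t.R₀_eq hP hRP h
    subst hRR
    have u : St4 p H R₀ (piCoreOf {p} H) L P := { toSt3 := t, PS := hP, RP := hRP, PR := h }
    obtain ⟨q, Q, w⟩ := u.exists_st5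
    exact w.false

/-- **Bender–Glauberman, Theorem 3.6** -/
theorem bg36 {G : Type u} [Group G] [Finite G] [Group.IsSolvable G] (hodd : Odd (Nat.card G))
    (H R R₀ : Subgroup G) [H.Normal] (hHall : (Nat.card H).Coprime H.index)
    (hR : Subgroup.IsComplement' H R) (hR₀ : R₀ ≤ R) (hR₀p : (Nat.card R₀).Prime)
    (hZ : IsZGroup ↥(H ⊓ Subgroup.centralizer (R₀ : Set G))) (p : ℕ) [Fact p.Prime] :
    Cfsg.PLengthLE p 1 ↥⁅H, R⁆ := by
  have hyp : Hyp H R R₀ :=
    { solv := inferInstance
      odd := hodd
      normal := inferInstance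
      hall := hHall
      compl := hR
      le := hR₀
      prime := hR₀p
      zgroup := hZ }
  exact result_of_ctx (fun G _ _ H R R₀ c => c.false) H R R₀ hyp

end Cfsg.Agent.Lib.H10.BG36
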