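import Mathlib
import Cfsg.Prelude.Def_ConjugacyFunctors
import Cfsg.Agent.Lib.H10.WellPlaced

/-! Isomorphism-invariant `p`-group functors and the conjugacy functors they induce (helper10). -/

set_option autoImplicit false

namespace Cfsg.Agent.Lib.H10

open Cfsg

universe u

variable {H : Type u} [Group H] {H' : Type u} [Group H']

/-- The induced functor commutes with isomorphisms on finite `p`-subgroups. -/
theorem inducedFunctor_map_equiv {p : ℕ} {W : ∀ (Q : Type u) [Group Q], Subgroup Q}
    (hW : IsCharPFunctor.{u} p W) (e : H ≃* H') (T : Subgroup H) [Finite T] (hT : IsPGroup p T) :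
    (inducedFunctor W T).map e.toMonoidHom = inducedFunctor W (T.map e.toMonoidHom) := by
  unfold inducedFunctor
  have h1 := hW.2 ↥T ↥(T.map e.toMonoidHom) hT (e.subgroupMap T)
  rw [← h1, Subgroup.map_map, Subgroup.map_map]
  congr 1

/-- The induced functor of an isomorphism-invariant `p`-group functor is a conjugacy functor. -/
theorem isConjugacyFunctor_inducedFunctor [Finite H] {p : ℕ}
    {W : ∀ (Q : Type u) [Group Q], Subgroup Q} (hW : IsCharPFunctor.{u} p W) :
    IsConjugacyFunctor p (inducedFunctor (G := H) W) := by
  intro P hP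
  refine ⟨Subgroup.map_subtype_le _, ?_, ?_⟩
  · intro hP1 h
    have hnt : Nontrivial ↥P := (Subgroup.nontrivial_iff_ne_bot P).2 hP1
    apply hW.1 ↥P hP hnt
    unfold inducedFunctor at h
    exact (Subgroup.map_eq_bot_iff_of_injective _ P.subtype_injective).1 h
  · intro g
    exact (inducedFunctor_map_equiv hW (MulAut.conj g) P hP).symm

end Cfsg.Agent.Lib.H10
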