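import Cfsg.Prelude.Def_ConjugacyFunctors

/-! Basic monotonicity facts about the K-sequence families (helper10). -/

set_option autoImplicit false

namespace Cfsg.Agent.Lib.H10

open Cfsg

variable {P : Type*} [Group P]

theorem kUpperStarFamily_anti {Q Q' : Subgroup P} (h : Q ≤ Q') :
    kUpperStarFamily Q' ⊆ kUpperStarFamily Q := by
  rintro B ⟨hB, hBQ⟩
  exact ⟨hB, le_trans (Subgroup.commutator_mono le_rfl h) hBQ⟩

theorem kLowerStarFamily_anti {Q Q' : Subgroup P} (h : Q ≤ Q') :
    kLowerStarFamily Q' ⊆ kLowerStarFamily Q := by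
  rintro B ⟨hB, hN, hA⟩
  exact ⟨hB, le_trans h hN, fun A hA2 hAQ => hA A hA2 (le_trans hAQ h)⟩

theorem kSeqOdd_succ_le (n : ℕ) : kSeqOdd P (n + 1) ≤ kSeqOdd P n := by
  induction n with
  | zero => exact le_top
  | succ n ih =>
    show sSup (kUpperStarFamily (sSup (kLowerStarFamily (kSeqOdd P (n + 1))))) ≤
      sSup (kUpperStarFamily (sSup (kLowerStarFamily (kSeqOdd P n))))
    exact sSup_le_sSup (kUpperStarFamily_anti (sSup_le_sSup (kLowerStarFamily_anti ih)))

theorem kSeqEven_le_succ (n : ℕ) : kSeqEven P n ≤ kSeqEven P (n + 1) :=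
  sSup_le_sSup (kLowerStarFamily_anti (kSeqOdd_succ_le n))

theorem kSeqOdd_antitone : Antitone (kSeqOdd P) := antitone_nat_of_succ_le kSeqOdd_succ_le

theorem kSeqEven_monotone : Monotone (kSeqEven P) := monotone_nat_of_le_succ kSeqEven_le_succ

theorem kSeqOdd_succ_eq (n : ℕ) :
    kSeqOdd P (n + 1) = sSup (kUpperStarFamily (kSeqEven P n)) := rfl

/-- A normal abelian subgroup has class at most two. -/
theorem normal_abelian_mem_classTwo (A : Subgroup P) (hA : IsMulCommutative ↥A) :
    A ∈ classTwoSubgroups P := by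
  show ⁅A, A⁆ ≤ Subgroup.centralizer (A : Set P)
  have h1 : A ≤ Subgroup.centralizer (A : Set P) := Subgroup.le_centralizer_iff_isMulCommutative.mpr hA
  have : ⁅A, A⁆ = ⊥ := Subgroup.commutator_eq_bot_iff_le_centralizer.mpr h1
  rw [this]; exact bot_le

theorem normal_abelian_mem_lower (A : Subgroup P) [A.Normal] (hA : IsMulCommutative ↥A)
    (Q : Subgroup P) : A ∈ kLowerStarFamily Q := by
  have h1 : A ≤ Subgroup.centralizer (A : Set P) := Subgroup.le_centralizer_iff_isMulCommutative.mpr hA
  refine ⟨normal_abelian_mem_classTwo A hA, ?_, ?_⟩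
  · intro x _
    rw [Subgroup.mem_normalizer_iff]
    intro h
    exact ⟨fun hh => ‹A.Normal›.conj_mem h hh x, fun hh => by
      have := ‹A.Normal›.conj_mem _ hh x⁻¹
      simpa [mul_assoc] using this⟩
  · intro A' _ _ _ _ _
    exact le_inf (Subgroup.commutator_le_left A A') (le_trans (Subgroup.commutator_le_left A A') h1)

theorem normal_abelian_mem_upper (A : Subgroup P) [A.Normal] (hA : IsMulCommutative ↥A)
    (Q : Subgroup P) : A ∈ kUpperStarFamily Q := by
  have h1 : A ≤ Subgroup.centralizer (A : Set P) := Subgroup.le_centralizer_iff_isMulCommutative.mpr hA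
  exact ⟨normal_abelian_mem_classTwo A hA,
    le_inf (Subgroup.commutator_le_left A Q) (le_trans (Subgroup.commutator_le_left A Q) h1)⟩

theorem normal_abelian_le_kSeqEven (A : Subgroup P) [A.Normal] (hA : IsMulCommutative ↥A) (n : ℕ) :
    A ≤ kSeqEven P n :=
  le_sSup (normal_abelian_mem_lower A hA _)

theorem normal_abelian_le_kSeqOdd (A : Subgroup P) [A.Normal] (hA : IsMulCommutative ↥A) (n : ℕ) :
    A ≤ kSeqOdd P n := by
  cases n with
  | zero => exact le_top
  | succ n => exact le_sSup (normal_abelian_mem_upper A hA _)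

end Cfsg.Agent.Lib.H10
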