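import Mathlib
import Cfsg.Prelude.Def_ConjugacyFunctors
import Cfsg.Agent.Lib.H10.KInf

/-! Transport of the K-infinity families along injective homomorphisms (helper10). -/

set_option autoImplicit false

namespace Cfsg.Agent.Lib.H10

open Cfsg

variable {H P : Type*} [Group H] [Group P] {f : H →* P}

theorem map_le_centralizer_map_iff (hf : Function.Injective f) {X Y : Subgroup H} :
    X.map f ≤ Subgroup.centralizer ((Y.map f : Subgroup P) : Set P) ↔
      X ≤ Subgroup.centralizer (Y : Set H) := by
  rw [← Subgroup.commutator_eq_bot_iff_le_centralizer, ← Subgroup.commutator_eq_bot_iff_le_centralizer,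
    ← Subgroup.map_commutator, Subgroup.map_eq_bot_iff_of_injective _ hf]

theorem map_le_normalizer_map_iff (hf : Function.Injective f) {X Y : Subgroup H} :
    X.map f ≤ Subgroup.normalizer ((Y.map f : Subgroup P) : Set P) ↔
      X ≤ Subgroup.normalizer (Y : Set H) := by
  rw [Subgroup.le_normalizer_iff_commutator_le_left, Subgroup.le_normalizer_iff_commutator_le_left,
    ← Subgroup.map_commutator, Subgroup.map_le_map_iff_of_injective hf]

theorem map_inf_centralizer (hf : Function.Injective f) (X : Subgroup H) :
    (X ⊓ Subgroup.centralizer (X : Set H)).map f =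
      X.map f ⊓ Subgroup.centralizer ((X.map f : Subgroup P) : Set P) := by
  apply le_antisymm
  · refine le_inf (Subgroup.map_mono inf_le_left) ?_
    rw [map_le_centralizer_map_iff hf]
    exact inf_le_right
  · rintro _ ⟨⟨x, hx, rfl⟩, hc⟩
    refine ⟨x, ⟨hx, ?_⟩, rfl⟩
    intro y hy
    apply hf
    rw [map_mul, map_mul]
    exact hc (f y) ⟨y, hy, rfl⟩

theorem map_mem_classTwo_iff (hf : Function.Injective f) {B : Subgroup H} :
    B.map f ∈ classTwoSubgroups P ↔ B ∈ classTwoSubgroups H := by
  change ⁅B.map f, B.map f⁆ ≤ Subgroup.centralizer ((B.map f : Subgroup P) : Set P) ↔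
    ⁅B, B⁆ ≤ Subgroup.centralizer (B : Set H)
  rw [← Subgroup.map_commutator, map_le_centralizer_map_iff hf]

theorem map_mem_upper_iff (hf : Function.Injective f) {B R : Subgroup H} :
    B.map f ∈ kUpperStarFamily (R.map f) ↔ B ∈ kUpperStarFamily R := by
  change (B.map f ∈ classTwoSubgroups P ∧ ⁅B.map f, R.map f⁆ ≤
      B.map f ⊓ Subgroup.centralizer ((B.map f : Subgroup P) : Set P)) ↔
    (B ∈ classTwoSubgroups H ∧ ⁅B, R⁆ ≤ B ⊓ Subgroup.centralizer (B : Set H))
  rw [map_mem_classTwo_iff hf, ← Subgroup.map_commutator, ← map_inf_centralizer hf,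
    Subgroup.map_le_map_iff_of_injective hf]

theorem map_mem_lower_iff (hf : Function.Injective f) {B R : Subgroup H} :
    B.map f ∈ kLowerStarFamily (R.map f) ↔ B ∈ kLowerStarFamily R := by
  constructor
  · rintro ⟨h1, h2, h3⟩
    refine ⟨(map_mem_classTwo_iff hf).mp h1, (map_le_normalizer_map_iff hf).mp h2, ?_⟩
    intro A hA hAR hBA hc1 hc2
    have := h3 (A.map f) ((map_mem_classTwo_iff hf).mpr hA) (Subgroup.map_mono hAR)
      ((map_le_normalizer_map_iff hf).mpr hBA)
      (by rw [← Subgroup.map_commutator, ← Subgroup.map_commutator, hc1, Subgroup.map_bot])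
      (by rw [← map_inf_centralizer hf, ← Subgroup.map_commutator, ← Subgroup.map_commutator, hc2,
        Subgroup.map_bot])
    rw [← Subgroup.map_commutator, ← map_inf_centralizer hf,
      Subgroup.map_le_map_iff_of_injective hf] at this
    exact this
  · rintro ⟨h1, h2, h3⟩
    refine ⟨(map_mem_classTwo_iff hf).mpr h1, (map_le_normalizer_map_iff hf).mpr h2, ?_⟩
    intro A hA hAR hBA hc1 hc2
    have hAr : A ≤ f.range := hAR.trans (Subgroup.map_le_range f R)
    have hAeq : (A.comap f).map f = A := Subgroup.map_comap_eq_self hAr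
    rw [← hAeq] at hA hAR hBA hc1 hc2 ⊢
    have := h3 (A.comap f) ((map_mem_classTwo_iff hf).mp hA)
      ((Subgroup.map_le_map_iff_of_injective hf).mp hAR)
      ((map_le_normalizer_map_iff hf).mp hBA)
      (by
        rw [← Subgroup.map_commutator, ← Subgroup.map_commutator,
          Subgroup.map_eq_bot_iff_of_injective _ hf] at hc1
        exact hc1)
      (by
        rw [← map_inf_centralizer hf, ← Subgroup.map_commutator, ← Subgroup.map_commutator,
          Subgroup.map_eq_bot_iff_of_injective _ hf] at hc2
        exact hc2)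
    rw [← Subgroup.map_commutator, ← map_inf_centralizer hf,
      Subgroup.map_le_map_iff_of_injective hf]
    exact this

end Cfsg.Agent.Lib.H10
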