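import Mathlib
import Cfsg.Prelude.Def_ConjugacyFunctors
import Cfsg.Agent.Lib.H10.KInfMap

/-! The K-infinity subgroups are isomorphism-invariant `p`-group functors (helper10). -/

set_option autoImplicit false

namespace Cfsg.Agent.Lib.H10

open Cfsg

universe u

section iso

variable {Q R : Type*} [Group Q] [Group R] (φ : Q ≃* R)

theorem map_comap_equiv (B : Subgroup R) :
    (B.comap φ.toMonoidHom).map φ.toMonoidHom = B :=
  Subgroup.map_comap_eq_self_of_surjective φ.surjective B

theorem sSup_upper_map_equiv (X : Subgroup Q) :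
    (sSup (kUpperStarFamily X)).map φ.toMonoidHom = sSup (kUpperStarFamily (X.map φ.toMonoidHom)) := by
  have hf : Function.Injective φ.toMonoidHom := φ.injective
  apply le_antisymm
  · rw [Subgroup.map_le_iff_le_comap]
    apply sSup_le
    intro B hB
    rw [← Subgroup.map_le_iff_le_comap]
    exact le_sSup ((map_mem_upper_iff hf).mpr hB)
  · apply sSup_le
    intro B hB
    rw [← map_comap_equiv φ B] at hB ⊢
    exact Subgroup.map_mono (le_sSup ((map_mem_upper_iff hf).mp hB))

theorem sSup_lower_map_equiv (X : Subgroup Q) :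
    (sSup (kLowerStarFamily X)).map φ.toMonoidHom = sSup (kLowerStarFamily (X.map φ.toMonoidHom)) := by
  have hf : Function.Injective φ.toMonoidHom := φ.injective
  apply le_antisymm
  · rw [Subgroup.map_le_iff_le_comap]
    apply sSup_le
    intro B hB
    rw [← Subgroup.map_le_iff_le_comap]
    exact le_sSup ((map_mem_lower_iff hf).mpr hB)
  · apply sSup_le
    intro B hB
    rw [← map_comap_equiv φ B] at hB ⊢
    exact Subgroup.map_mono (le_sSup ((map_mem_lower_iff hf).mp hB))

theorem kSeqOdd_map_equiv (n : ℕ) :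
    (kSeqOdd Q n).map φ.toMonoidHom = kSeqOdd R n := by
  induction n with
  | zero =>
    show (⊤ : Subgroup Q).map φ.toMonoidHom = ⊤
    rw [← MonoidHom.range_eq_map]
    exact MonoidHom.range_eq_top.mpr φ.surjective
  | succ n ih =>
    show (sSup (kUpperStarFamily (sSup (kLowerStarFamily (kSeqOdd Q n))))).map φ.toMonoidHom =
      sSup (kUpperStarFamily (sSup (kLowerStarFamily (kSeqOdd R n))))
    rw [sSup_upper_map_equiv, sSup_lower_map_equiv, ih]

theorem kSeqEven_map_equiv (n : ℕ) :
    (kSeqEven Q n).map φ.toMonoidHom = kSeqEven R n := by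
  show (sSup (kLowerStarFamily (kSeqOdd Q n))).map φ.toMonoidHom =
    sSup (kLowerStarFamily (kSeqOdd R n))
  rw [sSup_lower_map_equiv, kSeqOdd_map_equiv]

end iso

theorem kInfLower_map_equiv {Q R : Type u} [Group Q] [Group R] (φ : Q ≃* R) :
    (kInfLower Q).map φ.toMonoidHom = kInfLower R := by
  show (⨆ n, kSeqEven Q n).map φ.toMonoidHom = ⨆ n, kSeqEven R n
  rw [Subgroup.map_iSup]
  exact iSup_congr fun n => kSeqEven_map_equiv φ n

theorem kInfUpper_map_equiv {Q R : Type u} [Group Q] [Group R] (φ : Q ≃* R) :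
    (kInfUpper Q).map φ.toMonoidHom = kInfUpper R := by
  show (⨅ n, kSeqOdd Q n).map φ.toMonoidHom = ⨅ n, kSeqOdd R n
  rw [Subgroup.map_iInf _ φ.injective]
  exact iInf_congr fun n => kSeqOdd_map_equiv φ n

theorem center_le_kInfLower (Q : Type u) [Group Q] : Subgroup.center Q ≤ kInfLower Q := by
  have h : Subgroup.center Q ≤ kSeqEven Q 0 :=
    normal_abelian_le_kSeqEven (Subgroup.center Q) inferInstance 0
  exact h.trans (le_iSup (fun n => kSeqEven Q n) 0)

theorem center_le_kInfUpper (Q : Type u) [Group Q] : Subgroup.center Q ≤ kInfUpper Q :=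
  le_iInf fun n => normal_abelian_le_kSeqOdd (Subgroup.center Q) inferInstance n

theorem isCharPFunctor_kInfLower (p : ℕ) [Fact p.Prime] : IsCharPFunctor.{u} p kInfLower := by
  refine ⟨?_, ?_⟩
  · intro Q _ _ hQ hnt h
    have hc : Subgroup.center Q ≠ ⊥ := by
      have := hQ.center_nontrivial
      exact (Subgroup.nontrivial_iff_ne_bot _).mp this
    apply hc
    rw [eq_bot_iff, ← h]
    exact center_le_kInfLower Q
  · intro Q R _ _ _ _ φ
    exact kInfLower_map_equiv φ

theorem isCharPFunctor_kInfUpper (p : ℕ) [Fact p.Prime] : IsCharPFunctor.{u} p kInfUpper := by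
  refine ⟨?_, ?_⟩
  · intro Q _ _ hQ hnt h
    have hc : Subgroup.center Q ≠ ⊥ := by
      have := hQ.center_nontrivial
      exact (Subgroup.nontrivial_iff_ne_bot _).mp this
    apply hc
    rw [eq_bot_iff, ← h]
    exact center_le_kInfUpper Q
  · intro Q R _ _ _ _ φ
    exact kInfUpper_map_equiv φ

end Cfsg.Agent.Lib.H10
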