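import Mathlib
import Cfsg.Prelude.Def_ConjugacyFunctors
import Cfsg.Agent.Lib.H10.ConjFamily
import Cfsg.Agent.Lib.H10.WellPlaced

/-! Local-to-global theorems for conjugacy functors via well-placed subgroups (helper10). -/

set_option autoImplicit false

namespace Cfsg.Agent.Lib.H10

open Cfsg

variable {G : Type*} [Group G]

/-- Two "Sylow in `H`" subgroups are conjugate by an element of `H`. -/
theorem exists_mem_map_conj_eq_of_sylowIn {p : ℕ} [Fact p.Prime] [Finite G] {P Q H : Subgroup G}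
    (hP : IsPGroup p P) (hPH : P ≤ H) (hPi : ¬ p ∣ P.relIndex H) (hQ : IsPGroup p Q)
    (hQH : Q ≤ H) (hQi : ¬ p ∣ Q.relIndex H) :
    ∃ m ∈ H, Q.map (MulAut.conj m).toMonoidHom = P := by
  obtain ⟨m, hm, hle⟩ := exists_mem_map_conj_le_of_sylowIn hP hPH hPi hQ hQH
  refine ⟨m, hm, ?_⟩
  have hHm : H.map (MulAut.conj m).toMonoidHom = H := by
    apply le_antisymm
    · rintro _ ⟨y, hy, rfl⟩
      exact H.mul_mem (H.mul_mem hm hy) (H.inv_mem hm)
    · intro y hy
      rw [mem_map_conj]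
      exact H.mul_mem (H.mul_mem (H.inv_mem hm) hy) hm
  have hi : ¬ p ∣ (Q.map (MulAut.conj m).toMonoidHom).relIndex H := by
    have := relIndex_map_conj m Q H
    rw [hHm] at this
    rw [this]
    exact hQi
  exact eq_of_le_of_not_dvd_relIndex hle hPH hP hi

/-- Control of strong fusion does not depend on the chosen Sylow subgroup of `H`. -/
theorem controlsStrongFusionIn_sylowIn {p : ℕ} [Fact p.Prime] [Finite G]
    {W : Subgroup G → Subgroup G} (hW : IsConjugacyFunctor p W) {H : Subgroup G}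
    (hc : ControlsStrongFusionIn p W H) {T₁ : Subgroup G} (hT₁ : IsPGroup p T₁) (hT₁H : T₁ ≤ H)
    (hT₁i : ¬ p ∣ T₁.relIndex H) (A : Set G) (h : G) (hh : h ∈ H) (hA : A ⊆ T₁)
    (hAh : (fun a => h * a * h⁻¹) '' A ⊆ T₁) :
    ∃ x ∈ H ⊓ Subgroup.normalizer ((W T₁ : Subgroup G) : Set G),
      ∀ a ∈ A, x * a * x⁻¹ = h * a * h⁻¹ := by
  obtain ⟨T₀, hT₀H, hT₀, hT₀i, hctl⟩ := hc
  obtain ⟨m, hm, hmT⟩ := exists_mem_map_conj_eq_of_sylowIn hT₁ hT₁H hT₁i hT₀ hT₀H hT₀i
  -- T₁ = m T₀ m⁻¹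
  have hA' : (fun a => m⁻¹ * a * m) '' A ⊆ (T₀ : Set G) := by
    rintro _ ⟨a, ha, rfl⟩
    have : a ∈ T₀.map (MulAut.conj m).toMonoidHom := hmT ▸ hA ha
    exact mem_map_conj.mp this
  have hh' : m⁻¹ * h * m ∈ H := H.mul_mem (H.mul_mem (H.inv_mem hm) hh) hm
  have hAh' : (fun a => (m⁻¹ * h * m) * a * (m⁻¹ * h * m)⁻¹) '' ((fun a => m⁻¹ * a * m) '' A) ⊆
      (T₀ : Set G) := by
    rintro _ ⟨_, ⟨a, ha, rfl⟩, rfl⟩
    have : h * a * h⁻¹ ∈ T₀.map (MulAut.conj m).toMonoidHom := hmT ▸ hAh ⟨a, ha, rfl⟩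
    have h2 := mem_map_conj.mp this
    have h3 : m⁻¹ * h * m * (m⁻¹ * a * m) * (m⁻¹ * h * m)⁻¹ = m⁻¹ * (h * a * h⁻¹) * m := by group
    simp only [SetLike.mem_coe]
    rw [h3]
    exact h2
  obtain ⟨x', hx', hxa⟩ := hctl _ _ hh' hA' hAh'
  refine ⟨m * x' * m⁻¹, ⟨H.mul_mem (H.mul_mem hm hx'.1) (H.inv_mem hm), ?_⟩, ?_⟩
  · have h1 := conj_mem_normalizer_map_conj m hx'.2
    rw [← functor_map_conj hW hT₀, hmT] at h1
    exact h1
  · intro a ha
    have := hxa _ ⟨a, ha, rfl⟩
    have h3 : m * x' * m⁻¹ * a * (m * x' * m⁻¹)⁻¹ = m * (x' * (m⁻¹ * a * m) * x'⁻¹) * m⁻¹ := by group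
    rw [h3, this]
    group

theorem isWellPlaced_functor {p : ℕ} {W : Subgroup G → Subgroup G} {S T : Subgroup G}
    (hS : IsPGroup p S) (hW : IsConjugacyFunctor p W) (h : IsWellPlaced p W S T) :
    IsWellPlaced p W S (W (S ⊓ Subgroup.normalizer (T : Set G))) := by
  refine ⟨(functor_le hW (hS.to_le inf_le_left)).trans inf_le_left, ?_⟩
  intro i
  rw [← functorTower_succ_eq]
  exact h.2 (i + 1)

/-- Climbing the tower: conjugation by an element of `N_G(T)` on a subset of `N_S(T)`,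
for `T` well placed, is induced by an element of `N_G(W(S))`. -/
theorem exists_mem_normalizer_functor_of_wellPlaced {p : ℕ} [Fact p.Prime] [Finite G]
    (S : Sylow p G) {W : Subgroup G → Subgroup G} (hW : IsConjugacyFunctor p W)
    (hloc : ∀ T : Subgroup G, T ≠ ⊥ → IsWellPlaced p W (S : Subgroup G) T →
      ControlsStrongFusionIn p W (Subgroup.normalizer ((T : Subgroup G) : Set G))) :
    ∀ (n : ℕ) (T : Subgroup G), IsWellPlaced p W (S : Subgroup G) T → T ≠ ⊥ →
      Nat.card (S : Subgroup G) -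
        Nat.card ((S : Subgroup G) ⊓ Subgroup.normalizer (T : Set G) : Subgroup G) = n →
      ∀ (B : Set G) (x : G), x ∈ Subgroup.normalizer (T : Set G) →
        B ⊆ ((S : Subgroup G) ⊓ Subgroup.normalizer (T : Set G) : Subgroup G) →
        (fun b => x * b * x⁻¹) '' B ⊆
          ((S : Subgroup G) ⊓ Subgroup.normalizer (T : Set G) : Subgroup G) →
        ∃ y ∈ Subgroup.normalizer ((W (S : Subgroup G) : Subgroup G) : Set G),
          ∀ b ∈ B, y * b * y⁻¹ = x * b * x⁻¹ := by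
  intro n
  induction n using Nat.strong_induction_on with
  | _ n ih =>
  intro T hwp hT1 hn B x hx hB hBx
  have hNp : IsPGroup p ((S : Subgroup G) ⊓ Subgroup.normalizer (T : Set G) : Subgroup G) :=
    S.2.to_le inf_le_left
  obtain ⟨x', hx', hxa⟩ := controlsStrongFusionIn_sylowIn hW (hloc T hT1 hwp) hNp inf_le_right
    (hwp.2 0) B x hx hB hBx
  by_cases hcase : (S : Subgroup G) ⊓ Subgroup.normalizer (T : Set G) = (S : Subgroup G)
  · rw [hcase] at hx'
    exact ⟨x', hx'.2, hxa⟩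
  · set N := (S : Subgroup G) ⊓ Subgroup.normalizer (T : Set G) with hN
    have hNS : N < (S : Subgroup G) := lt_of_le_of_ne inf_le_left hcase
    have hwp1 : IsWellPlaced p W (S : Subgroup G) (W N) := isWellPlaced_functor S.2 hW hwp
    have hTN : T ≤ N := le_inf hwp.1 Subgroup.le_normalizer
    have hN1 : N ≠ ⊥ := fun h0 => hT1 (le_bot_iff.mp (h0 ▸ hTN))
    have hWN1 : W N ≠ ⊥ := (hW N hNp).2.1 hN1
    have hlt : N < (S : Subgroup G) ⊓ Subgroup.normalizer (N : Set G) :=
      lt_inf_normalizer_of_lt S.2 hNS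
    have hle : (S : Subgroup G) ⊓ Subgroup.normalizer (N : Set G) ≤
        (S : Subgroup G) ⊓ Subgroup.normalizer ((W N : Subgroup G) : Set G) :=
      inf_le_inf_left _ (normalizer_le_normalizer_functor hW hNp)
    have hlt2 : N < (S : Subgroup G) ⊓ Subgroup.normalizer ((W N : Subgroup G) : Set G) :=
      lt_of_lt_of_le hlt hle
    have hc2 : Nat.card N <
        Nat.card ((S : Subgroup G) ⊓ Subgroup.normalizer ((W N : Subgroup G) : Set G) : Subgroup G) := by
      refine lt_of_le_of_ne (Subgroup.card_le_of_le hlt2.le) ?_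
      intro heq
      exact hlt2.ne (Subgroup.eq_of_le_of_card_ge hlt2.le heq.ge)
    have hc3 : Nat.card ((S : Subgroup G) ⊓ Subgroup.normalizer ((W N : Subgroup G) : Set G) : Subgroup G) ≤
        Nat.card (S : Subgroup G) := Subgroup.card_le_of_le inf_le_left
    have hBx' : (fun b => x' * b * x'⁻¹) '' B ⊆
        ((S : Subgroup G) ⊓ Subgroup.normalizer ((W N : Subgroup G) : Set G) : Subgroup G) := by
      rintro _ ⟨b, hb, rfl⟩
      change x' * b * x'⁻¹ ∈ _
      rw [hxa b hb]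
      exact hlt2.le (hBx ⟨b, hb, rfl⟩)
    obtain ⟨y, hy, hya⟩ := ih _ (by omega) (W N) hwp1 hWN1 rfl B x' hx'.2
      (fun b hb => hlt2.le (hB hb)) hBx'
    exact ⟨y, hy, fun b hb => (hya b hb).trans (hxa b hb)⟩

/-- Local-to-global for control of strong fusion via well-placed subgroups. -/
theorem controlsStrongFusionIn_top_of_wellPlaced {p : ℕ} [Fact p.Prime] [Finite G]
    (S : Sylow p G) {W : Subgroup G → Subgroup G} (hW : IsConjugacyFunctor p W)
    (hloc : ∀ T : Subgroup G, T ≠ ⊥ → IsWellPlaced p W (S : Subgroup G) T →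
      ControlsStrongFusionIn p W (Subgroup.normalizer ((T : Subgroup G) : Set G))) :
    ControlsStrongFusionIn p W ⊤ := by
  refine ⟨(S : Subgroup G), le_top, S.2, ?_, ?_⟩
  · rw [Subgroup.relIndex_top_right]
    exact S.not_dvd_index
  intro A h _ hA hAh
  -- the chain
  have hreach : Reach {T : Subgroup G | IsWellPlaced p W (S : Subgroup G) T} A h⁻¹ := by
    apply reach_of_criterion_set S _ (fun U hU => hU.1) _ hA
    · rintro _ ⟨a, ha, rfl⟩
      have := hAh ⟨a, ha, rfl⟩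
      simpa using this
    · intro T hT
      obtain ⟨g, hg, -⟩ := exists_wellPlaced_conj S hW _ T hT rfl
      exact ⟨_, hg, ⟨g, rfl⟩, hg.2 0⟩
  -- induction along the chain
  have key : ∀ (A : Set G) (g : G),
      Reach {T : Subgroup G | IsWellPlaced p W (S : Subgroup G) T} A g →
      ∃ y ∈ Subgroup.normalizer ((W (S : Subgroup G) : Subgroup G) : Set G),
        ∀ a ∈ A, y⁻¹ * a * y = g⁻¹ * a * g := by
    intro A g r
    induction r with
    | nil A => exact ⟨1, one_mem _, fun a _ => by simp⟩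
    | cons A T x g hT hx hAT _ ih =>
      obtain ⟨y', hy', hya'⟩ := ih
      by_cases hT1 : T = ⊥
      · refine ⟨1, one_mem _, ?_⟩
        intro a ha
        have : a = 1 := by
          have := hAT ha
          rw [hT1] at this
          simpa using this
        rw [this]
        simp
      · have hTN : T ≤ (S : Subgroup G) ⊓ Subgroup.normalizer (T : Set G) :=
          le_inf hT.1 Subgroup.le_normalizer
        have hAx : (fun b => x⁻¹ * b * x⁻¹⁻¹) '' A ⊆
            ((S : Subgroup G) ⊓ Subgroup.normalizer (T : Set G) : Subgroup G) := by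
          rintro _ ⟨a, ha, rfl⟩
          apply hTN
          have h1 : x⁻¹ ∈ Subgroup.normalizer (T : Set G) := inv_mem hx
          exact (Subgroup.mem_normalizer_iff.mp h1 a).mp (hAT ha)
        obtain ⟨y, hy, hya⟩ := exists_mem_normalizer_functor_of_wellPlaced S hW hloc _ T hT hT1 rfl
          A x⁻¹ (inv_mem hx) (fun a ha => hTN (hAT ha)) hAx
        refine ⟨y⁻¹ * y', Subgroup.mul_mem _ (Subgroup.inv_mem _ hy) hy', ?_⟩
        intro a ha
        have h1 := hya a ha
        have h2 := hya' (x⁻¹ * a * x) ⟨a, ha, rfl⟩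
        have h3 : (y⁻¹ * y')⁻¹ * a * (y⁻¹ * y') = y'⁻¹ * (y * a * y⁻¹) * y' := by group
        rw [h3, h1, inv_inv, h2]
        group
  obtain ⟨y, hy, hya⟩ := key A h⁻¹ hreach
  refine ⟨y⁻¹, ⟨Subgroup.mem_top _, Subgroup.inv_mem _ hy⟩, ?_⟩
  intro a ha
  have := hya a ha
  rw [inv_inv] at this ⊢
  exact this

end Cfsg.Agent.Lib.H10
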