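import Mathlib
import Cfsg.Prelude.Def_ConjugacyFunctors
import Cfsg.Agent.Lib.H10.LocalGlobal

/-! Local-to-global theorem for control of transfer via well-placed subgroups (helper10). -/

set_option autoImplicit false

namespace Cfsg.Agent.Lib.H10

open Cfsg
open scoped commutatorElement

variable {G : Type*} [Group G]

theorem map_conj_self_of_mem {H : Subgroup G} {m : G} (hm : m ∈ H) :
    H.map (MulAut.conj m).toMonoidHom = H := by
  apply le_antisymm
  · rintro _ ⟨y, hy, rfl⟩
    exact H.mul_mem (H.mul_mem hm hy) (H.inv_mem hm)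
  · intro y hy
    rw [mem_map_conj]
    exact H.mul_mem (H.mul_mem (H.inv_mem hm) hy) hm

/-- Control of transfer does not depend on the chosen Sylow subgroup of `H`. -/
theorem controlsTransferIn_sylowIn {p : ℕ} [Fact p.Prime] [Finite G]
    {W : Subgroup G → Subgroup G} (hW : IsConjugacyFunctor p W) {H : Subgroup G}
    (hc : ControlsTransferIn p W H) {T₁ : Subgroup G} (hT₁ : IsPGroup p T₁) (hT₁H : T₁ ≤ H)
    (hT₁i : ¬ p ∣ T₁.relIndex H) :
    T₁ ⊓ ⁅H, H⁆ = T₁ ⊓ ⁅H ⊓ Subgroup.normalizer ((W T₁ : Subgroup G) : Set G),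
      H ⊓ Subgroup.normalizer ((W T₁ : Subgroup G) : Set G)⁆ := by
  obtain ⟨T₀, hT₀H, hT₀, hT₀i, heq⟩ := hc
  obtain ⟨m, hm, hmT⟩ := exists_mem_map_conj_eq_of_sylowIn hT₁ hT₁H hT₁i hT₀ hT₀H hT₀i
  have hHm : H.map (MulAut.conj m).toMonoidHom = H := map_conj_self_of_mem hm
  have h1 : (T₀ ⊓ ⁅H, H⁆).map (MulAut.conj m).toMonoidHom =
      (T₀ ⊓ ⁅H ⊓ Subgroup.normalizer ((W T₀ : Subgroup G) : Set G),
        H ⊓ Subgroup.normalizer ((W T₀ : Subgroup G) : Set G)⁆).map (MulAut.conj m).toMonoidHom := by
    rw [heq]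
  rw [map_conj_inf, map_conj_inf, Subgroup.map_commutator, Subgroup.map_commutator, map_conj_inf,
    hHm, hmT, ← normalizer_map_conj, ← functor_map_conj hW hT₀, hmT] at h1
  exact h1

/-- Climbing the tower for transfer. -/
theorem inf_commutator_normalizer_le_of_wellPlaced {p : ℕ} [Fact p.Prime] [Finite G]
    (S : Sylow p G) {W : Subgroup G → Subgroup G} (hW : IsConjugacyFunctor p W)
    (hloc : ∀ T : Subgroup G, T ≠ ⊥ → IsWellPlaced p W (S : Subgroup G) T →
      ControlsTransferIn p W (Subgroup.normalizer ((T : Subgroup G) : Set G))) :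
    ∀ (n : ℕ) (T : Subgroup G), IsWellPlaced p W (S : Subgroup G) T → T ≠ ⊥ →
      Nat.card (S : Subgroup G) -
        Nat.card ((S : Subgroup G) ⊓ Subgroup.normalizer (T : Set G) : Subgroup G) = n →
      ((S : Subgroup G) ⊓ Subgroup.normalizer (T : Set G)) ⊓
        ⁅Subgroup.normalizer (T : Set G), Subgroup.normalizer (T : Set G)⁆ ≤
      ⁅Subgroup.normalizer ((W (S : Subgroup G) : Subgroup G) : Set G),
        Subgroup.normalizer ((W (S : Subgroup G) : Subgroup G) : Set G)⁆ := by
  intro n
  induction n using Nat.strong_induction_on with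
  | _ n ih =>
  intro T hwp hT1 hn
  have hNp : IsPGroup p ((S : Subgroup G) ⊓ Subgroup.normalizer (T : Set G) : Subgroup G) :=
    S.2.to_le inf_le_left
  have heq := controlsTransferIn_sylowIn hW (hloc T hT1 hwp) hNp inf_le_right (hwp.2 0)
  rw [heq]
  by_cases hcase : (S : Subgroup G) ⊓ Subgroup.normalizer (T : Set G) = (S : Subgroup G)
  · rw [hcase]
    exact inf_le_right.trans (Subgroup.commutator_mono inf_le_right inf_le_right)
  · set N := (S : Subgroup G) ⊓ Subgroup.normalizer (T : Set G) with hN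
    have hNS : N < (S : Subgroup G) := lt_of_le_of_ne inf_le_left hcase
    have hwp1 : IsWellPlaced p W (S : Subgroup G) (W N) := isWellPlaced_functor S.2 hW hwp
    have hTN : T ≤ N := le_inf hwp.1 Subgroup.le_normalizer
    have hN1 : N ≠ ⊥ := fun h0 => hT1 (le_bot_iff.mp (h0 ▸ hTN))
    have hWN1 : W N ≠ ⊥ := (hW N hNp).2.1 hN1
    have hlt : N < (S : Subgroup G) ⊓ Subgroup.normalizer (N : Set G) :=
      lt_inf_normalizer_of_lt S.2 hNS
    have hle : (S : Subgroup G) ⊓ Subgroup.normalizer (N : Set G) ≤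
        (S : Subgroup G) ⊓ Subgroup.normalizer ((W N : Subgroup G) : Set G) :=
      inf_le_inf_left _ (normalizer_le_normalizer_functor hW hNp)
    have hlt2 : N < (S : Subgroup G) ⊓ Subgroup.normalizer ((W N : Subgroup G) : Set G) :=
      lt_of_lt_of_le hlt hle
    have hc2 : Nat.card N <
        Nat.card ((S : Subgroup G) ⊓ Subgroup.normalizer ((W N : Subgroup G) : Set G) : Subgroup G) := by
      refine lt_of_le_of_ne (Subgroup.card_le_of_le hlt2.le) ?_
      intro heq
      exact hlt2.ne (Subgroup.eq_of_le_of_card_ge hlt2.le heq.ge)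
    have hc3 : Nat.card ((S : Subgroup G) ⊓ Subgroup.normalizer ((W N : Subgroup G) : Set G) : Subgroup G) ≤
        Nat.card (S : Subgroup G) := Subgroup.card_le_of_le inf_le_left
    have hih := ih _ (by omega) (W N) hwp1 hWN1 rfl
    refine le_trans ?_ hih
    exact inf_le_inf hlt2.le (Subgroup.commutator_mono inf_le_right inf_le_right)

/-- Local-to-global for control of transfer via well-placed subgroups. -/
theorem controlsTransferIn_top_of_wellPlaced {p : ℕ} [Fact p.Prime] [Finite G]
    (S : Sylow p G) {W : Subgroup G → Subgroup G} (hW : IsConjugacyFunctor p W)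
    (hloc : ∀ T : Subgroup G, T ≠ ⊥ → IsWellPlaced p W (S : Subgroup G) T →
      ControlsTransferIn p W (Subgroup.normalizer ((T : Subgroup G) : Set G))) :
    ControlsTransferIn p W ⊤ := by
  refine ⟨(S : Subgroup G), le_top, S.2, ?_, ?_⟩
  · rw [Subgroup.relIndex_top_right]
    exact S.not_dvd_index
  rw [top_inf_eq]
  apply le_antisymm
  · refine le_inf inf_le_left ?_
    have hfocal : (S : Subgroup G) ⊓ ⁅(⊤ : Subgroup G), ⊤⁆ = (S : Subgroup G).focalSubgroup := by
      rw [inf_comm, ← commutator_def]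
      exact Subgroup.commutator_inf_eq_focalSubgroup S
    rw [hfocal, Subgroup.focalSubgroup_def, Subgroup.closure_le]
    rintro _ ⟨hgS, x, hxS, u, rfl⟩
    -- the chain
    have hux : u * x * u⁻¹ ∈ (S : Subgroup G) := by
      have h1 : x⁻¹ * ⁅x, u⁆ ∈ (S : Subgroup G) := mul_mem (inv_mem hxS) hgS
      have h2 : x⁻¹ * ⁅x, u⁆ = (u * x * u⁻¹)⁻¹ := by
        rw [commutatorElement_def]; group
      rw [h2] at h1
      exact (inv_mem_iff).mp h1
    have hreach : Reach {T : Subgroup G | IsWellPlaced p W (S : Subgroup G) T} {x} u⁻¹ := by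
      apply reach_of_criterion_set S _ (fun U hU => hU.1) _
      · intro a ha
        rw [Set.mem_singleton_iff.mp ha]
        exact hxS
      · rintro _ ⟨a, ha, rfl⟩
        rw [Set.mem_singleton_iff.mp ha]
        change u⁻¹⁻¹ * x * u⁻¹ ∈ (S : Subgroup G)
        rw [inv_inv]
        exact hux
      · intro T hT
        obtain ⟨g, hg, -⟩ := exists_wellPlaced_conj S hW _ T hT rfl
        exact ⟨_, hg, ⟨g, rfl⟩, hg.2 0⟩
    have key : ∀ (A : Set G) (g : G),
        Reach {T : Subgroup G | IsWellPlaced p W (S : Subgroup G) T} A g →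
        ∀ a ∈ A, a * (g⁻¹ * a * g)⁻¹ ∈
          ⁅Subgroup.normalizer ((W (S : Subgroup G) : Subgroup G) : Set G),
            Subgroup.normalizer ((W (S : Subgroup G) : Subgroup G) : Set G)⁆ := by
      intro A g r
      induction r with
      | nil A => intro a _; simp
      | cons A T y g hT hy hAT _ ih =>
        intro a ha
        have h2 := ih (y⁻¹ * a * y) ⟨a, ha, rfl⟩
        have hsplit : a * ((y * g)⁻¹ * a * (y * g))⁻¹ =
            (a * (y⁻¹ * a * y)⁻¹) * ((y⁻¹ * a * y) * (g⁻¹ * (y⁻¹ * a * y) * g)⁻¹) := by group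
        rw [hsplit]
        refine mul_mem ?_ h2
        by_cases hT1 : T = ⊥
        · have : a = 1 := by
            have := hAT ha
            rw [hT1] at this
            simpa using this
          rw [this]
          simp
        · have haT : a ∈ T := hAT ha
          have hyinv : y⁻¹ ∈ Subgroup.normalizer (T : Set G) := inv_mem hy
          have hyaT : y⁻¹ * a * y ∈ T := by
            have := (Subgroup.mem_normalizer_iff.mp hyinv a).mp haT
            simpa using this
          have hcomm : a * (y⁻¹ * a * y)⁻¹ = ⁅a, y⁻¹⁆ := by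
            rw [commutatorElement_def]; group
          apply inf_commutator_normalizer_le_of_wellPlaced S hW hloc _ T hT hT1 rfl
          refine ⟨le_inf hT.1 Subgroup.le_normalizer (mul_mem haT (inv_mem hyaT)), ?_⟩
          rw [hcomm]
          exact Subgroup.commutator_mem_commutator (Subgroup.le_normalizer haT) hyinv
    have := key _ _ hreach x rfl
    have h3 : x * (u⁻¹⁻¹ * x * u⁻¹)⁻¹ = ⁅x, u⁆ := by
      rw [commutatorElement_def]; group
    rw [h3] at this
    exact this
  · exact inf_le_inf_left _ (Subgroup.commutator_mono le_top le_top)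

end Cfsg.Agent.Lib.H10
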