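import Mathlib
import Cfsg.Prelude.Def_PLocal
import Cfsg.Prelude.Def_LocalEven
import Cfsg.Agent.Lib.H19.HallComm

/-! Engel degrees on sections: the "Hom lemma" (`engel_hom`): if `Γ` has Engel degree `i` on `X/X'`
and `j` on `Y/Y'`, it has Engel degree `i + j - 1` on a group `N` acting as homomorphisms
`X/X' → Y/Y'` (helper10). -/

set_option autoImplicit false

namespace Cfsg.Agent.Lib.H10

open Cfsg
open scoped commutatorElement

variable {G : Type*} [Group G]

/-- Three subgroups lemma modulo a subgroup normalized by the three subgroups. -/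
theorem three_subgroups_of_le_normalizer (N : Subgroup G) {H₁ H₂ H₃ : Subgroup G}
    (hn1 : H₁ ≤ Subgroup.normalizer (N : Set G)) (hn2 : H₂ ≤ Subgroup.normalizer (N : Set G))
    (hn3 : H₃ ≤ Subgroup.normalizer (N : Set G))
    (h1 : ⁅⁅H₂, H₃⁆, H₁⁆ ≤ N) (h2 : ⁅⁅H₃, H₁⁆, H₂⁆ ≤ N) : ⁅⁅H₁, H₂⁆, H₃⁆ ≤ N := by
  set L := Subgroup.normalizer (N : Set G) with hL
  haveI : (N.subgroupOf L).Normal := Subgroup.normal_in_normalizer
  have key : ∀ A B C : Subgroup G, A ≤ L → B ≤ L → C ≤ L →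
      (⁅⁅A.subgroupOf L, B.subgroupOf L⁆, C.subgroupOf L⁆ ≤ N.subgroupOf L ↔ ⁅⁅A, B⁆, C⁆ ≤ N) := by
    intro A B C hA hB hC
    show ⁅⁅A.subgroupOf L, B.subgroupOf L⁆, C.subgroupOf L⁆ ≤ N.comap L.subtype ↔ _
    rw [← Subgroup.map_le_iff_le_comap, Subgroup.map_commutator,
      Subgroup.map_commutator, Subgroup.map_subgroupOf_eq_of_le hA,
      Subgroup.map_subgroupOf_eq_of_le hB, Subgroup.map_subgroupOf_eq_of_le hC]
  rw [← key _ _ _ hn1 hn2 hn3]
  apply H19.three_subgroups_normal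
  · rw [key _ _ _ hn2 hn3 hn1]; exact h1
  · rw [key _ _ _ hn3 hn1 hn2]; exact h2

/-- `[K Y', Γ] ≤ [K, Γ] Y'` for `Y'` normal. -/
theorem commutator_sup_normal_le (K Y' Γ : Subgroup G) [hY : Y'.Normal] :
    ⁅K ⊔ Y', Γ⁆ ≤ ⁅K, Γ⁆ ⊔ Y' := by
  rw [Subgroup.commutator_le]
  intro x hx c hc
  obtain ⟨a, ha, y, hy, rfl⟩ := Subgroup.mem_sup_of_normal_right.mp hx
  have e : ⁅a * y, c⁆ = a * ⁅y, c⁆ * a⁻¹ * ⁅a, c⁆ := by
    simp only [commutatorElement_def]; group
  rw [e]
  have h1 : ⁅y, c⁆ ∈ Y' := by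
    rw [commutatorElement_def, mul_assoc y, mul_assoc y]
    exact Y'.mul_mem hy (hY.conj_mem y⁻¹ (Y'.inv_mem hy) c)
  exact Subgroup.mul_mem _ (Subgroup.mem_sup_right (hY.conj_mem _ h1 a))
    (Subgroup.mem_sup_left (Subgroup.commutator_mem_commutator ha hc))

section iter

variable (N Γ : Subgroup G)

theorem iterCommutator_le_self [hN : N.Normal] (k : ℕ) : iterCommutator N Γ k ≤ N := by
  induction k with
  | zero => exact le_rfl
  | succ k ih =>
    show ⁅iterCommutator N Γ k, Γ⁆ ≤ N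
    exact (Subgroup.commutator_mono ih le_rfl).trans (Subgroup.commutator_le_left N Γ)

theorem iterCommutator_succ_le_self [hN : N.Normal] (k : ℕ) :
    iterCommutator N Γ (k + 1) ≤ iterCommutator N Γ k := by
  induction k with
  | zero => exact Subgroup.commutator_le_left N Γ
  | succ k ih => exact Subgroup.commutator_mono ih le_rfl

theorem iterCommutator_antitone [hN : N.Normal] : Antitone (iterCommutator N Γ) :=
  antitone_nat_of_succ_le (iterCommutator_succ_le_self N Γ)

theorem iterCommutator_mono_left {N N' : Subgroup G} (h : N ≤ N') (Γ : Subgroup G) (k : ℕ) :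
    iterCommutator N Γ k ≤ iterCommutator N' Γ k := by
  induction k with
  | zero => exact h
  | succ k ih => exact Subgroup.commutator_mono ih le_rfl

theorem iterCommutator_sup_le (U V : Subgroup G) [hV : V.Normal] (k : ℕ) :
    iterCommutator (U ⊔ V) Γ k ≤ iterCommutator U Γ k ⊔ V := by
  induction k with
  | zero => exact le_rfl
  | succ k ih =>
    show ⁅iterCommutator (U ⊔ V) Γ k, Γ⁆ ≤ ⁅iterCommutator U Γ k, Γ⁆ ⊔ V
    exact (Subgroup.commutator_mono ih le_rfl).trans (commutator_sup_normal_le _ V Γ)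

theorem iterCommutator_le_add {V : Subgroup G} [hV : V.Normal] {k : ℕ}
    (h : iterCommutator N Γ k ≤ V) (m : ℕ) : iterCommutator N Γ (k + m) ≤ V := by
  induction m with
  | zero => exact h
  | succ m ih =>
    show ⁅iterCommutator N Γ (k + m), Γ⁆ ≤ V
    exact (Subgroup.commutator_mono ih le_rfl).trans (Subgroup.commutator_le_left V Γ)

theorem iterCommutator_le_of_le {V : Subgroup G} [hV : V.Normal] {k l : ℕ} (hkl : k ≤ l)
    (h : iterCommutator N Γ k ≤ V) : iterCommutator N Γ l ≤ V := by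
  obtain ⟨m, rfl⟩ := Nat.exists_eq_add_of_le hkl
  exact iterCommutator_le_add N Γ h m

end iter

/-- **Hom lemma.** -/
theorem engel_hom (X X' Y Y' N Γ : Subgroup G) [hXn : X.Normal] [hX'n : X'.Normal]
    [hYn : Y.Normal] [hY'n : Y'.Normal] [hNn : N.Normal]
    (hY : Y' ≤ Y)
    (hXN : ⁅X, N⁆ ≤ Y) (hX'N : ⁅X', N⁆ ≤ Y') (hYN : ⁅Y, N⁆ ≤ Y') (hYX : ⁅Y, X⁆ ≤ Y')
    (i j : ℕ) (hi1 : 1 ≤ i)
    (hi : iterCommutator X Γ i ≤ X') (hj : iterCommutator Y Γ j ≤ Y') :
    ⁅X, iterCommutator N Γ (i + j - 1)⁆ ≤ Y' := by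
  -- the filtration of `Y`
  set Yb : ℕ → Subgroup G := fun b => iterCommutator Y Γ b ⊔ Y' with hYb
  have hYb_le : ∀ b, Yb b ≤ Y := fun b => sup_le (iterCommutator_le_self Y Γ b) hY
  have hY'_le : ∀ b, Y' ≤ Yb b := fun b => le_sup_right
  have hYb_anti : ∀ b c, b ≤ c → Yb c ≤ Yb b := fun b c hbc =>
    sup_le_sup_right (iterCommutator_antitone Y Γ hbc) Y'
  have hYb_comm : ∀ b, ⁅Yb b, Γ⁆ ≤ Yb (b + 1) := fun b => commutator_sup_normal_le _ Y' Γ
  -- normalizers
  have hnorm_of : ∀ (b : ℕ) (E : Subgroup G), ⁅Y, E⁆ ≤ Y' →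
      E ≤ Subgroup.normalizer ((Yb b : Subgroup G) : Set G) := by
    intro b E hE
    rw [Subgroup.le_normalizer_iff_commutator_le_left]
    exact (Subgroup.commutator_mono (hYb_le b) le_rfl).trans (hE.trans (hY'_le b))
  have hnormΓ : ∀ b, Γ ≤ Subgroup.normalizer ((Yb b : Subgroup G) : Set G) := by
    intro b
    rw [Subgroup.le_normalizer_iff_commutator_le_left]
    exact (hYb_comm b).trans (hYb_anti b (b + 1) (Nat.le_succ b))
  -- main claim
  have claim : ∀ c a : ℕ, ⁅iterCommutator X Γ a, iterCommutator N Γ c⁆ ≤ Yb (c + a + 1 - i) := by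
    intro c
    induction c with
    | zero =>
      intro a
      by_cases ha : a < i
      · have e : 0 + a + 1 - i = 0 := by omega
        rw [e]
        refine le_trans ?_ (le_sup_left : iterCommutator Y Γ 0 ≤ Yb 0)
        exact (Subgroup.commutator_mono (iterCommutator_le_self X Γ a) le_rfl).trans hXN
      · have h1 : iterCommutator X Γ a ≤ X' :=
          (iterCommutator_antitone X Γ (not_lt.mp ha)).trans hi
        exact (Subgroup.commutator_mono h1 le_rfl).trans (hX'N.trans (hY'_le _))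
    | succ c ih =>
      intro a
      rw [Subgroup.commutator_comm]
      show ⁅⁅iterCommutator N Γ c, Γ⁆, iterCommutator X Γ a⁆ ≤ Yb (c + 1 + a + 1 - i)
      apply three_subgroups_of_le_normalizer
      · exact (iterCommutator_le_self N Γ c).trans (hnorm_of _ N hYN)
      · exact hnormΓ _
      · exact (iterCommutator_le_self X Γ a).trans (hnorm_of _ X hYX)
      · -- [[Γ, X_a], N_c]
        have h1 : ⁅Γ, iterCommutator X Γ a⁆ = iterCommutator X Γ (a + 1) := Subgroup.commutator_comm _ _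
        rw [h1]
        have h2 := ih (a + 1)
        have e : c + (a + 1) + 1 - i = c + 1 + a + 1 - i := by omega
        rw [e] at h2
        exact h2
      · -- [[X_a, N_c], Γ]
        refine (Subgroup.commutator_mono (ih a) le_rfl).trans ((hYb_comm _).trans ?_)
        apply hYb_anti
        omega
  have hfin := claim (i + j - 1) 0
  have e : i + j - 1 + 0 + 1 - i = j := by omega
  rw [e] at hfin
  exact hfin.trans (sup_le hj le_rfl)

end Cfsg.Agent.Lib.H10
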