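import Mathlib
import Cfsg.Prelude.Def_PLocal
import Cfsg.Prelude.Def_LocalEven
import Cfsg.Agent.Lib.H10.EngelHom

/-! Engel degrees on chief factors: from a critical-like subgroup `Q` of a normal `p`-subgroup `P`
to all of `P` (degree `i + j - 1`) (helper10). -/

set_option autoImplicit false

namespace Cfsg.Agent.Lib.H10

open Cfsg
open scoped commutatorElement

variable {G : Type*} [Group G]

/-- The elements of `P` acting trivially on `X` modulo the normal subgroup `Y`. -/
def cstab (P X Y : Subgroup G) [hY : Y.Normal] : Subgroup G where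
  carrier := {x | x ∈ P ∧ ∀ q ∈ X, ⁅q, x⁆ ∈ Y}
  one_mem' := ⟨P.one_mem, fun q _ => by rw [commutatorElement_one_right]; exact Y.one_mem⟩
  mul_mem' := by
    rintro x y ⟨hxP, hx⟩ ⟨hyP, hy⟩
    refine ⟨P.mul_mem hxP hyP, fun q hq => ?_⟩
    have e : ⁅q, x * y⁆ = ⁅q, x⁆ * (x * ⁅q, y⁆ * x⁻¹) := by
      simp only [commutatorElement_def]; group
    rw [e]
    exact Y.mul_mem (hx q hq) (hY.conj_mem _ (hy q hq) x)
  inv_mem' := by
    rintro x ⟨hxP, hx⟩
    refine ⟨P.inv_mem hxP, fun q hq => ?_⟩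
    have e : ⁅q, x⁻¹⁆ = x⁻¹ * (⁅q, x⁆)⁻¹ * x⁻¹⁻¹ := by
      simp only [commutatorElement_def]; group
    rw [e]
    exact hY.conj_mem _ (Y.inv_mem (hx q hq)) x⁻¹

theorem le_cstab_iff {P X Y K : Subgroup G} [hY : Y.Normal] :
    K ≤ cstab P X Y ↔ K ≤ P ∧ ⁅X, K⁆ ≤ Y := by
  constructor
  · intro h
    refine ⟨fun x hx => (h hx).1, ?_⟩
    rw [Subgroup.commutator_le]
    intro q hq x hx
    exact (h hx).2 q hq
  · rintro ⟨h1, h2⟩ x hx
    exact ⟨h1 hx, fun q hq => h2 (Subgroup.commutator_mem_commutator hq hx)⟩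

theorem cstab_le (P X Y : Subgroup G) [hY : Y.Normal] : cstab P X Y ≤ P :=
  (le_cstab_iff.mp le_rfl).1

theorem commutator_cstab_le (P X Y : Subgroup G) [hY : Y.Normal] : ⁅X, cstab P X Y⁆ ≤ Y :=
  (le_cstab_iff.mp le_rfl).2

instance cstab_normal (P X Y : Subgroup G) [hP : P.Normal] [hX : X.Normal] [hY : Y.Normal] :
    (cstab P X Y).Normal := by
  constructor
  rintro x ⟨hxP, hx⟩ g
  refine ⟨hP.conj_mem x hxP g, fun q hq => ?_⟩
  have e : ⁅q, g * x * g⁻¹⁆ = g * ⁅g⁻¹ * q * g⁻¹⁻¹, x⁆ * g⁻¹ := by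
    simp only [commutatorElement_def]; group
  rw [e]
  exact hY.conj_mem _ (hx _ (hX.conj_mem q hq g⁻¹)) g

theorem cstab_anti_left {P X X' Y : Subgroup G} [hY : Y.Normal] (h : X' ≤ X) :
    cstab P X Y ≤ cstab P X' Y :=
  le_cstab_iff.mpr ⟨cstab_le P X Y,
    (Subgroup.commutator_mono h le_rfl).trans (commutator_cstab_le P X Y)⟩

theorem cstab_mono_right {P X Y Y' : Subgroup G} [hY : Y.Normal] [hY' : Y'.Normal] (h : Y ≤ Y') :
    cstab P X Y ≤ cstab P X Y' :=
  le_cstab_iff.mpr ⟨cstab_le P X Y, (commutator_cstab_le P X Y).trans h⟩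

theorem cstab_bot_left (P Y : Subgroup G) [hY : Y.Normal] : cstab P ⊥ Y = P :=
  le_antisymm (cstab_le P ⊥ Y) (le_cstab_iff.mpr ⟨le_rfl, by
    rw [Subgroup.commutator_bot_left]; exact bot_le⟩)

/-- chief-wise Engel degree `n` on the section `N / N₀` -/
def CW (Γ : Subgroup G) (n : ℕ) (N N₀ : Subgroup G) : Prop :=
  ∀ U V : Subgroup G, IsChiefFactor U V → U ≤ N → N₀ ⊓ U ≤ V → iterCommutator U Γ n ≤ V

theorem cw_of_le {Γ : Subgroup G} {n : ℕ} {N N₀ : Subgroup G} (h : N ≤ N₀) : CW Γ n N N₀ := by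
  intro U V hUV hUN hV
  exfalso
  have : U ≤ V := le_trans (le_inf (hUN.trans h) le_rfl) hV
  exact absurd hUV.1 (not_lt_of_ge this)

theorem cw_of_engel {Γ : Subgroup G} {n : ℕ} {N N₀ : Subgroup G}
    (h : iterCommutator N Γ n ≤ N₀) : CW Γ n N N₀ := by
  intro U V hUV hUN hV
  haveI := hUV.2.1
  exact le_trans (le_inf ((iterCommutator_mono_left hUN Γ n).trans h)
    (iterCommutator_le_self U Γ n)) hV

theorem cw_mono {Γ : Subgroup G} {n : ℕ} {M M₀ N N₀ : Subgroup G} (h : CW Γ n M M₀)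
    (hNM : N ≤ M) (h0 : N ⊓ M₀ ≤ N₀) : CW Γ n N N₀ := by
  intro U V hUV hUN hV
  apply h U V hUV (hUN.trans hNM)
  refine le_trans ?_ hV
  exact le_inf (le_trans (le_inf (inf_le_right.trans hUN) inf_le_left) h0) inf_le_right

theorem cw_trans {Γ : Subgroup G} {n : ℕ} {N N₁ N₀ : Subgroup G} [hN₁ : N₁.Normal]
    (h1 : CW Γ n N N₁) (h2 : CW Γ n N₁ N₀) : CW Γ n N N₀ := by
  intro U V hUV hUN hV
  obtain ⟨hlt, hUn, hVn, hmin⟩ := hUV
  haveI := hUn
  haveI := hVn
  by_cases hc : N₁ ⊓ U ≤ V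
  · exact h1 U V ⟨hlt, hUn, hVn, hmin⟩ hUN hc
  · -- `(N₁ ∩ U) V = U`
    have hK : (N₁ ⊓ U) ⊔ V = U := by
      rcases hmin ((N₁ ⊓ U) ⊔ V) inferInstance le_sup_right (sup_le inf_le_right hlt.le) with h | h
      · exact absurd (h ▸ le_sup_left) hc
      · exact h
    have hchief : IsChiefFactor (N₁ ⊓ U) (N₁ ⊓ V) := by
      refine ⟨lt_of_le_of_ne (inf_le_inf_left _ hlt.le) ?_, inferInstance, inferInstance, ?_⟩
      · intro he
        apply hc
        rw [← he]
        exact inf_le_right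
      · intro M hM hVM hMU
        haveI := hM
        rcases hmin (M ⊔ V) inferInstance le_sup_right (sup_le (hMU.trans inf_le_right) hlt.le)
          with h | h
        · left
          apply le_antisymm _ hVM
          exact le_inf (hMU.trans inf_le_left) (h ▸ le_sup_left)
        · right
          apply le_antisymm hMU
          intro x hx
          have hxU : x ∈ M ⊔ V := by rw [h]; exact hx.2
          obtain ⟨m, hm, v, hv, rfl⟩ := Subgroup.mem_sup_of_normal_right.mp hxU
          have hmN : m ∈ N₁ := (hMU hm).1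
          have hvN : v ∈ N₁ := by
            have : v = m⁻¹ * (m * v) := by group
            rw [this]
            exact N₁.mul_mem (N₁.inv_mem hmN) hx.1
          exact M.mul_mem hm (hVM ⟨hvN, hv⟩)
    have h3 := h2 _ _ hchief inf_le_left
      (le_inf (inf_le_right.trans inf_le_left) (le_trans (inf_le_inf_left _ inf_le_right) hV))
    calc iterCommutator U Γ n = iterCommutator ((N₁ ⊓ U) ⊔ V) Γ n := by rw [hK]
      _ ≤ iterCommutator (N₁ ⊓ U) Γ n ⊔ V := iterCommutator_sup_le Γ _ V n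
      _ ≤ V := sup_le (h3.trans inf_le_right) le_rfl

theorem card_lt_card_of_lt' [Finite G] {H K : Subgroup G} (hHK : H < K) :
    Nat.card H < Nat.card K := by
  by_contra hcon
  exact absurd (Subgroup.eq_of_le_of_card_ge hHK.le (not_lt.mp hcon)) hHK.ne

/-- a maximal proper normal subgroup below a nontrivial normal subgroup -/
theorem exists_chief_below [Finite G] (X : Subgroup G) [hX : X.Normal] (hne : X ≠ ⊥) :
    ∃ X' : Subgroup G, IsChiefFactor X X' := by
  obtain ⟨M, -, hM⟩ := Finite.exists_le_maximal (p := fun M : Subgroup G => M.Normal ∧ M < X)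
    (a := ⊥) ⟨inferInstance, bot_lt_iff_ne_bot.mpr hne⟩
  refine ⟨M, hM.prop.2, hX, hM.prop.1, ?_⟩
  intro K hK hMK hKX
  by_cases h : K = X
  · exact Or.inr h
  · left
    exact le_antisymm (hM.le_of_ge ⟨hK, lt_of_le_of_ne hKX h⟩ hMK) hMK

/-- a normal `p`-subgroup centralizes the chief factors below it -/
theorem commutator_le_of_chief_le [Finite G] {p : ℕ} [Fact p.Prime] (P : Subgroup G) [hPn : P.Normal]
    (hP : IsPGroup p ↥P) {U V : Subgroup G} (hUV : IsChiefFactor U V) (hUP : U ≤ P) :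
    ⁅U, P⁆ ≤ V := by
  obtain ⟨hlt, hUn, hVn, hmin⟩ := hUV
  haveI := hUn
  haveI := hVn
  rcases hmin (⁅U, P⁆ ⊔ V) inferInstance le_sup_right
    (sup_le (Subgroup.commutator_le_left U P) hlt.le) with h | h
  · rw [← h]; exact le_sup_left
  · exfalso
    have key : ∀ k : ℕ, U ≤ iterCommutator U P k ⊔ V := by
      intro k
      induction k with
      | zero => exact le_sup_left
      | succ k ih =>
        calc U = ⁅U, P⁆ ⊔ V := h.symm
          _ ≤ ⁅iterCommutator U P k ⊔ V, P⁆ ⊔ V :=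
            sup_le_sup_right (Subgroup.commutator_mono ih le_rfl) V
          _ ≤ (⁅iterCommutator U P k, P⁆ ⊔ V) ⊔ V :=
            sup_le_sup_right (commutator_sup_normal_le _ V P) V
          _ = iterCommutator U P (k + 1) ⊔ V := by rw [sup_assoc, sup_idem]; rfl
    obtain ⟨c, hc⟩ := (Subgroup.isNilpotent_iff_lowerCentralSeries P).mp hP.isNilpotent
    have hlcs : ∀ k : ℕ, iterCommutator U P k ≤ P.lowerCentralSeries k := by
      intro k
      induction k with
      | zero => exact hUP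
      | succ k ih =>
        rw [Subgroup.lowerCentralSeries_succ]
        exact Subgroup.commutator_mono ih le_rfl
    have h1 : iterCommutator U P c = ⊥ := by
      rw [eq_bot_iff]
      exact (hlcs c).trans (le_of_eq hc)
    have h2 := key c
    rw [h1, bot_sup_eq] at h2
    exact absurd hlt (not_lt_of_ge h2)


section main

variable [Finite G] {p : ℕ} [Fact p.Prime] (P : Subgroup G) [hPn : P.Normal] (hP : IsPGroup p ↥P)
  (Q : Subgroup G) [hQn : Q.Normal]
  (Γ : Subgroup G) (i j : ℕ) (hi : 1 ≤ i)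
  (hQi : ∀ U V : Subgroup G, IsChiefFactor U V → U ≤ Q → iterCommutator U Γ i ≤ V)
  (hZj : ∀ U V : Subgroup G, IsChiefFactor U V →
    U ≤ Q ⊓ Subgroup.centralizer ((Q : Subgroup G) : Set G) → iterCommutator U Γ j ≤ V)

include hP hi hQi hZj

theorem cw_cstab_step (hQP : Q ≤ P) (Y Y' : Subgroup G) [hYn : Y.Normal] [hY'n : Y'.Normal]
    (hYY' : IsChiefFactor Y Y')
    (hYZ : Y ≤ Q ⊓ Subgroup.centralizer ((Q : Subgroup G) : Set G)) :
    ∀ (m : ℕ) (X : Subgroup G), X.Normal → Nat.card X = m → X ≤ Q →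
      CW Γ (i + j - 1) (cstab P X Y) (cstab P X Y') := by
  intro m
  induction m using Nat.strong_induction_on with
  | _ m ih =>
    intro X hXn hXm hXQ
    haveI := hXn
    by_cases hne : X = ⊥
    · apply cw_of_le
      rw [hne, cstab_bot_left, cstab_bot_left]
    · obtain ⟨X', hXX'⟩ := exists_chief_below X hne
      have hX'n : X'.Normal := hXX'.2.2.1
      haveI := hX'n
      have hX'X : X' ≤ X := hXX'.1.le
      have hcard : Nat.card X' < m := hXm ▸ card_lt_card_of_lt' hXX'.1
      have IH := ih (Nat.card X') hcard X' hX'n rfl (hX'X.trans hXQ)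
      -- the intermediate subgroup
      have h1 : CW Γ (i + j - 1) (cstab P X Y) (cstab P X Y ⊓ cstab P X' Y') :=
        cw_mono IH (cstab_anti_left hX'X) le_rfl
      have hYP : Y ≤ P := hYZ.trans (inf_le_left.trans hQP)
      have h2 : CW Γ (i + j - 1) (cstab P X Y ⊓ cstab P X' Y') (cstab P X Y') := by
        apply cw_of_engel
        rw [le_cstab_iff]
        constructor
        · exact (iterCommutator_le_self _ Γ _).trans (inf_le_left.trans (cstab_le P X Y))
        · apply engel_hom X X' Y Y' (cstab P X Y ⊓ cstab P X' Y') Γ hYY'.1.le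
          · exact (Subgroup.commutator_mono le_rfl inf_le_left).trans (commutator_cstab_le P X Y)
          · exact (Subgroup.commutator_mono le_rfl inf_le_right).trans (commutator_cstab_le P X' Y')
          · refine le_trans (Subgroup.commutator_mono le_rfl ?_)
              (commutator_le_of_chief_le P hP hYY' hYP)
            exact inf_le_left.trans (cstab_le P X Y)
          · have : ⁅Y, X⁆ = ⊥ := by
              rw [Subgroup.commutator_eq_bot_iff_le_centralizer]
              exact (hYZ.trans inf_le_right).trans (Subgroup.centralizer_le hXQ)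
            rw [this]; exact bot_le
          · exact hi
          · exact hQi X X' hXX' hXQ
          · exact hZj Y Y' hYY' hYZ
      exact cw_trans h1 h2

theorem cw_cstab_all (hQP : Q ≤ P) (X : Subgroup G) [hXn : X.Normal] (hXQ : X ≤ Q) :
    ∀ (m : ℕ) (Y : Subgroup G) [hYn : Y.Normal], Nat.card Y = m →
      Y ≤ Q ⊓ Subgroup.centralizer ((Q : Subgroup G) : Set G) →
      CW Γ (i + j - 1) (cstab P X Y) (cstab P X ⊥) := by
  intro m
  induction m using Nat.strong_induction_on with
  | _ m ih =>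
    intro Y hYn hYm hYZ
    by_cases hne : Y = ⊥
    · apply cw_of_le
      subst hne
      exact le_rfl
    · obtain ⟨Y', hYY'⟩ := exists_chief_below Y hne
      have hY'n : Y'.Normal := hYY'.2.2.1
      haveI := hY'n
      have hcard : Nat.card Y' < m := hYm ▸ card_lt_card_of_lt' hYY'.1
      have IH := ih (Nat.card Y') hcard Y' rfl (hYY'.1.le.trans hYZ)
      have h1 := cw_cstab_step P hP Q Γ i j hi hQi hZj hQP Y Y' hYY' hYZ (Nat.card X) X hXn rfl hXQ
      exact cw_trans h1 IH

/-- **Engel degrees on chief factors**: degree `i` on the chief factors inside `Q`, degree `j` on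
those inside `Z(Q)`, where `[P, Q] ≤ Z(Q)` and `C_P(Q) = Z(Q)`, give degree `i + j - 1` on all
chief factors inside `P`. -/
theorem engel_chief_degree (hQP : Q ≤ P) (hj : 1 ≤ j)
    (hQ3 : ⁅P, Q⁆ ≤ Q ⊓ Subgroup.centralizer ((Q : Subgroup G) : Set G))
    (hQ4 : P ⊓ Subgroup.centralizer ((Q : Subgroup G) : Set G) ≤
      Q ⊓ Subgroup.centralizer ((Q : Subgroup G) : Set G)) :
    ∀ U V : Subgroup G, IsChiefFactor U V → U ≤ P → iterCommutator U Γ (i + j - 1) ≤ V := by
  set Z := Q ⊓ Subgroup.centralizer ((Q : Subgroup G) : Set G) with hZ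
  haveI hZn : Z.Normal := by rw [hZ]; infer_instance
  have h1 := cw_cstab_all P hP Q Γ i j hi hQi hZj hQP Q le_rfl (Nat.card Z) Z rfl le_rfl
  have hPc : P ≤ cstab P Q Z := by
    rw [le_cstab_iff]
    refine ⟨le_rfl, ?_⟩
    rw [Subgroup.commutator_comm]
    exact hQ3
  have hcZ : cstab P Q ⊥ ≤ Z := by
    refine le_trans ?_ hQ4
    intro x hx
    refine Subgroup.mem_inf.mpr ⟨hx.1, ?_⟩
    rw [Subgroup.mem_centralizer_iff]
    intro q hq
    have := hx.2 q hq
    rw [Subgroup.mem_bot, commutatorElement_eq_one_iff_mul_comm] at this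
    exact this
  have h2 : CW Γ (i + j - 1) P Z := cw_mono h1 hPc (inf_le_right.trans hcZ)
  have h3 : CW Γ (i + j - 1) Z ⊥ := by
    intro U V hUV hUZ _
    haveI := hUV.2.2.1
    exact iterCommutator_le_of_le U Γ (by omega) (hZj U V hUV hUZ)
  have h4 := cw_trans h2 h3
  intro U V hUV hUP
  exact h4 U V hUV hUP (by rw [bot_inf_eq]; exact bot_le)

end main

end Cfsg.Agent.Lib.H10
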