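import Mathlib
import Cfsg.Prelude.Def_ConjugacyFunctors
import Cfsg.Agent.Lib.H10.CharFunctor
import Cfsg.Agent.Lib.H10.LocalGlobal

/-! More on induced functors: homomorphisms injective on a `p`-subgroup, passage to a subgroup (helper10). -/

set_option autoImplicit false

namespace Cfsg.Agent.Lib.H10

open Cfsg

universe u

variable {H : Type u} [Group H] {H' : Type u} [Group H']

/-- The induced functor commutes with homomorphisms that are injective on the `p`-subgroup. -/
theorem inducedFunctor_map_injOn {p : ℕ} {W : ∀ (Q : Type u) [Group Q], Subgroup Q}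
    (hW : IsCharPFunctor.{u} p W) (f : H →* H') (T : Subgroup H) [Finite T] (hT : IsPGroup p T)
    (hinj : Set.InjOn f (T : Set H)) :
    (inducedFunctor W T).map f = inducedFunctor W (T.map f) := by
  unfold inducedFunctor
  have hbij : Function.Bijective (f.subgroupMap T) := by
    refine ⟨?_, f.subgroupMap_surjective T⟩
    intro a b hab
    apply Subtype.ext
    apply hinj a.2 b.2
    exact congrArg Subtype.val hab
  have h1 := hW.2 ↥T ↥(T.map f) hT (MulEquiv.ofBijective (f.subgroupMap T) hbij)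
  rw [← h1, Subgroup.map_map, Subgroup.map_map]
  congr 1

/-- passage to a subgroup -/
theorem inducedFunctor_map_subtype {p : ℕ} {W : ∀ (Q : Type u) [Group Q], Subgroup Q}
    (hW : IsCharPFunctor.{u} p W) (L : Subgroup H) (T : Subgroup L) [Finite T] (hT : IsPGroup p T) :
    (inducedFunctor W T).map L.subtype = inducedFunctor W (T.map L.subtype) :=
  inducedFunctor_map_injOn hW L.subtype T hT (L.subtype_injective.injOn)

/-- Control of strong fusion in the group `↥L` gives control of strong fusion in the subgroup `L`. -/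
theorem controlsStrongFusionIn_of_subgroup [Finite H] {p : ℕ}
    {W : ∀ (Q : Type u) [Group Q], Subgroup Q} (hW : IsCharPFunctor.{u} p W) (L : Subgroup H)
    (h : ControlsStrongFusionIn p (inducedFunctor (G := ↥L) W) ⊤) :
    ControlsStrongFusionIn p (inducedFunctor (G := H) W) L := by
  obtain ⟨T', -, hT'p, hT'i, hT'c⟩ := h
  refine ⟨T'.map L.subtype, Subgroup.map_subtype_le _, hT'p.map _, ?_, ?_⟩
  · rw [Subgroup.relIndex_top_right] at hT'i
    rw [Subgroup.relIndex, Subgroup.subgroupOf,
      Subgroup.comap_map_eq_self_of_injective L.subtype_injective]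
    exact hT'i
  · intro A h hh hA hAh
    have hA1 : (L.subtype ⁻¹' A) ⊆ (T' : Set L) := by
      intro a ha
      obtain ⟨b, hb, hba⟩ := hA ha
      have : a = b := Subtype.ext hba.symm
      rw [this]; exact hb
    have hA2 : (fun a => (⟨h, hh⟩ : L) * a * (⟨h, hh⟩ : L)⁻¹) '' (L.subtype ⁻¹' A) ⊆ (T' : Set L) := by
      rintro _ ⟨a, ha, rfl⟩
      obtain ⟨b, hb, hba⟩ := hAh ⟨(a : H), ha, rfl⟩
      have : (⟨h, hh⟩ : L) * a * (⟨h, hh⟩ : L)⁻¹ = b := Subtype.ext hba.symm
      show (⟨h, hh⟩ : L) * a * (⟨h, hh⟩ : L)⁻¹ ∈ T'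
      rw [this]; exact hb
    obtain ⟨x', hx', hxa⟩ := hT'c (L.subtype ⁻¹' A) ⟨h, hh⟩ (Subgroup.mem_top _) hA1 hA2
    refine ⟨x', Subgroup.mem_inf.2 ⟨x'.2, ?_⟩, ?_⟩
    · rw [← inducedFunctor_map_subtype hW L T' hT'p]
      have h1 := (Subgroup.mem_inf.1 hx').2
      rw [Subgroup.mem_normalizer_iff] at h1 ⊢
      intro y
      constructor
      · rintro ⟨y', hy', rfl⟩
        exact ⟨x' * y' * x'⁻¹, (h1 y').1 hy', rfl⟩
      · rintro ⟨z', hz', hz⟩
        have hyL : y ∈ L := by
          have : y = (x' : H)⁻¹ * ((x' : H) * y * (x' : H)⁻¹) * (x' : H) := by group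
          rw [this, ← hz]
          exact L.mul_mem (L.mul_mem (L.inv_mem x'.2) z'.2) x'.2
        refine ⟨⟨y, hyL⟩, ?_, rfl⟩
        apply (h1 ⟨y, hyL⟩).2
        have : x' * ⟨y, hyL⟩ * x'⁻¹ = z' := Subtype.ext hz.symm
        rw [this]; exact hz'
    · intro a ha
      have haL : a ∈ L := Subgroup.map_subtype_le _ (hA ha)
      have := hxa ⟨a, haL⟩ ha
      exact congrArg Subtype.val this

end Cfsg.Agent.Lib.H10
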