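import Mathlib
import Cfsg.Prelude.Def_ConjugacyFunctors
import Cfsg.Prelude.Def_PLocal
import Cfsg.Agent.Lib.H10.KInfFunctor
import Cfsg.Agent.Lib.H10.CharFunctor2
import Cfsg.Agent.S1979
import Cfsg.Agent.Lib.H1.PCore

/-! The core of Glauberman's K-infinity theorem: if no element outside `T` acts "cubically" on a
critical-like subgroup `A ≤ T`, all the terms of the K-sequence lie in `T` (helper10). -/

set_option autoImplicit false

namespace Cfsg.Agent.Lib.H10

open Cfsg

universe u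

section abstract

variable {P : Type*} [Group P]

theorem iterCommutator_map' {G G' : Type*} [Group G] [Group G'] (f : G →* G') (U Z : Subgroup G)
    (k : ℕ) : (iterCommutator U Z k).map f = iterCommutator (U.map f) (Z.map f) k := by
  induction k with
  | zero => rfl
  | succ k ih =>
    show (⁅iterCommutator U Z k, Z⁆).map f = ⁅iterCommutator (U.map f) (Z.map f) k, Z.map f⁆
    rw [Subgroup.map_commutator, ih]

theorem commutator_centralizer_eq_bot (B : Subgroup P) :
    ⁅Subgroup.centralizer (B : Set P), B⁆ = ⊥ := by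
  exact Subgroup.commutator_eq_bot_iff_le_centralizer.mpr le_rfl

theorem commutator_le_of_le_normalizer {X B : Subgroup P}
    (h : X ≤ Subgroup.normalizer (B : Set P)) : ⁅X, B⁆ ≤ B := by
  rw [Subgroup.commutator_comm]
  exact Subgroup.le_normalizer_iff_commutator_le_left.mp h

/-- the element-wise "cubic and quadratic" conclusion from subgroup-level information -/
theorem cubic_of_le {A B : Subgroup P} (g : P) (hg : g ∈ B)
    (h3 : ⁅⁅⁅A, B⁆, B⁆, B⁆ = ⊥) :
    iterCommutator A (Subgroup.zpowers g) 3 = ⊥ := by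
  have hΓ : Subgroup.zpowers g ≤ B := (Subgroup.zpowers_le).mpr hg
  rw [eq_bot_iff, ← h3]
  show ⁅⁅⁅A, Subgroup.zpowers g⁆, Subgroup.zpowers g⁆, Subgroup.zpowers g⁆ ≤ _
  exact Subgroup.commutator_mono (Subgroup.commutator_mono (Subgroup.commutator_mono le_rfl hΓ) hΓ) hΓ

variable (T A : Subgroup P) [hAn : A.Normal]

theorem kcore_upper_le (hAT : A ≤ T)
    (hneg : ∀ g : P, iterCommutator A (Subgroup.zpowers g) 3 ≤ A ⊓ Subgroup.centralizer (A : Set P) →
      ⁅⁅A ⊓ Subgroup.centralizer (A : Set P), Subgroup.zpowers g⁆, Subgroup.zpowers g⁆ = ⊥ → g ∈ T)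
    {Q B : Subgroup P} (hAQ : A ≤ Q) (hB : B ∈ kUpperStarFamily Q) : B ≤ T := by
  obtain ⟨-, hBQ⟩ := hB
  have h2 : ⁅⁅A, B⁆, B⁆ = ⊥ := by
    rw [eq_bot_iff, ← commutator_centralizer_eq_bot B]
    refine Subgroup.commutator_mono ?_ le_rfl
    rw [Subgroup.commutator_comm]
    exact (Subgroup.commutator_mono le_rfl hAQ).trans (hBQ.trans inf_le_right)
  intro g hg
  have hΓ : Subgroup.zpowers g ≤ B := (Subgroup.zpowers_le).mpr hg
  apply hneg g
  · rw [cubic_of_le g hg (by rw [h2, Subgroup.commutator_bot_left])]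
    exact bot_le
  · rw [eq_bot_iff, ← h2]
    exact Subgroup.commutator_mono (Subgroup.commutator_mono inf_le_left hΓ) hΓ

theorem center_normal_of_normal : (A ⊓ Subgroup.centralizer (A : Set P)).Normal := by
  infer_instance

theorem kcore_lower_le (hAT : A ≤ T)
    (hneg : ∀ g : P, iterCommutator A (Subgroup.zpowers g) 3 ≤ A ⊓ Subgroup.centralizer (A : Set P) →
      ⁅⁅A ⊓ Subgroup.centralizer (A : Set P), Subgroup.zpowers g⁆, Subgroup.zpowers g⁆ = ⊥ → g ∈ T)
    {Q B : Subgroup P} (hAQ : A ≤ Q) (hB : B ∈ kLowerStarFamily Q) : B ≤ T := by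
  obtain ⟨hB2, hQB, hLS⟩ := hB
  have hB2' : ⁅B, B⁆ ≤ Subgroup.centralizer (B : Set P) := hB2
  have h3 : ⁅⁅⁅A, B⁆, B⁆, B⁆ = ⊥ := by
    rw [eq_bot_iff, ← commutator_centralizer_eq_bot B]
    refine Subgroup.commutator_mono ?_ le_rfl
    refine le_trans (Subgroup.commutator_mono ?_ le_rfl) hB2'
    exact commutator_le_of_le_normalizer (hAQ.trans hQB)
  have hZn : (A ⊓ Subgroup.centralizer (A : Set P)).Normal := center_normal_of_normal A
  have hZZ : ⁅A ⊓ Subgroup.centralizer (A : Set P), A ⊓ Subgroup.centralizer (A : Set P)⁆ = ⊥ := by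
    rw [Subgroup.commutator_eq_bot_iff_le_centralizer]
    exact inf_le_right.trans (Subgroup.centralizer_le inf_le_left)
  have hZ2 : (A ⊓ Subgroup.centralizer (A : Set P)) ∈ classTwoSubgroups P := by
    show ⁅A ⊓ Subgroup.centralizer (A : Set P), A ⊓ Subgroup.centralizer (A : Set P)⁆ ≤ _
    rw [hZZ]; exact bot_le
  have hBZ := hLS (A ⊓ Subgroup.centralizer (A : Set P)) hZ2 (inf_le_left.trans hAQ)
    (by rw [Subgroup.normalizer_eq_top]; exact le_top)
    (by rw [hZZ, Subgroup.commutator_bot_right])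
    (by
      rw [eq_bot_iff, ← hZZ]
      exact Subgroup.commutator_mono (Subgroup.commutator_le_right _ _) le_rfl)
  have hq : ⁅⁅A ⊓ Subgroup.centralizer (A : Set P), B⁆, B⁆ = ⊥ := by
    rw [eq_bot_iff, ← commutator_centralizer_eq_bot B]
    refine Subgroup.commutator_mono ?_ le_rfl
    rw [Subgroup.commutator_comm]
    exact hBZ.trans inf_le_right
  intro g hg
  have hΓ : Subgroup.zpowers g ≤ B := (Subgroup.zpowers_le).mpr hg
  apply hneg g
  · rw [cubic_of_le g hg h3]; exact bot_le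
  · rw [eq_bot_iff, ← hq]
    exact Subgroup.commutator_mono (Subgroup.commutator_mono le_rfl hΓ) hΓ

theorem kcore_mem_lower (hA2 : ⁅A, A⁆ ≤ Subgroup.centralizer (A : Set P))
    (hTA : ⁅T, A⁆ ≤ A ⊓ Subgroup.centralizer (A : Set P))
    (hneg : ∀ g : P, iterCommutator A (Subgroup.zpowers g) 3 ≤ A ⊓ Subgroup.centralizer (A : Set P) →
      ⁅⁅A ⊓ Subgroup.centralizer (A : Set P), Subgroup.zpowers g⁆, Subgroup.zpowers g⁆ = ⊥ → g ∈ T)
    (Q : Subgroup P) : A ∈ kLowerStarFamily Q := by
  refine ⟨hA2, by rw [Subgroup.normalizer_eq_top]; exact le_top, ?_⟩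
  intro A₁ hA₁2 _ hAN hc1 hc2
  have hA₁2' : ⁅A₁, A₁⁆ ≤ Subgroup.centralizer (A₁ : Set P) := hA₁2
  have hA₁T : A₁ ≤ T := by
    intro g hg
    have hΓ : Subgroup.zpowers g ≤ A₁ := (Subgroup.zpowers_le).mpr hg
    have h3 : ⁅⁅⁅A, A₁⁆, A₁⁆, A₁⁆ = ⊥ := by
      rw [eq_bot_iff, ← commutator_centralizer_eq_bot A₁]
      refine Subgroup.commutator_mono ?_ le_rfl
      refine le_trans (Subgroup.commutator_mono ?_ le_rfl) hA₁2'
      exact commutator_le_of_le_normalizer hAN
    apply hneg g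
    · rw [cubic_of_le g hg h3]; exact bot_le
    · rw [eq_bot_iff, ← hc2]
      exact Subgroup.commutator_mono (Subgroup.commutator_mono le_rfl hΓ) hΓ
  rw [Subgroup.commutator_comm]
  exact (Subgroup.commutator_mono hA₁T le_rfl).trans hTA

theorem kcore_mem_upper (hA2 : ⁅A, A⁆ ≤ Subgroup.centralizer (A : Set P))
    (hTA : ⁅T, A⁆ ≤ A ⊓ Subgroup.centralizer (A : Set P))
    {Q : Subgroup P} (hQT : Q ≤ T) : A ∈ kUpperStarFamily Q := by
  refine ⟨hA2, ?_⟩
  rw [Subgroup.commutator_comm]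
  exact (Subgroup.commutator_mono hQT le_rfl).trans hTA

/-- all terms of the K-sequence (from index `0` on) lie between `A` and `T` -/
theorem kcore_main (hAT : A ≤ T) (hA2 : ⁅A, A⁆ ≤ Subgroup.centralizer (A : Set P))
    (hTA : ⁅T, A⁆ ≤ A ⊓ Subgroup.centralizer (A : Set P))
    (hneg : ∀ g : P, iterCommutator A (Subgroup.zpowers g) 3 ≤ A ⊓ Subgroup.centralizer (A : Set P) →
      ⁅⁅A ⊓ Subgroup.centralizer (A : Set P), Subgroup.zpowers g⁆, Subgroup.zpowers g⁆ = ⊥ → g ∈ T)
    (n : ℕ) : kSeqEven P n ≤ T ∧ kSeqOdd P (n + 1) ≤ T := by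
  have step : ∀ n : ℕ, A ≤ kSeqOdd P n →
      A ≤ kSeqEven P n ∧ kSeqEven P n ≤ T ∧ A ≤ kSeqOdd P (n + 1) ∧ kSeqOdd P (n + 1) ≤ T := by
    intro n hn
    have h1 : A ≤ kSeqEven P n := le_sSup (kcore_mem_lower T A hA2 hTA hneg _)
    have h2 : kSeqEven P n ≤ T := sSup_le fun B hB => kcore_lower_le T A hAT hneg hn hB
    have h3 : A ≤ kSeqOdd P (n + 1) := by
      rw [kSeqOdd_succ_eq]
      exact le_sSup (kcore_mem_upper T A hA2 hTA h2)
    have h4 : kSeqOdd P (n + 1) ≤ T := by
      rw [kSeqOdd_succ_eq]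
      exact sSup_le fun B hB => kcore_upper_le T A hAT hneg h1 hB
    exact ⟨h1, h2, h3, h4⟩
  have all : ∀ n : ℕ, A ≤ kSeqOdd P n := by
    intro n
    induction n with
    | zero => exact le_top
    | succ n ih => exact (step n ih).2.2.1
  exact ⟨(step n (all n)).2.1, (step n (all n)).2.2.2⟩

end abstract

section group

variable {G : Type u} [Group G] [Finite G] {p : ℕ} [Fact p.Prime]

/-- Core of the K-infinity normality theorem: if every element of the Sylow subgroup `S` acting
"cubically" on `A` modulo its centre and quadratically on the centre of `A` lies in `O_p(G)`,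
the K-infinity subgroups of `S` and of `O_p(G)` coincide. -/
theorem kInf_induced_eq_pCore (S : Sylow p G) (A : Subgroup G) [A.Normal]
    (hAT : A ≤ pCore p G) (hA2 : ⁅A, A⁆ ≤ Subgroup.centralizer (A : Set G))
    (hA3 : ⁅pCore p G, A⁆ ≤ A ⊓ Subgroup.centralizer (A : Set G))
    (hneg : ∀ g ∈ (S : Subgroup G),
      iterCommutator A (Subgroup.zpowers g) 3 ≤ A ⊓ Subgroup.centralizer (A : Set G) →
      ⁅⁅A ⊓ Subgroup.centralizer (A : Set G), Subgroup.zpowers g⁆, Subgroup.zpowers g⁆ = ⊥ →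
      g ∈ pCore p G) :
    inducedFunctor kInfLower (S : Subgroup G) = inducedFunctor kInfLower (pCore p G) ∧
      inducedFunctor kInfUpper (S : Subgroup G) = inducedFunctor kInfUpper (pCore p G) := by
  set T := pCore p G with hT
  have hTS : T ≤ (S : Subgroup G) := H1.pCore_le_sylow S
  have hAS : A ≤ (S : Subgroup G) := hAT.trans hTS
  have hf : Function.Injective (S : Subgroup G).subtype := Subtype.coe_injective
  set T' := T.subgroupOf (S : Subgroup G) with hT'
  set A' := A.subgroupOf (S : Subgroup G) with hA'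
  have hmT : T'.map (S : Subgroup G).subtype = T := Subgroup.map_subgroupOf_eq_of_le hTS
  have hmA : A'.map (S : Subgroup G).subtype = A := Subgroup.map_subgroupOf_eq_of_le hAS
  have hmZ : (A' ⊓ Subgroup.centralizer (A' : Set ↥(S : Subgroup G))).map (S : Subgroup G).subtype =
      A ⊓ Subgroup.centralizer (A : Set G) := by
    rw [map_inf_centralizer hf, hmA]
  haveI : A'.Normal := by rw [hA']; infer_instance
  have h1 : A' ≤ T' := Subgroup.subgroupOf_mono _ hAT
  have h2 : ⁅A', A'⁆ ≤ Subgroup.centralizer (A' : Set ↥(S : Subgroup G)) := by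
    rw [← map_le_centralizer_map_iff hf, Subgroup.map_commutator, hmA]
    exact hA2
  have h3 : ⁅T', A'⁆ ≤ A' ⊓ Subgroup.centralizer (A' : Set ↥(S : Subgroup G)) := by
    rw [← Subgroup.map_le_map_iff_of_injective hf, Subgroup.map_commutator, hmZ, hmT, hmA]
    exact hA3
  have h4 : ∀ g : ↥(S : Subgroup G),
      iterCommutator A' (Subgroup.zpowers g) 3 ≤ A' ⊓ Subgroup.centralizer (A' : Set ↥(S : Subgroup G)) →
      ⁅⁅A' ⊓ Subgroup.centralizer (A' : Set ↥(S : Subgroup G)), Subgroup.zpowers g⁆,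
        Subgroup.zpowers g⁆ = ⊥ → g ∈ T' := by
    intro g hg1 hg2
    rw [hT', Subgroup.mem_subgroupOf]
    apply hneg (g : G) g.2
    · have := Subgroup.map_mono (f := (S : Subgroup G).subtype) hg1
      rw [iterCommutator_map', hmA, hmZ, MonoidHom.map_zpowers] at this
      exact this
    · have := congrArg (Subgroup.map (S : Subgroup G).subtype) hg2
      rw [Subgroup.map_commutator, Subgroup.map_commutator, hmZ, MonoidHom.map_zpowers,
        Subgroup.map_bot] at this
      exact this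
  have hmain := kcore_main T' A' h1 h2 h3 h4
  have hS1979 := Cfsg.Agent.S1979.result (p := p) S.2 T' hmain
  have hTp : IsPGroup p ↥T' := S.2.to_subgroup T'
  constructor
  · have e1 := inducedFunctor_map_subtype (isCharPFunctor_kInfLower.{u} p) (S : Subgroup G) T' hTp
    rw [hmT] at e1
    rw [← e1]
    show (kInfLower ↥(S : Subgroup G)).map (S : Subgroup G).subtype = _
    rw [← hS1979.1]
    rfl
  · have e1 := inducedFunctor_map_subtype (isCharPFunctor_kInfUpper.{u} p) (S : Subgroup G) T' hTp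
    rw [hmT] at e1
    rw [← e1]
    show (kInfUpper ↥(S : Subgroup G)).map (S : Subgroup G).subtype = _
    rw [← hS1979.2]
    rfl

/-- the induced functor of an isomorphism-invariant functor at a normal `p`-subgroup is normal -/
theorem inducedFunctor_normal_of_normal {W : ∀ (Q : Type u) [Group Q], Subgroup Q}
    (hW : IsCharPFunctor.{u} p W) (T : Subgroup G) [hTn : T.Normal] (hT : IsPGroup p ↥T) :
    (inducedFunctor W T).Normal := by
  constructor
  intro x hx g
  have h := ((isConjugacyFunctor_inducedFunctor hW) T hT).2.2 g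
  have hTg : T.map (MulAut.conj g).toMonoidHom = T := by
    apply le_antisymm
    · rintro _ ⟨y, hy, rfl⟩
      exact hTn.conj_mem y hy g
    · intro y hy
      refine ⟨g⁻¹ * y * g, ?_, ?_⟩
      · have := hTn.conj_mem y hy g⁻¹
        simpa using this
      · simp [MulAut.conj_apply, mul_assoc]
  rw [hTg] at h
  rw [h]
  exact ⟨x, hx, rfl⟩

theorem kInf_normal_of_neg (S : Sylow p G) (A : Subgroup G) [A.Normal]
    (hAT : A ≤ pCore p G) (hA2 : ⁅A, A⁆ ≤ Subgroup.centralizer (A : Set G))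
    (hA3 : ⁅pCore p G, A⁆ ≤ A ⊓ Subgroup.centralizer (A : Set G))
    (hneg : ∀ g ∈ (S : Subgroup G),
      iterCommutator A (Subgroup.zpowers g) 3 ≤ A ⊓ Subgroup.centralizer (A : Set G) →
      ⁅⁅A ⊓ Subgroup.centralizer (A : Set G), Subgroup.zpowers g⁆, Subgroup.zpowers g⁆ = ⊥ →
      g ∈ pCore p G) :
    (inducedFunctor kInfLower (S : Subgroup G)).Normal ∧
      (inducedFunctor kInfUpper (S : Subgroup G)).Normal := by
  obtain ⟨e1, e2⟩ := kInf_induced_eq_pCore S A hAT hA2 hA3 hneg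
  haveI : (pCore p G).Normal := H1.pCore_normal p G
  rw [e1, e2]
  exact ⟨inducedFunctor_normal_of_normal (isCharPFunctor_kInfLower.{u} p) _ (H1.pCore_isPGroup p G),
    inducedFunctor_normal_of_normal (isCharPFunctor_kInfUpper.{u} p) _ (H1.pCore_isPGroup p G)⟩

end group

end Cfsg.Agent.Lib.H10
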