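import Mathlib
import Cfsg.Prelude.Def_ConjugacyFunctors
import Cfsg.Agent.Lib.H10.LocalGlobalGen

/-! Local-to-global principle for weak closure of central subsets under a conjugacy functor `W`
with `Z(P) ≤ W(P)` (helper10). -/

set_option autoImplicit false

namespace Cfsg.Agent.Lib.H10

open Cfsg

variable {G : Type*} [Group G]

theorem rconj_inv_eq_of_rconj_eq {g : G} {X : Set G} (h : rconj g X = X) : rconj g⁻¹ X = X := by
  conv_lhs => rw [← h]
  exact rconj_inv_rconj g X

/-- **Local-to-global for weak closure.** Let `X` be a subset of `Z(S)` normalized by `N_G(W S)`.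
If for every nontrivial `U ≤ S` containing `X`, with `N_S(U)` Sylow in `N_G(U)`, the normalizer
`N_G(U)` normalizes `X` as soon as `N_G(U) ∩ N_G(W(N_S(U)))` does, then every conjugate of `X`
inside `S` equals `X`. -/
theorem weakClosure_of_local {p : ℕ} [Fact p.Prime] [Finite G] (S : Sylow p G)
    {W : Subgroup G → Subgroup G} (hW : IsConjugacyFunctor p W)
    (hWZ : ∀ P : Subgroup G, IsPGroup p P → P ⊓ Subgroup.centralizer (P : Set G) ≤ W P)
    (X : Set G)
    (hXZ : X ⊆ ((S : Subgroup G) ⊓ Subgroup.centralizer ((S : Subgroup G) : Set G) : Subgroup G))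
    (htop : ∀ n ∈ Subgroup.normalizer ((W (S : Subgroup G) : Subgroup G) : Set G), rconj n X = X)
    (hloc : ∀ U ∈ sylNormFamily p (S : Subgroup G), U ≠ ⊥ → X ⊆ (U : Set G) →
      (∀ n ∈ Subgroup.normalizer (U : Set G) ⊓ Subgroup.normalizer
        ((W ((S : Subgroup G) ⊓ Subgroup.normalizer (U : Set G)) : Subgroup G) : Set G),
          rconj n X = X) →
      ∀ y ∈ Subgroup.normalizer (U : Set G), rconj y X = X) :
    ∀ g : G, rconj g X ⊆ (S : Subgroup G) → rconj g X = X := by
  set Good : Set G → G → Prop := fun A g =>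
    (X ⊆ A → rconj g X = X) ∧ (X ⊆ rconj g A → rconj g⁻¹ X = X) with hGood
  set C : Subgroup G → Prop := fun U =>
    ∀ n ∈ Subgroup.normalizer (U : Set G) ⊓ Subgroup.normalizer
        ((W ((S : Subgroup G) ⊓ Subgroup.normalizer (U : Set G)) : Subgroup G) : Set G),
          rconj n X = X with hC
  have hXS : X ⊆ (S : Subgroup G) := fun x hx => (hXZ hx).1
  have hXc : ∀ x ∈ X, ∀ s ∈ (S : Subgroup G), s * x = x * s := by
    intro x hx s hs
    exact Subgroup.mem_centralizer_iff.1 (hXZ hx).2 s hs
  -- `X` lies in `Z(N_S(U))` for every `U ≤ S`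
  have hXN : ∀ U : Subgroup G, U ≤ (S : Subgroup G) →
      X ⊆ (((S : Subgroup G) ⊓ Subgroup.normalizer (U : Set G)) ⊓ Subgroup.centralizer
        ((((S : Subgroup G) ⊓ Subgroup.normalizer (U : Set G)) : Subgroup G) : Set G) :
          Subgroup G) := by
    intro U hU x hx
    refine Subgroup.mem_inf.2 ⟨Subgroup.mem_inf.2 ⟨hXS hx, ?_⟩, ?_⟩
    · rw [Subgroup.mem_normalizer_iff]
      intro u
      constructor
      · intro hu
        have := hXc x hx u (hU hu)
        have h2 : x * u * x⁻¹ = u := by rw [← this]; group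
        rw [h2]; exact hu
      · intro hu
        have h1 : x * u * x⁻¹ ∈ (S : Subgroup G) := hU hu
        have h3 : u = x⁻¹ * (x * u * x⁻¹) * x := by group
        have h4 := hXc x hx _ h1
        have h5 : x⁻¹ * (x * u * x⁻¹) * x = x * u * x⁻¹ := by
          rw [mul_assoc, h4]; group
        rw [h3, h5]; exact hu
    · rw [Subgroup.mem_centralizer_iff]
      intro s hs
      exact hXc x hx s hs.1
  have hmain := good_of_local S Good C
    (by
      intro A B g hA hBA
      exact ⟨fun h => hA.1 (h.trans hBA), fun h => hA.2 (h.trans (rconj_mono g hBA))⟩)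
    (by
      intro A g h hA hB
      constructor
      · intro hXA
        have h1 := hA.1 hXA
        have h2 : X ⊆ rconj g A := by rw [← h1]; exact rconj_mono g hXA
        rw [rconj_mul, h1]
        exact hB.1 h2
      · intro hXA
        rw [rconj_mul] at hXA
        have h1 := hB.2 hXA
        have h2 : X ⊆ rconj g A := by
          have := rconj_mono h⁻¹ hXA
          rw [rconj_inv_rconj, h1] at this
          exact this
        have h3 := hA.2 h2
        rw [mul_inv_rev, rconj_mul, h1, h3])
    (by
      intro A g hA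
      constructor
      · intro h
        exact hA.2 h
      · intro h
        rw [rconj_inv_rconj] at h
        rw [inv_inv]
        exact hA.1 h)
    (by
      intro x
      have h1 : rconj x (((⊥ : Subgroup G) : Subgroup G) : Set G) = ((⊥ : Subgroup G) : Set G) :=
        rconj_coe_of_mem_normalizer (by rw [Subgroup.normalizer_eq_top]; exact Subgroup.mem_top x)
      have key : X ⊆ ((⊥ : Subgroup G) : Set G) → ∀ y : G, rconj y X = X := by
        intro hX y
        ext z
        constructor
        · rintro ⟨a, ha, rfl⟩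
          have : a = 1 := by simpa using hX ha
          subst this
          simpa using ha
        · intro hz
          have : z = 1 := by simpa using hX hz
          subst this
          exact ⟨1, hz, by simp⟩
      exact ⟨fun h => key h x, fun h => key (h1 ▸ h) x⁻¹⟩)
    (by
      intro U hU hU1 hCU x hx
      have h1 : rconj x (U : Set G) = (U : Set G) := rconj_coe_of_mem_normalizer hx
      exact ⟨fun h => hloc U hU hU1 h hCU x hx,
        fun h => hloc U hU hU1 (h1 ▸ h) hCU x⁻¹ (inv_mem hx)⟩)
    (by
      intro U hU hU1 ha hb n hn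
      set S₁ := (S : Subgroup G) ⊓ Subgroup.normalizer (U : Set G) with hS₁
      by_cases hcase : S₁ = (S : Subgroup G)
      · rw [hcase] at hn
        exact htop n hn.2
      · have hS₁S : S₁ < (S : Subgroup G) := lt_of_le_of_ne inf_le_left hcase
        have hS₁p : IsPGroup p S₁ := S.2.to_le inf_le_left
        have hUS₁ : U ≤ S₁ := le_inf hU.1 Subgroup.le_normalizer
        have hS₁1 : S₁ ≠ ⊥ := fun h0 => hU1 (le_bot_iff.mp (h0 ▸ hUS₁))
        set W₁ := W S₁ with hW₁
        have hW₁1 : W₁ ≠ ⊥ := (hW S₁ hS₁p).2.1 hS₁1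
        have hW₁S₁ : W₁ ≤ S₁ := functor_le hW hS₁p
        have hW₁S : W₁ ≤ (S : Subgroup G) := hW₁S₁.trans inf_le_left
        have hXW₁ : X ⊆ (W₁ : Set G) := fun x hx => hWZ S₁ hS₁p (hXN U hU.1 hx)
        set S₂ := (S : Subgroup G) ⊓ Subgroup.normalizer (W₁ : Set G) with hS₂
        have hlt : S₁ < (S : Subgroup G) ⊓ Subgroup.normalizer (S₁ : Set G) :=
          lt_inf_normalizer_of_lt S.2 hS₁S
        have hle : (S : Subgroup G) ⊓ Subgroup.normalizer (S₁ : Set G) ≤ S₂ :=
          inf_le_inf_left _ (normalizer_le_normalizer_functor hW hS₁p)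
        have hlt2 : S₁ < S₂ := lt_of_lt_of_le hlt hle
        have hc2 : Nat.card S₁ < Nat.card S₂ := card_lt_card_of_lt hlt2
        obtain ⟨k₀, hk₀S, hk₀N, hk₀i⟩ := exists_conj_normalizer_sylow S hW₁S
        set U' := W₁.map (MulAut.conj k₀).toMonoidHom with hU'
        have hU'fam : U' ∈ sylNormFamily p (S : Subgroup G) := ⟨hk₀S, hk₀i⟩
        have hU'1 : U' ≠ ⊥ := by
          intro h0
          apply hW₁1
          rw [hU', Subgroup.map_eq_bot_iff_of_injective _ (MulAut.conj k₀).injective] at h0
          exact h0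
        have hgood : Good (S₂ : Set G) k₀⁻¹ := by
          apply ha S₂ inf_le_left hc2 k₀⁻¹
          rw [inv_inv]
          exact hk₀N.trans inf_le_left
        have hXS₂ : X ⊆ (S₂ : Set G) := fun x hx => hlt2.le (hW₁S₁ (hXW₁ hx))
        have hkX : rconj k₀⁻¹ X = X := hgood.1 hXS₂
        have hkX' : rconj k₀ X = X := by
          have := rconj_inv_eq_of_rconj_eq hkX
          rwa [inv_inv] at this
        have hXU' : X ⊆ (U' : Set G) := by
          have h1 := rconj_mono k₀⁻¹ hXW₁
          rw [hkX, rconj_coe, inv_inv] at h1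
          exact h1
        have hc3 : Nat.card S₁ <
            Nat.card ((S : Subgroup G) ⊓ Subgroup.normalizer (U' : Set G) : Subgroup G) := by
          have h1 : Nat.card S₂ ≤
              Nat.card ((S : Subgroup G) ⊓ Subgroup.normalizer (U' : Set G) : Subgroup G) := by
            have := Subgroup.card_le_of_le hk₀N
            rwa [card_map_conj] at this
          omega
        have hCU' := hb U' hU'fam hU'1 hc3
        have hn' : k₀ * n * k₀⁻¹ ∈ Subgroup.normalizer (U' : Set G) :=
          conj_mem_normalizer_map_conj k₀ hn.2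
        have h5 := hloc U' hU'fam hU'1 hXU' hCU' _ hn'
        have h6 : n = k₀⁻¹ * (k₀ * n * k₀⁻¹) * k₀ := by group
        rw [h6, rconj_mul, rconj_mul, hkX, h5, hkX'])
  intro g hg
  set Q := (S : Subgroup G) ⊓ (S : Subgroup G).map (MulAut.conj g).toMonoidHom with hQ
  have hQg : Q.map (MulAut.conj g⁻¹).toMonoidHom ≤ (S : Subgroup G) := by
    refine (Subgroup.map_mono (inf_le_right : Q ≤ _)).trans ?_
    rw [map_conj_map_conj, inv_mul_cancel, map_conj_one]
  have h1 := hmain Q inf_le_left g hQg
  apply h1.1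
  intro x hx
  refine Subgroup.mem_inf.2 ⟨hXS hx, ?_⟩
  rw [mem_map_conj]
  exact hg ⟨x, hx, rfl⟩

end Cfsg.Agent.Lib.H10
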