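import Mathlib
import Cfsg.Prelude.Def_ConjugacyFunctors
import Cfsg.Prelude.Def_Amalgam
import Cfsg.Agent.Lib.H10.WeakClosureLG
import Cfsg.Agent.Lib.H14.Amalgam5
import Cfsg.Agent.Lib.H1.PCore

/-! Weak closure of central subsets in the subgroups of a finite group: restriction of a conjugacy
functor to a subgroup and the reduction to the case `X ⊆ O_p(H)` (helper10). -/

set_option autoImplicit false

namespace Cfsg.Agent.Lib.H10

open Cfsg

variable {G : Type*} [Group G]

/-- restriction of a subgroup functor to a subgroup -/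
def resFunctor (W : Subgroup G → Subgroup G) (H : Subgroup G) : Subgroup ↥H → Subgroup ↥H :=
  fun Q => (W (Q.map H.subtype)).subgroupOf H

theorem map_subtype_map_conj (H : Subgroup G) (Q : Subgroup ↥H) (g : ↥H) :
    (Q.map (MulAut.conj g).toMonoidHom).map H.subtype =
      (Q.map H.subtype).map (MulAut.conj (g : G)).toMonoidHom := by
  rw [Subgroup.map_map, Subgroup.map_map]
  congr 1

theorem mem_normalizer_subtype_iff (H : Subgroup G) (U : Subgroup ↥H) (x : ↥H) :
    x ∈ Subgroup.normalizer (U : Set ↥H) ↔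
      (x : G) ∈ Subgroup.normalizer ((U.map H.subtype : Subgroup G) : Set G) := by
  rw [Subgroup.mem_normalizer_iff, Subgroup.mem_normalizer_iff]
  constructor
  · intro h z
    constructor
    · rintro ⟨z', hz', rfl⟩
      exact ⟨x * z' * x⁻¹, (h z').1 hz', rfl⟩
    · rintro ⟨w', hw', hw⟩
      have hzH : z ∈ H := by
        have h1 : (x : G) * z * (x : G)⁻¹ ∈ H := by rw [← hw]; exact w'.2
        have h2 : z = (x : G)⁻¹ * ((x : G) * z * (x : G)⁻¹) * (x : G) := by group
        rw [h2]
        exact H.mul_mem (H.mul_mem (H.inv_mem x.2) h1) x.2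
      refine ⟨⟨z, hzH⟩, ?_, rfl⟩
      show (⟨z, hzH⟩ : ↥H) ∈ U
      rw [h ⟨z, hzH⟩]
      have : x * ⟨z, hzH⟩ * x⁻¹ = w' := Subtype.ext (by simpa using hw.symm)
      rw [this]; exact hw'
  · intro h z'
    have h1 := h (z' : G)
    constructor
    · intro hz'
      obtain ⟨w', hw', hw⟩ := h1.1 ⟨z', hz', rfl⟩
      have : x * z' * x⁻¹ = w' := Subtype.ext (by simpa using hw.symm)
      rw [this]; exact hw'
    · intro hz'
      obtain ⟨w', hw', hw⟩ := h1.2 ⟨x * z' * x⁻¹, hz', rfl⟩
      have : z' = w' := Subtype.ext (by simpa using hw.symm)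
      rw [this]; exact hw'

theorem isConjugacyFunctor_res {p : ℕ} {W : Subgroup G → Subgroup G}
    (hW : IsConjugacyFunctor p W) (H : Subgroup G) : IsConjugacyFunctor p (resFunctor W H) := by
  intro P hP
  have hP' : IsPGroup p (P.map H.subtype) := hP.map _
  obtain ⟨h1, h2, h3⟩ := hW _ hP'
  have hle : W (P.map H.subtype) ≤ H := h1.trans (Subgroup.map_subtype_le P)
  refine ⟨?_, ?_, ?_⟩
  · intro x hx
    have hx' : (x : G) ∈ W (P.map H.subtype) := hx
    obtain ⟨y, hy, hyx⟩ := h1 hx'
    have : y = x := Subtype.ext hyx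
    rw [← this]; exact hy
  · intro hP1 h0
    apply h2
    · intro h
      apply hP1
      rwa [Subgroup.map_eq_bot_iff_of_injective _ (Subgroup.subtype_injective H)] at h
    · rw [eq_bot_iff]
      intro z hz
      have : (⟨z, hle hz⟩ : ↥H) ∈ resFunctor W H P := hz
      rw [h0, Subgroup.mem_bot] at this
      rw [Subgroup.mem_bot]
      exact congrArg Subtype.val this
  · intro g
    unfold resFunctor
    rw [map_subtype_map_conj, h3]
    ext z
    rw [Subgroup.mem_subgroupOf, mem_map_conj]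
    constructor
    · intro hz
      refine ⟨g⁻¹ * z * g, ?_, by simp [MulAut.conj_apply]; group⟩
      rw [SetLike.mem_coe, Subgroup.mem_subgroupOf]
      simpa using hz
    · rintro ⟨y, hy, rfl⟩
      rw [SetLike.mem_coe, Subgroup.mem_subgroupOf] at hy
      simpa [MulAut.conj_apply, mul_assoc] using hy

theorem resFunctor_center_le {p : ℕ} {W : Subgroup G → Subgroup G}
    (hWZ : ∀ P : Subgroup G, IsPGroup p P → P ⊓ Subgroup.centralizer (P : Set G) ≤ W P)
    (H : Subgroup G) (P : Subgroup ↥H) (hP : IsPGroup p P) :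
    P ⊓ Subgroup.centralizer (P : Set ↥H) ≤ resFunctor W H P := by
  intro x hx
  obtain ⟨hx1, hx2⟩ := Subgroup.mem_inf.1 hx
  show (x : G) ∈ W (P.map H.subtype)
  apply hWZ _ (hP.map _)
  refine Subgroup.mem_inf.2 ⟨⟨x, hx1, rfl⟩, ?_⟩
  rw [Subgroup.mem_centralizer_iff]
  rintro _ ⟨y, hy, rfl⟩
  have := Subgroup.mem_centralizer_iff.1 hx2 y hy
  exact congrArg Subtype.val this

theorem map_resFunctor {p : ℕ} {W : Subgroup G → Subgroup G}
    (hW : IsConjugacyFunctor p W) (H : Subgroup G) (P : Subgroup ↥H) (hP : IsPGroup p P) :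
    (resFunctor W H P).map H.subtype = W (P.map H.subtype) := by
  unfold resFunctor
  rw [Subgroup.map_subgroupOf_eq_of_le]
  exact (functor_le hW (hP.map _)).trans (Subgroup.map_subtype_le P)

/-- `O_p(H) ≤ T` for `T` Sylow in `H`. -/
theorem pCoreOf_le_of_sylowIn [Finite G] {p : ℕ} [Fact p.Prime] {H T : Subgroup G} (hTH : T ≤ H)
    (hTp : IsPGroup p T) (hTi : ¬ p ∣ T.relIndex H) : Cfsg.pCoreOf p H ≤ T := by
  have hS'p : IsPGroup p (T.subgroupOf H) := hTp.comap_subtype
  let S' : Sylow p ↥H := hS'p.toSylow hTi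
  have hS' : (S' : Subgroup ↥H) = T.subgroupOf H := hS'p.toSylow_coe hTi
  have h1 : Cfsg.pCore p ↥H ≤ T.subgroupOf H := by
    rw [← hS']; exact H1.pCore_le_sylow S'
  unfold Cfsg.pCoreOf
  rintro _ ⟨y, hy, rfl⟩
  exact h1 hy

theorem rconj_subtype_iff (H : Subgroup G) {X : Set G} (hXH : X ⊆ (H : Set G)) (h : ↥H) :
    rconj h (H.subtype ⁻¹' X) = H.subtype ⁻¹' X ↔ rconj (h : G) X = X := by
  have key : ∀ z : ↥H, z ∈ rconj h (H.subtype ⁻¹' X) ↔ (z : G) ∈ rconj (h : G) X := by
    intro z
    constructor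
    · rintro ⟨a, ha, rfl⟩
      exact ⟨(a : G), ha, rfl⟩
    · rintro ⟨a, ha, haz⟩
      refine ⟨⟨a, hXH ha⟩, ha, ?_⟩
      exact Subtype.ext haz
  have hsub : rconj (h : G) X ⊆ (H : Set G) := by
    rintro _ ⟨a, ha, rfl⟩
    exact H.mul_mem (H.mul_mem (H.inv_mem h.2) (hXH ha)) h.2
  constructor
  · intro heq
    ext z
    constructor
    · intro hz
      have h1 : (⟨z, hsub hz⟩ : ↥H) ∈ rconj h (H.subtype ⁻¹' X) := (key _).2 hz
      rw [heq] at h1
      exact h1
    · intro hz
      have h1 : (⟨z, hXH hz⟩ : ↥H) ∈ H.subtype ⁻¹' X := hz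
      rw [← heq] at h1
      exact (key _).1 h1
  · intro heq
    ext z
    rw [key, heq]
    rfl

/-- **Skeleton theorem for weak closure.** Fix a set `X` and a predicate `adm` on Sylow candidates.
If the case `X ⊆ O_p(H)` (with all proper overgroups of the Sylow subgroup normalizing `X`) is
settled, then `X` is weakly closed in `T` with respect to `H` as soon as `N_H(W T)`
normalizes `X`. -/
theorem weakClosure_skeleton [Finite G] {p : ℕ} [Fact p.Prime]
    {W : Subgroup G → Subgroup G} (hW : IsConjugacyFunctor p W)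
    (hWZ : ∀ P : Subgroup G, IsPGroup p P → P ⊓ Subgroup.centralizer (P : Set G) ≤ W P)
    (X : Set G) (adm : Subgroup G → Prop)
    (hadm1 : ∀ T : Subgroup G, adm T →
      X ⊆ ((T ⊓ Subgroup.centralizer (T : Set G) : Subgroup G) : Set G))
    (hadm2 : ∀ T T₁ : Subgroup G, adm T → T₁ ≤ T →
      T ⊓ Subgroup.centralizer (T : Set G) ≤ T₁ → adm T₁)
    (hcore : ∀ H T : Subgroup G, T ≤ H → IsPGroup p T → ¬ p ∣ T.relIndex H → adm T →
      (∀ n ∈ H ⊓ Subgroup.normalizer ((W T : Subgroup G) : Set G), rconj n X = X) →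
      X ⊆ (Cfsg.pCoreOf p H : Set G) →
      (∀ L : Subgroup G, T ≤ L → L < H → ∀ l ∈ L, rconj l X = X) →
      ∀ h ∈ H, rconj h X = X) :
    ∀ (n : ℕ) (H T : Subgroup G), Nat.card H = n → T ≤ H → IsPGroup p T →
      ¬ p ∣ T.relIndex H → adm T →
      (∀ n ∈ H ⊓ Subgroup.normalizer ((W T : Subgroup G) : Set G), rconj n X = X) →
      ∀ h ∈ H, rconj h X ⊆ (T : Set G) → rconj h X = X := by
  intro n
  induction n using Nat.strong_induction_on with
  | _ n ih =>
  intro H T hn hTH hTp hTi hadm htop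
  have hXZ : X ⊆ ((T ⊓ Subgroup.centralizer (T : Set G) : Subgroup G) : Set G) := hadm1 T hadm
  have hXT : X ⊆ (T : Set G) := fun x hx => (hXZ hx).1
  have hXH : X ⊆ (H : Set G) := fun x hx => hTH (hXT hx)
  have hS'p : IsPGroup p (T.subgroupOf H) := hTp.comap_subtype
  let S' : Sylow p ↥H := hS'p.toSylow hTi
  have hS' : (S' : Subgroup ↥H) = T.subgroupOf H := hS'p.toSylow_coe hTi
  have hS'map : (S' : Subgroup ↥H).map H.subtype = T := by
    rw [hS', Subgroup.map_subgroupOf_eq_of_le hTH]
  set X' : Set ↥H := H.subtype ⁻¹' X with hX'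
  have hmain := weakClosure_of_local S' (isConjugacyFunctor_res hW H)
    (resFunctor_center_le hWZ H) X'
    (by
      intro x hx
      have h1 := hXZ hx
      refine Subgroup.mem_inf.2 ⟨?_, ?_⟩
      · rw [hS', Subgroup.mem_subgroupOf]; exact h1.1
      · rw [Subgroup.mem_centralizer_iff]
        intro y hy
        rw [SetLike.mem_coe, hS', Subgroup.mem_subgroupOf] at hy
        exact Subtype.ext (Subgroup.mem_centralizer_iff.1 h1.2 _ hy))
    (by
      intro n' hn'
      rw [rconj_subtype_iff H hXH]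
      apply htop
      refine Subgroup.mem_inf.2 ⟨n'.2, ?_⟩
      rw [mem_normalizer_subtype_iff, map_resFunctor hW H _ S'.2, hS'map] at hn'
      exact hn')
    (by
      intro U' hU' hU'1 hXU' hC' y' hy'
      rw [rconj_subtype_iff H hXH]
      set U := U'.map H.subtype with hU
      have hUT : U ≤ T := by
        rw [← hS'map]; exact Subgroup.map_mono hU'.1
      have hU1 : U ≠ ⊥ := by
        intro h
        apply hU'1
        rwa [hU, Subgroup.map_eq_bot_iff_of_injective _ (Subgroup.subtype_injective H)] at h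
      have hXU : X ⊆ (U : Set G) := by
        intro x hx
        exact ⟨⟨x, hXH hx⟩, hXU' hx, rfl⟩
      have hUp : IsPGroup p U := hTp.to_le hUT
      set K := H ⊓ Subgroup.normalizer (U : Set G) with hK
      set T₁ := T ⊓ Subgroup.normalizer (U : Set G) with hT₁
      have hmapN : (Subgroup.normalizer (U' : Set ↥H)).map H.subtype = K := by
        ext z
        constructor
        · rintro ⟨z', hz', rfl⟩
          exact Subgroup.mem_inf.2 ⟨z'.2, (mem_normalizer_subtype_iff H U' z').1 hz'⟩
        · intro hz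
          obtain ⟨hz1, hz2⟩ := Subgroup.mem_inf.1 hz
          exact ⟨⟨z, hz1⟩, (mem_normalizer_subtype_iff H U' ⟨z, hz1⟩).2 hz2, rfl⟩
      have hmapT₁ : ((S' : Subgroup ↥H) ⊓ Subgroup.normalizer (U' : Set ↥H)).map H.subtype = T₁ := by
        rw [Subgroup.map_inf _ _ _ (Subgroup.subtype_injective H), hS'map, hmapN, hK, hT₁,
          ← inf_assoc, inf_eq_left.2 hTH]
      have hT₁K : T₁ ≤ K := inf_le_inf_right _ hTH
      have hT₁p : IsPGroup p T₁ := hTp.to_le inf_le_left
      have hT₁i : ¬ p ∣ T₁.relIndex K := by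
        have := hU'.2
        rwa [← Subgroup.relIndex_map_map_of_injective _ _ (Subgroup.subtype_injective H),
          hmapT₁, hmapN] at this
      have hadmT₁ : adm T₁ := by
        apply hadm2 T T₁ hadm inf_le_left
        intro z hz
        obtain ⟨hz1, hz2⟩ := Subgroup.mem_inf.1 hz
        refine Subgroup.mem_inf.2 ⟨hz1, ?_⟩
        rw [Subgroup.mem_normalizer_iff]
        intro u
        have hcomm : ∀ t ∈ T, z * t * z⁻¹ = t := by
          intro t ht
          have := Subgroup.mem_centralizer_iff.1 hz2 t ht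
          rw [← this]; group
        constructor
        · intro hu
          rw [hcomm u (hUT hu)]; exact hu
        · intro hu
          have h1 := hcomm _ (hUT hu)
          have h2 : z * u * z⁻¹ = u := by
            have h3 : z⁻¹ * (z * (z * u * z⁻¹) * z⁻¹) * z = z⁻¹ * (z * u * z⁻¹) * z := by rw [h1]
            have e1 : z⁻¹ * (z * (z * u * z⁻¹) * z⁻¹) * z = z * u * z⁻¹ := by group
            have e2 : z⁻¹ * (z * u * z⁻¹) * z = u := by group
            rw [e1, e2] at h3
            exact h3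
          rw [← h2]; exact hu
      have hCU : ∀ n ∈ K ⊓ Subgroup.normalizer ((W T₁ : Subgroup G) : Set G), rconj n X = X := by
        intro n hn
        obtain ⟨hnK, hnW⟩ := Subgroup.mem_inf.1 hn
        obtain ⟨hnH, hnU⟩ := Subgroup.mem_inf.1 hnK
        rw [← rconj_subtype_iff H hXH ⟨n, hnH⟩]
        apply hC'
        refine Subgroup.mem_inf.2 ⟨(mem_normalizer_subtype_iff H U' ⟨n, hnH⟩).2 hnU, ?_⟩
        rw [mem_normalizer_subtype_iff, map_resFunctor hW H _ (S'.2.to_le inf_le_left), hmapT₁]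
        exact hnW
      have hyK : (y' : G) ∈ K :=
        Subgroup.mem_inf.2 ⟨y'.2, (mem_normalizer_subtype_iff H U' y').1 hy'⟩
      by_cases hKH : K = H
      · -- `U` is normal in `H`
        have hHN : H ≤ Subgroup.normalizer (U : Set G) := by
          rw [← hKH]; exact inf_le_right
        have hT₁T : T₁ = T := inf_eq_left.2 (hTH.trans hHN)
        have hUP : U ≤ Cfsg.pCoreOf p H := H14.le_pCoreOf p H U (hUT.trans hTH) hHN hUp
        apply hcore H T hTH hTp hTi hadm htop (fun x hx => hUP (hXU hx)) _ _ y'.2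
        intro L hTL hLH l hl
        have hcardL : Nat.card L < n := by rw [← hn]; exact card_lt_card_of_lt hLH
        have hTiL : ¬ p ∣ T.relIndex L := by
          intro hd
          apply hTi
          rw [← Subgroup.relIndex_mul_relIndex T L H hTL hLH.le]
          exact Dvd.dvd.mul_right hd _
        apply ih _ hcardL L T rfl hTL hTp hTiL hadm _ l hl
        · -- the conjugate lies in `O_p(H) ≤ T`
          rintro _ ⟨x, hx, rfl⟩
          apply pCoreOf_le_of_sylowIn hTH hTp hTi
          have h1 := H14.pCoreOf_normalized p H (H.inv_mem (hLH.le hl))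
          have h2 := (Subgroup.mem_normalizer_iff.1 h1 x).1 (hUP (hXU hx))
          simpa using h2
        · intro m hm
          exact htop m (Subgroup.mem_inf.2 ⟨hLH.le (Subgroup.mem_inf.1 hm).1,
            (Subgroup.mem_inf.1 hm).2⟩)
      · have hKlt : K < H := lt_of_le_of_ne inf_le_left hKH
        have hcardK : Nat.card K < n := by rw [← hn]; exact card_lt_card_of_lt hKlt
        apply ih _ hcardK K T₁ rfl hT₁K hT₁p hT₁i hadmT₁ hCU _ hyK
        rintro _ ⟨x, hx, rfl⟩
        have h1 : (y' : G)⁻¹ ∈ Subgroup.normalizer (U : Set G) :=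
          Subgroup.inv_mem _ (Subgroup.mem_inf.1 hyK).2
        have h2 := (Subgroup.mem_normalizer_iff.1 h1 x).1 (hXU hx)
        rw [inv_inv] at h2
        exact Subgroup.mem_inf.2 ⟨hUT h2, Subgroup.le_normalizer h2⟩)
  intro h hh hhX
  rw [← rconj_subtype_iff H hXH ⟨h, hh⟩]
  apply hmain
  rintro _ ⟨a, ha, rfl⟩
  rw [SetLike.mem_coe, hS', Subgroup.mem_subgroupOf]
  exact hhX ⟨(a : G), ha, rfl⟩

end Cfsg.Agent.Lib.H10
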