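import Mathlib
import Cfsg.Prelude.Def_ConjugacyFunctors
import Cfsg.Prelude.Def_PLocal
import Cfsg.Prelude.Def_Amalgam
import Cfsg.Agent.Lib.H10.KInfCore
import Cfsg.Agent.Lib.H10.WeakClosureSub
import Cfsg.Agent.S0093

/-! Consequences of the K-infinity core theorem: existence of a critical subgroup inside `O_p(G)`,
and of an element outside `O_p(G)` acting quadratically on `Z(O_p(G))` when a K-infinity subgroup of
a Sylow subgroup is not normal (helper10). -/

set_option autoImplicit false

namespace Cfsg.Agent.Lib.H10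

open Cfsg

universe u

section

variable {G : Type u} [Group G] [Finite G] {p : ℕ} [Fact p.Prime]

/-- A critical subgroup of `O_p(G)`, as a subgroup of `G`. -/
theorem exists_critical_pCore (G : Type u) [Group G] [Finite G] (p : ℕ) [Fact p.Prime] :
    ∃ A : Subgroup G, A.Normal ∧ A ≤ pCore p G ∧
      ((A.subgroupOf (pCore p G)).Characteristic) ∧
      ⁅A, A⁆ ≤ Subgroup.centralizer (A : Set G) ∧
      ⁅pCore p G, A⁆ ≤ A ⊓ Subgroup.centralizer (A : Set G) ∧
      pCore p G ⊓ Subgroup.centralizer (A : Set G) = A ⊓ Subgroup.centralizer (A : Set G) := by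
  set T := pCore p G with hT
  haveI hTn : T.Normal := H1.pCore_normal p G
  have hTp : IsPGroup p ↥T := H1.pCore_isPGroup p G
  obtain ⟨H₀, hchar, -, hcomm, hcent⟩ := Cfsg.Agent.S0093.result (P := ↥T) hTp
  have hf : Function.Injective T.subtype := Subtype.coe_injective
  set A := H₀.map T.subtype with hA
  have hAT : A ≤ T := Subgroup.map_subtype_le H₀
  have hsub : A.subgroupOf T = H₀ := by
    rw [hA, Subgroup.subgroupOf, Subgroup.comap_map_eq_self_of_injective hf]
  have hZ : (H₀ ⊓ Subgroup.centralizer (H₀ : Set ↥T)).map T.subtype =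
      A ⊓ Subgroup.centralizer (A : Set G) := map_inf_centralizer hf H₀
  have htop : (⊤ : Subgroup ↥T).map T.subtype = T := by
    rw [← MonoidHom.range_eq_map, Subgroup.range_subtype]
  have h3 : ⁅T, A⁆ ≤ A ⊓ Subgroup.centralizer (A : Set G) := by
    rw [← hZ, Subgroup.commutator_comm]
    have e : ⁅A, T⁆ = (⁅H₀, (⊤ : Subgroup ↥T)⁆).map T.subtype := by
      rw [Subgroup.map_commutator, htop]
    rw [e]
    exact Subgroup.map_mono hcomm
  refine ⟨A, ?_, hAT, ?_, ?_, h3, ?_⟩
  · haveI := hchar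
    exact ConjAct.normal_of_characteristic_of_normal
  · rw [hsub]; exact hchar
  · refine le_trans ?_ (h3.trans inf_le_right)
    exact Subgroup.commutator_mono hAT le_rfl
  · apply le_antisymm
    · rintro x ⟨hxT, hxC⟩
      refine ⟨?_, hxC⟩
      have : (⟨x, hxT⟩ : ↥T) ∈ Subgroup.centralizer (H₀ : Set ↥T) := by
        rw [Subgroup.mem_centralizer_iff]
        intro y hy
        apply Subtype.ext
        exact Subgroup.mem_centralizer_iff.mp hxC (y : G) ⟨y, hy, rfl⟩
      exact ⟨⟨x, hxT⟩, hcent this, rfl⟩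
    · exact inf_le_inf_right _ hAT

/-- If a K-infinity subgroup of the Sylow subgroup `S` is not normal in `G`, some element of `S`
outside `O_p(G)` acts "cubically" on a critical subgroup `A` and quadratically on its centre. -/
theorem exists_cubic_of_not_normal (S : Sylow p G) (A : Subgroup G) [A.Normal]
    (hAT : A ≤ pCore p G) (hA2 : ⁅A, A⁆ ≤ Subgroup.centralizer (A : Set G))
    (hA3 : ⁅pCore p G, A⁆ ≤ A ⊓ Subgroup.centralizer (A : Set G))
    (hK : ¬ (inducedFunctor kInfLower (S : Subgroup G)).Normal ∨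
      ¬ (inducedFunctor kInfUpper (S : Subgroup G)).Normal) :
    ∃ g : G, g ∈ (S : Subgroup G) ∧ g ∉ pCore p G ∧
      iterCommutator A (Subgroup.zpowers g) 3 ≤ A ⊓ Subgroup.centralizer (A : Set G) ∧
      ⁅⁅A ⊓ Subgroup.centralizer (A : Set G), Subgroup.zpowers g⁆, Subgroup.zpowers g⁆ = ⊥ := by
  by_contra hcon
  have hneg : ∀ g ∈ (S : Subgroup G),
      iterCommutator A (Subgroup.zpowers g) 3 ≤ A ⊓ Subgroup.centralizer (A : Set G) →
      ⁅⁅A ⊓ Subgroup.centralizer (A : Set G), Subgroup.zpowers g⁆, Subgroup.zpowers g⁆ = ⊥ →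
      g ∈ pCore p G := by
    intro g hg h1 h2
    by_contra hgT
    exact hcon ⟨g, hg, hgT, h1, h2⟩
  obtain ⟨n1, n2⟩ := kInf_normal_of_neg S A hAT hA2 hA3 hneg
  rcases hK with h | h
  · exact h n1
  · exact h n2

/-- the centre of `O_p(G)` lies in the centre of a critical subgroup -/
theorem center_pCore_le_of_critical (A : Subgroup G) (hAT : A ≤ pCore p G)
    (hA4 : pCore p G ⊓ Subgroup.centralizer (A : Set G) = A ⊓ Subgroup.centralizer (A : Set G)) :
    pCore p G ⊓ Subgroup.centralizer ((pCore p G : Subgroup G) : Set G) ≤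
      A ⊓ Subgroup.centralizer (A : Set G) := by
  rw [← hA4]
  exact inf_le_inf_left _ (Subgroup.centralizer_le hAT)

/-- If a K-infinity subgroup of `S` is not normal in `G`, some element of `S` outside `O_p(G)`
acts quadratically on `Z(O_p(G))`. -/
theorem exists_quadratic_center_of_not_normal (S : Sylow p G)
    (hK : ¬ (inducedFunctor kInfLower (S : Subgroup G)).Normal ∨
      ¬ (inducedFunctor kInfUpper (S : Subgroup G)).Normal) :
    ∃ g : G, g ∈ (S : Subgroup G) ∧ g ∉ pCore p G ∧
      ⁅⁅pCore p G ⊓ Subgroup.centralizer ((pCore p G : Subgroup G) : Set G), Subgroup.zpowers g⁆,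
        Subgroup.zpowers g⁆ = ⊥ := by
  obtain ⟨A, hAn, hAT, -, hA2, hA3, hA4⟩ := exists_critical_pCore G p
  haveI := hAn
  obtain ⟨g, hgS, hgT, -, h2⟩ := exists_cubic_of_not_normal S A hAT hA2 hA3 hK
  refine ⟨g, hgS, hgT, ?_⟩
  rw [eq_bot_iff, ← h2]
  have := center_pCore_le_of_critical A hAT hA4
  exact Subgroup.commutator_mono (Subgroup.commutator_mono this le_rfl) le_rfl

/-- Subgroup form: `T` a Sylow `p`-subgroup of `H ≤ G` with `K_∞(T)` not normal in `H`. -/
theorem exists_quadratic_center_of_not_le_normalizer (H T : Subgroup G) (hTH : T ≤ H)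
    (hTp : IsPGroup p ↥T) (hTi : ¬ p ∣ T.relIndex H)
    (hN : ¬ H ≤ Subgroup.normalizer ((inducedFunctor kInfLower T : Subgroup G) : Set G)) :
    ∃ g : G, g ∈ T ∧ g ∉ pCoreOf p H ∧
      ⁅⁅pCoreOf p H ⊓ Subgroup.centralizer ((pCoreOf p H : Subgroup G) : Set G), Subgroup.zpowers g⁆,
        Subgroup.zpowers g⁆ = ⊥ := by
  have hS'p : IsPGroup p (T.subgroupOf H) := hTp.comap_subtype
  let S' : Sylow p ↥H := hS'p.toSylow hTi
  have hS' : (S' : Subgroup ↥H) = T.subgroupOf H := hS'p.toSylow_coe hTi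
  have hf : Function.Injective H.subtype := Subtype.coe_injective
  have hmapT : (T.subgroupOf H).map H.subtype = T := Subgroup.map_subgroupOf_eq_of_le hTH
  have hW : (inducedFunctor kInfLower (T.subgroupOf H)).map H.subtype = inducedFunctor kInfLower T := by
    rw [inducedFunctor_map_subtype (isCharPFunctor_kInfLower.{u} p) H _ hS'p, hmapT]
  have hK : ¬ (inducedFunctor kInfLower (S' : Subgroup ↥H)).Normal := by
    intro hn
    apply hN
    intro h hh
    have h1 : (⟨h, hh⟩ : ↥H) ∈ Subgroup.normalizer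
        ((inducedFunctor kInfLower (S' : Subgroup ↥H) : Subgroup ↥H) : Set ↥H) := by
      rw [Subgroup.normalizer_eq_top]; exact Subgroup.mem_top _
    rw [mem_normalizer_subtype_iff, hS', hW] at h1
    exact h1
  obtain ⟨g, hgS, hgT, hq⟩ := exists_quadratic_center_of_not_normal S' (Or.inl hK)
  refine ⟨(g : G), ?_, ?_, ?_⟩
  · rw [hS', Subgroup.mem_subgroupOf] at hgS
    exact hgS
  · rintro ⟨y, hy, hyg⟩
    have : y = g := Subtype.ext hyg
    exact hgT (this ▸ hy)
  · have := congrArg (Subgroup.map H.subtype) hq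
    rw [Subgroup.map_commutator, Subgroup.map_commutator, map_inf_centralizer hf,
      MonoidHom.map_zpowers, Subgroup.map_bot] at this
    exact this

end

end Cfsg.Agent.Lib.H10
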