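import Mathlib
import Cfsg.Prelude.Def_ConjugacyFunctors
import Cfsg.Prelude.Def_PLocal
import Cfsg.Prelude.Def_LocalEven
import Cfsg.Agent.Lib.H10.KInfLocal
import Cfsg.Agent.Lib.H10.EngelDeg

/-! If a K-infinity subgroup of a Sylow subgroup is not normal, some element outside `O_p(G)` has
Engel degree `4` on every chief factor inside `O_p(G)` (helper10). -/

set_option autoImplicit false

namespace Cfsg.Agent.Lib.H10

open Cfsg

universe u

variable {G : Type u} [Group G] [Finite G] {p : ℕ} [Fact p.Prime]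

theorem iterCommutator_eq_bot_add' {L : Type*} [Group L] (N K : Subgroup L) (k m : ℕ)
    (h : iterCommutator N K k = ⊥) : iterCommutator N K (k + m) = ⊥ := by
  induction m with
  | zero => exact h
  | succ m ih =>
    show ⁅iterCommutator N K (k + m), K⁆ = ⊥
    rw [ih, Subgroup.commutator_bot_left]

/-- Engel degree `4` on all chief factors inside `O_p(G)`. -/
theorem exists_engel_four_of_not_normal (S : Sylow p G)
    (hK : ¬ (inducedFunctor kInfLower (S : Subgroup G)).Normal ∨
      ¬ (inducedFunctor kInfUpper (S : Subgroup G)).Normal) :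
    ∃ g : G, g ∈ (S : Subgroup G) ∧ g ∉ pCore p G ∧
      (∀ U V : Subgroup G, IsChiefFactor U V → U ≤ pCore p G →
        iterCommutator U (Subgroup.zpowers g) 4 ≤ V) ∧
      ⁅⁅pCore p G ⊓ Subgroup.centralizer ((pCore p G : Subgroup G) : Set G), Subgroup.zpowers g⁆,
        Subgroup.zpowers g⁆ = ⊥ := by
  obtain ⟨A, hAn, hAT, -, hA2, hA3, hA4⟩ := exists_critical_pCore G p
  haveI := hAn
  obtain ⟨g, hgS, hgT, h1, h2⟩ := exists_cubic_of_not_normal S A hAT hA2 hA3 hK
  refine ⟨g, hgS, hgT, ?_, ?_⟩
  · set Γ := Subgroup.zpowers g with hΓ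
    set Z := A ⊓ Subgroup.centralizer (A : Set G) with hZ
    haveI hZn : Z.Normal := by rw [hZ]; infer_instance
    haveI hPn : (pCore p G).Normal := H1.pCore_normal p G
    have hZ2 : iterCommutator Z Γ 2 = ⊥ := h2
    have hcw : CW Γ 3 A ⊥ := by
      have c1 : CW Γ 3 A Z := cw_of_engel h1
      have c2 : CW Γ 3 Z ⊥ := by
        apply cw_of_engel
        rw [iterCommutator_eq_bot_add' Z Γ 2 1 hZ2]
      exact cw_trans c1 c2
    have hQi : ∀ U V : Subgroup G, IsChiefFactor U V → U ≤ A → iterCommutator U Γ 3 ≤ V := by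
      intro U V hUV hUA
      exact hcw U V hUV hUA (by rw [bot_inf_eq]; exact bot_le)
    have hZj : ∀ U V : Subgroup G, IsChiefFactor U V → U ≤ A ⊓ Subgroup.centralizer (A : Set G) →
        iterCommutator U Γ 2 ≤ V := by
      intro U V _ hUZ
      have := iterCommutator_mono_left hUZ Γ 2
      rw [← hZ, hZ2] at this
      exact this.trans bot_le
    have := engel_chief_degree (pCore p G) (H1.pCore_isPGroup p G) A Γ 3 2 (by norm_num) hQi hZj hAT
      (by norm_num) hA3 (le_of_eq hA4)
    exact this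
  · rw [eq_bot_iff, ← h2]
    have := center_pCore_le_of_critical A hAT hA4
    exact Subgroup.commutator_mono (Subgroup.commutator_mono this le_rfl) le_rfl

/-- Engel degree `p - 1` on all chief factors inside `O_p(G)`, for `p ≥ 5`. -/
theorem exists_engel_of_not_normal (hp : 5 ≤ p) (S : Sylow p G)
    (hK : ¬ (inducedFunctor kInfLower (S : Subgroup G)).Normal ∨
      ¬ (inducedFunctor kInfUpper (S : Subgroup G)).Normal) :
    ∃ g : G, g ∈ (S : Subgroup G) ∧ g ∉ pCore p G ∧
      ∀ U V : Subgroup G, IsChiefFactor U V → U ≤ pCore p G →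
        iterCommutator U (Subgroup.zpowers g) (p - 1) ≤ V := by
  obtain ⟨g, hgS, hgT, h4, -⟩ := exists_engel_four_of_not_normal S hK
  refine ⟨g, hgS, hgT, ?_⟩
  intro U V hUV hUP
  haveI := hUV.2.2.1
  exact iterCommutator_le_of_le U _ (by omega) (h4 U V hUV hUP)

end Cfsg.Agent.Lib.H10
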