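import Mathlib

/-! The abelian case of the Hall–Higman Theorem B, in elementary form (helper10).

If a `p`-element `g` normalizes an abelian `p'`-group `Q` of automorphisms of a finite abelian
`p`-group `V` and `1 + g + ⋯ + g^(p-1)` annihilates `V`, then `g` centralizes `Q`. -/

set_option autoImplicit false

namespace Cfsg.Agent.Lib.H10

variable {V : Type*} [CommGroup V]

/-- the commutator-like element `h⁻¹ b⁻¹ h b` -/
def dcomm (h b : MulAut V) : MulAut V := h⁻¹ * b⁻¹ * h * b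

theorem dcomm_one_left (b : MulAut V) : dcomm 1 b = 1 := by
  unfold dcomm; group

theorem dcomm_one_right (h : MulAut V) : dcomm h 1 = 1 := by
  unfold dcomm; group

theorem conj_inv_mem_of_mem_normalizer {Q : Subgroup (MulAut V)} {h b : MulAut V}
    (hh : h ∈ Subgroup.normalizer (Q : Set (MulAut V))) (hb : b ∈ Q) : h⁻¹ * b * h ∈ Q := by
  have h1 : h⁻¹ ∈ Subgroup.normalizer (Q : Set (MulAut V)) := Subgroup.inv_mem _ hh
  have := (Subgroup.mem_normalizer_iff.1 h1 b).1 hb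
  simpa using this

theorem dcomm_mem {Q : Subgroup (MulAut V)} {h b : MulAut V}
    (hh : h ∈ Subgroup.normalizer (Q : Set (MulAut V))) (hb : b ∈ Q) : dcomm h b ∈ Q := by
  unfold dcomm
  have h1 := conj_inv_mem_of_mem_normalizer hh (Q.inv_mem hb)
  have : h⁻¹ * b⁻¹ * h * b = (h⁻¹ * b⁻¹ * h) * b := by group
  rw [this]
  exact Q.mul_mem h1 hb

theorem dcomm_mul {Q : Subgroup (MulAut V)} (hQc : ∀ a ∈ Q, ∀ b ∈ Q, a * b = b * a)
    {h b₀ b : MulAut V} (hh : h ∈ Subgroup.normalizer (Q : Set (MulAut V))) (hb₀ : b₀ ∈ Q)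
    (hb : b ∈ Q) : dcomm h (b₀ * b) = dcomm h b₀ * dcomm h b := by
  have hy : h⁻¹ * b⁻¹ * h ∈ Q := conj_inv_mem_of_mem_normalizer hh (Q.inv_mem hb)
  have hy₀ : h⁻¹ * b₀⁻¹ * h ∈ Q := conj_inv_mem_of_mem_normalizer hh (Q.inv_mem hb₀)
  have hc := hQc _ hy _ (Q.mul_mem hy₀ hb₀)
  unfold dcomm
  calc h⁻¹ * (b₀ * b)⁻¹ * h * (b₀ * b)
      = (h⁻¹ * b⁻¹ * h) * ((h⁻¹ * b₀⁻¹ * h) * b₀) * b := by group
    _ = ((h⁻¹ * b₀⁻¹ * h) * b₀) * (h⁻¹ * b⁻¹ * h) * b := by rw [hc]
    _ = h⁻¹ * b₀⁻¹ * h * b₀ * (h⁻¹ * b⁻¹ * h * b) := by group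

theorem dcomm_pow_succ (h b : MulAut V) (m : ℕ) :
    dcomm (h ^ (m + 1)) b = dcomm h ((h ^ m)⁻¹ * b * h ^ m) * dcomm (h ^ m) b := by
  unfold dcomm
  rw [pow_succ]
  group

/-- the image of `b ↦ dcomm (h^m) b` lies in the image of `b ↦ dcomm h b` -/
theorem exists_dcomm_pow {Q : Subgroup (MulAut V)} (hQc : ∀ a ∈ Q, ∀ b ∈ Q, a * b = b * a)
    {h : MulAut V} (hh : h ∈ Subgroup.normalizer (Q : Set (MulAut V))) :
    ∀ (m : ℕ) (b : MulAut V), b ∈ Q → ∃ b' ∈ Q, dcomm (h ^ m) b = dcomm h b' := by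
  intro m
  induction m with
  | zero =>
    intro b _
    exact ⟨1, Q.one_mem, by rw [pow_zero, dcomm_one_left, dcomm_one_right]⟩
  | succ m ih =>
    intro b hb
    obtain ⟨b', hb', hbb'⟩ := ih b hb
    have hhm : h ^ m ∈ Subgroup.normalizer (Q : Set (MulAut V)) := Subgroup.pow_mem _ hh m
    have hy : (h ^ m)⁻¹ * b * h ^ m ∈ Q := conj_inv_mem_of_mem_normalizer hhm hb
    refine ⟨(h ^ m)⁻¹ * b * h ^ m * b', Q.mul_mem hy hb', ?_⟩
    rw [dcomm_pow_succ, hbb', dcomm_mul hQc hh hy hb']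

theorem conj_dcomm (g b : MulAut V) (j : ℕ) :
    (g ^ j)⁻¹ * dcomm g b * g ^ j = dcomm g ((g ^ j)⁻¹ * b * g ^ j) := by
  unfold dcomm
  have h1 : g ^ j * g = g * g ^ j := (Commute.pow_self g j)
  have h2 : g ^ j * g * (g ^ j)⁻¹ = g := by rw [h1]; group
  have h3 : (g ^ j)⁻¹ * g⁻¹ = g⁻¹ * (g ^ j)⁻¹ := by
    rw [← mul_inv_rev, ← mul_inv_rev, h1]
  calc (g ^ j)⁻¹ * (g⁻¹ * b⁻¹ * g * b) * g ^ j
      = ((g ^ j)⁻¹ * g⁻¹) * b⁻¹ * g * b * g ^ j := by group
    _ = (g⁻¹ * (g ^ j)⁻¹) * b⁻¹ * (g ^ j * g * (g ^ j)⁻¹) * b * g ^ j := by rw [h3, h2]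
    _ = g⁻¹ * ((g ^ j)⁻¹ * b * g ^ j)⁻¹ * g * ((g ^ j)⁻¹ * b * g ^ j) := by group

/-- the "trace" `∏_{b ∈ Q} (dcomm h b) v` is fixed by every `dcomm h b₀` -/
theorem dcomm_fix_prod {Q : Subgroup (MulAut V)} [Fintype Q]
    (hQc : ∀ a ∈ Q, ∀ b ∈ Q, a * b = b * a) {h : MulAut V}
    (hh : h ∈ Subgroup.normalizer (Q : Set (MulAut V))) (v : V) {b₀ : MulAut V} (hb₀ : b₀ ∈ Q) :
    (dcomm h b₀) (∏ b : Q, (dcomm h (b : MulAut V)) v) = ∏ b : Q, (dcomm h (b : MulAut V)) v := by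
  rw [map_prod]
  have h1 : ∀ b : Q, (dcomm h b₀) ((dcomm h (b : MulAut V)) v) =
      (dcomm h (((⟨b₀, hb₀⟩ : Q) * b : Q) : MulAut V)) v := by
    intro b
    rw [Subgroup.coe_mul, dcomm_mul hQc hh hb₀ b.2]
    rfl
  simp_rw [h1]
  exact Fintype.prod_equiv (Equiv.mulLeft (⟨b₀, hb₀⟩ : Q)) _ _ (fun b => rfl)

/-- **Hall–Higman, abelian case.** -/
theorem hallHigman_abelian [Finite V] {p : ℕ} [hp : Fact p.Prime] (hV : IsPGroup p V)
    (Q : Subgroup (MulAut V)) (hQc : ∀ a ∈ Q, ∀ b ∈ Q, a * b = b * a)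
    (hQp : (Nat.card Q).Coprime p) (g : MulAut V)
    (hgQ : g ∈ Subgroup.normalizer (Q : Set (MulAut V)))
    (hN : ∀ v : V, ∏ i ∈ Finset.range p, (g ^ i) v = 1) :
    ∀ b ∈ Q, g * b = b * g := by
  classical
  have : Finite (MulAut V) := Finite.of_injective (fun e : MulAut V => (e : V → V))
    (fun a b hab => MulEquiv.ext (congrFun hab))
  have : Fintype Q := Fintype.ofFinite Q
  obtain ⟨q, hq⟩ : ∃ q, p = q + 1 := ⟨p - 1, (Nat.sub_add_cancel hp.out.one_le).symm⟩
  -- `g ^ p = 1`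
  have hgp : g ^ p = 1 := by
    apply MulEquiv.ext
    intro v
    have h1 := hN (g v)
    have h2 := hN v
    rw [hq] at h1 h2 ⊢
    rw [Finset.prod_range_succ'] at h2
    have h3 : ∏ i ∈ Finset.range (q + 1), (g ^ i) (g v) =
        ∏ i ∈ Finset.range (q + 1), (g ^ (i + 1)) v := by
      apply Finset.prod_congr rfl
      intro i _
      rw [pow_succ]; rfl
    rw [h3, Finset.prod_range_succ] at h1
    rw [pow_zero] at h2
    have h4 : (g ^ (q + 1)) v = (1 : MulAut V) v := by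
      have := h1.trans h2.symm
      exact mul_left_cancel this
    exact h4
  -- the basic relation for each `b ∈ Q`
  have hrel : ∀ b ∈ Q, ∀ v : V, ∏ i ∈ Finset.range p, (g ^ i) ((dcomm (g ^ i) b) v) = 1 := by
    intro b _ v
    have h1 : ∀ i : ℕ, (g ^ i) ((dcomm (g ^ i) b) v) = b⁻¹ ((g ^ i) (b v)) := by
      intro i
      have : g ^ i * dcomm (g ^ i) b = b⁻¹ * g ^ i * b := by unfold dcomm; group
      calc (g ^ i) ((dcomm (g ^ i) b) v) = (g ^ i * dcomm (g ^ i) b) v := rfl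
        _ = (b⁻¹ * g ^ i * b) v := by rw [this]
        _ = b⁻¹ ((g ^ i) (b v)) := rfl
    simp_rw [h1]
    rw [← map_prod, hN (b v), map_one]
  -- sum over `Q`
  intro b₀ hb₀
  set c := dcomm g b₀ with hc
  have hcQ : c ∈ Q := dcomm_mem hgQ hb₀
  have hc1 : c = 1 := by
    apply MulEquiv.ext
    intro v
    show c v = v
    have hsum : ∏ i ∈ Finset.range p, (g ^ i) (∏ b : Q, (dcomm (g ^ i) (b : MulAut V)) v) = 1 := by
      simp_rw [map_prod]
      rw [Finset.prod_comm]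
      apply Finset.prod_eq_one
      intro b _
      exact hrel b b.2 v
    rw [hq, Finset.prod_range_succ'] at hsum
    have h0 : (g ^ 0) (∏ b : Q, (dcomm (g ^ 0) (b : MulAut V)) v) = v ^ Nat.card Q := by
      simp only [pow_zero, dcomm_one_left]
      rw [Nat.card_eq_fintype_card]
      simp
    rw [h0] at hsum
    set Wp := ∏ i ∈ Finset.range q, (g ^ (i + 1)) (∏ b : Q, (dcomm (g ^ (i + 1)) (b : MulAut V)) v)
      with hWp
    -- `c` fixes `Wp`
    have hcW : c Wp = Wp := by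
      rw [hWp, map_prod]
      apply Finset.prod_congr rfl
      intro i hi
      have hi' : i + 1 < p := by
        have := Finset.mem_range.1 hi
        omega
      set j := i + 1 with hj
      set Uj := ∏ b : Q, (dcomm (g ^ j) (b : MulAut V)) v with hUj
      have hgj : g ^ j ∈ Subgroup.normalizer (Q : Set (MulAut V)) := Subgroup.pow_mem _ hgQ j
      -- `c * g^j = g^j * ((g^j)⁻¹ c g^j)`
      have e1 : c ((g ^ j) Uj) = (g ^ j) (((g ^ j)⁻¹ * c * g ^ j) Uj) := by
        have : c * g ^ j = g ^ j * ((g ^ j)⁻¹ * c * g ^ j) := by group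
        calc c ((g ^ j) Uj) = (c * g ^ j) Uj := rfl
          _ = (g ^ j * ((g ^ j)⁻¹ * c * g ^ j)) Uj := by rw [this]
          _ = _ := rfl
      rw [e1]
      congr 1
      rw [hc, conj_dcomm]
      have hb₁ : (g ^ j)⁻¹ * b₀ * g ^ j ∈ Q := conj_inv_mem_of_mem_normalizer hgj hb₀
      -- `g = (g^j)^m`
      have hcop : Nat.Coprime j p := by
        apply Nat.Coprime.symm
        rw [Nat.Prime.coprime_iff_not_dvd hp.out]
        intro hdvd
        have := Nat.le_of_dvd (by omega) hdvd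
        omega
      obtain ⟨m, -, hm⟩ := Nat.exists_mul_mod_eq_one_of_coprime hcop hp.out.one_lt
      have hgm : (g ^ j) ^ m = g := by
        rw [← pow_mul]
        have h1 : g ^ (j * m) = g ^ (j * m % p) := by
          conv_lhs => rw [← Nat.div_add_mod (j * m) p, pow_add, pow_mul, hgp, one_pow, one_mul]
        rw [h1, hm, pow_one]
      obtain ⟨b', hb', hbb'⟩ := exists_dcomm_pow hQc hgj m _ hb₁
      rw [hgm] at hbb'
      rw [hbb', hUj]
      exact dcomm_fix_prod hQc hgj v hb'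
    -- hence `c` fixes `v ^ |Q|`
    have h5 : c (v ^ Nat.card Q) = v ^ Nat.card Q := by
      have h6 : v ^ Nat.card Q = Wp⁻¹ := eq_inv_of_mul_eq_one_right hsum
      rw [h6, map_inv, hcW]
    rw [map_pow] at h5
    have hinj := (hV.powEquiv (n := Nat.card Q) hQp.symm).injective
    apply hinj
    rw [IsPGroup.powEquiv_apply, IsPGroup.powEquiv_apply]
    exact h5
  have : g⁻¹ * b₀⁻¹ * g * b₀ = 1 := hc1
  calc g * b₀ = b₀ * g * (g⁻¹ * b₀⁻¹ * g * b₀) := by group
    _ = b₀ * g := by rw [this, mul_one]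


/-! ### From an Engel condition to the norm condition -/

section Engel

open Polynomial in
theorem hh_poly_id (p : ℕ) [hp : Fact p.Prime] :
    ((X : (ZMod p)[X]) - 1) ^ (p - 1) = ∑ i ∈ Finset.range p, (X : (ZMod p)[X]) ^ i := by
  have h1 : ((X : (ZMod p)[X]) - 1) * ((X : (ZMod p)[X]) - 1) ^ (p - 1) =
      ((X : (ZMod p)[X]) - 1) * ∑ i ∈ Finset.range p, (X : (ZMod p)[X]) ^ i := by
    rw [mul_geom_sum, ← pow_succ', Nat.sub_add_cancel hp.out.one_le, sub_pow_char, one_pow]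
  have h2 : (X : (ZMod p)[X]) - 1 ≠ 0 := by
    have := X_sub_C_ne_zero (1 : ZMod p)
    simpa using this
  exact mul_left_cancel₀ h2 h1

theorem hh_end_id (p : ℕ) [hp : Fact p.Prime] {M : Type*} [AddCommGroup M] [Module (ZMod p) M]
    (a : Module.End (ZMod p) M) :
    (a - 1) ^ (p - 1) = ∑ i ∈ Finset.range p, a ^ i := by
  have := congrArg (Polynomial.aeval a) (hh_poly_id p)
  simpa using this

theorem hh_lin_engel (p : ℕ) [hp : Fact p.Prime] {M : Type*} [AddCommGroup M]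
    [Module (ZMod p) M]
    (a : M →ₗ[ZMod p] M) (hE : ∀ m : M, (fun w => w - a w)^[p - 1] m = 0) :
    ∀ m : M, ∑ i ∈ Finset.range p, (⇑a)^[i] m = 0 := by
  have h1 : ∀ (k : ℕ) (m : M), (((1 : Module.End (ZMod p) M) - a) ^ k) m =
      (fun w => w - a w)^[k] m := by
    intro k
    induction k with
    | zero => intro m; simp
    | succ k ih =>
      intro m
      rw [pow_succ, Module.End.mul_apply, ih, Function.iterate_succ_apply]
      rfl
  have h2 : ((1 : Module.End (ZMod p) M) - a) ^ (p - 1) = 0 := by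
    ext m
    rw [h1, hE]
    rfl
  have h3 : ((a : Module.End (ZMod p) M) - 1) ^ (p - 1) = 0 := by
    have : (a : Module.End (ZMod p) M) - 1 = -(1 - a) := by abel
    rw [this, neg_pow, h2, mul_zero]
  have h4 := hh_end_id p (a : Module.End (ZMod p) M)
  rw [h3] at h4
  intro m
  have h6 := congrArg (fun f : Module.End (ZMod p) M => f m) h4
  simp only [LinearMap.zero_apply, LinearMap.sum_apply] at h6
  rw [h6]
  refine Finset.sum_congr rfl (fun i _ => ?_)
  rw [Module.End.pow_apply]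

theorem hh_lin_engel' (p : ℕ) [hp : Fact p.Prime] {M : Type*} [AddCommGroup M]
    (hM : ∀ x : M, p • x = 0)
    (a : M →+ M) (hE : ∀ m : M, (fun w => w - a w)^[p - 1] m = 0) :
    ∀ m : M, ∑ i ∈ Finset.range p, (⇑a)^[i] m = 0 := by
  let _ : Module (ZMod p) M := AddCommGroup.zmodModule hM
  exact hh_lin_engel p (AddMonoidHom.toZModLinearMap p a) hE

/-- On an abelian group of exponent `p`, an automorphism `a` with `(1 - a)^(p-1) = 0`
satisfies `1 + a + ⋯ + a^(p-1) = 0`. -/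
theorem prod_pow_eq_one_of_engel {p : ℕ} [hp : Fact p.Prime]
    (hV : ∀ v : V, v ^ p = 1) (a : MulAut V)
    (hE : ∀ v : V, (fun w => w * (a w)⁻¹)^[p - 1] v = 1) :
    ∀ v : V, ∏ i ∈ Finset.range p, (a ^ i) v = 1 := by
  have hM : ∀ x : Additive V, p • x = 0 := by
    intro x
    show Additive.ofMul ((Additive.toMul x) ^ p) = 0
    rw [hV]; rfl
  have h1 : ∀ (k : ℕ) (m : Additive V),
      (fun w => w - (MonoidHom.toAdditive a.toMonoidHom) w)^[k] m =
      Additive.ofMul ((fun w => w * (a w)⁻¹)^[k] (Additive.toMul m)) := by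
    intro k
    induction k with
    | zero => intro m; rfl
    | succ k ih =>
      intro m
      rw [Function.iterate_succ_apply', ih, Function.iterate_succ_apply', sub_eq_add_neg]
      rfl
  have h2 := hh_lin_engel' p hM (MonoidHom.toAdditive a.toMonoidHom) (by
    intro m
    rw [h1, hE]; rfl)
  have h5 : ∀ (i : ℕ) (m : Additive V), (⇑(MonoidHom.toAdditive a.toMonoidHom))^[i] m
      = Additive.ofMul ((a ^ i) (Additive.toMul m)) := by
    intro i
    induction i with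
    | zero => intro m; rfl
    | succ i ih =>
      intro m
      rw [Function.iterate_succ_apply', ih, pow_succ']
      rfl
  intro v
  have h6 := h2 (Additive.ofMul v)
  simp_rw [h5] at h6
  rw [← ofMul_prod] at h6
  exact (Additive.ofMul.injective h6)

/-- **Hall–Higman, abelian case, Engel form.** If `g` normalizes an abelian `p'`-group `Q` of
automorphisms of a finite abelian group `V` of exponent `p` and `(1 - g)^(p-1) = 0` on `V`,
then `g` centralizes `Q`. -/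
theorem engel_centralizes [Finite V] {p : ℕ} [hp : Fact p.Prime] (hV : ∀ v : V, v ^ p = 1)
    (Q : Subgroup (MulAut V)) (hQc : ∀ a ∈ Q, ∀ b ∈ Q, a * b = b * a)
    (hQp : (Nat.card Q).Coprime p) (g : MulAut V)
    (hgQ : g ∈ Subgroup.normalizer (Q : Set (MulAut V)))
    (hE : ∀ v : V, (fun w => w * (g w)⁻¹)^[p - 1] v = 1) :
    ∀ b ∈ Q, g * b = b * g := by
  have hVp : IsPGroup p V := fun v => ⟨1, by rw [pow_one, hV]⟩
  exact hallHigman_abelian hVp Q hQc hQp g hgQ (prod_pow_eq_one_of_engel hV g hE)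

end Engel

end Cfsg.Agent.Lib.H10
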