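import Mathlib
import Cfsg.Prelude.Def_Transfer
import Cfsg.Prelude.Def_PLocal
import Cfsg.Prelude.Def_LocalEven
import Cfsg.Agent.Lib.H10.HallHigmanAb
import Cfsg.Agent.Lib.H1.PCore
import Cfsg.Agent.Lib.H1.CoprimeSylow
import Cfsg.Agent.Lib.H19.MinNonPClosed
import Cfsg.Agent.Lib.L0.TransferPC

/-! Engel-type elements on chief factors (helper10): in a group whose Sylow `p`-subgroup is
maximal and whose quotient by `O_p` has a normal `p`-complement, a `p`-element `g` outside `O_p`
cannot satisfy `[X, g; p-1] ≤ Y` and `[X, g] ≰ Y` on a chief factor `X / Y` below `O_p`. -/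

set_option autoImplicit false

namespace Cfsg.Agent.Lib.H10

open Cfsg
open scoped commutatorElement

section FP

variable {H : Type*} [Group H] {V : Type*} [CommGroup V] [Finite V] {p : ℕ} [hp : Fact p.Prime]

/-- Fixed-point lemma: on an irreducible module `V` that is a `p`-group, a normal subgroup `S`
fixing every vector fixed by a `p`-subgroup `R` acts trivially. -/
theorem le_ker_of_fixed (hVp : IsPGroup p V) (ρ : H →* MulAut V)
    (hirr : ∀ U : Subgroup V, (∀ (h : H) (u : V), u ∈ U → ρ h u ∈ U) → U = ⊥ ∨ U = ⊤)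
    (R : Subgroup H) (hR : IsPGroup p R) (S : Subgroup H) [hS : S.Normal]
    (hRS : ∀ v : V, (∀ r ∈ R, ρ r v = v) → ∀ s ∈ S, ρ s v = v) : S ≤ ρ.ker := by
  let F : Subgroup V :=
    { carrier := {v | ∀ s ∈ S, ρ s v = v}
      one_mem' := fun s _ => map_one _
      mul_mem' := by
        intro a b ha hb s hs
        rw [map_mul, ha s hs, hb s hs]
      inv_mem' := by
        intro a ha s hs
        rw [map_inv, ha s hs] }
  have hFmem : ∀ v : V, v ∈ F ↔ ∀ s ∈ S, ρ s v = v := fun v => Iff.rfl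
  have hFinv : ∀ (h : H) (u : V), u ∈ F → ρ h u ∈ F := by
    intro h u hu s hs
    have h1 : h⁻¹ * s * h ∈ S := by
      have := hS.conj_mem s hs h⁻¹
      simpa using this
    have h2 : s * h = h * (h⁻¹ * s * h) := by group
    calc ρ s (ρ h u) = (ρ (s * h)) u := by rw [map_mul]; rfl
      _ = (ρ (h * (h⁻¹ * s * h))) u := by rw [h2]
      _ = ρ h (ρ (h⁻¹ * s * h) u) := by rw [map_mul]; rfl
      _ = ρ h u := by rw [hu _ h1]
  rcases hirr F hFinv with h0 | h0
  · -- `F = ⊥`
    by_cases hsub : Subsingleton V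
    · intro s _
      rw [MonoidHom.mem_ker]
      apply MulEquiv.ext
      intro v
      exact Subsingleton.elim _ _
    · exfalso
      rw [not_subsingleton_iff_nontrivial] at hsub
      have hpV : p ∣ Nat.card V := by
        obtain ⟨k, hk⟩ := hVp.exists_card_eq
        have hk0 : k ≠ 0 := by
          intro hk0
          rw [hk0, pow_zero] at hk
          have := Finite.one_lt_card (α := V)
          omega
        rw [hk]
        exact dvd_pow_self p hk0
      letI : MulAction R V := MulAction.compHom V (ρ.comp R.subtype)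
      have hsm : ∀ (r : R) (v : V), r • v = ρ (r : H) v := fun _ _ => rfl
      have h1 : (1 : V) ∈ MulAction.fixedPoints R V := by
        intro r
        rw [hsm, map_one]
      obtain ⟨b, hb, hb1⟩ := hR.exists_fixed_point_of_prime_dvd_card_of_fixed_point V hpV h1
      have hbF : b ∈ F := by
        rw [hFmem]
        apply hRS
        intro r hr
        have := hb ⟨r, hr⟩
        rwa [hsm] at this
      rw [h0, Subgroup.mem_bot] at hbF
      exact hb1 hbF.symm
  · intro s hs
    rw [MonoidHom.mem_ker]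
    apply MulEquiv.ext
    intro v
    have hv : v ∈ F := by rw [h0]; exact Subgroup.mem_top v
    exact hv s hs

end FP

section Structure

variable {L : Type*} [Group L] [Finite L] {p : ℕ} [hp : Fact p.Prime]

/-- With a maximal Sylow `p`-subgroup `T` complemented by the normal subgroup `K`, the only
`T`-invariant subgroups of `K` are `⊥` and `K`. -/
theorem eq_bot_or_eq_of_le_normalizer (T : Sylow p L) (hT : IsCoatom (T : Subgroup L))
    (K : Subgroup L) (hK : K.IsComplement' (T : Subgroup L)) (M : Subgroup L) (hMK : M ≤ K)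
    (hTM : (T : Subgroup L) ≤ Subgroup.normalizer (M : Set L)) : M = ⊥ ∨ M = K := by
  have hdisj : ∀ x : L, x ∈ K → x ∈ (T : Subgroup L) → x = 1 := by
    intro x hxK hxT
    have := hK.disjoint.le_bot (Subgroup.mem_inf.2 ⟨hxK, hxT⟩)
    exact Subgroup.mem_bot.1 this
  have hMT : M ≤ (T : Subgroup L) → M = ⊥ := by
    intro h
    rw [eq_bot_iff]
    intro x hx
    rw [Subgroup.mem_bot]
    exact hdisj x (hMK hx) (h hx)
  rcases hTM.eq_or_lt with h1 | h1
  · left
    apply hMT
    rw [h1]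
    exact Subgroup.le_normalizer
  · have hMn : M.Normal := Subgroup.normalizer_eq_top_iff.1 (hT.2 _ h1)
    rcases (le_sup_left : (T : Subgroup L) ≤ (T : Subgroup L) ⊔ M).eq_or_lt with h2 | h2
    · left
      apply hMT
      rw [h2]
      exact le_sup_right
    · right
      have h3 := hT.2 _ h2
      apply le_antisymm hMK
      intro k hk
      have hk' : k ∈ (T : Subgroup L) ⊔ M := by rw [h3]; exact Subgroup.mem_top k
      obtain ⟨t, ht, m, hm, rfl⟩ := Subgroup.mem_sup_of_normal_right.1 hk'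
      have htK : t ∈ K := by
        have := K.mul_mem hk (K.inv_mem (hMK hm))
        rwa [mul_inv_cancel_right] at this
      rw [hdisj t htK ht, one_mul]
      exact hm

/-- With a maximal Sylow `p`-subgroup `T` complemented by the normal subgroup `K`, the group `K`
is abelian. -/
theorem commute_of_coatom_complement (T : Sylow p L) (hT : IsCoatom (T : Subgroup L))
    (K : Subgroup L) [hKn : K.Normal] (hK : K.IsComplement' (T : Subgroup L)) :
    ∀ a ∈ K, ∀ b ∈ K, a * b = b * a := by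
  by_cases hKbot : K = ⊥
  · intro a ha b hb
    rw [hKbot, Subgroup.mem_bot] at ha hb
    rw [ha, hb]
  have hcardK : Nat.card K ≠ 1 := fun h => hKbot (Subgroup.card_eq_one.1 h)
  have hq : (Nat.card K).minFac.Prime := Nat.minFac_prime hcardK
  haveI : Fact (Nat.card K).minFac.Prime := ⟨hq⟩
  have hqdvd : (Nat.card K).minFac ∣ Nat.card K := Nat.minFac_dvd _
  have hidx : (T : Subgroup L).index = Nat.card K := hK.index_eq_card
  have hcop : (Nat.card (T : Subgroup L)).Coprime (Nat.card K) := by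
    obtain ⟨n, hn⟩ := T.2.exists_card_eq
    rw [hn, ← hidx]
    exact Nat.Coprime.pow_left n ((Nat.Prime.coprime_iff_not_dvd hp.out).2 T.not_dvd_index)
  have hsolv : Group.IsSolvable (T : Subgroup L) := by
    haveI := T.2.isNilpotent
    exact IsNilpotent.to_isSolvable
  have hact : H1.CoprimeAction (T : Subgroup L) K :=
    ⟨by rw [Subgroup.normalizer_eq_top_iff.2 hKn]; exact le_top, hcop, Or.inl hsolv⟩
  obtain ⟨Q, hQ, hTQ⟩ := H1.coprime_exists_invariant_sylow hact (Nat.card K).minFac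
  have hQK : Q = K := by
    rcases eq_bot_or_eq_of_le_normalizer T hT K hK Q hQ.le hTQ with h | h
    · exfalso
      have h1 := hQ.card_eq
      rw [h, Subgroup.card_bot] at h1
      have h2 : 0 < (Nat.card K).factorization (Nat.card K).minFac :=
        hq.factorization_pos_of_dvd Nat.card_pos.ne' hqdvd
      have h3 : 1 < (Nat.card K).minFac ^ (Nat.card K).factorization (Nat.card K).minFac :=
        Nat.one_lt_pow h2.ne' hq.one_lt
      omega
    · exact h
  have hKq : IsPGroup (Nat.card K).minFac K := by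
    have := hQ.isPGroup
    rwa [hQK] at this
  have hmin : ∀ B : Subgroup L, B.Normal → B ≤ K → B = ⊥ ∨ B = K := by
    intro B hB hBK
    apply eq_bot_or_eq_of_le_normalizer T hT K hK B hBK
    rw [Subgroup.normalizer_eq_top_iff.2 hB]
    exact le_top
  obtain ⟨hcomm, -⟩ := H19.isElementaryAbelian_of_minimal_normal K hKq hmin
  intro a ha b hb
  have := hcomm.is_comm.comm (⟨a, ha⟩ : K) ⟨b, hb⟩
  exact congrArg Subtype.val this

end Structure


section Main

variable {L : Type*} [Group L] [Finite L] {p : ℕ} [hp : Fact p.Prime]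

/-- **Abstract Engel theorem.** `L` with `O_p(L) = 1`, a normal `p`-complement and a maximal
Sylow `p`-subgroup `T`, acting irreducibly on an elementary abelian `p`-group `V`: an element
`g ∈ T` with `(1 - g)^(p-1) = 0` on `V` is trivial or acts trivially. -/
theorem engel_coatom (hOp : ∀ M : Subgroup L, M.Normal → IsPGroup p M → M = ⊥)
    (hnpc : Cfsg.HasNormalPComplement p L) (T : Sylow p L) (hT : IsCoatom (T : Subgroup L))
    {V : Type*} [CommGroup V] [Finite V] (hV : ∀ v : V, v ^ p = 1)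
    (ρ : L →* MulAut V)
    (hirr : ∀ U : Subgroup V, (∀ (h : L) (u : V), u ∈ U → ρ h u ∈ U) → U = ⊥ ∨ U = ⊤)
    (g : L) (hgT : g ∈ (T : Subgroup L))
    (hE : ∀ v : V, (fun w => w * (ρ g w)⁻¹)^[p - 1] v = 1) :
    g = 1 ∨ ρ g = 1 := by
  obtain ⟨K, hKn, hK⟩ := L0.HasNormalPComplement.forall_sylow hnpc T
  have hVp : IsPGroup p V := fun v => ⟨1, by rw [pow_one, hV]⟩
  have hKcomm := commute_of_coatom_complement T hT K hK
  have hMn : (ρ.ker ⊓ K).Normal := Subgroup.normal_inf_normal _ _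
  rcases eq_bot_or_eq_of_le_normalizer T hT K hK (ρ.ker ⊓ K) inf_le_right
    (by rw [Subgroup.normalizer_eq_top_iff.2 hMn]; exact le_top) with h0 | h0
  · -- faithful case
    left
    have hQc : ∀ a ∈ K.map ρ, ∀ b ∈ K.map ρ, a * b = b * a := by
      rintro _ ⟨a, ha, rfl⟩ _ ⟨b, hb, rfl⟩
      rw [← map_mul, ← map_mul, hKcomm a ha b hb]
    have hQp : (Nat.card (K.map ρ)).Coprime p := by
      have h1 : Nat.card (K.map ρ) ∣ Nat.card K := Subgroup.card_map_dvd K ρ
      have h2 : ¬ p ∣ Nat.card K := by rw [← hK.index_eq_card]; exact T.not_dvd_index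
      exact Nat.Coprime.coprime_dvd_left h1 ((Nat.Prime.coprime_iff_not_dvd hp.out).2 h2).symm
    have hgQ : ρ g ∈ Subgroup.normalizer ((K.map ρ : Subgroup (MulAut V)) : Set (MulAut V)) := by
      rw [Subgroup.mem_normalizer_iff]
      intro b
      constructor
      · rintro ⟨k, hk, rfl⟩
        exact ⟨g * k * g⁻¹, hKn.conj_mem k hk g, by rw [map_mul, map_mul, map_inv]⟩
      · rintro ⟨k, hk, hkb⟩
        refine ⟨g⁻¹ * k * g, ?_, ?_⟩
        · have := hKn.conj_mem k hk g⁻¹
          simpa using this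
        · rw [map_mul, map_mul, map_inv, hkb]
          group
    have hcent := engel_centralizes hV (K.map ρ) hQc hQp (ρ g) hgQ hE
    have hgK : ∀ k ∈ K, k * g = g * k := by
      intro k hk
      have h1 := hcent (ρ k) ⟨k, hk, rfl⟩
      have h2 : g * k * g⁻¹ * k⁻¹ ∈ ρ.ker ⊓ K := by
        refine Subgroup.mem_inf.2 ⟨?_, K.mul_mem (hKn.conj_mem k hk g) (K.inv_mem hk)⟩
        rw [MonoidHom.mem_ker, map_mul, map_mul, map_mul, map_inv, map_inv, h1]
        group
      rw [h0, Subgroup.mem_bot] at h2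
      calc k * g = (g * k * g⁻¹ * k⁻¹)⁻¹ * (g * k) := by group
        _ = g * k := by rw [h2, inv_one, one_mul]
    have hCn : (Subgroup.centralizer (K : Set L)).Normal := Subgroup.normal_centralizer
    have hDn : ((T : Subgroup L) ⊓ Subgroup.centralizer (K : Set L)).Normal := by
      refine ⟨fun d hd x => ?_⟩
      have hx : x ∈ K ⊔ (T : Subgroup L) := by rw [hK.sup_eq_top]; exact Subgroup.mem_top x
      obtain ⟨k, hk, t, ht, rfl⟩ := Subgroup.mem_sup_of_normal_left.1 hx
      obtain ⟨hdT, hdC⟩ := Subgroup.mem_inf.1 hd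
      have h1 : t * d * t⁻¹ ∈ Subgroup.centralizer (K : Set L) := hCn.conj_mem d hdC t
      have h2 : t * d * t⁻¹ ∈ (T : Subgroup L) :=
        (T : Subgroup L).mul_mem ((T : Subgroup L).mul_mem ht hdT) ((T : Subgroup L).inv_mem ht)
      have h3 : k * (t * d * t⁻¹) = (t * d * t⁻¹) * k := Subgroup.mem_centralizer_iff.1 h1 k hk
      have h4 : k * t * d * (k * t)⁻¹ = t * d * t⁻¹ := by
        calc k * t * d * (k * t)⁻¹ = k * (t * d * t⁻¹) * k⁻¹ := by group
          _ = t * d * t⁻¹ := by rw [h3]; group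
      rw [h4]
      exact Subgroup.mem_inf.2 ⟨h2, h1⟩
    have hDp : IsPGroup p ((T : Subgroup L) ⊓ Subgroup.centralizer (K : Set L) : Subgroup L) :=
      T.2.to_le inf_le_left
    have hD := hOp _ hDn hDp
    have hgD : g ∈ (T : Subgroup L) ⊓ Subgroup.centralizer (K : Set L) :=
      Subgroup.mem_inf.2 ⟨hgT, Subgroup.mem_centralizer_iff.2 (fun k hk => hgK k hk)⟩
    rw [hD, Subgroup.mem_bot] at hgD
    exact hgD
  · -- `K` acts trivially
    right
    have hKker : K ≤ ρ.ker := by rw [← h0]; exact inf_le_left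
    have htop : (⊤ : Subgroup L) ≤ ρ.ker := by
      apply le_ker_of_fixed hVp ρ hirr (T : Subgroup L) T.2 ⊤
      intro v hv s _
      have hs : s ∈ K ⊔ (T : Subgroup L) := by rw [hK.sup_eq_top]; exact Subgroup.mem_top s
      obtain ⟨k, hk, t, ht, rfl⟩ := Subgroup.mem_sup_of_normal_left.1 hs
      have h1 : ρ k = 1 := MonoidHom.mem_ker.1 (hKker hk)
      rw [map_mul, h1, one_mul]
      exact hv t ht
    exact MonoidHom.mem_ker.1 (htop (Subgroup.mem_top g))

end Main


section Chief

variable {H : Type*} [Group H] [Finite H] {p : ℕ} [hp : Fact p.Prime]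

/-- `O_p(H / O_p(H)) = 1` -/
theorem eq_bot_of_normal_isPGroup_quotient_pCore (M : Subgroup (H ⧸ Cfsg.pCore p H))
    (hM : M.Normal) (hMp : IsPGroup p M) : M = ⊥ := by
  have hP := H1.pCore_isPGroup p H
  have hker : IsPGroup p (QuotientGroup.mk' (Cfsg.pCore p H)).ker := by
    rw [QuotientGroup.ker_mk']; exact hP
  have h1 : IsPGroup p (M.comap (QuotientGroup.mk' (Cfsg.pCore p H))) :=
    hMp.comap_of_ker_isPGroup _ hker
  have h2 : (M.comap (QuotientGroup.mk' (Cfsg.pCore p H))).Normal := hM.comap _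
  have h3 := H1.le_pCore h2 h1
  rw [eq_bot_iff]
  intro x hx
  obtain ⟨h, rfl⟩ := QuotientGroup.mk'_surjective _ x
  have h4 : h ∈ Cfsg.pCore p H := h3 hx
  rw [Subgroup.mem_bot]
  exact (QuotientGroup.eq_one_iff h).2 h4

omit [Finite H] hp in
theorem isCoatom_map_mk' {N : Subgroup H} [N.Normal] {T : Subgroup H} (hNT : N ≤ T)
    (hT : IsCoatom T) : IsCoatom (T.map (QuotientGroup.mk' N)) := by
  have hsurj := QuotientGroup.mk'_surjective N
  have hcm : (T.map (QuotientGroup.mk' N)).comap (QuotientGroup.mk' N) = T := by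
    rw [QuotientGroup.comap_map_mk', sup_eq_right.2 hNT]
  refine ⟨fun h => hT.1 ?_, fun b hb => ?_⟩
  · rw [← hcm, h, Subgroup.comap_top]
  · have h1 : T ≤ b.comap (QuotientGroup.mk' N) := by
      rw [← hcm]
      exact Subgroup.comap_mono hb.le
    rcases h1.eq_or_lt with h2 | h2
    · exfalso
      apply hb.ne
      rw [← Subgroup.map_comap_eq_self_of_surjective hsurj b, ← h2]
    · have h3 := hT.2 _ h2
      rw [← Subgroup.map_comap_eq_self_of_surjective hsurj b, h3,
        Subgroup.map_top_of_surjective _ hsurj]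

open scoped IsMulCommutative in
/-- **The Engel condition on a chief factor is contradictory** when the Sylow `p`-subgroup is
maximal and `H / O_p(H)` has a normal `p`-complement. -/
theorem false_of_engel_chief (hquot : Cfsg.HasNormalPComplement p (H ⧸ Cfsg.pCore p H))
    (T : Sylow p H) (hT : IsCoatom (T : Subgroup H)) (g : H) (hgT : g ∈ (T : Subgroup H))
    (hgP : g ∉ Cfsg.pCore p H) (X Y : Subgroup H) (hXY : Cfsg.IsChiefFactor X Y)
    (hXP : X ≤ Cfsg.pCore p H)
    (hE : Cfsg.iterCommutator X (Subgroup.zpowers g) (p - 1) ≤ Y)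
    (hne : ¬ ⁅X, Subgroup.zpowers g⁆ ≤ Y) : False := by
  obtain ⟨hlt, hXn, hYn, hmin⟩ := hXY
  haveI := hYn
  haveI := hXn
  have hπs := QuotientGroup.mk'_surjective Y
  have hNn : (X.map (QuotientGroup.mk' Y)).Normal := hXn.map _ hπs
  have hPp := H1.pCore_isPGroup p H
  have hNp : IsPGroup p (X.map (QuotientGroup.mk' Y)) := (hPp.to_le hXP).map _
  have hcmX : (X.map (QuotientGroup.mk' Y)).comap (QuotientGroup.mk' Y) = X := by
    rw [QuotientGroup.comap_map_mk', sup_eq_right.2 hlt.le]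
  have hminN : ∀ B : Subgroup (H ⧸ Y), B.Normal → B ≤ X.map (QuotientGroup.mk' Y) →
      B = ⊥ ∨ B = X.map (QuotientGroup.mk' Y) := by
    intro B hB hBN
    have h1 : (B.comap (QuotientGroup.mk' Y)).Normal := hB.comap _
    have h2 : Y ≤ B.comap (QuotientGroup.mk' Y) := by
      intro y hy
      rw [Subgroup.mem_comap]
      have : (QuotientGroup.mk' Y) y = 1 := (QuotientGroup.eq_one_iff y).2 hy
      rw [this]; exact B.one_mem
    have h3 : B.comap (QuotientGroup.mk' Y) ≤ X := by
      rw [← hcmX]; exact Subgroup.comap_mono hBN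
    rcases hmin _ h1 h2 h3 with h4 | h4
    · left
      rw [← Subgroup.map_comap_eq_self_of_surjective hπs B, h4, QuotientGroup.map_mk'_self]
    · right
      rw [← Subgroup.map_comap_eq_self_of_surjective hπs B, h4]
  obtain ⟨hcomm, hexp⟩ := H19.isElementaryAbelian_of_minimal_normal _ hNp hminN
  haveI : IsMulCommutative ↥(X.map (QuotientGroup.mk' Y)) := hcomm
  have hV : ∀ v : ↥(X.map (QuotientGroup.mk' Y)), v ^ p = 1 := by
    intro v
    apply Subtype.ext
    rw [Subgroup.coe_pow, hexp v v.2]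
    rfl
  have hVp : IsPGroup p ↥(X.map (QuotientGroup.mk' Y)) := hNp
  -- the action
  let ρ₀ : H →* MulAut ↥(X.map (QuotientGroup.mk' Y)) :=
    (MulAut.conjNormal (H := X.map (QuotientGroup.mk' Y))).comp (QuotientGroup.mk' Y)
  have hρ₀ : ∀ (h : H) (v : ↥(X.map (QuotientGroup.mk' Y))),
      ((ρ₀ h v : ↥(X.map (QuotientGroup.mk' Y))) : H ⧸ Y) =
        (QuotientGroup.mk' Y h) * (v : H ⧸ Y) * (QuotientGroup.mk' Y h)⁻¹ := by
    intro h v
    exact MulAut.conjNormal_apply _ _
  have hirr₀ : ∀ U : Subgroup ↥(X.map (QuotientGroup.mk' Y)),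
      (∀ (h : H) (u : ↥(X.map (QuotientGroup.mk' Y))), u ∈ U → ρ₀ h u ∈ U) → U = ⊥ ∨ U = ⊤ := by
    intro U hU
    have h1 : (U.map (X.map (QuotientGroup.mk' Y)).subtype).Normal := by
      refine ⟨?_⟩
      rintro _ ⟨u, hu, rfl⟩ x
      obtain ⟨h, rfl⟩ := hπs x
      refine ⟨ρ₀ h u, hU h u hu, ?_⟩
      exact hρ₀ h u
    rcases hminN _ h1 (Subgroup.map_subtype_le _) with h2 | h2
    · left
      rwa [Subgroup.map_eq_bot_iff_of_injective _ (Subgroup.subtype_injective _)] at h2
    · right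
      rw [eq_top_iff]
      intro v _
      have hv : (v : H ⧸ Y) ∈ U.map (X.map (QuotientGroup.mk' Y)).subtype := by
        rw [h2]; exact v.2
      obtain ⟨u, hu, huv⟩ := hv
      have : u = v := Subtype.ext huv
      rw [← this]; exact hu
  -- `O_p(H)` acts trivially
  have hPker : Cfsg.pCore p H ≤ ρ₀.ker :=
    le_ker_of_fixed hVp ρ₀ hirr₀ (Cfsg.pCore p H) hPp (Cfsg.pCore p H) (fun v hv => hv)
  let ρ : H ⧸ Cfsg.pCore p H →* MulAut ↥(X.map (QuotientGroup.mk' Y)) :=
    QuotientGroup.lift (Cfsg.pCore p H) ρ₀ hPker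
  have hρ : ∀ h : H, ρ (QuotientGroup.mk' (Cfsg.pCore p H) h) = ρ₀ h := fun h => rfl
  have hirr : ∀ U : Subgroup ↥(X.map (QuotientGroup.mk' Y)),
      (∀ (h : H ⧸ Cfsg.pCore p H) (u : ↥(X.map (QuotientGroup.mk' Y))), u ∈ U → ρ h u ∈ U) →
        U = ⊥ ∨ U = ⊤ := by
    intro U hU
    apply hirr₀ U
    intro h u hu
    rw [← hρ]
    exact hU _ u hu
  -- the Sylow subgroup of the quotient
  have hPT : Cfsg.pCore p H ≤ (T : Subgroup H) := H1.pCore_le_sylow T
  have hT'p : IsPGroup p ((T : Subgroup H).map (QuotientGroup.mk' (Cfsg.pCore p H))) :=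
    T.2.map _
  have hT'i : ¬ p ∣ ((T : Subgroup H).map (QuotientGroup.mk' (Cfsg.pCore p H))).index :=
    fun h => T.not_dvd_index (h.trans (Subgroup.index_map_dvd (T : Subgroup H)
      (QuotientGroup.mk'_surjective _)))
  have hT'c : ((hT'p.toSylow hT'i : Sylow p (H ⧸ Cfsg.pCore p H)) :
      Subgroup (H ⧸ Cfsg.pCore p H)) = (T : Subgroup H).map (QuotientGroup.mk' (Cfsg.pCore p H)) :=
    hT'p.toSylow_coe hT'i
  have hT'coatom : IsCoatom ((hT'p.toSylow hT'i : Sylow p (H ⧸ Cfsg.pCore p H)) :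
      Subgroup (H ⧸ Cfsg.pCore p H)) := by
    rw [hT'c]
    exact isCoatom_map_mk' hPT hT
  have hgT' : QuotientGroup.mk' (Cfsg.pCore p H) g ∈
      ((hT'p.toSylow hT'i : Sylow p (H ⧸ Cfsg.pCore p H)) : Subgroup (H ⧸ Cfsg.pCore p H)) := by
    rw [hT'c]
    exact Subgroup.mem_map_of_mem _ hgT
  -- the Engel condition
  have hiter : ∀ (k : ℕ) (v : ↥(X.map (QuotientGroup.mk' Y))),
      ∃ y ∈ Cfsg.iterCommutator X (Subgroup.zpowers g) k,
        (((fun w => w * (ρ₀ g w)⁻¹)^[k] v : ↥(X.map (QuotientGroup.mk' Y))) : H ⧸ Y) =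
          QuotientGroup.mk' Y y := by
    intro k
    induction k with
    | zero =>
      intro v
      obtain ⟨x, hx, hxv⟩ := v.2
      exact ⟨x, hx, hxv.symm⟩
    | succ k ih =>
      intro v
      obtain ⟨y, hy, hyv⟩ := ih v
      refine ⟨⁅y, g⁆, Subgroup.commutator_mem_commutator hy (Subgroup.mem_zpowers g), ?_⟩
      rw [Function.iterate_succ_apply']
      rw [Subgroup.coe_mul, Subgroup.coe_inv, hρ₀, hyv, commutatorElement_def]
      simp only [map_mul, map_inv, mul_inv_rev, inv_inv]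
      group
  have hE' : ∀ v : ↥(X.map (QuotientGroup.mk' Y)),
      (fun w => w * (ρ (QuotientGroup.mk' (Cfsg.pCore p H) g) w)⁻¹)^[p - 1] v = 1 := by
    intro v
    rw [hρ]
    obtain ⟨y, hy, hyv⟩ := hiter (p - 1) v
    apply Subtype.ext
    rw [hyv]
    exact (QuotientGroup.eq_one_iff y).2 (hE hy)
  rcases engel_coatom eq_bot_of_normal_isPGroup_quotient_pCore hquot (hT'p.toSylow hT'i)
    hT'coatom hV ρ hirr _ hgT' hE' with h | h
  · exact hgP ((QuotientGroup.eq_one_iff g).1 h)
  · apply hne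
    rw [hρ] at h
    rw [Subgroup.commutator_le]
    intro x hx z hz
    obtain ⟨n, rfl⟩ := Subgroup.mem_zpowers_iff.1 hz
    have h1 : ρ₀ (g ^ n) = 1 := by rw [map_zpow, h, one_zpow]
    have h2 := hρ₀ (g ^ n) ⟨QuotientGroup.mk' Y x, Subgroup.mem_map_of_mem _ hx⟩
    rw [h1] at h2
    rw [← QuotientGroup.eq_one_iff, commutatorElement_def]
    change (QuotientGroup.mk' Y (x * g ^ n * x⁻¹ * (g ^ n)⁻¹)) = 1
    have h3 : QuotientGroup.mk' Y (x * g ^ n * x⁻¹ * (g ^ n)⁻¹) =
        QuotientGroup.mk' Y x *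
          (QuotientGroup.mk' Y (g ^ n) * QuotientGroup.mk' Y x * (QuotientGroup.mk' Y (g ^ n))⁻¹)⁻¹ := by
      simp only [map_mul, map_inv, mul_inv_rev, inv_inv]
      group
    rw [h3, ← h2]
    simp

end Chief

end Cfsg.Agent.Lib.H10
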