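import Mathlib
import Cfsg.Prelude.Def_Solvable
import Cfsg.Agent.Lib.H10.Conj
import Cfsg.Agent.Lib.H10.SylowIn
import Cfsg.Agent.Lib.H10.ConjFamily
import Cfsg.Agent.Lib.H1.PCore
import Cfsg.Agent.Lib.H10.LocalGlobalGen

/-! The trace argument (helper10): a `p`-element outside `O_p(H)` whose norm vanishes on an
abelian module cannot exist when a vector has a stabilizer containing every proper overgroup
of a Sylow subgroup and vanishing orbit product. -/

set_option autoImplicit false

namespace Cfsg.Agent.Lib.H10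

open Cfsg

section OrbitProd

variable {A : Type*} [CommGroup A]

/-- If the norm `1 + a + ⋯ + a^(p-1)` vanishes then `a^p = 1`. -/
theorem pow_prime_apply_of_norm {p : ℕ} (a : MulAut A)
    (hN : ∀ v : A, ∏ i ∈ Finset.range p, (a ^ i) v = 1) (v : A) : (a ^ p) v = v := by
  have h1 := hN v
  have h2 := hN (a v)
  have h3 : ∀ i : ℕ, (a ^ i) (a v) = (a ^ (i + 1)) v := by
    intro i
    rw [pow_succ]; rfl
  simp_rw [h3] at h2
  have h4 := Finset.prod_range_succ' (fun i => (a ^ i) v) p
  have h5 := Finset.prod_range_succ (fun i => (a ^ i) v) p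
  rw [h4] at h5
  rw [h1, h2, pow_zero, one_mul, one_mul] at h5
  exact h5.symm

/-- iterates of an automorphism as powers -/
theorem iterate_eq_pow_apply (a : MulAut A) (i : ℕ) (v : A) : (⇑a)^[i] v = (a ^ i) v := by
  induction i generalizing v with
  | zero => rfl
  | succ i ih => rw [Function.iterate_succ_apply', ih, pow_succ']; rfl

open scoped Classical in
/-- **Orbit lemma.** If the norm of `a` vanishes, then the product over an `a`-invariant finite
set equals the product over its `a`-fixed points. -/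
theorem prod_eq_prod_filter_fixed {p : ℕ} [hp : Fact p.Prime] (a : MulAut A)
    (hN : ∀ v : A, ∏ i ∈ Finset.range p, (a ^ i) v = 1) :
    ∀ (n : ℕ) (F : Finset A), (∀ v ∈ F, a v ∈ F) → (F.filter (fun v => a v ≠ v)).card = n →
      ∏ v ∈ F, v = ∏ v ∈ F.filter (fun v => a v = v), v := by
  intro n
  induction n using Nat.strong_induction_on with
  | _ n ih =>
    intro F hF hn
    by_cases h0 : ∀ v ∈ F, a v = v
    · rw [Finset.filter_true_of_mem h0]
    · push Not at h0
      obtain ⟨v₀, hv₀F, hv₀⟩ := h0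
      have hper : Function.IsPeriodicPt (⇑a) p v₀ := by
        show (⇑a)^[p] v₀ = v₀
        rw [iterate_eq_pow_apply]
        exact pow_prime_apply_of_norm a hN v₀
      have hmin : Function.minimalPeriod (⇑a) v₀ = p := by
        have hd := hper.minimalPeriod_dvd
        rcases (Nat.dvd_prime hp.out).1 hd with h | h
        · exfalso
          apply hv₀
          have := Function.isPeriodicPt_minimalPeriod (⇑a) v₀
          rw [h] at this
          exact this
        · exact h
      have hinj : Set.InjOn (fun i : ℕ => (a ^ i) v₀) (Finset.range p : Set ℕ) := by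
        have := Function.iterate_injOn_Iio_minimalPeriod (f := ⇑a) (x := v₀)
        rw [hmin] at this
        intro i hi j hj hij
        simp only [← iterate_eq_pow_apply] at hij
        exact this (by simpa using hi) (by simpa using hj) hij
      set O : Finset A := (Finset.range p).image (fun i : ℕ => (a ^ i) v₀) with hO
      have hOF : O ⊆ F := by
        intro w hw
        rw [hO, Finset.mem_image] at hw
        obtain ⟨i, -, rfl⟩ := hw
        induction i with
        | zero => simpa using hv₀F
        | succ i ihi =>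
          rw [pow_succ']
          exact hF _ ihi
      have hOprod : ∏ v ∈ O, v = 1 := by
        rw [hO, Finset.prod_image hinj]
        exact hN v₀
      have hOa : ∀ w ∈ O, a w ∈ O := by
        intro w hw
        rw [hO, Finset.mem_image] at hw ⊢
        obtain ⟨i, hi, rfl⟩ := hw
        rw [Finset.mem_range] at hi
        by_cases hip : i + 1 < p
        · exact ⟨i + 1, Finset.mem_range.2 hip, by rw [pow_succ']; rfl⟩
        · have : i + 1 = p := by omega
          refine ⟨0, Finset.mem_range.2 hp.out.pos, ?_⟩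
          rw [pow_zero]
          have h2 : a ((a ^ i) v₀) = (a ^ (i + 1)) v₀ := by rw [pow_succ']; rfl
          rw [h2, this, pow_prime_apply_of_norm a hN]
          rfl
      have hOa' : ∀ w, a w ∈ O → w ∈ O := by
        intro w hw
        -- `a` restricted to `O` is injective hence surjective
        have hsurj : Finset.image (⇑a) O = O := by
          apply Finset.eq_of_subset_of_card_le
          · intro x hx
            rw [Finset.mem_image] at hx
            obtain ⟨y, hy, rfl⟩ := hx
            exact hOa y hy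
          · rw [Finset.card_image_of_injective _ a.injective]
        rw [← hsurj, Finset.mem_image] at hw
        obtain ⟨y, hy, hyw⟩ := hw
        rw [← a.injective hyw]
        exact hy
      have hOfix : ∀ w ∈ O, a w ≠ w := by
        intro w hw hfix
        rw [hO, Finset.mem_image] at hw
        obtain ⟨i, -, rfl⟩ := hw
        apply hv₀
        have h2 : a ((a ^ i) v₀) = (a ^ i) (a v₀) := by
          have : a * a ^ i = a ^ i * a := (Commute.self_pow a i)
          calc a ((a ^ i) v₀) = (a * a ^ i) v₀ := rfl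
            _ = (a ^ i * a) v₀ := by rw [this]
            _ = (a ^ i) (a v₀) := rfl
        rw [h2] at hfix
        exact (a ^ i).injective hfix
      have hF' : ∀ v ∈ F \ O, a v ∈ F \ O := by
        intro v hv
        rw [Finset.mem_sdiff] at hv ⊢
        exact ⟨hF v hv.1, fun h => hv.2 (hOa' v h)⟩
      have hv₀O : v₀ ∈ O := by
        rw [hO, Finset.mem_image]
        exact ⟨0, Finset.mem_range.2 hp.out.pos, by simp⟩
      have hcard : ((F \ O).filter (fun v => a v ≠ v)).card < n := by
        rw [← hn]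
        apply Finset.card_lt_card
        rw [Finset.ssubset_iff_of_subset]
        · refine ⟨v₀, ?_, ?_⟩
          · rw [Finset.mem_filter]; exact ⟨hv₀F, hv₀⟩
          · rw [Finset.mem_filter, Finset.mem_sdiff]
            intro h
            exact h.1.2 hv₀O
        · intro v hv
          rw [Finset.mem_filter, Finset.mem_sdiff] at hv
          rw [Finset.mem_filter]
          exact ⟨hv.1.1, hv.2⟩
      have h1 := ih _ hcard (F \ O) hF' rfl
      have h2 : ∏ v ∈ F, v = (∏ v ∈ F \ O, v) * ∏ v ∈ O, v := (Finset.prod_sdiff hOF).symm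
      rw [h2, hOprod, mul_one, h1]
      congr 1
      ext v
      simp only [Finset.mem_filter, Finset.mem_sdiff]
      constructor
      · rintro ⟨⟨h3, -⟩, h4⟩
        exact ⟨h3, h4⟩
      · rintro ⟨h3, h4⟩
        exact ⟨⟨h3, fun h => hOfix v h h4⟩, h4⟩

end OrbitProd

section PG

variable {H : Type*} [Group H]

/-- a set stable under conjugation by the elements of a subgroup `K` generates a subgroup
normalized by `K` -/
theorem le_normalizer_closure_of_conj_mem {K : Subgroup H} {C : Set H}
    (hC : ∀ k ∈ K, ∀ c ∈ C, k * c * k⁻¹ ∈ C) :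
    K ≤ Subgroup.normalizer ((Subgroup.closure C : Subgroup H) : Set H) := by
  have key : ∀ k ∈ K, ∀ r ∈ Subgroup.closure C, k * r * k⁻¹ ∈ Subgroup.closure C := by
    intro k hk r hr
    have h1 : Subgroup.closure C ≤ (Subgroup.closure C).comap (MulAut.conj k).toMonoidHom := by
      rw [Subgroup.closure_le]
      intro c hc
      show (MulAut.conj k) c ∈ Subgroup.closure C
      rw [MulAut.conj_apply]
      exact Subgroup.subset_closure (hC k hk c hc)
    have := h1 hr
    rw [Subgroup.mem_comap] at this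
    simpa [MulAut.conj_apply] using this
  intro k hk
  rw [Subgroup.mem_normalizer_iff]
  intro r
  constructor
  · exact key k hk r
  · intro h
    have := key k⁻¹ (K.inv_mem hk) _ h
    simpa [mul_assoc] using this

/-- **Generation lemma in `p`-groups.** Let the `p`-group `R` be generated by a set `C` stable
under conjugation by `R`, and let `D < R` be generated by `C ∩ D`. Then some element of `C`
outside `D` normalizes `D`. -/
theorem exists_mem_normalizer_not_mem [Finite H] {p : ℕ} [Fact p.Prime] (R : Subgroup H)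
    (hR : IsPGroup p R) (C : Set H) (hCR : Subgroup.closure C = R)
    (hinv : ∀ r ∈ R, ∀ c ∈ C, r * c * r⁻¹ ∈ C) (D : Subgroup H) (hDR : D < R)
    (hD : D = Subgroup.closure (C ∩ (D : Set H))) :
    ∃ c ∈ C, c ∈ Subgroup.normalizer (D : Set H) ∧ c ∉ D := by
  obtain ⟨E, hDE, hEmax⟩ := Finite.exists_le_maximal
    (p := fun E : Subgroup H => D ≤ E ∧ E ≤ R ∧ C ∩ (E : Set H) ⊆ (D : Set H)) (a := D)
    ⟨le_rfl, hDR.le, Set.inter_subset_right⟩
  obtain ⟨⟨-, hER, hCE⟩, hmax⟩ := hEmax
  have hEne : E ≠ R := by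
    intro h
    apply hDR.not_ge
    rw [← hCR, Subgroup.closure_le]
    intro c hc
    apply hCE
    refine ⟨hc, ?_⟩
    rw [h, ← hCR]
    exact Subgroup.subset_closure hc
  have hElt : E < R := lt_of_le_of_ne hER hEne
  have hlt := lt_inf_normalizer_of_lt hR hElt
  have hnot : ¬ (D ≤ R ⊓ Subgroup.normalizer (E : Set H) ∧ R ⊓ Subgroup.normalizer (E : Set H) ≤ R ∧
      C ∩ ((R ⊓ Subgroup.normalizer (E : Set H) : Subgroup H) : Set H) ⊆ (D : Set H)) := by
    intro h
    exact hlt.not_ge (hmax h hlt.le)
  have hsub : ¬ C ∩ ((R ⊓ Subgroup.normalizer (E : Set H) : Subgroup H) : Set H) ⊆ (D : Set H) := by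
    intro h
    exact hnot ⟨hDE.trans hlt.le, inf_le_left, h⟩
  rw [Set.not_subset] at hsub
  obtain ⟨c, ⟨hcC, hcRN⟩, hcD⟩ := hsub
  refine ⟨c, hcC, ?_, hcD⟩
  have hcR : c ∈ R := hcRN.1
  have hcN : c ∈ Subgroup.normalizer (E : Set H) := hcRN.2
  have hCDE : C ∩ (D : Set H) = C ∩ (E : Set H) := by
    apply Set.Subset.antisymm
    · exact Set.inter_subset_inter_right _ (SetLike.coe_subset_coe.2 hDE)
    · intro y hy
      exact ⟨hy.1, hCE hy⟩
  have hz : Subgroup.zpowers c ≤
      Subgroup.normalizer ((Subgroup.closure (C ∩ (D : Set H)) : Subgroup H) : Set H) := by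
    apply le_normalizer_closure_of_conj_mem
    intro k hk y hy
    rw [hCDE] at hy ⊢
    have hkR : k ∈ R := (Subgroup.zpowers_le.2 hcR) hk
    have hkN : k ∈ Subgroup.normalizer (E : Set H) := (Subgroup.zpowers_le.2 hcN) hk
    refine ⟨hinv k hkR y hy.1, ?_⟩
    exact (Subgroup.mem_normalizer_iff.1 hkN y).1 hy.2
  rw [← hD] at hz
  exact hz (Subgroup.mem_zpowers c)

end PG

section TR

variable {H : Type*} [Group H] {A : Type*} [CommGroup A]

theorem map_pow_conj_apply (ρ : H →* MulAut A) (h g : H) (i : ℕ) (v : A) :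
    ((ρ (h * g * h⁻¹)) ^ i) v = ρ h ((ρ g ^ i) ((ρ h)⁻¹ v)) := by
  have h1 : ρ (h * g * h⁻¹) = ρ h * ρ g * (ρ h)⁻¹ := by
    rw [map_mul, map_mul, map_inv]
  rw [h1, conj_pow]
  rfl

theorem norm_conj_eq_one (ρ : H →* MulAut A) {p : ℕ} (g : H)
    (hnorm : ∀ v : A, ∏ i ∈ Finset.range p, (ρ g ^ i) v = 1) (h : H) (v : A) :
    ∏ i ∈ Finset.range p, (ρ (h * g * h⁻¹) ^ i) v = 1 := by
  simp_rw [map_pow_conj_apply]
  rw [← map_prod, hnorm, map_one]

/-- the stabilizer of a vector under `ρ` -/
def fixer (ρ : H →* MulAut A) (v : A) : Subgroup H where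
  carrier := {h | ρ h v = v}
  one_mem' := by show ρ 1 v = v; rw [map_one]; rfl
  mul_mem' := by
    intro a b ha hb
    show ρ (a * b) v = v
    rw [map_mul]
    show ρ a (ρ b v) = v
    rw [hb, ha]
  inv_mem' := by
    intro a ha
    show ρ a⁻¹ v = v
    rw [map_inv]
    exact (MulEquiv.symm_apply_eq (ρ a)).2 ha.symm

theorem mem_fixer {ρ : H →* MulAut A} {v : A} {h : H} : h ∈ fixer ρ v ↔ ρ h v = v := Iff.rfl

open scoped Classical in
/-- **The trace argument.** -/
theorem trace_argument [Finite H] {p : ℕ} [hp : Fact p.Prime]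
    (S : Sylow p H) (M : Subgroup H) (hM : M ≠ ⊤) (hSM : (S : Subgroup H) ≤ M)
    (hmax : ∀ L : Subgroup H, (S : Subgroup H) ≤ L → L ≠ ⊤ → L ≤ M)
    (ρ : H →* MulAut A) (u : A) (hstab : ∀ h : H, ρ h u = u ↔ h ∈ M)
    (g : H) (hgS : g ∈ (S : Subgroup H)) (hgP : g ∉ Cfsg.pCore p H)
    (hnorm : ∀ v : A, ∏ i ∈ Finset.range p, (ρ g ^ i) v = 1) : False := by
  haveI : Fintype H := Fintype.ofFinite H
  set Ω : Finset A := Finset.univ.image (fun h : H => ρ h u) with hΩdef
  have hΩ : ∀ v, v ∈ Ω ↔ ∃ h : H, ρ h u = v := by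
    intro v
    rw [hΩdef, Finset.mem_image]
    simp
  -- the conjugates of `g` in `S`
  set C : Set H := {c | c ∈ (S : Subgroup H) ∧ ∃ h : H, c = h * g * h⁻¹} with hC
  set R : Subgroup H := Subgroup.closure C with hR
  have hgC : g ∈ C := ⟨hgS, 1, by simp⟩
  have hCS : C ⊆ (S : Subgroup H) := fun c hc => hc.1
  have hRS : R ≤ (S : Subgroup H) := (Subgroup.closure_le _).2 hCS
  have hRp : IsPGroup p R := S.2.to_le hRS
  have hgR : g ∈ R := Subgroup.subset_closure hgC
  have hnormC : ∀ c ∈ C, ∀ v : A, ∏ i ∈ Finset.range p, (ρ c ^ i) v = 1 := by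
    rintro c ⟨-, h, rfl⟩ v
    exact norm_conj_eq_one ρ g hnorm h v
  have hCconj : ∀ s ∈ (S : Subgroup H), ∀ c ∈ C, s * c * s⁻¹ ∈ C := by
    rintro s hs c ⟨hcS, h, rfl⟩
    refine ⟨(S : Subgroup H).mul_mem ((S : Subgroup H).mul_mem hs hcS) ((S : Subgroup H).inv_mem hs),
      s * h, ?_⟩
    group
  have hSN : (S : Subgroup H) ≤ Subgroup.normalizer (R : Set H) :=
    le_normalizer_closure_of_conj_mem hCconj
  have hNne : Subgroup.normalizer (R : Set H) ≠ ⊤ := by
    intro htop
    have hRn : R.Normal := Subgroup.normalizer_eq_top_iff.1 htop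
    exact hgP (H1.le_pCore hRn hRp hgR)
  have hNM : Subgroup.normalizer (R : Set H) ≤ M := hmax _ hSN hNne
  have hSi : ¬ p ∣ (S : Subgroup H).relIndex M := not_dvd_relIndex_of_sylow_le S hSM
  -- fixed points of `R` on the orbit
  have hfix : ∀ v ∈ Ω, (∀ r ∈ R, ρ r v = v) → v = u := by
    intro v hv hfv
    obtain ⟨h, rfl⟩ := (hΩ v).1 hv
    have h1 : R.map (MulAut.conj h⁻¹).toMonoidHom ≤ M := by
      rintro _ ⟨r, hr, rfl⟩
      show (MulAut.conj h⁻¹) r ∈ M
      rw [MulAut.conj_apply, inv_inv, ← hstab]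
      have := hfv r hr
      calc ρ (h⁻¹ * r * h) u = (ρ h)⁻¹ (ρ r (ρ h u)) := by
            rw [map_mul, map_mul, map_inv]; rfl
        _ = (ρ h)⁻¹ (ρ h u) := by rw [this]
        _ = u := by simp
    obtain ⟨m, hmM, hmS⟩ := exists_mem_map_conj_le_of_sylowIn S.2 hSM hSi
      (isPGroup_map_conj h⁻¹ hRp) h1
    rw [map_conj_map_conj] at hmS
    -- `k = m h⁻¹` conjugates `R` into `S`, hence normalizes `R`
    have h2 : R.map (MulAut.conj (m * h⁻¹)).toMonoidHom ≤ R := by
      rw [hR, MonoidHom.map_closure, Subgroup.closure_le]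
      rintro _ ⟨c, hc, rfl⟩
      apply Subgroup.subset_closure
      refine ⟨hmS (Subgroup.mem_map_of_mem _ (Subgroup.subset_closure hc)), ?_⟩
      obtain ⟨-, k, rfl⟩ := hc
      refine ⟨m * h⁻¹ * k, ?_⟩
      show (MulAut.conj (m * h⁻¹)) (k * g * k⁻¹) = _
      rw [MulAut.conj_apply]
      group
    have h3 : R.map (MulAut.conj (m * h⁻¹)).toMonoidHom = R :=
      eq_of_le_of_card_map_conj h2 le_rfl
    have h4 : m * h⁻¹ ∈ M := hNM (mem_normalizer_iff_map_conj.2 h3)
    have h5 : h ∈ M := by
      have := M.mul_mem (M.inv_mem h4) hmM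
      simpa using this
    exact (hstab h).2 h5
  -- the partial orbit products
  set s : Subgroup H → A := fun D => ∏ v ∈ Ω.filter (fun v => ∀ d ∈ D, ρ d v = v), v with hs
  have hsbot : s ⊥ = ∏ v ∈ Ω, v := by
    rw [hs]
    simp only
    rw [Finset.filter_true_of_mem]
    intro v _ d hd
    rw [Subgroup.mem_bot.1 hd, map_one]; rfl
  have huΩ : u ∈ Ω := (hΩ u).2 ⟨1, by rw [map_one]; rfl⟩
  have hsR : s R = u := by
    rw [hs]
    simp only
    have : Ω.filter (fun v => ∀ d ∈ R, ρ d v = v) = {u} := by
      ext v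
      rw [Finset.mem_filter, Finset.mem_singleton]
      constructor
      · rintro ⟨h1, h2⟩
        exact hfix v h1 h2
      · rintro rfl
        exact ⟨huΩ, fun d hd => (hstab d).2 (hSM (hRS hd))⟩
    rw [this, Finset.prod_singleton]
  -- one step
  have hstep : ∀ (D : Subgroup H) (c : H), c ∈ C → c ∈ Subgroup.normalizer (D : Set H) →
      s (D ⊔ Subgroup.zpowers c) = s D := by
    intro D c hc hcN
    rw [hs]
    simp only
    have h1 := prod_eq_prod_filter_fixed (ρ c) (hnormC c hc) _
      (Ω.filter (fun v => ∀ d ∈ D, ρ d v = v)) (by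
        intro v hv
        rw [Finset.mem_filter] at hv ⊢
        obtain ⟨hvΩ, hvD⟩ := hv
        constructor
        · obtain ⟨h, rfl⟩ := (hΩ v).1 hvΩ
          exact (hΩ _).2 ⟨c * h, by rw [map_mul]; rfl⟩
        · intro d hd
          have h2 : c⁻¹ * d * c ∈ D := by
            have := (Subgroup.mem_normalizer_iff.1 (Subgroup.inv_mem _ hcN) d).1 hd
            simpa using this
          have h3 : d * c = c * (c⁻¹ * d * c) := by group
          calc ρ d (ρ c v) = ρ (d * c) v := by rw [map_mul]; rfl
            _ = ρ (c * (c⁻¹ * d * c)) v := by rw [h3]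
            _ = ρ c (ρ (c⁻¹ * d * c) v) := by rw [map_mul]; rfl
            _ = ρ c v := by rw [hvD _ h2]) rfl
    rw [h1, Finset.filter_filter]
    apply Finset.prod_congr _ (fun _ _ => rfl)
    ext v
    simp only [Finset.mem_filter]
    constructor
    · rintro ⟨hvΩ, hv⟩
      refine ⟨hvΩ, fun d hd => hv d (le_sup_left (a := D) hd), ?_⟩
      exact hv c (le_sup_right (a := D) (Subgroup.mem_zpowers c))
    · rintro ⟨hvΩ, hvD, hvc⟩
      refine ⟨hvΩ, ?_⟩
      -- the stabilizer of `v` contains `D` and `c`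
      have hle : D ⊔ Subgroup.zpowers c ≤ fixer ρ v := by
        rw [sup_le_iff, Subgroup.zpowers_le]
        exact ⟨hvD, hvc⟩
      exact fun d hd => hle hd
  -- climbing the chain
  have hchain : ∀ (n : ℕ) (D : Subgroup H), D ≤ R → D = Subgroup.closure (C ∩ (D : Set H)) →
      Nat.card R - Nat.card D = n → s D = s R := by
    intro n
    induction n using Nat.strong_induction_on with
    | _ n ih =>
      intro D hDR hDgen hn
      by_cases hDeq : D = R
      · rw [hDeq]
      · have hlt : D < R := lt_of_le_of_ne hDR hDeq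
        obtain ⟨c, hcC, hcN, hcD⟩ := exists_mem_normalizer_not_mem R hRp C rfl
          (fun r hr c hc => hCconj r (hRS hr) c hc) D hlt hDgen
        have hcR : c ∈ R := Subgroup.subset_closure hcC
        have hD'R : D ⊔ Subgroup.zpowers c ≤ R := sup_le hDR (Subgroup.zpowers_le.2 hcR)
        have hD'lt : D < D ⊔ Subgroup.zpowers c := by
          refine lt_of_le_of_ne le_sup_left ?_
          intro h
          apply hcD
          rw [h]
          exact le_sup_right (a := D) (Subgroup.mem_zpowers c)
        have hD'gen : D ⊔ Subgroup.zpowers c =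
            Subgroup.closure (C ∩ ((D ⊔ Subgroup.zpowers c : Subgroup H) : Set H)) := by
          apply le_antisymm
          · rw [sup_le_iff, Subgroup.zpowers_le]
            constructor
            · conv_lhs => rw [hDgen]
              apply Subgroup.closure_mono
              exact Set.inter_subset_inter_right _ (SetLike.coe_subset_coe.2 le_sup_left)
            · apply Subgroup.subset_closure
              exact ⟨hcC, le_sup_right (a := D) (Subgroup.mem_zpowers c)⟩
          · rw [Subgroup.closure_le]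
            exact Set.inter_subset_right
        have hc1 := card_lt_card_of_lt hD'lt
        have hc2 := Subgroup.card_le_of_le hD'R
        rw [← hstep D c hcC hcN]
        exact ih (Nat.card R - Nat.card (D ⊔ Subgroup.zpowers c : Subgroup H)) (by omega) _
          hD'R hD'gen rfl
  have hbotgen : (⊥ : Subgroup H) = Subgroup.closure (C ∩ ((⊥ : Subgroup H) : Set H)) := by
    symm
    rw [eq_bot_iff, Subgroup.closure_le]
    exact Set.inter_subset_right
  have h1 := hchain _ ⊥ bot_le hbotgen rfl
  rw [hsbot, hsR] at h1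
  apply hM
  rw [eq_top_iff]
  intro h _
  rw [← hstab, ← h1, map_prod]
  have himg : Ω.image (⇑(ρ h)) = Ω := by
    ext v
    rw [Finset.mem_image]
    constructor
    · rintro ⟨w, hw, rfl⟩
      obtain ⟨k, rfl⟩ := (hΩ w).1 hw
      exact (hΩ _).2 ⟨h * k, by rw [map_mul]; rfl⟩
    · intro hv
      obtain ⟨k, rfl⟩ := (hΩ v).1 hv
      refine ⟨ρ (h⁻¹ * k) u, (hΩ _).2 ⟨_, rfl⟩, ?_⟩
      rw [map_mul, map_inv]
      simp
  conv_rhs => rw [← himg]
  rw [Finset.prod_image (fun a _ b _ hab => (ρ h).injective hab)]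

end TR

end Cfsg.Agent.Lib.H10
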