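import Mathlib
import Cfsg.Prelude.Def_Transfer
import Cfsg.Prelude.Def_PLocal
import Cfsg.Prelude.Def_LocalEven
import Cfsg.Agent.Lib.H10.EngelChief
import Cfsg.Agent.Lib.H10.TraceArg

/-! The module attached to a chief factor below `O_p(H)` (helper10). -/

set_option autoImplicit false

namespace Cfsg.Agent.Lib.H10

open Cfsg
open scoped commutatorElement IsMulCommutative

universe u

variable {H : Type u} [Group H] [Finite H] {p : ℕ} [hp : Fact p.Prime]

/-- **The module of a chief factor.** For a chief factor `X / Y` of `H` with `X ≤ O_p(H)` there is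
an abelian group `A` of exponent `p` with an action `ρ` of `H` and an equivariant surjection
`π : X → A` with kernel `Y`, such that every `g` with `[X, g; p - 1] ≤ Y` has vanishing norm
on `A`. -/
theorem exists_chief_module (X Y : Subgroup H) (hXY : Cfsg.IsChiefFactor X Y)
    (hXP : X ≤ Cfsg.pCore p H) :
    ∃ (A : Type u) (_ : CommGroup A) (ρ : H →* MulAut A) (π : ↥X →* A),
      Function.Surjective π ∧ (∀ x : ↥X, π x = 1 ↔ (x : H) ∈ Y) ∧
      (∀ (h : H) (x : ↥X) (hx : h * (x : H) * h⁻¹ ∈ X), π ⟨h * (x : H) * h⁻¹, hx⟩ = ρ h (π x)) ∧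
      (∀ v : A, v ^ p = 1) ∧
      (∀ g : H, Cfsg.iterCommutator X (Subgroup.zpowers g) (p - 1) ≤ Y →
        ∀ v : A, ∏ i ∈ Finset.range p, (ρ g ^ i) v = 1) := by
  obtain ⟨hlt, hXn, hYn, hmin⟩ := hXY
  haveI := hYn
  haveI := hXn
  have hπs := QuotientGroup.mk'_surjective Y
  have hNn : (X.map (QuotientGroup.mk' Y)).Normal := hXn.map _ hπs
  have hPp := H1.pCore_isPGroup p H
  have hNp : IsPGroup p (X.map (QuotientGroup.mk' Y)) := (hPp.to_le hXP).map _
  have hcmX : (X.map (QuotientGroup.mk' Y)).comap (QuotientGroup.mk' Y) = X := by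
    rw [QuotientGroup.comap_map_mk', sup_eq_right.2 hlt.le]
  have hminN : ∀ B : Subgroup (H ⧸ Y), B.Normal → B ≤ X.map (QuotientGroup.mk' Y) →
      B = ⊥ ∨ B = X.map (QuotientGroup.mk' Y) := by
    intro B hB hBN
    have h1 : (B.comap (QuotientGroup.mk' Y)).Normal := hB.comap _
    have h2 : Y ≤ B.comap (QuotientGroup.mk' Y) := by
      intro y hy
      rw [Subgroup.mem_comap]
      have : (QuotientGroup.mk' Y) y = 1 := (QuotientGroup.eq_one_iff y).2 hy
      rw [this]; exact B.one_mem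
    have h3 : B.comap (QuotientGroup.mk' Y) ≤ X := by
      rw [← hcmX]; exact Subgroup.comap_mono hBN
    rcases hmin _ h1 h2 h3 with h4 | h4
    · left
      rw [← Subgroup.map_comap_eq_self_of_surjective hπs B, h4, QuotientGroup.map_mk'_self]
    · right
      rw [← Subgroup.map_comap_eq_self_of_surjective hπs B, h4]
  obtain ⟨hcomm, hexp⟩ := H19.isElementaryAbelian_of_minimal_normal _ hNp hminN
  haveI : IsMulCommutative ↥(X.map (QuotientGroup.mk' Y)) := hcomm
  have hV : ∀ v : ↥(X.map (QuotientGroup.mk' Y)), v ^ p = 1 := by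
    intro v
    apply Subtype.ext
    rw [Subgroup.coe_pow, hexp v v.2]
    rfl
  let ρ₀ : H →* MulAut ↥(X.map (QuotientGroup.mk' Y)) :=
    (MulAut.conjNormal (H := X.map (QuotientGroup.mk' Y))).comp (QuotientGroup.mk' Y)
  have hρ₀ : ∀ (h : H) (v : ↥(X.map (QuotientGroup.mk' Y))),
      ((ρ₀ h v : ↥(X.map (QuotientGroup.mk' Y))) : H ⧸ Y) =
        (QuotientGroup.mk' Y h) * (v : H ⧸ Y) * (QuotientGroup.mk' Y h)⁻¹ := by
    intro h v
    exact MulAut.conjNormal_apply _ _
  let π₀ : ↥X →* ↥(X.map (QuotientGroup.mk' Y)) :=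
    ((QuotientGroup.mk' Y).comp X.subtype).codRestrict (X.map (QuotientGroup.mk' Y))
      (fun x => Subgroup.mem_map_of_mem _ x.2)
  have hπ₀ : ∀ x : ↥X, ((π₀ x : ↥(X.map (QuotientGroup.mk' Y))) : H ⧸ Y) =
      QuotientGroup.mk' Y (x : H) := fun x => rfl
  have hiter : ∀ (g : H) (k : ℕ) (v : ↥(X.map (QuotientGroup.mk' Y))),
      ∃ y ∈ Cfsg.iterCommutator X (Subgroup.zpowers g) k,
        (((fun w => w * (ρ₀ g w)⁻¹)^[k] v : ↥(X.map (QuotientGroup.mk' Y))) : H ⧸ Y) =
          QuotientGroup.mk' Y y := by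
    intro g k
    induction k with
    | zero =>
      intro v
      obtain ⟨x, hx, hxv⟩ := v.2
      exact ⟨x, hx, hxv.symm⟩
    | succ k ih =>
      intro v
      obtain ⟨y, hy, hyv⟩ := ih v
      refine ⟨⁅y, g⁆, Subgroup.commutator_mem_commutator hy (Subgroup.mem_zpowers g), ?_⟩
      rw [Function.iterate_succ_apply']
      rw [Subgroup.coe_mul, Subgroup.coe_inv, hρ₀, hyv, commutatorElement_def]
      simp only [map_mul, map_inv, mul_inv_rev, inv_inv]
      group
  refine ⟨↥(X.map (QuotientGroup.mk' Y)), inferInstance, ρ₀, π₀, ?_, ?_, ?_, hV, ?_⟩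
  · rintro ⟨_, x, hx, rfl⟩
    exact ⟨⟨x, hx⟩, rfl⟩
  · intro x
    rw [← QuotientGroup.eq_one_iff (N := Y), ← QuotientGroup.mk'_apply, ← hπ₀]
    constructor
    · intro h; rw [h]; rfl
    · intro h; exact Subtype.ext h
  · intro h x hx
    apply Subtype.ext
    rw [hρ₀, hπ₀, hπ₀]
    simp
  · intro g hE
    apply prod_pow_eq_one_of_engel hV (ρ₀ g)
    intro v
    obtain ⟨y, hy, hyv⟩ := hiter g (p - 1) v
    apply Subtype.ext
    rw [hyv]
    exact (QuotientGroup.eq_one_iff y).2 (hE hy)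

end Cfsg.Agent.Lib.H10
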