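import Mathlib
import Cfsg.Prelude.Def_Transfer
import Cfsg.Prelude.Def_PLocal
import Cfsg.Prelude.Def_LocalEven
import Cfsg.Agent.Lib.H10.ChiefModule

/-! Normalizing a vector so that its orbit product vanishes (helper10). -/

set_option autoImplicit false

namespace Cfsg.Agent.Lib.H10

open Cfsg
open scoped commutatorElement IsMulCommutative

section NR

variable {H : Type*} [Group H] {A : Type*} [CommGroup A]

open scoped Classical in
/-- The orbit of `x` as a finset. -/
noncomputable def orbitFinset [Fintype H] (ρ : H →* MulAut A) (x : A) : Finset A :=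
  Finset.univ.image (fun h : H => ρ h x)

theorem mem_orbitFinset [Fintype H] (ρ : H →* MulAut A) (x v : A) :
    v ∈ orbitFinset ρ x ↔ ∃ h : H, ρ h x = v := by
  classical
  unfold orbitFinset
  rw [Finset.mem_image]
  simp

open scoped Classical in
theorem image_orbitFinset [Fintype H] (ρ : H →* MulAut A) (x : A) (h : H) :
    (orbitFinset ρ x).image (⇑(ρ h)) = orbitFinset ρ x := by
  ext v
  rw [Finset.mem_image]
  constructor
  · rintro ⟨w, hw, rfl⟩
    obtain ⟨k, rfl⟩ := (mem_orbitFinset ρ x w).1 hw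
    exact (mem_orbitFinset ρ x _).2 ⟨h * k, by rw [map_mul]; rfl⟩
  · intro hv
    obtain ⟨k, rfl⟩ := (mem_orbitFinset ρ x v).1 hv
    refine ⟨ρ (h⁻¹ * k) x, (mem_orbitFinset ρ x _).2 ⟨_, rfl⟩, ?_⟩
    rw [map_mul, map_inv]
    simp

theorem map_prod_orbitFinset [Fintype H] (ρ : H →* MulAut A) (x : A) (h : H) :
    ρ h (∏ v ∈ orbitFinset ρ x, v) = ∏ v ∈ orbitFinset ρ x, v := by
  classical
  rw [map_prod]
  conv_rhs => rw [← image_orbitFinset ρ x h]
  rw [Finset.prod_image (fun a _ b _ hab => (ρ h).injective hab)]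

theorem card_orbitFinset [Fintype H] (ρ : H →* MulAut A) (x : A) :
    (orbitFinset ρ x).card = (fixer ρ x).index := by
  classical
  letI : MulAction H A := MulAction.compHom A ρ
  have h1 : MulAction.stabilizer H x = fixer ρ x := by
    ext h
    rw [MulAction.mem_stabilizer_iff, mem_fixer]
    rfl
  have h2 : MulAction.orbit H x = (orbitFinset ρ x : Set A) := by
    ext v
    rw [MulAction.mem_orbit_iff, Finset.mem_coe, mem_orbitFinset]
    rfl
  rw [← h1, MulAction.index_stabilizer, h2, Set.ncard_coe_finset]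

/-- **Normalization.** If the stabilizer of `x` has index prime to `p` and `A` has `p`-power
exponent, then `x = u c` with `c` fixed by `H` and `u` of trivial orbit product. -/
theorem exists_fixed_orbit_prod_eq_one [Fintype H] {p k : ℕ} [hp : Fact p.Prime]
    (ρ : H →* MulAut A) (hexp : ∀ b : A, b ^ (p ^ k) = 1) (x : A)
    (hidx : ¬ p ∣ (fixer ρ x).index) :
    ∃ c : A, (∀ h : H, ρ h c = c) ∧ ∏ v ∈ orbitFinset ρ (x * c⁻¹), v = 1 := by
  classical
  set n := (orbitFinset ρ x).card with hn
  set t := ∏ v ∈ orbitFinset ρ x, v with ht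
  have hcop : Nat.Coprime n (p ^ k) := by
    apply Nat.Coprime.pow_right
    rw [Nat.coprime_comm, hp.out.coprime_iff_not_dvd, hn, card_orbitFinset]
    exact hidx
  -- an inverse of `n` modulo `p ^ k`
  obtain ⟨n', hn'⟩ : ∃ n' : ℕ, ∀ b : A, b ^ (n * n') = b := by
    by_cases hk : p ^ k = 1
    · refine ⟨0, fun b => ?_⟩
      have := hexp b
      rw [hk, pow_one] at this
      rw [this, one_pow]
    · have h1 : 1 < p ^ k := lt_of_le_of_ne (Nat.one_le_pow _ _ hp.out.pos) (Ne.symm hk)
      obtain ⟨m, -, hm⟩ := Nat.exists_mul_mod_eq_one_of_coprime hcop h1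
      refine ⟨m, fun b => ?_⟩
      have h2 := Nat.div_add_mod (n * m) (p ^ k)
      rw [hm] at h2
      rw [← h2, pow_add, pow_mul, hexp, one_pow, one_mul, pow_one]
  refine ⟨t ^ n', ?_, ?_⟩
  · intro h
    rw [map_pow, ht, map_prod_orbitFinset]
  · have himg : orbitFinset ρ (x * (t ^ n')⁻¹) =
        (orbitFinset ρ x).image (fun w => w * (t ^ n')⁻¹) := by
      ext v
      rw [Finset.mem_image, mem_orbitFinset]
      have hfix : ∀ h : H, ρ h (t ^ n')⁻¹ = (t ^ n')⁻¹ := by
        intro h
        rw [map_inv, map_pow, ht, map_prod_orbitFinset]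
      constructor
      · rintro ⟨h, rfl⟩
        refine ⟨ρ h x, (mem_orbitFinset ρ x _).2 ⟨h, rfl⟩, ?_⟩
        rw [map_mul, hfix]
      · rintro ⟨w, hw, rfl⟩
        obtain ⟨h, rfl⟩ := (mem_orbitFinset ρ x w).1 hw
        exact ⟨h, by rw [map_mul, hfix]⟩
    rw [himg, Finset.prod_image (fun a _ b _ hab => mul_right_cancel hab),
      Finset.prod_mul_distrib, Finset.prod_const, ← ht, ← hn, inv_pow, ← pow_mul,
      mul_comm n' n, hn', mul_inv_cancel]

end NR

section Core

universe u

variable {H : Type u} [Group H] [Finite H] {p : ℕ} [hp : Fact p.Prime]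

/-- **Engel elements and the centre of `O_p`.** Let `M ≠ H` contain a Sylow subgroup `S` and every
proper subgroup containing `S`, and be the centralizer of an element `x ∈ Z(O_p(H))`. Then no
`g ∈ S` outside `O_p(H)` satisfies `[X, g; p - 1] ≤ Y` on all chief factors `X / Y` with
`X ≤ Z(O_p(H))`. -/
theorem false_of_engel_center (S : Sylow p H) (M : Subgroup H) (hM : M ≠ ⊤)
    (hSM : (S : Subgroup H) ≤ M)
    (hmax : ∀ L : Subgroup H, (S : Subgroup H) ≤ L → L ≠ ⊤ → L ≤ M) (x : H)
    (hxZ : x ∈ Cfsg.pCore p H ⊓ Subgroup.centralizer ((Cfsg.pCore p H : Subgroup H) : Set H))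
    (hxM : ∀ h : H, h * x * h⁻¹ = x ↔ h ∈ M) (g : H) (hgS : g ∈ (S : Subgroup H))
    (hgP : g ∉ Cfsg.pCore p H)
    (hE : ∀ U V : Subgroup H, Cfsg.IsChiefFactor U V →
      U ≤ Cfsg.pCore p H ⊓ Subgroup.centralizer ((Cfsg.pCore p H : Subgroup H) : Set H) →
      Cfsg.iterCommutator U (Subgroup.zpowers g) (p - 1) ≤ V) : False := by
  classical
  haveI : Fintype H := Fintype.ofFinite H
  haveI hPn : (Cfsg.pCore p H).Normal := H1.pCore_normal p H
  have hPp := H1.pCore_isPGroup p H
  set Zp := Cfsg.pCore p H ⊓ Subgroup.centralizer ((Cfsg.pCore p H : Subgroup H) : Set H) with hZp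
  haveI hCn : (Subgroup.centralizer ((Cfsg.pCore p H : Subgroup H) : Set H)).Normal :=
    Subgroup.normal_centralizer
  haveI hZn : Zp.Normal := Subgroup.normal_inf_normal _ _
  haveI hZc : IsMulCommutative ↥Zp := by
    refine ⟨⟨?_⟩⟩
    intro a b
    apply Subtype.ext
    have := Subgroup.mem_centralizer_iff.1 (Subgroup.mem_inf.1 b.2).2 _ (Subgroup.mem_inf.1 a.2).1
    exact this
  have hZpp : IsPGroup p ↥Zp := hPp.to_le inf_le_left
  obtain ⟨k, hk⟩ := IsPGroup.iff_card.1 hZpp
  have hexp : ∀ b : ↥Zp, b ^ (p ^ k) = 1 := by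
    intro b
    rw [← hk]
    exact pow_card_eq_one'
  let ρB : H →* MulAut ↥Zp := MulAut.conjNormal (H := Zp)
  have hρB : ∀ (h : H) (b : ↥Zp), ((ρB h b : ↥Zp) : H) = h * (b : H) * h⁻¹ :=
    fun h b => MulAut.conjNormal_apply _ _
  set xB : ↥Zp := ⟨x, hxZ⟩ with hxB
  have hfixx : fixer ρB xB = M := by
    ext h
    rw [mem_fixer, ← hxM]
    constructor
    · intro h1
      have := congrArg Subtype.val h1
      rwa [hρB] at this
    · intro h1
      apply Subtype.ext
      rw [hρB]; exact h1
  have hMidx : ¬ p ∣ M.index := fun hd =>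
    S.not_dvd_index (hd.trans (Subgroup.index_dvd_of_le hSM))
  obtain ⟨c, hcfix, hprod⟩ := exists_fixed_orbit_prod_eq_one ρB hexp xB (by rw [hfixx]; exact hMidx)
  set u : ↥Zp := xB * c⁻¹ with hu
  have hρu : ∀ h : H, ρB h u = ρB h xB * c⁻¹ := by
    intro h
    rw [hu, map_mul, map_inv, hcfix]
  have hfixu : fixer ρB u = M := by
    rw [← hfixx]
    ext h
    rw [mem_fixer, mem_fixer, hρu, hu]
    exact mul_left_inj _
  have hu1 : u ≠ 1 := by
    intro h1
    apply hM
    rw [← hfixu, eq_top_iff]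
    intro h _
    rw [mem_fixer, h1, map_one]
  set uH : H := (u : H) with huH
  have huH1 : uH ≠ 1 := fun h => hu1 (Subtype.ext h)
  set X := Subgroup.normalClosure ({uH} : Set H) with hX
  have huX : uH ∈ X := Subgroup.subset_normalClosure (Set.mem_singleton uH)
  have hXZ : X ≤ Zp := Subgroup.normalClosure_le_normal (Set.singleton_subset_iff.2 u.2)
  have hXn : X.Normal := Subgroup.normalClosure_normal
  -- a maximal normal subgroup below `X`
  obtain ⟨Y, -, hYmax⟩ := Finite.exists_le_maximal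
    (p := fun Y : Subgroup H => Y.Normal ∧ Y < X) (a := ⊥)
    ⟨inferInstance, by
      rw [bot_lt_iff_ne_bot]
      intro h0
      rw [h0, Subgroup.mem_bot] at huX
      exact huH1 huX⟩
  obtain ⟨⟨hYn, hYX⟩, hYmax'⟩ := hYmax
  have hchief : Cfsg.IsChiefFactor X Y := by
    refine ⟨hYX, hXn, hYn, ?_⟩
    intro N hN hYN hNX
    by_cases hNeq : N = X
    · exact Or.inr hNeq
    · left
      exact le_antisymm (hYmax' ⟨hN, lt_of_le_of_ne hNX hNeq⟩ hYN) hYN
  have huY : uH ∉ Y := by
    intro h
    haveI := hYn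
    have : X ≤ Y := Subgroup.normalClosure_le_normal (Set.singleton_subset_iff.2 h)
    exact hYX.not_ge this
  obtain ⟨A, instA, ρ, π, -, hπker, hπeq, -, hnormA⟩ :=
    exists_chief_module X Y hchief (hXZ.trans inf_le_left)
  set ubar : A := π ⟨uH, huX⟩ with hubar
  -- conjugates of `u`
  have hconjX : ∀ h : H, h * uH * h⁻¹ ∈ X := fun h => hXn.conj_mem uH huX h
  have hρubar : ∀ h : H, ρ h ubar = π ⟨h * uH * h⁻¹, hconjX h⟩ := by
    intro h
    rw [hubar, ← hπeq h ⟨uH, huX⟩ (hconjX h)]
  have hMfix : ∀ h ∈ M, h * uH * h⁻¹ = uH := by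
    intro h hh
    rw [← hfixu, mem_fixer] at hh
    have := congrArg Subtype.val hh
    rwa [hρB] at this
  have hstab : ∀ h : H, ρ h ubar = ubar ↔ h ∈ M := by
    intro h
    constructor
    · intro hh
      have hle : M ≤ fixer ρ ubar := by
        intro m hm
        rw [mem_fixer, hρubar]
        congr 1
        exact Subtype.ext (hMfix m hm)
      by_cases htop : fixer ρ ubar = ⊤
      · exfalso
        -- every conjugate of `u` is congruent to `u` modulo `Y`
        have hcong : ∀ h : H, uH⁻¹ * (h * uH * h⁻¹) ∈ Y := by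
          intro h
          have h1 : ρ h ubar = ubar := by
            rw [← mem_fixer, htop]; exact Subgroup.mem_top h
          rw [hρubar] at h1
          have h2 : π (⟨uH, huX⟩⁻¹ * ⟨h * uH * h⁻¹, hconjX h⟩) = 1 := by
            rw [map_mul, map_inv, h1, ← hubar, inv_mul_cancel]
          exact (hπker _).1 h2
        set n := (orbitFinset ρB u).card with hn
        have hnM : n = M.index := by rw [hn, card_orbitFinset, hfixu]
        have h3 : ∏ v ∈ orbitFinset ρB u, v = u ^ n * ∏ v ∈ orbitFinset ρB u, (u⁻¹ * v) := by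
          rw [Finset.prod_mul_distrib, Finset.prod_const, ← hn, inv_pow, mul_inv_cancel_left]
        have h4 : ∏ v ∈ orbitFinset ρB u, (u⁻¹ * v) ∈ Y.subgroupOf Zp := by
          apply Subgroup.prod_mem
          intro v hv
          obtain ⟨h, rfl⟩ := (mem_orbitFinset ρB u v).1 hv
          rw [Subgroup.mem_subgroupOf, Subgroup.coe_mul, Subgroup.coe_inv, hρB]
          exact hcong h
        have h5 : u ^ n ∈ Y.subgroupOf Zp := by
          rw [hprod] at h3
          have h6 : u ^ n = (∏ v ∈ orbitFinset ρB u, (u⁻¹ * v))⁻¹ :=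
            eq_inv_of_mul_eq_one_left h3.symm
          rw [h6]
          exact Subgroup.inv_mem _ h4
        obtain ⟨j, hj⟩ := IsPGroup.iff_orderOf.1 hZpp u
        have hcop : Nat.Coprime n (orderOf u) := by
          rw [hj]
          apply Nat.Coprime.pow_right
          rw [Nat.coprime_comm, hp.out.coprime_iff_not_dvd, hnM]
          exact hMidx
        obtain ⟨m, hm⟩ := exists_pow_eq_self_of_coprime hcop
        have h7 : u ∈ Y.subgroupOf Zp := by
          rw [← hm]
          exact Subgroup.pow_mem _ h5 m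
        exact huY h7
      · exact hmax _ (hSM.trans hle) htop hh
    · intro hh
      rw [hρubar]
      congr 1
      exact Subtype.ext (hMfix h hh)
  exact trace_argument S M hM hSM hmax ρ ubar hstab g hgS hgP (hnormA g (hE X Y hchief hXZ))

end Core

end Cfsg.Agent.Lib.H10
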