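import Mathlib
import Cfsg.Prelude.Def_Transfer
import Cfsg.Prelude.Def_PLocal
import Cfsg.Prelude.Def_LocalEven
import Cfsg.Agent.Lib.H10.TraceCore

/-! The trace argument on dual modules: homomorphisms from `O_p(H)` into a commutative `p`-group
that are invariant under every proper overgroup of a Sylow subgroup are invariant under `H`, in the
presence of an Engel element (helper10). -/

set_option autoImplicit false

namespace Cfsg.Agent.Lib.H10

open Cfsg
open scoped commutatorElement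

section Dual

variable (A Q : Type*) [Group A] [CommGroup Q]

/-- the dual action of the automorphisms of `A` on the homomorphisms `A →* Q` -/
def dualAct : MulAut A →* MulAut (A →* Q) where
  toFun σ :=
    { toFun := fun θ => θ.comp (σ⁻¹ : MulAut A).toMonoidHom
      invFun := fun θ => θ.comp σ.toMonoidHom
      left_inv := by
        intro θ
        ext a
        simp
      right_inv := by
        intro θ
        ext a
        simp
      map_mul' := fun θ θ' => by
        ext a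
        rfl }
  map_one' := by
    ext θ a
    simp
  map_mul' := fun σ τ => by
    ext θ a
    simp [mul_inv_rev]

variable {A Q}

@[simp] theorem dualAct_apply (σ : MulAut A) (θ : A →* Q) (a : A) :
    dualAct A Q σ θ a = θ (σ⁻¹ a) := rfl

theorem dualAct_pow_apply (σ : MulAut A) (i : ℕ) (θ : A →* Q) (a : A) :
    ((dualAct A Q σ) ^ i) θ a = θ ((σ⁻¹ ^ i) a) := by
  rw [← map_pow, dualAct_apply, inv_pow]

end Dual

section DualCore

universe u v

variable {H : Type u} [Group H] [Finite H] {p : ℕ} [hp : Fact p.Prime]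

/-- **Invariance of homomorphisms on `O_p(H)`.** Let `ψ` be a homomorphism from a Sylow subgroup `S`
into a commutative group of `p`-power exponent which is trivial on `S ∩ L'` for every proper
subgroup `L ≥ S`. If some `g ∈ S` outside `O_p(H)` satisfies `[X, g; p - 1] ≤ Y` on all chief
factors `X / Y` below `O_p(H)`, then `ψ` is trivial on `[O_p(H), H]`. -/
theorem commutator_pCore_le_ker_of_engel (S : Sylow p H) {Q : Type v} [CommGroup Q] {k : ℕ}
    (hQ : ∀ q : Q, q ^ (p ^ k) = 1) (ψ : ↥(S : Subgroup H) →* Q)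
    (hψ : ∀ L : Subgroup H, L ≠ ⊤ → (S : Subgroup H) ≤ L →
      ∀ (s : H) (hs : s ∈ (S : Subgroup H)), s ∈ ⁅L, L⁆ → ψ ⟨s, hs⟩ = 1)
    (g : H) (hgS : g ∈ (S : Subgroup H)) (hgP : g ∉ Cfsg.pCore p H)
    (hE : ∀ U V : Subgroup H, Cfsg.IsChiefFactor U V → U ≤ Cfsg.pCore p H →
      Cfsg.iterCommutator U (Subgroup.zpowers g) (p - 1) ≤ V) :
    ⁅Cfsg.pCore p H, (⊤ : Subgroup H)⁆ ≤ (ψ.ker).map (S : Subgroup H).subtype := by
  classical
  haveI : Fintype H := Fintype.ofFinite H
  set P := Cfsg.pCore p H with hP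
  haveI hPn : P.Normal := H1.pCore_normal p H
  have hPp : IsPGroup p P := H1.pCore_isPGroup p H
  have hPS : P ≤ (S : Subgroup H) := H1.pCore_le_sylow S
  have hStop : (S : Subgroup H) ≠ ⊤ := by
    intro htop
    apply hgP
    have hSn : (S : Subgroup H).Normal := by rw [htop]; infer_instance
    exact H1.le_pCore hSn S.2 hgS
  set θ : ↥P →* Q := ψ.comp (Subgroup.inclusion hPS) with hθ
  let ρB : H →* MulAut (↥P →* Q) := (dualAct ↥P Q).comp (MulAut.conjNormal (H := P))
  have hconj : ∀ (h : H) (y : ↥P), h⁻¹ * (y : H) * h ∈ P := by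
    intro h y
    have := hPn.conj_mem y y.2 h⁻¹
    simpa using this
  have hρB : ∀ (h : H) (θ₁ : ↥P →* Q) (y : ↥P), ρB h θ₁ y = θ₁ ⟨h⁻¹ * (y : H) * h, hconj h y⟩ := by
    intro h θ₁ y
    show θ₁ ((MulAut.conjNormal (H := P) h)⁻¹ y) = _
    congr 1
    apply Subtype.ext
    rw [← map_inv, MulAut.conjNormal_apply, inv_inv]
  set M := fixer ρB θ with hMdef
  have hmemM : ∀ h : H, h ∈ M ↔ ∀ y : ↥P, θ ⟨h⁻¹ * (y : H) * h, hconj h y⟩ = θ y := by
    intro h
    rw [hMdef, mem_fixer]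
    constructor
    · intro h1 y
      rw [← hρB, h1]
    · intro h1
      ext y
      rw [hρB, h1]
  -- proper overgroups of `S` fix `θ`
  have hmax : ∀ L : Subgroup H, (S : Subgroup H) ≤ L → L ≠ ⊤ → L ≤ M := by
    intro L hSL hL l hl
    rw [hmemM]
    intro y
    have hyS : (y : H) ∈ (S : Subgroup H) := hPS y.2
    have hy'S : l⁻¹ * (y : H) * l ∈ (S : Subgroup H) := hPS (hconj l y)
    have h1 : (y : H)⁻¹ * (l⁻¹ * (y : H) * l) ∈ ⁅L, L⁆ := by
      have : (y : H)⁻¹ * (l⁻¹ * (y : H) * l) = ⁅(y : H)⁻¹, l⁻¹⁆ := by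
        rw [commutatorElement_def]; group
      rw [this]
      exact Subgroup.commutator_mem_commutator (L.inv_mem (hSL hyS)) (L.inv_mem hl)
    have h2 := hψ L hL hSL _ ((S : Subgroup H).mul_mem ((S : Subgroup H).inv_mem hyS) hy'S) h1
    have h3 : (⟨(y : H)⁻¹ * (l⁻¹ * (y : H) * l), (S : Subgroup H).mul_mem
        ((S : Subgroup H).inv_mem hyS) hy'S⟩ : ↥(S : Subgroup H)) =
        (⟨(y : H), hyS⟩)⁻¹ * ⟨l⁻¹ * (y : H) * l, hy'S⟩ := rfl
    rw [h3, map_mul, map_inv, inv_mul_eq_one] at h2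
    show ψ (Subgroup.inclusion hPS ⟨l⁻¹ * (y : H) * l, hconj l y⟩) = ψ (Subgroup.inclusion hPS y)
    exact h2.symm
  have hSM : (S : Subgroup H) ≤ M := hmax _ le_rfl hStop
  -- it suffices that `M = ⊤`
  by_cases hM : M = ⊤
  · rw [Subgroup.commutator_le]
    intro x hx h _
    have hh : h⁻¹ ∈ M := by rw [hM]; exact Subgroup.mem_top _
    have h1 := (hmemM h⁻¹).1 hh ⟨x⁻¹, P.inv_mem hx⟩
    have hxS : x ∈ (S : Subgroup H) := hPS hx
    have hcS : h * x⁻¹ * h⁻¹ ∈ (S : Subgroup H) := by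
      have := hPS (hconj h⁻¹ ⟨x⁻¹, P.inv_mem hx⟩)
      simpa using this
    refine ⟨⟨x, hxS⟩ * ⟨h * x⁻¹ * h⁻¹, hcS⟩, ?_, ?_⟩
    · rw [SetLike.mem_coe, MonoidHom.mem_ker, map_mul]
      have h2 : ψ ⟨h * x⁻¹ * h⁻¹, hcS⟩ = ψ ⟨x⁻¹, (S : Subgroup H).inv_mem hxS⟩ := by
        have e1 : θ ⟨h⁻¹⁻¹ * x⁻¹ * h⁻¹, hconj h⁻¹ ⟨x⁻¹, P.inv_mem hx⟩⟩ =
            ψ ⟨h * x⁻¹ * h⁻¹, hcS⟩ := by
          show ψ (Subgroup.inclusion hPS _) = _
          congr 1
          apply Subtype.ext
          simp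
        rw [← e1, h1]
        rfl
      rw [h2]
      have : (⟨x⁻¹, (S : Subgroup H).inv_mem hxS⟩ : ↥(S : Subgroup H)) = (⟨x, hxS⟩)⁻¹ := rfl
      rw [this, map_inv, mul_inv_cancel]
    · show x * (h * x⁻¹ * h⁻¹) = ⁅x, h⁆
      rw [commutatorElement_def]; group
  exfalso
  have hMidx : ¬ p ∣ M.index := fun hd =>
    S.not_dvd_index (hd.trans (Subgroup.index_dvd_of_le hSM))
  have hexp : ∀ b : (↥P →* Q), b ^ (p ^ k) = 1 := by
    intro b
    ext y
    rw [MonoidHom.pow_apply, hQ]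
    rfl
  obtain ⟨c, hcfix, hprod⟩ := exists_fixed_orbit_prod_eq_one ρB hexp θ hMidx
  set θ' : ↥P →* Q := θ * c⁻¹ with hθ'
  have hρθ' : ∀ h : H, ρB h θ' = ρB h θ * c⁻¹ := by
    intro h
    rw [hθ', map_mul, map_inv, hcfix]
  have hfixθ' : fixer ρB θ' = M := by
    ext h
    rw [hMdef, mem_fixer, mem_fixer, hρθ', hθ']
    exact mul_left_inj _
  have hθ'1 : θ' ≠ 1 := by
    intro h1
    apply hM
    rw [← hfixθ', eq_top_iff]
    intro h _
    rw [mem_fixer, h1, map_one]
  -- a minimal normal subgroup on which `θ'` is nontrivial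
  obtain ⟨X, -, hXmin⟩ := Finite.exists_le_minimal
    (p := fun X : Subgroup H => X.Normal ∧ X ≤ P ∧ ∃ y : ↥P, (y : H) ∈ X ∧ θ' y ≠ 1) (a := P)
    ⟨hPn, le_rfl, by
      by_contra hno
      push Not at hno
      apply hθ'1
      ext y
      exact hno y y.2⟩
  obtain ⟨⟨hXn, hXP, y₀, hy₀X, hy₀⟩, hXmin'⟩ := hXmin
  have hX1 : X ≠ ⊥ := by
    intro h0
    rw [h0, Subgroup.mem_bot] at hy₀X
    apply hy₀
    have : y₀ = 1 := Subtype.ext hy₀X
    rw [this, map_one]
  obtain ⟨Y, -, hYmax⟩ := Finite.exists_le_maximal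
    (p := fun Y : Subgroup H => Y.Normal ∧ Y < X) (a := ⊥)
    ⟨inferInstance, bot_lt_iff_ne_bot.2 hX1⟩
  obtain ⟨⟨hYn, hYX⟩, hYmax'⟩ := hYmax
  have hchief : Cfsg.IsChiefFactor X Y := by
    refine ⟨hYX, hXn, hYn, ?_⟩
    intro N hN hYN hNX
    by_cases hNeq : N = X
    · exact Or.inr hNeq
    · left
      exact le_antisymm (hYmax' ⟨hN, lt_of_le_of_ne hNX hNeq⟩ hYN) hYN
  -- `θ'` is trivial on `Y`
  have hθ'Y : ∀ y : ↥P, (y : H) ∈ Y → θ' y = 1 := by
    intro y hyY
    by_contra hne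
    have := hXmin' ⟨hYn, hYX.le.trans hXP, y, hyY, hne⟩ hYX.le
    exact hYX.not_ge this
  obtain ⟨A, instA, ρ, π, hπsurj, hπker, hπeq, -, hnormA⟩ := exists_chief_module X Y hchief hXP
  -- the induced homomorphism on `A`
  set θX : ↥X →* Q := θ'.comp (Subgroup.inclusion hXP) with hθX
  have hker : π.ker ≤ θX.ker := by
    intro x hx
    rw [MonoidHom.mem_ker] at hx ⊢
    exact hθ'Y _ ((hπker x).1 hx)
  set θA : A →* Q := π.liftOfSurjective hπsurj ⟨θX, hker⟩ with hθA
  have hθAπ : ∀ x : ↥X, θA (π x) = θ' (Subgroup.inclusion hXP x) := by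
    intro x
    rw [hθA]
    exact MonoidHom.liftOfRightInverse_comp_apply _ _ _ ⟨θX, hker⟩ x
  let ρA : H →* MulAut (A →* Q) := (dualAct A Q).comp ρ
  have hconjX : ∀ (h : H) (x : ↥X), h⁻¹ * (x : H) * h ∈ X := by
    intro h x
    have := hXn.conj_mem x x.2 h⁻¹
    simpa using this
  have hρA : ∀ (h : H) (x : ↥X), ρA h θA (π x) =
      θ' ⟨h⁻¹ * (x : H) * h, hXP (hconjX h x)⟩ := by
    intro h x
    show θA ((ρ h)⁻¹ (π x)) = _
    rw [← map_inv]
    have h1 := hπeq h⁻¹ x (by simpa using hconjX h x)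
    rw [← h1, hθAπ]
    congr 1
    apply Subtype.ext
    simp
  have hMfix : ∀ h ∈ M, ∀ y : ↥P, θ' ⟨h⁻¹ * (y : H) * h, hconj h y⟩ = θ' y := by
    intro h hh y
    rw [← hfixθ', mem_fixer] at hh
    rw [← hρB, hh]
  have hstab : ∀ h : H, ρA h θA = θA ↔ h ∈ M := by
    intro h
    have hle : M ≤ fixer ρA θA := by
      intro m hm
      rw [mem_fixer]
      ext a
      obtain ⟨x, rfl⟩ := hπsurj a
      rw [hρA, hθAπ]
      exact hMfix m hm (Subgroup.inclusion hXP x)
    constructor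
    · intro hh
      by_cases htop : fixer ρA θA = ⊤
      · exfalso
        -- `θ'` is invariant on `X`, hence trivial on `X`
        have hinv : ∀ (h : H) (x : ↥X), θ' ⟨h⁻¹ * (x : H) * h, hXP (hconjX h x)⟩ =
            θ' (Subgroup.inclusion hXP x) := by
          intro h x
          have h1 : ρA h θA = θA := by
            rw [← mem_fixer, htop]; exact Subgroup.mem_top h
          rw [← hρA, h1, hθAπ]
        set n := (orbitFinset ρB θ').card with hn
        have hnM : n = M.index := by rw [hn, card_orbitFinset, hfixθ']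
        have h3 : θ' y₀ ^ n = 1 := by
          have h4 := congrArg (fun f : ↥P →* Q => f y₀) hprod
          simp only [MonoidHom.one_apply] at h4
          rw [MonoidHom.finsetProd_apply] at h4
          rw [← h4, ← Finset.prod_const]
          apply Finset.prod_congr rfl
          intro v hv
          obtain ⟨h, rfl⟩ := (mem_orbitFinset ρB θ' v).1 hv
          rw [hρB]
          exact (hinv h ⟨y₀, hy₀X⟩).symm
        have hcop : Nat.Coprime n (orderOf (θ' y₀)) := by
          have hdvd : orderOf (θ' y₀) ∣ p ^ k := orderOf_dvd_of_pow_eq_one (hQ _)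
          refine Nat.Coprime.coprime_dvd_right hdvd ?_
          apply Nat.Coprime.pow_right
          rw [Nat.coprime_comm, hp.out.coprime_iff_not_dvd, hnM]
          exact hMidx
        obtain ⟨m, hm⟩ := exists_pow_eq_self_of_coprime hcop
        apply hy₀
        rw [← hm, h3, one_pow]
      · exact hmax _ (hSM.trans hle) htop hh
    · intro hh
      exact hle hh
  -- the norm of `g` vanishes on the dual module
  have hEinv : Cfsg.iterCommutator X (Subgroup.zpowers g⁻¹) (p - 1) ≤ Y := by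
    rw [Subgroup.zpowers_inv]
    exact hE X Y hchief hXP
  have hnorm : ∀ v : A →* Q, ∏ i ∈ Finset.range p, (ρA g ^ i) v = 1 := by
    intro v
    ext a
    rw [MonoidHom.finsetProd_apply, MonoidHom.one_apply]
    have h1 : ∀ i : ℕ, ((ρA g ^ i) v) a = v ((ρ g⁻¹ ^ i) a) := by
      intro i
      show ((dualAct A Q (ρ g)) ^ i) v a = _
      rw [dualAct_pow_apply, map_inv]
    simp_rw [h1]
    rw [← map_prod, hnormA g⁻¹ hEinv a, map_one]
  exact trace_argument S M hM hSM hmax ρA θA hstab g hgS hgP hnorm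

end DualCore

end Cfsg.Agent.Lib.H10
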