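import Mathlib
import Cfsg.Prelude.Def_ConjugacyFunctors
import Cfsg.Agent.Lib.H10.LocalGlobalGen
import Cfsg.Agent.Lib.H10.LocalGlobalTransfer

/-! Local-to-global theorem for control of transfer by a set of conjugacy functors (helper10). -/

set_option autoImplicit false

namespace Cfsg.Agent.Lib.H10

open Cfsg
open scoped commutatorElement

variable {G : Type*} [Group G]

/-- Control of transfer by a family does not depend on the chosen Sylow subgroup of `H`. -/
theorem familyControlsTransferIn_sylowIn {p : ℕ} [Fact p.Prime] [Finite G]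
    {𝓦 : Set (Subgroup G → Subgroup G)} (h𝓦 : ∀ W ∈ 𝓦, IsConjugacyFunctor p W) {H : Subgroup G}
    (hc : FamilyControlsTransferIn p 𝓦 H) {T₁ : Subgroup G} (hT₁ : IsPGroup p T₁) (hT₁H : T₁ ≤ H)
    (hT₁i : ¬ p ∣ T₁.relIndex H) :
    T₁ ⊓ ⁅H, H⁆ = ⨆ W ∈ 𝓦, T₁ ⊓ ⁅H ⊓ Subgroup.normalizer ((W T₁ : Subgroup G) : Set G),
      H ⊓ Subgroup.normalizer ((W T₁ : Subgroup G) : Set G)⁆ := by
  obtain ⟨T₀, hT₀H, hT₀, hT₀i, heq⟩ := hc
  obtain ⟨m, hm, hmT⟩ := exists_mem_map_conj_eq_of_sylowIn hT₁ hT₁H hT₁i hT₀ hT₀H hT₀i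
  have hHm : H.map (MulAut.conj m).toMonoidHom = H := map_conj_self_of_mem hm
  have h1 : (T₀ ⊓ ⁅H, H⁆).map (MulAut.conj m).toMonoidHom =
      (⨆ W ∈ 𝓦, T₀ ⊓ ⁅H ⊓ Subgroup.normalizer ((W T₀ : Subgroup G) : Set G),
        H ⊓ Subgroup.normalizer ((W T₀ : Subgroup G) : Set G)⁆).map (MulAut.conj m).toMonoidHom := by
    rw [heq]
  rw [map_conj_inf, Subgroup.map_commutator, hHm, hmT, Subgroup.map_iSup] at h1
  rw [h1]
  refine iSup_congr fun W => ?_
  rw [Subgroup.map_iSup]
  refine iSup_congr fun hW => ?_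
  rw [map_conj_inf, Subgroup.map_commutator, map_conj_inf,
    hHm, hmT, ← normalizer_map_conj, ← functor_map_conj (h𝓦 W hW) hT₀, hmT]

/-- Local-to-global for control of transfer by a set of conjugacy functors. -/
theorem familyControlsTransferIn_top {p : ℕ} [Fact p.Prime] [Finite G]
    (S : Sylow p G) {𝓦 : Set (Subgroup G → Subgroup G)} (h𝓦 : ∀ W ∈ 𝓦, IsConjugacyFunctor p W)
    (hloc : ∀ T : Subgroup G, T ≤ (S : Subgroup G) → T ≠ ⊥ →
      ¬ p ∣ ((S : Subgroup G) ⊓ Subgroup.normalizer ((T : Subgroup G) : Set G)).relIndex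
        (Subgroup.normalizer ((T : Subgroup G) : Set G)) →
      FamilyControlsTransferIn p 𝓦 (Subgroup.normalizer ((T : Subgroup G) : Set G))) :
    FamilyControlsTransferIn p 𝓦 ⊤ := by
  refine ⟨(S : Subgroup G), le_top, S.2, ?_, ?_⟩
  · rw [Subgroup.relIndex_top_right]
    exact S.not_dvd_index
  simp only [top_inf_eq]
  set D : Subgroup G := ⨆ W ∈ 𝓦, (S : Subgroup G) ⊓
    ⁅Subgroup.normalizer ((W (S : Subgroup G) : Subgroup G) : Set G),
      Subgroup.normalizer ((W (S : Subgroup G) : Subgroup G) : Set G)⁆ with hD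
  apply le_antisymm
  · -- the relation
    let Good : Set G → G → Prop := fun A g => ∀ a ∈ A, a * (g⁻¹ * a * g)⁻¹ ∈ D
    let C : Subgroup G → Prop := fun T =>
      ((S : Subgroup G) ⊓ Subgroup.normalizer (T : Set G)) ⊓
        ⁅Subgroup.normalizer (T : Set G), Subgroup.normalizer (T : Set G)⁆ ≤ D
    have hgood : ∀ Q : Subgroup G, Q ≤ (S : Subgroup G) → ∀ g : G,
        Q.map (MulAut.conj g⁻¹).toMonoidHom ≤ (S : Subgroup G) → Good (Q : Set G) g := by
      apply good_of_local S Good C
      · intro A B g h hBA a ha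
        exact h a (hBA ha)
      · intro A g h h1 h2 a ha
        have e : a * ((g * h)⁻¹ * a * (g * h))⁻¹ =
            (a * (g⁻¹ * a * g)⁻¹) * ((g⁻¹ * a * g) * (h⁻¹ * (g⁻¹ * a * g) * h)⁻¹) := by group
        rw [e]
        exact mul_mem (h1 a ha) (h2 _ ⟨a, ha, rfl⟩)
      · rintro A g h1 _ ⟨a, ha, rfl⟩
        have e : g⁻¹ * a * g * (g⁻¹⁻¹ * (g⁻¹ * a * g) * g⁻¹)⁻¹ = (a * (g⁻¹ * a * g)⁻¹)⁻¹ := by group
        rw [e]
        exact inv_mem (h1 a ha)
      · intro x a ha
        have : a = 1 := by simpa using ha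
        rw [this]
        simp
      · intro T hT hT1 hC x hx a ha
        have haT : a ∈ T := ha
        have hyinv : x⁻¹ ∈ Subgroup.normalizer (T : Set G) := inv_mem hx
        have hyaT : x⁻¹ * a * x ∈ T := by
          have := (Subgroup.mem_normalizer_iff.mp hyinv a).mp haT
          simpa using this
        have hcomm : a * (x⁻¹ * a * x)⁻¹ = ⁅a, x⁻¹⁆ := by
          rw [commutatorElement_def]; group
        apply hC
        refine ⟨le_inf hT.1 Subgroup.le_normalizer (mul_mem haT (inv_mem hyaT)), ?_⟩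
        rw [hcomm]
        exact Subgroup.commutator_mem_commutator (Subgroup.le_normalizer haT) hyinv
      · intro T hT hT1 hP hC
        set R := (S : Subgroup G) ⊓ Subgroup.normalizer (T : Set G) with hR
        have hRp : IsPGroup p R := S.2.to_le inf_le_left
        have heq := familyControlsTransferIn_sylowIn h𝓦 (hloc T hT.1 hT1 hT.2) hRp inf_le_right hT.2
        change R ⊓ ⁅Subgroup.normalizer (T : Set G), Subgroup.normalizer (T : Set G)⁆ ≤ D
        rw [heq]
        refine iSup₂_le fun W hW => ?_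
        by_cases hcase : R = (S : Subgroup G)
        · rw [hcase]
          refine le_trans ?_ (le_iSup₂ (f := fun W (_ : W ∈ 𝓦) => (S : Subgroup G) ⊓
            ⁅Subgroup.normalizer ((W (S : Subgroup G) : Subgroup G) : Set G),
              Subgroup.normalizer ((W (S : Subgroup G) : Subgroup G) : Set G)⁆) W hW)
          exact inf_le_inf_left _ (Subgroup.commutator_mono inf_le_right inf_le_right)
        · have hRS : R < (S : Subgroup G) := lt_of_le_of_ne inf_le_left hcase
          have hTR : T ≤ R := le_inf hT.1 Subgroup.le_normalizer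
          have hR1 : R ≠ ⊥ := fun h0 => hT1 (le_bot_iff.mp (h0 ▸ hTR))
          have hWf := h𝓦 W hW
          set V := W R with hV
          have hV1 : V ≠ ⊥ := (hWf R hRp).2.1 hR1
          have hVS : V ≤ (S : Subgroup G) := (functor_le hWf hRp).trans inf_le_left
          have hlt : R < (S : Subgroup G) ⊓ Subgroup.normalizer (R : Set G) :=
            lt_inf_normalizer_of_lt S.2 hRS
          have hle : (S : Subgroup G) ⊓ Subgroup.normalizer (R : Set G) ≤
              (S : Subgroup G) ⊓ Subgroup.normalizer (V : Set G) :=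
            inf_le_inf_left _ (normalizer_le_normalizer_functor hWf hRp)
          have hlt2 : R < (S : Subgroup G) ⊓ Subgroup.normalizer (V : Set G) :=
            lt_of_lt_of_le hlt hle
          have hc2 := card_lt_card_of_lt hlt2
          obtain ⟨k, hkS, hkN, hki⟩ := exists_conj_normalizer_sylow S hVS
          set V' := V.map (MulAut.conj k).toMonoidHom with hV'
          have hV'𝓕 : V' ∈ sylNormFamily p (S : Subgroup G) := ⟨hkS, hki⟩
          have hV'1 : V' ≠ ⊥ := by
            intro h0
            apply hV1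
            have : Nat.card V' = Nat.card V := card_map_conj _ _
            rw [h0] at this
            exact (Subgroup.card_eq_one.mp (by rw [← this]; simp))
          have hc3 : Nat.card ((S : Subgroup G) ⊓ Subgroup.normalizer (V : Set G) : Subgroup G) ≤
              Nat.card ((S : Subgroup G) ⊓ Subgroup.normalizer (V' : Set G) : Subgroup G) := by
            rw [← card_map_conj k]
            exact Subgroup.card_le_of_le hkN
          have hCV' := hC V' hV'𝓕 hV'1 (by omega)
          have hgoodR1 : Good (((S : Subgroup G) ⊓ Subgroup.normalizer (V : Set G) : Subgroup G) : Set G)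
              k⁻¹ := hP _ inf_le_left hc2 k⁻¹ (by rw [inv_inv]; exact hkN.trans inf_le_left)
          intro x hx
          have hxR1 : x ∈ (S : Subgroup G) ⊓ Subgroup.normalizer (V : Set G) := hlt2.le hx.1
          have h1 : x * (k⁻¹⁻¹ * x * k⁻¹)⁻¹ ∈ D := hgoodR1 x hxR1
          rw [inv_inv] at h1
          have h2 : k * x * k⁻¹ ∈ D := by
            apply hCV'
            constructor
            · apply hkN
              exact conj_mem_map_conj hxR1
            · have hx2 : x ∈ ⁅Subgroup.normalizer (V : Set G), Subgroup.normalizer (V : Set G)⁆ :=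
                Subgroup.commutator_mono inf_le_right inf_le_right hx.2
              have := conj_mem_map_conj (g := k) hx2
              rw [Subgroup.map_commutator, ← normalizer_map_conj] at this
              exact this
          have e : x = (x * (k * x * k⁻¹)⁻¹) * (k * x * k⁻¹) := by group
          rw [e]
          exact mul_mem h1 h2
    -- use the focal subgroup theorem
    have hfocal : (S : Subgroup G) ⊓ ⁅(⊤ : Subgroup G), ⊤⁆ = (S : Subgroup G).focalSubgroup := by
      rw [inf_comm, ← commutator_def]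
      exact Subgroup.commutator_inf_eq_focalSubgroup S
    rw [hfocal, Subgroup.focalSubgroup_def, Subgroup.closure_le]
    rintro _ ⟨hgS, x, hxS, u, rfl⟩
    have hux : u * x * u⁻¹ ∈ (S : Subgroup G) := by
      have h1 : x⁻¹ * ⁅x, u⁆ ∈ (S : Subgroup G) := mul_mem (inv_mem hxS) hgS
      have h2 : x⁻¹ * ⁅x, u⁆ = (u * x * u⁻¹)⁻¹ := by
        rw [commutatorElement_def]; group
      rw [h2] at h1
      exact (inv_mem_iff).mp h1
    have hQ : Subgroup.zpowers x ≤ (S : Subgroup G) := (Subgroup.zpowers_le).mpr hxS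
    have hQu : (Subgroup.zpowers x).map (MulAut.conj u⁻¹⁻¹).toMonoidHom ≤ (S : Subgroup G) := by
      rw [inv_inv, MonoidHom.map_zpowers, Subgroup.zpowers_le]
      simpa using hux
    have := hgood _ hQ u⁻¹ hQu x (Subgroup.mem_zpowers x)
    have h3 : x * (u⁻¹⁻¹ * x * u⁻¹)⁻¹ = ⁅x, u⁆ := by
      rw [commutatorElement_def]; group
    rw [h3] at this
    exact this
  · refine iSup₂_le fun W _ => ?_
    exact inf_le_inf_left _ (Subgroup.commutator_mono le_top le_top)

end Cfsg.Agent.Lib.H10
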