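import Mathlib
import Cfsg.Prelude.Def_Transfer
import Cfsg.Agent.Lib.H10.PResidual

/-! Groups with a central Sylow `p`-subgroup: `O^p(G)` is a `p'`-group (helper10). -/

set_option autoImplicit false

namespace Cfsg.Agent.Lib.H10

/-- If a central `p`-subgroup `Z` has index prime to `p` (so is a central Sylow `p`-subgroup), then the
subgroup generated by the `p'`-elements has order prime to `p`. -/
theorem not_dvd_card_pResidual_of_central_sylow {G : Type*} [Group G] [Finite G] (p : ℕ)
    [hp : Fact p.Prime] (Z : Subgroup G) (hZc : Z ≤ Subgroup.center G) (hZp : IsPGroup p Z)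
    (hZi : ¬ p ∣ Z.index) : ¬ p ∣ Nat.card (Cfsg.pResidual p G) := by
  haveI hZn : Z.Normal := by
    constructor
    intro n hn g
    have : g * n * g⁻¹ = n := by
      have := Subgroup.mem_center_iff.mp (hZc hn) g
      rw [this]; group
    rw [this]; exact hn
  obtain ⟨k, hk⟩ := (IsPGroup.iff_card (p := p)).mp hZp
  have hcop : Nat.Coprime (Nat.card Z) Z.index := by
    rw [hk]
    exact Nat.Coprime.pow_left k ((Nat.Prime.coprime_iff_not_dvd hp.out).mpr hZi)
  obtain ⟨H, hH⟩ := Subgroup.exists_right_complement'_of_coprime hcop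
  have hle : Cfsg.pResidual p G ≤ H := by
    unfold Cfsg.pResidual
    rw [Subgroup.closure_le]
    intro g hg
    have hg' : Nat.Coprime (orderOf g) p := hg
    have hmem : g ∈ Z ⊔ H := by rw [hH.sup_eq_top]; trivial
    rw [Subgroup.mem_sup_of_normal_left] at hmem
    obtain ⟨z, hz, h, hh, rfl⟩ := hmem
    have hcomm : Commute z h := (Subgroup.mem_center_iff.mp (hZc hz) h).symm
    have h1 : z ^ orderOf (z * h) * h ^ orderOf (z * h) = 1 := by
      rw [← hcomm.mul_pow, pow_orderOf_eq_one]
    have h2 : z ^ orderOf (z * h) ∈ Z ⊓ H := by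
      refine Subgroup.mem_inf.mpr ⟨Z.pow_mem hz _, ?_⟩
      have : z ^ orderOf (z * h) = (h ^ orderOf (z * h))⁻¹ := eq_inv_of_mul_eq_one_left h1
      rw [this]
      exact H.inv_mem (H.pow_mem hh _)
    rw [hH.disjoint.eq_bot, Subgroup.mem_bot] at h2
    have h3 : orderOf z ∣ orderOf (z * h) := orderOf_dvd_of_pow_eq_one h2
    obtain ⟨j, hj⟩ := (IsPGroup.iff_orderOf.mp hZp) ⟨z, hz⟩
    have hj' : orderOf z = p ^ j := by
      rw [← hj]; exact (Subgroup.orderOf_mk z hz).symm
    have h4 : orderOf z = 1 := by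
      have : Nat.Coprime (orderOf z) (orderOf (z * h)) := by
        rw [hj']; exact Nat.Coprime.pow_left j hg'.symm
      exact Nat.Coprime.eq_one_of_dvd this h3
    rw [orderOf_eq_one_iff] at h4
    rw [h4, one_mul]; exact hh
  have hdvd : Nat.card (Cfsg.pResidual p G) ∣ Z.index := by
    rw [hH.symm.index_eq_card]
    exact Subgroup.card_dvd_of_le hle
  intro hcon
  exact hZi (dvd_trans hcon hdvd)

end Cfsg.Agent.Lib.H10
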