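import Mathlib
import Cfsg.Prelude.Def_ConjugacyFunctors
import Cfsg.Agent.Lib.H10.ConjFamily
import Cfsg.Agent.Lib.H10.WellPlaced

/-! Chains for control of strong fusion by a set of conjugacy functors (helper10). -/

set_option autoImplicit false

namespace Cfsg.Agent.Lib.H10

open Cfsg

variable {G : Type*} [Group G]

/-- `FC 𝓦 H T₀ A g`: the right conjugation `a ↦ g⁻¹ a g` on `A ⊆ T₀` is a product of steps
`e ∈ H ∩ N(W T₀)`, `W ∈ 𝓦`, all partial conjugates of `A` staying inside `T₀`. -/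
inductive FC (𝓦 : Set (Subgroup G → Subgroup G)) (H T₀ : Subgroup G) : Set G → G → Prop
  | nil (A : Set G) : A ⊆ (T₀ : Set G) → FC 𝓦 H T₀ A 1
  | cons (A : Set G) (e g : G) (W : Subgroup G → Subgroup G) : W ∈ 𝓦 →
      e ∈ H ⊓ Subgroup.normalizer ((W T₀ : Subgroup G) : Set G) → A ⊆ (T₀ : Set G) →
      FC 𝓦 H T₀ (rconj e A) g → FC 𝓦 H T₀ A (e * g)

variable {𝓦 : Set (Subgroup G → Subgroup G)} {H T₀ : Subgroup G}

theorem FC.subset_left {A : Set G} {g : G} (h : FC 𝓦 H T₀ A g) : A ⊆ (T₀ : Set G) := by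
  cases h with
  | nil _ hA => exact hA
  | cons _ e g W _ _ hA _ => exact hA

theorem FC.subset_right {A : Set G} {g : G} (h : FC 𝓦 H T₀ A g) : rconj g A ⊆ (T₀ : Set G) := by
  induction h with
  | nil A hA => rw [rconj_one]; exact hA
  | cons A e g W _ _ _ _ ih => rw [rconj_mul]; exact ih

theorem FC.restrict {A : Set G} {g : G} (h : FC 𝓦 H T₀ A g) :
    ∀ {B : Set G}, B ⊆ A → FC 𝓦 H T₀ B g := by
  induction h with
  | nil A hA => intro B hB; exact FC.nil _ (hB.trans hA)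
  | cons A e g W hW he hA _ ih =>
    intro B hB
    exact FC.cons B e g W hW he (hB.trans hA) (ih (rconj_mono e hB))

theorem FC.trans {A : Set G} {g : G} (h : FC 𝓦 H T₀ A g) :
    ∀ {k : G}, FC 𝓦 H T₀ (rconj g A) k → FC 𝓦 H T₀ A (g * k) := by
  induction h with
  | nil A _ => intro k hk; rwa [rconj_one, ← one_mul k] at hk
  | cons A e g W hW he hA _ ih =>
    intro k hk
    rw [rconj_mul] at hk
    rw [mul_assoc]
    exact FC.cons A e (g * k) W hW he hA (ih hk)

theorem FC.single {A : Set G} {e : G} {W : Subgroup G → Subgroup G} (hW : W ∈ 𝓦)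
    (he : e ∈ H ⊓ Subgroup.normalizer ((W T₀ : Subgroup G) : Set G)) (hA : A ⊆ (T₀ : Set G))
    (hAe : rconj e A ⊆ (T₀ : Set G)) : FC 𝓦 H T₀ A e := by
  have := FC.cons A e 1 W hW he hA (FC.nil _ hAe)
  rwa [mul_one] at this

theorem FC.symm {A : Set G} {g : G} (h : FC 𝓦 H T₀ A g) : FC 𝓦 H T₀ (rconj g A) g⁻¹ := by
  induction h with
  | nil A hA => rw [inv_one, rconj_one]; exact FC.nil _ hA
  | cons A e g W hW he hA h' ih =>
    rw [rconj_mul, mul_inv_rev]
    refine FC.trans ih ?_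
    rw [rconj_inv_rconj]
    refine FC.single hW (inv_mem he) h'.subset_left ?_
    rw [rconj_inv_rconj]
    exact hA

/-- conjugating a chain by an element of `H`. -/
theorem FC.conj {p : ℕ} (h𝓦 : ∀ W ∈ 𝓦, IsConjugacyFunctor p W) (hT₀ : IsPGroup p T₀)
    {m : G} (hm : m ∈ H) {A : Set G} {g : G} (h : FC 𝓦 H T₀ A g) :
    FC 𝓦 H (T₀.map (MulAut.conj m).toMonoidHom) (rconj m⁻¹ A) (m * g * m⁻¹) := by
  have hsub : ∀ {B : Set G}, B ⊆ (T₀ : Set G) →
      rconj m⁻¹ B ⊆ ((T₀.map (MulAut.conj m).toMonoidHom : Subgroup G) : Set G) := by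
    intro B hB
    rintro _ ⟨b, hb, rfl⟩
    rw [inv_inv]
    exact conj_mem_map_conj (hB hb)
  induction h with
  | nil A hA =>
    have : m * 1 * m⁻¹ = 1 := by group
    rw [this]
    exact FC.nil _ (hsub hA)
  | cons A e g W hW he hA _ ih =>
    have e1 : m * (e * g) * m⁻¹ = (m * e * m⁻¹) * (m * g * m⁻¹) := by group
    rw [e1]
    refine FC.cons _ _ _ W hW ⟨H.mul_mem (H.mul_mem hm he.1) (H.inv_mem hm), ?_⟩ (hsub hA) ?_
    · have h1 := conj_mem_normalizer_map_conj m he.2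
      rw [← functor_map_conj (h𝓦 W hW) hT₀] at h1
      exact h1
    · have e2 : rconj (m * e * m⁻¹) (rconj m⁻¹ A) = rconj m⁻¹ (rconj e A) := by
        rw [← rconj_mul, ← rconj_mul]
        congr 1
        group
      rw [e2]
      exact ih

/-- from the indexed format to a chain. -/
theorem FC.of_fin {A : Set G} (hA : A ⊆ (T₀ : Set G)) {n : ℕ} (c : Fin (n + 1) → G)
    (h0 : c 0 = 1)
    (hstep : ∀ i : Fin n, ∃ W ∈ 𝓦,
      c i.succ * (c i.castSucc)⁻¹ ∈ H ⊓ Subgroup.normalizer ((W T₀ : Subgroup G) : Set G))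
    (hsub : ∀ i : Fin (n + 1), (fun a => c i * a * (c i)⁻¹) '' A ⊆ (T₀ : Set G)) :
    FC 𝓦 H T₀ A (c (Fin.last n))⁻¹ := by
  have key : ∀ (i : ℕ) (hi : i < n + 1), FC 𝓦 H T₀ A (c ⟨i, hi⟩)⁻¹ := by
    intro i
    induction i with
    | zero =>
      intro hi
      have : c ⟨0, hi⟩ = 1 := h0
      rw [this, inv_one]
      exact FC.nil _ hA
    | succ i ih =>
      intro hi
      have hi' : i < n := by omega
      have hprev := ih (by omega)
      obtain ⟨W, hW, hmem⟩ := hstep ⟨i, hi'⟩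
      have e1 : (c ⟨i + 1, hi⟩)⁻¹ =
          (c ⟨i, by omega⟩)⁻¹ * (c ⟨i + 1, hi⟩ * (c ⟨i, by omega⟩)⁻¹)⁻¹ := by group
      rw [e1]
      refine hprev.trans ?_
      have hmem' : (c ⟨i + 1, hi⟩ * (c ⟨i, by omega⟩)⁻¹)⁻¹ ∈
          H ⊓ Subgroup.normalizer ((W T₀ : Subgroup G) : Set G) := inv_mem hmem
      refine FC.single hW hmem' hprev.subset_right ?_
      rw [← rconj_mul, ← e1]
      have := hsub ⟨i + 1, hi⟩
      intro y hy
      obtain ⟨a, ha, rfl⟩ := hy
      apply this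
      exact ⟨a, ha, by simp⟩
  exact key n (by omega)

/-- from a chain to the indexed format. -/
theorem FC.exists_fin {A : Set G} {g : G} (h : FC 𝓦 H T₀ A g) :
    ∃ (n : ℕ) (c : Fin (n + 1) → G), c 0 = 1 ∧
      (∀ i : Fin n, ∃ W ∈ 𝓦,
        c i.succ * (c i.castSucc)⁻¹ ∈ H ⊓ Subgroup.normalizer ((W T₀ : Subgroup G) : Set G)) ∧
      (∀ i : Fin (n + 1), (fun a => c i * a * (c i)⁻¹) '' A ⊆ (T₀ : Set G)) ∧
      c (Fin.last n) = g⁻¹ := by
  induction h with
  | nil A hA =>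
    refine ⟨0, fun _ => 1, rfl, fun i => i.elim0, ?_, by simp⟩
    intro i
    rintro _ ⟨a, ha, rfl⟩
    simpa using hA ha
  | cons A e g W hW he hA _ ih =>
    obtain ⟨n, c', h0, hstep, hsub, hlast⟩ := ih
    refine ⟨n + 1, Fin.cons 1 (fun i => c' i * e⁻¹), rfl, ?_, ?_, ?_⟩
    · intro i
      refine Fin.cases ?_ (fun j => ?_) i
      · refine ⟨W, hW, ?_⟩
        have : (Fin.cons 1 (fun i => c' i * e⁻¹) : Fin (n + 2) → G) (Fin.succ 0) *
            ((Fin.cons 1 (fun i => c' i * e⁻¹) : Fin (n + 2) → G) (Fin.castSucc 0))⁻¹ = e⁻¹ := by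
          rw [Fin.cons_succ, h0]
          simp
        rw [this]
        exact inv_mem he
      · obtain ⟨W', hW', hmem⟩ := hstep j
        refine ⟨W', hW', ?_⟩
        have : (Fin.cons 1 (fun i => c' i * e⁻¹) : Fin (n + 2) → G) (Fin.succ (Fin.succ j)) *
            ((Fin.cons 1 (fun i => c' i * e⁻¹) : Fin (n + 2) → G) (Fin.castSucc (Fin.succ j)))⁻¹ =
            c' j.succ * (c' j.castSucc)⁻¹ := by
          rw [Fin.cons_succ, ← Fin.succ_castSucc, Fin.cons_succ]
          group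
        rw [this]
        exact hmem
    · intro i
      refine Fin.cases ?_ (fun j => ?_) i
      · rintro _ ⟨a, ha, rfl⟩
        simpa using hA ha
      · rintro _ ⟨a, ha, rfl⟩
        rw [Fin.cons_succ]
        have := hsub j ⟨e⁻¹ * a * e, ⟨a, ha, rfl⟩, rfl⟩
        have e2 : c' j * e⁻¹ * a * (c' j * e⁻¹)⁻¹ = c' j * (e⁻¹ * a * e) * (c' j)⁻¹ := by group
        simp only at this ⊢
        rw [e2]
        exact this
    · have : (Fin.last (n + 1)) = Fin.succ (Fin.last n) := rfl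
      rw [this, Fin.cons_succ, hlast]
      group

end Cfsg.Agent.Lib.H10
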