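import Mathlib
import Cfsg.Prelude.Def_ConjugacyFunctors
import Cfsg.Agent.Lib.H10.FChain
import Cfsg.Agent.Lib.H10.LocalGlobalGen
import Cfsg.Agent.Lib.H10.LocalGlobalTransfer

/-! Local-to-global theorem for control of strong fusion by a set of conjugacy functors
(helper10). -/

set_option autoImplicit false

namespace Cfsg.Agent.Lib.H10

open Cfsg

variable {G : Type*} [Group G]

/-- `FamilyControlsStrongFusionIn` in chain form. -/
theorem familyControlsStrongFusionIn_iff_chain {p : ℕ} {𝓦 : Set (Subgroup G → Subgroup G)}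
    {H : Subgroup G} :
    FamilyControlsStrongFusionIn p 𝓦 H ↔
      ∃ T₀ : Subgroup G, T₀ ≤ H ∧ IsPGroup p T₀ ∧ ¬ p ∣ T₀.relIndex H ∧
        ∀ (A : Set G) (h : G), h ∈ H → A ⊆ (T₀ : Set G) →
          (fun a => h * a * h⁻¹) '' A ⊆ (T₀ : Set G) →
          ∃ g : G, FC 𝓦 H T₀ A g ∧ ∀ a ∈ A, g⁻¹ * a * g = h * a * h⁻¹ := by
  constructor
  · rintro ⟨T₀, hT₀H, hT₀, hT₀i, hctl⟩
    refine ⟨T₀, hT₀H, hT₀, hT₀i, ?_⟩
    intro A h hh hA hAh
    obtain ⟨n, c, h0, hstep, hsub, hlast⟩ := hctl A h hh hA hAh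
    refine ⟨(c (Fin.last n))⁻¹, FC.of_fin hA c h0 hstep hsub, ?_⟩
    intro a ha
    rw [inv_inv]
    exact hlast a ha
  · rintro ⟨T₀, hT₀H, hT₀, hT₀i, hctl⟩
    refine ⟨T₀, hT₀H, hT₀, hT₀i, ?_⟩
    intro A h hh hA hAh
    obtain ⟨g, hfc, hg⟩ := hctl A h hh hA hAh
    obtain ⟨n, c, h0, hstep, hsub, hlast⟩ := hfc.exists_fin
    refine ⟨n, c, h0, hstep, hsub, ?_⟩
    intro a ha
    rw [hlast, inv_inv]
    exact hg a ha

/-- Control of strong fusion by a family does not depend on the Sylow subgroup of `H`. -/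
theorem familyControlsStrongFusionIn_sylowIn {p : ℕ} [Fact p.Prime] [Finite G]
    {𝓦 : Set (Subgroup G → Subgroup G)} (h𝓦 : ∀ W ∈ 𝓦, IsConjugacyFunctor p W) {H : Subgroup G}
    (hc : FamilyControlsStrongFusionIn p 𝓦 H) {T₁ : Subgroup G} (hT₁ : IsPGroup p T₁)
    (hT₁H : T₁ ≤ H) (hT₁i : ¬ p ∣ T₁.relIndex H) (A : Set G) (h : G) (hh : h ∈ H)
    (hA : A ⊆ (T₁ : Set G)) (hAh : (fun a => h * a * h⁻¹) '' A ⊆ (T₁ : Set G)) :
    ∃ g : G, FC 𝓦 H T₁ A g ∧ ∀ a ∈ A, g⁻¹ * a * g = h * a * h⁻¹ := by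
  obtain ⟨T₀, hT₀H, hT₀, hT₀i, hctl⟩ := familyControlsStrongFusionIn_iff_chain.mp hc
  obtain ⟨m, hm, hmT⟩ := exists_mem_map_conj_eq_of_sylowIn hT₁ hT₁H hT₁i hT₀ hT₀H hT₀i
  have hA' : rconj m A ⊆ (T₀ : Set G) := by
    rintro _ ⟨a, ha, rfl⟩
    have : a ∈ T₀.map (MulAut.conj m).toMonoidHom := hmT ▸ hA ha
    exact mem_map_conj.mp this
  have hh' : m⁻¹ * h * m ∈ H := H.mul_mem (H.mul_mem (H.inv_mem hm) hh) hm
  have hAh' : (fun a => (m⁻¹ * h * m) * a * (m⁻¹ * h * m)⁻¹) '' (rconj m A) ⊆ (T₀ : Set G) := by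
    rintro _ ⟨_, ⟨a, ha, rfl⟩, rfl⟩
    have : h * a * h⁻¹ ∈ T₀.map (MulAut.conj m).toMonoidHom := hmT ▸ hAh ⟨a, ha, rfl⟩
    have h2 := mem_map_conj.mp this
    have h3 : m⁻¹ * h * m * (m⁻¹ * a * m) * (m⁻¹ * h * m)⁻¹ = m⁻¹ * (h * a * h⁻¹) * m := by group
    simp only [SetLike.mem_coe]
    rw [h3]
    exact h2
  obtain ⟨g', hfc, hg'⟩ := hctl _ _ hh' hA' hAh'
  have hfc' := FC.conj h𝓦 hT₀ hm hfc
  rw [hmT, rconj_inv_rconj] at hfc'
  refine ⟨m * g' * m⁻¹, hfc', ?_⟩
  intro a ha
  have := hg' _ ⟨a, ha, rfl⟩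
  have h3 : (m * g' * m⁻¹)⁻¹ * a * (m * g' * m⁻¹) = m * (g'⁻¹ * (m⁻¹ * a * m) * g') * m⁻¹ := by
    group
  rw [h3, this]
  group

theorem rconj_congr {A : Set G} {c g : G} (h : ∀ a ∈ A, c⁻¹ * a * c = g⁻¹ * a * g) :
    rconj c A = rconj g A :=
  Set.image_congr h

/-- Local-to-global for control of strong fusion by a set of conjugacy functors. -/
theorem familyControlsStrongFusionIn_top {p : ℕ} [Fact p.Prime] [Finite G]
    (S : Sylow p G) {𝓦 : Set (Subgroup G → Subgroup G)} (h𝓦 : ∀ W ∈ 𝓦, IsConjugacyFunctor p W)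
    (hloc : ∀ T : Subgroup G, T ≤ (S : Subgroup G) → T ≠ ⊥ →
      ¬ p ∣ ((S : Subgroup G) ⊓ Subgroup.normalizer ((T : Subgroup G) : Set G)).relIndex
        (Subgroup.normalizer ((T : Subgroup G) : Set G)) →
      FamilyControlsStrongFusionIn p 𝓦 (Subgroup.normalizer ((T : Subgroup G) : Set G))) :
    FamilyControlsStrongFusionIn p 𝓦 ⊤ := by
  rw [familyControlsStrongFusionIn_iff_chain]
  refine ⟨(S : Subgroup G), le_top, S.2, ?_, ?_⟩
  · rw [Subgroup.relIndex_top_right]
    exact S.not_dvd_index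
  let Good : Set G → G → Prop := fun A g =>
    ∃ c : G, FC 𝓦 ⊤ (S : Subgroup G) A c ∧ ∀ a ∈ A, c⁻¹ * a * c = g⁻¹ * a * g
  let C : Subgroup G → Prop := fun T =>
    ∀ (B : Set G) (x : G), B ⊆ (((S : Subgroup G) ⊓ Subgroup.normalizer (T : Set G) : Subgroup G) : Set G) →
      x ∈ Subgroup.normalizer (T : Set G) →
      rconj x B ⊆ (((S : Subgroup G) ⊓ Subgroup.normalizer (T : Set G) : Subgroup G) : Set G) →
      Good B x
  have hres : ∀ {A B : Set G} {g : G}, Good A g → B ⊆ A → Good B g := by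
    rintro A B g ⟨c, hc, hca⟩ hBA
    exact ⟨c, hc.restrict hBA, fun a ha => hca a (hBA ha)⟩
  have htrans : ∀ {A : Set G} {g h : G}, Good A g → Good (rconj g A) h → Good A (g * h) := by
    rintro A g h ⟨c₁, hc₁, hca₁⟩ ⟨c₂, hc₂, hca₂⟩
    refine ⟨c₁ * c₂, hc₁.trans (by rw [rconj_congr hca₁]; exact hc₂), ?_⟩
    intro a ha
    have h1 := hca₁ a ha
    have h2 := hca₂ (g⁻¹ * a * g) ⟨a, ha, rfl⟩
    have e1 : (c₁ * c₂)⁻¹ * a * (c₁ * c₂) = c₂⁻¹ * (c₁⁻¹ * a * c₁) * c₂ := by group
    rw [e1, h1, h2]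
    group
  have hsymm : ∀ {A : Set G} {g : G}, Good A g → Good (rconj g A) g⁻¹ := by
    rintro A g ⟨c, hc, hca⟩
    refine ⟨c⁻¹, by rw [← rconj_congr hca]; exact hc.symm, ?_⟩
    rintro _ ⟨a, ha, rfl⟩
    change c⁻¹⁻¹ * (g⁻¹ * a * g) * c⁻¹ = g⁻¹⁻¹ * (g⁻¹ * a * g) * g⁻¹
    calc c⁻¹⁻¹ * (g⁻¹ * a * g) * c⁻¹ = c⁻¹⁻¹ * (c⁻¹ * a * c) * c⁻¹ := by rw [hca a ha]
      _ = a := by group
      _ = g⁻¹⁻¹ * (g⁻¹ * a * g) * g⁻¹ := by group
  have hgood : ∀ Q : Subgroup G, Q ≤ (S : Subgroup G) → ∀ g : G,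
      Q.map (MulAut.conj g⁻¹).toMonoidHom ≤ (S : Subgroup G) → Good (Q : Set G) g := by
    apply good_of_local S Good C hres htrans hsymm
    · intro x
      refine ⟨1, FC.nil _ ?_, ?_⟩
      · intro a ha
        have : a = 1 := by simpa using ha
        rw [this]
        exact one_mem _
      · intro a ha
        have : a = 1 := by simpa using ha
        rw [this]
        simp
    · intro T hT hT1 hC x hx
      have hTN : T ≤ (S : Subgroup G) ⊓ Subgroup.normalizer (T : Set G) :=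
        le_inf hT.1 Subgroup.le_normalizer
      apply hC (T : Set G) x (SetLike.coe_subset_coe.mpr hTN) hx
      rw [rconj_coe_of_mem_normalizer hx]
      exact SetLike.coe_subset_coe.mpr hTN
    · intro T hT hT1 hP hC
      set R := (S : Subgroup G) ⊓ Subgroup.normalizer (T : Set G) with hR
      have hRp : IsPGroup p R := S.2.to_le inf_le_left
      have hRS : R ≤ (S : Subgroup G) := inf_le_left
      -- one step
      have hstep : ∀ W ∈ 𝓦, ∀ (e : G) (B : Set G),
          e ∈ Subgroup.normalizer (T : Set G) ⊓ Subgroup.normalizer ((W R : Subgroup G) : Set G) →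
          B ⊆ (R : Set G) → rconj e B ⊆ (R : Set G) → Good B e := by
        intro W hW e B he hB hBe
        by_cases hcase : R = (S : Subgroup G)
        · refine ⟨e, FC.single hW ⟨Subgroup.mem_top _, hcase ▸ he.2⟩ ?_ ?_, fun a _ => rfl⟩
          · exact hB.trans (SetLike.coe_subset_coe.mpr hRS)
          · exact hBe.trans (SetLike.coe_subset_coe.mpr hRS)
        · have hRlt : R < (S : Subgroup G) := lt_of_le_of_ne inf_le_left hcase
          have hTR : T ≤ R := le_inf hT.1 Subgroup.le_normalizer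
          have hR1 : R ≠ ⊥ := fun h0 => hT1 (le_bot_iff.mp (h0 ▸ hTR))
          have hWf := h𝓦 W hW
          set V := W R with hV
          have hV1 : V ≠ ⊥ := (hWf R hRp).2.1 hR1
          have hVS : V ≤ (S : Subgroup G) := (functor_le hWf hRp).trans inf_le_left
          have hlt : R < (S : Subgroup G) ⊓ Subgroup.normalizer (R : Set G) :=
            lt_inf_normalizer_of_lt S.2 hRlt
          have hle : (S : Subgroup G) ⊓ Subgroup.normalizer (R : Set G) ≤
              (S : Subgroup G) ⊓ Subgroup.normalizer (V : Set G) :=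
            inf_le_inf_left _ (normalizer_le_normalizer_functor hWf hRp)
          have hlt2 : R < (S : Subgroup G) ⊓ Subgroup.normalizer (V : Set G) :=
            lt_of_lt_of_le hlt hle
          have hc2 := card_lt_card_of_lt hlt2
          obtain ⟨k, hkS, hkN, hki⟩ := exists_conj_normalizer_sylow S hVS
          set V' := V.map (MulAut.conj k).toMonoidHom with hV'
          have hV'𝓕 : V' ∈ sylNormFamily p (S : Subgroup G) := ⟨hkS, hki⟩
          have hV'1 : V' ≠ ⊥ := by
            intro h0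
            apply hV1
            have : Nat.card V' = Nat.card V := card_map_conj _ _
            rw [h0] at this
            exact (Subgroup.card_eq_one.mp (by rw [← this]; simp))
          have hc3 : Nat.card ((S : Subgroup G) ⊓ Subgroup.normalizer (V : Set G) : Subgroup G) ≤
              Nat.card ((S : Subgroup G) ⊓ Subgroup.normalizer (V' : Set G) : Subgroup G) := by
            rw [← card_map_conj k]
            exact Subgroup.card_le_of_le hkN
          have hCV' := hC V' hV'𝓕 hV'1 (by omega)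
          have hgoodR1 : Good (((S : Subgroup G) ⊓ Subgroup.normalizer (V : Set G) : Subgroup G) : Set G)
              k⁻¹ := hP _ inf_le_left hc2 k⁻¹ (by rw [inv_inv]; exact hkN.trans inf_le_left)
          have hBR1 : B ⊆ (((S : Subgroup G) ⊓ Subgroup.normalizer (V : Set G) : Subgroup G) : Set G) :=
            hB.trans (SetLike.coe_subset_coe.mpr hlt2.le)
          have hBeR1 : rconj e B ⊆
              (((S : Subgroup G) ⊓ Subgroup.normalizer (V : Set G) : Subgroup G) : Set G) :=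
            hBe.trans (SetLike.coe_subset_coe.mpr hlt2.le)
          have g1 : Good B k⁻¹ := hres hgoodR1 hBR1
          have g2 : Good (rconj e B) k⁻¹ := hres hgoodR1 hBeR1
          have g2' : Good (rconj k⁻¹ (rconj e B)) k := by
            have := hsymm g2
            rwa [inv_inv] at this
          -- the middle
          have hsubk : ∀ {B' : Set G},
              B' ⊆ (((S : Subgroup G) ⊓ Subgroup.normalizer (V : Set G) : Subgroup G) : Set G) →
              rconj k⁻¹ B' ⊆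
                (((S : Subgroup G) ⊓ Subgroup.normalizer (V' : Set G) : Subgroup G) : Set G) := by
            intro B' hB'
            rintro _ ⟨b, hb, rfl⟩
            rw [inv_inv]
            exact hkN (conj_mem_map_conj (hB' hb))
          have hx' : k * e * k⁻¹ ∈ Subgroup.normalizer (V' : Set G) :=
            conj_mem_normalizer_map_conj k he.2
          have e3 : rconj (k * e * k⁻¹) (rconj k⁻¹ B) = rconj k⁻¹ (rconj e B) := by
            rw [← rconj_mul, ← rconj_mul]
            congr 1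
            group
          have g3 : Good (rconj k⁻¹ B) (k * e * k⁻¹) := by
            apply hCV' _ _ (hsubk hBR1) hx'
            rw [e3]
            exact hsubk hBeR1
          have g4 : Good B (k⁻¹ * (k * e * k⁻¹)) := htrans g1 g3
          have e4 : rconj (k⁻¹ * (k * e * k⁻¹)) B = rconj k⁻¹ (rconj e B) := by
            rw [rconj_mul, e3]
          have g5 : Good B (k⁻¹ * (k * e * k⁻¹) * k) := htrans g4 (by rw [e4]; exact g2')
          have e5 : k⁻¹ * (k * e * k⁻¹) * k = e := by group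
          rwa [e5] at g5
      -- chains in N(T) relative to R
      have hchain : ∀ (B : Set G) (c : G),
          FC 𝓦 (Subgroup.normalizer (T : Set G)) R B c → Good B c := by
        intro B c hfc
        induction hfc with
        | nil B hB =>
          exact ⟨1, FC.nil _ (hB.trans (SetLike.coe_subset_coe.mpr hRS)), fun a _ => rfl⟩
        | cons B e g W hW he hB htail ih =>
          exact htrans (hstep W hW e B he hB htail.subset_left) ih
      intro B x hB hx hBx
      have hxinv : x⁻¹ ∈ Subgroup.normalizer (T : Set G) := inv_mem hx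
      have hBx' : (fun a => x⁻¹ * a * x⁻¹⁻¹) '' B ⊆ (R : Set G) := by
        rintro _ ⟨b, hb, rfl⟩
        rw [inv_inv]
        exact hBx ⟨b, hb, rfl⟩
      obtain ⟨c, hfc, hca⟩ := familyControlsStrongFusionIn_sylowIn h𝓦 (hloc T hT.1 hT1 hT.2) hRp
        inf_le_right hT.2 B x⁻¹ hxinv hB hBx'
      obtain ⟨c', hfc', hca'⟩ := hchain B c hfc
      refine ⟨c', hfc', ?_⟩
      intro a ha
      rw [hca' a ha, hca a ha, inv_inv]
  intro A h _ hA hAh
  have hQ : Subgroup.closure A ≤ (S : Subgroup G) := (Subgroup.closure_le _).mpr hA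
  have hQh : (Subgroup.closure A).map (MulAut.conj h⁻¹⁻¹).toMonoidHom ≤ (S : Subgroup G) := by
    rw [MonoidHom.map_closure, Subgroup.closure_le]
    rintro _ ⟨a, ha, rfl⟩
    apply hAh
    exact ⟨a, ha, by simp⟩
  obtain ⟨c, hfc, hca⟩ := hgood _ hQ h⁻¹ hQh
  refine ⟨c, hfc.restrict Subgroup.subset_closure, ?_⟩
  intro a ha
  rw [hca a (Subgroup.subset_closure ha), inv_inv]

end Cfsg.Agent.Lib.H10
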