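import Mathlib
import Cfsg.Prelude.Def_ConjugacyFunctors
import Cfsg.Agent.Lib.H10.FamilyFusion

/-! The relation "conjugation by `g` on `A` is induced by a chain" for a set of conjugacy functors,
its closure properties, the factorization lemma and an Alperin-style reduction (helper10). -/

set_option autoImplicit false

namespace Cfsg.Agent.Lib.H10

open Cfsg

variable {G : Type*} [Group G]

/-- right conjugation by `g` on `A` is induced by a chain of steps in the normalizers `N(W S)`,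
`W ∈ 𝓦`, with all intermediate images inside `S`. -/
def GoodF (𝓦 : Set (Subgroup G → Subgroup G)) (S : Subgroup G) (A : Set G) (g : G) : Prop :=
  ∃ c : G, FC 𝓦 ⊤ S A c ∧ ∀ a ∈ A, c⁻¹ * a * c = g⁻¹ * a * g

/-- every conjugation between subsets of `S` is induced by a chain. -/
def CtlF (𝓦 : Set (Subgroup G → Subgroup G)) (S : Subgroup G) : Prop :=
  ∀ (A : Set G) (g : G), A ⊆ (S : Set G) → rconj g A ⊆ (S : Set G) → GoodF 𝓦 S A g

variable {𝓦 : Set (Subgroup G → Subgroup G)} {S : Subgroup G}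

theorem GoodF.subset_left {A : Set G} {g : G} (h : GoodF 𝓦 S A g) : A ⊆ (S : Set G) := by
  obtain ⟨c, hc, -⟩ := h
  exact hc.subset_left

theorem GoodF.subset_right {A : Set G} {g : G} (h : GoodF 𝓦 S A g) : rconj g A ⊆ (S : Set G) := by
  obtain ⟨c, hc, hca⟩ := h
  rw [← rconj_congr hca]
  exact hc.subset_right

theorem GoodF.restrict {A B : Set G} {g : G} (h : GoodF 𝓦 S A g) (hBA : B ⊆ A) : GoodF 𝓦 S B g := by
  obtain ⟨c, hc, hca⟩ := h
  exact ⟨c, hc.restrict hBA, fun a ha => hca a (hBA ha)⟩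

theorem GoodF.trans {A : Set G} {g h : G} (h1 : GoodF 𝓦 S A g) (h2 : GoodF 𝓦 S (rconj g A) h) :
    GoodF 𝓦 S A (g * h) := by
  obtain ⟨c₁, hc₁, hca₁⟩ := h1
  obtain ⟨c₂, hc₂, hca₂⟩ := h2
  refine ⟨c₁ * c₂, hc₁.trans (by rw [rconj_congr hca₁]; exact hc₂), ?_⟩
  intro a ha
  have h1 := hca₁ a ha
  have h2 := hca₂ (g⁻¹ * a * g) ⟨a, ha, rfl⟩
  have e1 : (c₁ * c₂)⁻¹ * a * (c₁ * c₂) = c₂⁻¹ * (c₁⁻¹ * a * c₁) * c₂ := by group
  rw [e1, h1, h2]
  group

theorem GoodF.symm {A : Set G} {g : G} (h : GoodF 𝓦 S A g) : GoodF 𝓦 S (rconj g A) g⁻¹ := by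
  obtain ⟨c, hc, hca⟩ := h
  refine ⟨c⁻¹, by rw [← rconj_congr hca]; exact hc.symm, ?_⟩
  rintro _ ⟨a, ha, rfl⟩
  change c⁻¹⁻¹ * (g⁻¹ * a * g) * c⁻¹ = g⁻¹⁻¹ * (g⁻¹ * a * g) * g⁻¹
  calc c⁻¹⁻¹ * (g⁻¹ * a * g) * c⁻¹ = c⁻¹⁻¹ * (c⁻¹ * a * c) * c⁻¹ := by rw [hca a ha]
    _ = a := by group
    _ = g⁻¹⁻¹ * (g⁻¹ * a * g) * g⁻¹ := by group

theorem GoodF.congr {A : Set G} {g g' : G} (h : GoodF 𝓦 S A g)
    (hg : ∀ a ∈ A, g⁻¹ * a * g = g'⁻¹ * a * g') : GoodF 𝓦 S A g' := by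
  obtain ⟨c, hc, hca⟩ := h
  exact ⟨c, hc, fun a ha => (hca a ha).trans (hg a ha)⟩

theorem GoodF.of_centralizes {A : Set G} {g : G} (hA : A ⊆ (S : Set G))
    (hg : ∀ a ∈ A, g⁻¹ * a * g = a) : GoodF 𝓦 S A g :=
  ⟨1, FC.nil _ hA, fun a ha => by rw [hg a ha]; group⟩

theorem GoodF.one {A : Set G} (hA : A ⊆ (S : Set G)) : GoodF 𝓦 S A 1 :=
  GoodF.of_centralizes hA (fun a _ => by group)

theorem FC.mono {H H' T₀ : Subgroup G} (hH : H ≤ H') {A : Set G} {g : G} (h : FC 𝓦 H T₀ A g) :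
    FC 𝓦 H' T₀ A g := by
  induction h with
  | nil A hA => exact FC.nil _ hA
  | cons A e g W hW he hA _ ih =>
    exact FC.cons A e g W hW ⟨hH he.1, he.2⟩ hA ih

/-- a single step -/
theorem GoodF.single {A : Set G} {e : G} {W : Subgroup G → Subgroup G} (hW : W ∈ 𝓦)
    (he : e ∈ Subgroup.normalizer ((W S : Subgroup G) : Set G)) (hA : A ⊆ (S : Set G))
    (hAe : rconj e A ⊆ (S : Set G)) : GoodF 𝓦 S A e :=
  ⟨e, FC.single hW ⟨Subgroup.mem_top _, he⟩ hA hAe, fun _ _ => rfl⟩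

theorem rconj_subset_of_map_le {A : Set G} {g : G} {Q T : Subgroup G} (hA : A ⊆ (Q : Set G))
    (h : Q.map (MulAut.conj g⁻¹).toMonoidHom ≤ T) : rconj g A ⊆ (T : Set G) := by
  rintro _ ⟨a, ha, rfl⟩
  apply h
  refine ⟨a, hA ha, ?_⟩
  simp

theorem closure_map_conj_le {A : Set G} {g : G} {T : Subgroup G} (h : rconj g A ⊆ (T : Set G)) :
    (Subgroup.closure A).map (MulAut.conj g⁻¹).toMonoidHom ≤ T := by
  rw [Subgroup.map_le_iff_le_comap, Subgroup.closure_le]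
  intro a ha
  have := h ⟨a, ha, rfl⟩
  simpa [MulAut.conj_apply] using this

/-- control of strong fusion by a family, for a given Sylow subgroup, from the Prelude predicate -/
theorem goodF_of_familyControlsIn {p : ℕ} [Fact p.Prime] [Finite G]
    (h𝓦 : ∀ W ∈ 𝓦, IsConjugacyFunctor p W) {X : Subgroup G}
    (hc : FamilyControlsStrongFusionIn p 𝓦 X) (hS : IsPGroup p S) (hSX : S ≤ X)
    (hSi : ¬ p ∣ S.relIndex X) {A : Set G} {g : G} (hg : g ∈ X) (hA : A ⊆ (S : Set G))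
    (hAg : rconj g A ⊆ (S : Set G)) : GoodF 𝓦 S A g := by
  have hAg' : (fun a => g⁻¹ * a * g⁻¹⁻¹) '' A ⊆ (S : Set G) := by
    rintro _ ⟨a, ha, rfl⟩
    rw [inv_inv]
    exact hAg ⟨a, ha, rfl⟩
  obtain ⟨c, hc, hca⟩ :=
    familyControlsStrongFusionIn_sylowIn h𝓦 hc hS hSX hSi A g⁻¹ (X.inv_mem hg) hA hAg'
  refine ⟨c, hc.mono le_top, ?_⟩
  intro a ha
  rw [hca a ha, inv_inv]

theorem ctlF_of_familyControls {p : ℕ} [Fact p.Prime] [Finite G]
    (h𝓦 : ∀ W ∈ 𝓦, IsConjugacyFunctor p W)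
    (hc : FamilyControlsStrongFusionIn p 𝓦 ⊤) (hS : IsPGroup p S) (hSi : ¬ p ∣ S.index) :
    CtlF 𝓦 S := by
  intro A g hA hAg
  exact goodF_of_familyControlsIn h𝓦 hc hS le_top (by rwa [Subgroup.relIndex_top_right])
    (Subgroup.mem_top g) hA hAg

theorem familyControls_of_ctlF {p : ℕ} (hS : IsPGroup p S) (hSi : ¬ p ∣ S.index)
    (h : CtlF 𝓦 S) : FamilyControlsStrongFusionIn p 𝓦 ⊤ := by
  rw [familyControlsStrongFusionIn_iff_chain]
  refine ⟨S, le_top, hS, by rwa [Subgroup.relIndex_top_right], ?_⟩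
  intro A g _ hA hAg
  have hAg' : rconj g⁻¹ A ⊆ (S : Set G) := by
    rintro _ ⟨a, ha, rfl⟩
    have := hAg ⟨a, ha, rfl⟩
    simpa using this
  obtain ⟨c, hc, hca⟩ := h A g⁻¹ hA hAg'
  refine ⟨c, hc, ?_⟩
  intro a ha
  rw [hca a ha, inv_inv]

/-- The factorization lemma: if `G = X Y` with `S ≤ X ∩ Y` and conjugation by elements of `X` and of
`Y` between subsets of `S` is induced by chains, then so is every conjugation. -/
theorem ctlF_of_factorization {p : ℕ} [Fact p.Prime] [Finite G] (S : Sylow p G)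
    {X Y : Subgroup G} (hSX : (S : Subgroup G) ≤ X) (hSY : (S : Subgroup G) ≤ Y)
    (hfac : ∀ g : G, ∃ x ∈ X, ∃ y ∈ Y, g = x * y)
    (hX : ∀ (A : Set G) (g : G), g ∈ X → A ⊆ ((S : Subgroup G) : Set G) →
      rconj g A ⊆ ((S : Subgroup G) : Set G) → GoodF 𝓦 (S : Subgroup G) A g)
    (hY : ∀ (A : Set G) (g : G), g ∈ Y → A ⊆ ((S : Subgroup G) : Set G) →
      rconj g A ⊆ ((S : Subgroup G) : Set G) → GoodF 𝓦 (S : Subgroup G) A g) :
    CtlF 𝓦 (S : Subgroup G) := by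
  intro A g hA hAg
  obtain ⟨x, hx, y, hy, rfl⟩ := hfac g
  set B : Subgroup G := (Subgroup.closure A).map (MulAut.conj x⁻¹).toMonoidHom with hB
  have hclS : Subgroup.closure A ≤ (S : Subgroup G) := (Subgroup.closure_le _).2 hA
  have hBp : IsPGroup p B := (S.2.to_le hclS).map _
  have hBX : B ≤ X := by
    rintro _ ⟨a, ha, rfl⟩
    simp only [MulEquiv.coe_toMonoidHom, MulAut.conj_apply, inv_inv]
    exact X.mul_mem (X.mul_mem (X.inv_mem hx) (hSX (hclS ha))) hx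
  have hBY : B ≤ Y := by
    rintro _ ⟨a, ha, rfl⟩
    simp only [MulEquiv.coe_toMonoidHom, MulAut.conj_apply, inv_inv]
    have h1 : (x * y)⁻¹ * a * (x * y) ∈ (S : Subgroup G) := by
      have := closure_map_conj_le hAg
      apply this
      exact ⟨a, ha, by simp [mul_assoc]⟩
    have e : x⁻¹ * a * x = y * ((x * y)⁻¹ * a * (x * y)) * y⁻¹ := by group
    rw [e]
    exact Y.mul_mem (Y.mul_mem hy (hSY h1)) (Y.inv_mem hy)
  have hSi : ¬ p ∣ (S : Subgroup G).relIndex (X ⊓ Y) :=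
    not_dvd_relIndex_of_sylow_le S (le_inf hSX hSY)
  obtain ⟨m, hm, hmB⟩ :=
    exists_mem_map_conj_le_of_sylowIn S.2 (le_inf hSX hSY) hSi hBp (le_inf hBX hBY)
  have hm' := Subgroup.mem_inf.1 hm
  -- first step: `x * m⁻¹`
  have hA1 : rconj (x * m⁻¹) A ⊆ ((S : Subgroup G) : Set G) := by
    rintro _ ⟨a, ha, rfl⟩
    apply hmB
    refine ⟨x⁻¹ * a * x, ⟨a, Subgroup.subset_closure ha, by simp⟩, ?_⟩
    simp only [MulEquiv.coe_toMonoidHom, MulAut.conj_apply]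
    group
  have g1 : GoodF 𝓦 (S : Subgroup G) A (x * m⁻¹) :=
    hX A _ (X.mul_mem hx (X.inv_mem hm'.1)) hA hA1
  have hA2 : rconj (m * y) (rconj (x * m⁻¹) A) ⊆ ((S : Subgroup G) : Set G) := by
    rw [← rconj_mul]
    have : x * m⁻¹ * (m * y) = x * y := by group
    rw [this]
    exact hAg
  have g2 : GoodF 𝓦 (S : Subgroup G) (rconj (x * m⁻¹) A) (m * y) :=
    hY _ _ (Y.mul_mem hm'.2 hy) hA1 hA2
  have := g1.trans g2
  have e : x * m⁻¹ * (m * y) = x * y := by group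
  rwa [e] at this

/-- Alperin-style reduction: it suffices to treat the normalizers of the members of the family of
subgroups `U ≤ S` with `N_S(U)` Sylow in `N(U)`, assuming the claim for all larger subgroups. -/
theorem ctlF_of_local {p : ℕ} [Fact p.Prime] [Finite G] (S : Sylow p G)
    (hloc : ∀ U ∈ sylNormFamily p (S : Subgroup G),
      (∀ Q : Subgroup G, Q ≤ (S : Subgroup G) → Nat.card U < Nat.card Q → ∀ g : G,
        Q.map (MulAut.conj g⁻¹).toMonoidHom ≤ (S : Subgroup G) →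
        GoodF 𝓦 (S : Subgroup G) (Q : Set G) g) →
      ∀ x ∈ Subgroup.normalizer (U : Set G), GoodF 𝓦 (S : Subgroup G) (U : Set G) x) :
    CtlF 𝓦 (S : Subgroup G) := by
  have main : ∀ (n : ℕ) (Q : Subgroup G), Q ≤ (S : Subgroup G) →
      Nat.card (S : Subgroup G) - Nat.card Q = n → ∀ g : G,
      Q.map (MulAut.conj g⁻¹).toMonoidHom ≤ (S : Subgroup G) →
      GoodF 𝓦 (S : Subgroup G) (Q : Set G) g := by
    intro n
    induction n using Nat.strong_induction_on with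
    | _ n ih =>
    intro Q hQ hn g hg
    have hbig : ∀ Q' : Subgroup G, Q' ≤ (S : Subgroup G) → Nat.card Q < Nat.card Q' → ∀ g' : G,
        Q'.map (MulAut.conj g'⁻¹).toMonoidHom ≤ (S : Subgroup G) →
        GoodF 𝓦 (S : Subgroup G) (Q' : Set G) g' := by
      intro Q' hQ' hlt g' hg'
      have h1 := Subgroup.card_le_of_le hQ'
      exact ih (Nat.card (S : Subgroup G) - Nat.card Q') (by omega) Q' hQ' rfl g' hg'
    apply alperin_step S (GoodF 𝓦 (S : Subgroup G)) (fun h hBA => h.restrict hBA)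
      (fun h1 h2 => h1.trans h2) (fun h => h.symm) Q hQ g hg hbig
    intro U hU hUQ x hx
    apply hloc U hU _ x hx
    intro Q' hQ' hlt g' hg'
    exact hbig Q' hQ' (hUQ ▸ hlt) g' hg'
  intro A g hA hAg
  have hcl : Subgroup.closure A ≤ (S : Subgroup G) := (Subgroup.closure_le _).2 hA
  have := main _ (Subgroup.closure A) hcl rfl g (closure_map_conj_le hAg)
  exact this.restrict Subgroup.subset_closure

end Cfsg.Agent.Lib.H10
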