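import Mathlib
import Cfsg.Prelude.Def_ConjugacyFunctors
import Cfsg.Agent.Lib.H10.GoodF
import Cfsg.Agent.Lib.H10.CharFunctor2

/-! Sets of isomorphism-invariant functors: the induced families of conjugacy functors, transport
along injective homomorphisms, and lifting of chains through quotients (helper10). -/

set_option autoImplicit false

namespace Cfsg.Agent.Lib.H10

open Cfsg

universe u

/-- the family of conjugacy functors on `H` induced by a set of functors on groups -/
def IF (𝓦 : Set (∀ (Q : Type u) [Group Q], Subgroup Q)) (H : Type u) [Group H] :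
    Set (Subgroup H → Subgroup H) :=
  (fun W => inducedFunctor (G := H) W) '' 𝓦

variable {𝓦 : Set (∀ (Q : Type u) [Group Q], Subgroup Q)}
variable {H : Type u} [Group H] {H' : Type u} [Group H']

theorem isConjugacyFunctor_of_mem_IF [Finite H] {p : ℕ} (h𝓦 : ∀ W ∈ 𝓦, IsCharPFunctor.{u} p W) :
    ∀ W' ∈ IF 𝓦 H, IsConjugacyFunctor p W' := by
  rintro _ ⟨W, hW, rfl⟩
  exact isConjugacyFunctor_inducedFunctor (h𝓦 W hW)

theorem image_rconj {G G' : Type*} [Group G] [Group G'] (f : G →* G') (e : G) (A : Set G) :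
    f '' rconj e A = rconj (f e) (f '' A) := by
  unfold rconj
  rw [Set.image_image, Set.image_image]
  apply Set.image_congr
  intro a _
  simp [map_mul, map_inv]

/-- chains map along homomorphisms compatible with the functors -/
theorem FC.map_hom (f : H →* H') {X T : Subgroup H} {X' : Subgroup H'} (hX : X.map f ≤ X')
    (hf : ∀ W ∈ 𝓦, (inducedFunctor W T).map f = inducedFunctor W (T.map f)) {A : Set H} {g : H}
    (h : FC (IF 𝓦 H) X T A g) : FC (IF 𝓦 H') X' (T.map f) (f '' A) (f g) := by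
  induction h with
  | nil A hA =>
    rw [map_one]
    refine FC.nil _ ?_
    rintro _ ⟨a, ha, rfl⟩
    exact ⟨a, hA ha, rfl⟩
  | cons A e g W' hW' he hA _ ih =>
    obtain ⟨W, hW, rfl⟩ := hW'
    rw [map_mul]
    refine FC.cons _ _ _ (inducedFunctor W) ⟨W, hW, rfl⟩ ⟨hX ⟨e, he.1, rfl⟩, ?_⟩ ?_ ?_
    · rw [← hf W hW]
      exact Subgroup.le_normalizer_map f ⟨e, he.2, rfl⟩
    · rintro _ ⟨a, ha, rfl⟩
      exact ⟨a, hA ha, rfl⟩
    · rw [← image_rconj]
      exact ih

/-- transport of control of strong fusion by a family along an injective homomorphism -/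
theorem familyControlsIn_map_of_injective [Finite H] {p : ℕ}
    (h𝓦 : ∀ W ∈ 𝓦, IsCharPFunctor.{u} p W) (f : H →* H') (hf : Function.Injective f)
    (X : Subgroup H) (h : FamilyControlsStrongFusionIn p (IF 𝓦 H) X) :
    FamilyControlsStrongFusionIn p (IF 𝓦 H') (X.map f) := by
  rw [familyControlsStrongFusionIn_iff_chain] at h ⊢
  obtain ⟨T₀, hT₀X, hT₀, hT₀i, hctl⟩ := h
  refine ⟨T₀.map f, Subgroup.map_mono hT₀X, hT₀.map _, ?_, ?_⟩
  · rwa [Subgroup.relIndex_map_map_of_injective _ _ hf]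
  · rintro A _ ⟨h, hh, rfl⟩ hA hAh
    have hA0 : f ⁻¹' A ⊆ (T₀ : Set H) := by
      intro a ha
      obtain ⟨t, ht, hta⟩ := hA ha
      rw [← hf hta]; exact ht
    have hAh0 : (fun a => h * a * h⁻¹) '' (f ⁻¹' A) ⊆ (T₀ : Set H) := by
      rintro _ ⟨a, ha, rfl⟩
      obtain ⟨t, ht, hta⟩ := hAh ⟨f a, ha, rfl⟩
      have : t = h * a * h⁻¹ := by
        apply hf
        rw [hta]; simp [map_mul, map_inv]
      show h * a * h⁻¹ ∈ T₀
      rw [← this]; exact ht
    obtain ⟨g, hg, hga⟩ := hctl (f ⁻¹' A) h hh hA0 hAh0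
    have himg : f '' (f ⁻¹' A) = A := by
      apply Set.image_preimage_eq_of_subset
      intro a ha
      obtain ⟨t, -, hta⟩ := hA ha
      exact ⟨t, hta⟩
    refine ⟨f g, ?_, ?_⟩
    · have := FC.map_hom (𝓦 := 𝓦) f (X := X) (T := T₀) (X' := X.map f) le_rfl
        (fun W hW => inducedFunctor_map_injOn (h𝓦 W hW) f T₀ hT₀ hf.injOn) hg
      rwa [himg] at this
    · intro a ha
      obtain ⟨t, -, rfl⟩ := hA ha
      have := hga t ha
      rw [← map_inv, ← map_mul, ← map_mul, this]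
      simp [map_mul, map_inv]

theorem familyControlsIn_of_subgroup [Finite H] {p : ℕ}
    (h𝓦 : ∀ W ∈ 𝓦, IsCharPFunctor.{u} p W) (L : Subgroup H)
    (h : FamilyControlsStrongFusionIn p (IF 𝓦 ↥L) ⊤) :
    FamilyControlsStrongFusionIn p (IF 𝓦 H) L := by
  have := familyControlsIn_map_of_injective h𝓦 L.subtype L.subtype_injective ⊤ h
  rwa [← MonoidHom.range_eq_map, Subgroup.range_subtype] at this

theorem familyControls_of_equiv [Finite H] {p : ℕ}
    (h𝓦 : ∀ W ∈ 𝓦, IsCharPFunctor.{u} p W) (e : H ≃* H')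
    (h : FamilyControlsStrongFusionIn p (IF 𝓦 H) ⊤) :
    FamilyControlsStrongFusionIn p (IF 𝓦 H') ⊤ := by
  have := familyControlsIn_map_of_injective h𝓦 e.toMonoidHom e.injective ⊤ h
  rwa [Subgroup.map_top_of_surjective _ e.surjective] at this

/-- Lifting chains through a quotient whose kernel lies in `S`: if every lift of a step is good, then
every chain in the quotient lifts to a good element. -/
theorem exists_lift_goodF {P S : Subgroup H} [P.Normal] (hPS : P ≤ S)
    (hL : ∀ W ∈ 𝓦, ∀ e : H,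
      QuotientGroup.mk' P e ∈ Subgroup.normalizer
        ((inducedFunctor W (S.map (QuotientGroup.mk' P)) : Subgroup (H ⧸ P)) : Set (H ⧸ P)) →
      ∀ A : Set H, A ⊆ (S : Set H) → rconj e A ⊆ (S : Set H) → GoodF (IF 𝓦 H) S A e)
    {Ab : Set (H ⧸ P)} {gb : H ⧸ P}
    (h : FC (IF 𝓦 (H ⧸ P)) ⊤ (S.map (QuotientGroup.mk' P)) Ab gb) :
    ∀ A : Set H, A ⊆ (S : Set H) → QuotientGroup.mk' P '' A ⊆ Ab →
      ∃ g : H, QuotientGroup.mk' P g = gb ∧ GoodF (IF 𝓦 H) S A g := by
  induction h with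
  | nil Ab _ =>
    intro A hA _
    exact ⟨1, map_one _, GoodF.one hA⟩
  | cons Ab eb gb W' hW' he hAb tail ih =>
    intro A hA hAAb
    obtain ⟨W, hW, rfl⟩ := hW'
    obtain ⟨e, rfl⟩ := QuotientGroup.mk'_surjective P eb
    have hAe : rconj e A ⊆ (S : Set H) := by
      rintro _ ⟨a, ha, rfl⟩
      have h1 : QuotientGroup.mk' P (e⁻¹ * a * e) ∈ S.map (QuotientGroup.mk' P) := by
        apply tail.subset_left
        refine ⟨QuotientGroup.mk' P a, hAAb ⟨a, ha, rfl⟩, ?_⟩
        simp [map_mul, map_inv]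
      have h2 : e⁻¹ * a * e ∈ (S.map (QuotientGroup.mk' P)).comap (QuotientGroup.mk' P) := h1
      rw [Subgroup.comap_map_eq, QuotientGroup.ker_mk', sup_eq_left.2 hPS] at h2
      exact h2
    have g1 := hL W hW e he.2 A hA hAe
    have hsub : QuotientGroup.mk' P '' rconj e A ⊆ rconj (QuotientGroup.mk' P e) Ab := by
      rw [image_rconj]
      exact rconj_mono _ hAAb
    obtain ⟨g₂, hg₂, g2⟩ := ih (rconj e A) hAe hsub
    exact ⟨e * g₂, by rw [map_mul, hg₂], g1.trans g2⟩

end Cfsg.Agent.Lib.H10
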