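import Mathlib
import Cfsg.Prelude.Def_ConjugacyFunctors
import Cfsg.Agent.Lib.H10.SecFamily

/-! Lifting control of strong fusion by a set of functors through a quotient by a normal
`p'`-subgroup (helper10). -/

set_option autoImplicit false

namespace Cfsg.Agent.Lib.H10

open Cfsg

universe u

variable {𝓦 : Set (∀ (Q : Type u) [Group Q], Subgroup Q)}
variable {H : Type u} [Group H]

theorem not_dvd_relIndex_sup_of_coprime [Finite H] {p : ℕ} [hp : Fact p.Prime] (D V : Subgroup H)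
    [D.Normal] (hD : (Nat.card D).Coprime p) (hV : IsPGroup p V) : ¬ p ∣ V.relIndex (V ⊔ D) := by
  intro hdvd
  obtain ⟨k, hk⟩ := IsPGroup.iff_card.mp hV
  have hVm : IsPGroup p (V.map (QuotientGroup.mk' D)) := hV.map _
  obtain ⟨j, hj⟩ := IsPGroup.iff_card.mp hVm
  have h1 : Nat.card V * V.relIndex (V ⊔ D) = Nat.card ((V ⊔ D : Subgroup H)) := by
    have := Subgroup.relIndex_mul_relIndex ⊥ V (V ⊔ D) bot_le le_sup_left
    rwa [Subgroup.relIndex_bot_left, Subgroup.relIndex_bot_left] at this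
  have h2 : Nat.card D * D.relIndex (V ⊔ D) = Nat.card ((V ⊔ D : Subgroup H)) := by
    have := Subgroup.relIndex_mul_relIndex ⊥ D (V ⊔ D) bot_le le_sup_right
    rwa [Subgroup.relIndex_bot_left, Subgroup.relIndex_bot_left] at this
  have h3 : D.relIndex (V ⊔ D) = Nat.card (V.map (QuotientGroup.mk' D)) := by
    have := Subgroup.relIndex_ker (K := V ⊔ D) (QuotientGroup.mk' D)
    rw [QuotientGroup.ker_mk'] at this
    rw [this, Subgroup.map_sup,
      (Subgroup.map_eq_bot_iff D).2 (le_of_eq (QuotientGroup.ker_mk' D).symm), sup_bot_eq]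
  have h4 : Nat.card (V.map (QuotientGroup.mk' D)) ≤ Nat.card V :=
    Nat.card_le_card_of_surjective _ ((QuotientGroup.mk' D).subgroupMap_surjective V)
  rw [h3, hj] at h2
  rw [hk] at h1 h4
  rw [hj] at h4
  have hjk : j ≤ k := (Nat.pow_le_pow_iff_right hp.out.one_lt).1 h4
  obtain ⟨a, ha⟩ := hdvd
  have h5 : p ^ (k + 1) ∣ Nat.card D * p ^ j := by
    rw [h2, ← h1, ha]
    exact ⟨a, by ring⟩
  have hcop : (p ^ (k + 1)).Coprime (Nat.card D) := (hD.symm).pow_left _
  have h6 : p ^ (k + 1) ∣ p ^ j := hcop.dvd_of_dvd_mul_left h5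
  have := (Nat.pow_dvd_pow_iff_le_right hp.out.one_lt).1 h6
  omega

theorem injOn_mk_of_coprime [Finite H] {p : ℕ} [hp : Fact p.Prime] (D : Subgroup H) [D.Normal]
    (hD : (Nat.card D).Coprime p) {S : Subgroup H} (hS : IsPGroup p S) :
    Set.InjOn (QuotientGroup.mk' D) (S : Set H) := by
  obtain ⟨k, hk⟩ := IsPGroup.iff_card.mp hS
  have hdisj : S ⊓ D = ⊥ := by
    rw [← disjoint_iff]
    apply Subgroup.disjoint_of_coprime_natCard
    rw [hk]
    exact (hD.symm).pow_left _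
  intro a ha b hb hab
  have h1 : a⁻¹ * b ∈ D := by
    rw [← QuotientGroup.eq]
    exact hab
  have h2 : a⁻¹ * b ∈ S ⊓ D := Subgroup.mem_inf.2 ⟨S.mul_mem (S.inv_mem ha) hb, h1⟩
  rw [hdisj, Subgroup.mem_bot] at h2
  exact (inv_mul_eq_one.1 h2)

/-- lifting normalizing elements through a quotient by a normal `p'`-subgroup -/
theorem exists_lift_mem_normalizer [Finite H] {p : ℕ} [hp : Fact p.Prime] (D : Subgroup H)
    [D.Normal] (hD : (Nat.card D).Coprime p) {V : Subgroup H} (hV : IsPGroup p V)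
    {eb : H ⧸ D}
    (heb : eb ∈ Subgroup.normalizer ((V.map (QuotientGroup.mk' D) : Subgroup (H ⧸ D)) : Set (H ⧸ D))) :
    ∃ e ∈ Subgroup.normalizer (V : Set H), QuotientGroup.mk' D e = eb := by
  obtain ⟨e, rfl⟩ := QuotientGroup.mk'_surjective D eb
  set V' := V.map (MulAut.conj e).toMonoidHom with hV'
  have hV'le : V' ≤ V ⊔ D := by
    rintro _ ⟨v, hv, rfl⟩
    have h1 : QuotientGroup.mk' D (e * v * e⁻¹) ∈ V.map (QuotientGroup.mk' D) := by
      rw [map_mul, map_mul, map_inv]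
      exact (Subgroup.mem_normalizer_iff.1 heb _).1 ⟨v, hv, rfl⟩
    have h2 : e * v * e⁻¹ ∈ (V.map (QuotientGroup.mk' D)).comap (QuotientGroup.mk' D) := h1
    rw [Subgroup.comap_map_eq, QuotientGroup.ker_mk'] at h2
    simpa [MulAut.conj_apply] using h2
  have hVi := not_dvd_relIndex_sup_of_coprime D V hD hV
  obtain ⟨m, hm, hmV⟩ :=
    exists_mem_map_conj_le_of_sylowIn hV le_sup_left hVi (hV.map _ : IsPGroup p V') hV'le
  have hmV' : V'.map (MulAut.conj m).toMonoidHom = V :=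
    eq_of_le_of_card_map_conj hmV (by rw [hV', card_map_conj])
  rw [hV', map_conj_map_conj] at hmV'
  obtain ⟨v, hv, d, hd, hvd⟩ := (Subgroup.mem_sup_of_normal_right).1 hm
  -- `v⁻¹ * (m * e) = d * e` normalizes `V`
  have hme : m * e ∈ Subgroup.normalizer (V : Set H) := mem_normalizer_iff_map_conj.2 hmV'
  have hvN : v ∈ Subgroup.normalizer (V : Set H) := Subgroup.le_normalizer hv
  refine ⟨v⁻¹ * (m * e), Subgroup.mul_mem _ (Subgroup.inv_mem _ hvN) hme, ?_⟩
  rw [← hvd]
  have : v⁻¹ * (v * d * e) = d * e := by group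
  rw [this, map_mul]
  have hd1 : QuotientGroup.mk' D d = 1 := by
    rw [← MonoidHom.mem_ker, QuotientGroup.ker_mk']
    exact hd
  rw [hd1, one_mul]

/-- Lifting chains through a quotient by a normal `p'`-subgroup. -/
theorem exists_lift_FC_of_coprime [Finite H] {p : ℕ} [hp : Fact p.Prime]
    (h𝓦 : ∀ W ∈ 𝓦, IsCharPFunctor.{u} p W) (D : Subgroup H) [D.Normal]
    (hD : (Nat.card D).Coprime p) (S : Sylow p H) {Ab : Set (H ⧸ D)} {gb : H ⧸ D}
    (h : FC (IF 𝓦 (H ⧸ D)) ⊤ ((S : Subgroup H).map (QuotientGroup.mk' D)) Ab gb) :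
    ∀ A : Set H, A ⊆ ((S : Subgroup H) : Set H) → QuotientGroup.mk' D '' A ⊆ Ab →
      ∃ g : H, QuotientGroup.mk' D g = gb ∧ FC (IF 𝓦 H) ⊤ (S : Subgroup H) A g := by
  induction h with
  | nil Ab _ =>
    intro A hA _
    exact ⟨1, map_one _, FC.nil _ hA⟩
  | cons Ab eb gb W' hW' he hAb tail ih =>
    intro A hA hAAb
    obtain ⟨W, hW, rfl⟩ := hW'
    have hWc := isConjugacyFunctor_inducedFunctor (H := H) (h𝓦 W hW)
    set V := inducedFunctor W (S : Subgroup H) with hVdef
    have hVS : V ≤ (S : Subgroup H) := (hWc _ S.2).1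
    have hVp : IsPGroup p V := S.2.to_le hVS
    have hSNV : (S : Subgroup H) ≤ Subgroup.normalizer (V : Set H) :=
      Subgroup.le_normalizer.trans (normalizer_le_normalizer_functor hWc S.2)
    have hmapV : V.map (QuotientGroup.mk' D) =
        inducedFunctor W ((S : Subgroup H).map (QuotientGroup.mk' D)) :=
      inducedFunctor_map_injOn (h𝓦 W hW) _ _ S.2 (injOn_mk_of_coprime D hD S.2)
    have he2 : eb ∈ Subgroup.normalizer
        ((V.map (QuotientGroup.mk' D) : Subgroup (H ⧸ D)) : Set (H ⧸ D)) := by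
      rw [hmapV]; exact he.2
    obtain ⟨e, heN, rfl⟩ := exists_lift_mem_normalizer D hD hVp he2
    -- adjust `e` by an element of `D ∩ N(V)`
    set M : Subgroup H := Subgroup.normalizer (V : Set H) ⊓ ((S : Subgroup H) ⊔ D) with hM
    have hSM : (S : Subgroup H) ≤ M := le_inf hSNV le_sup_left
    have hclS : Subgroup.closure A ≤ (S : Subgroup H) := (Subgroup.closure_le _).2 hA
    set B : Subgroup H := (Subgroup.closure A).map (MulAut.conj e⁻¹).toMonoidHom with hB
    have hBp : IsPGroup p B := (S.2.to_le hclS).map _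
    have hBM : B ≤ M := by
      rw [hB, Subgroup.map_le_iff_le_comap, Subgroup.closure_le]
      intro a ha
      have haS := hA ha
      show (MulAut.conj e⁻¹) a ∈ M
      rw [MulAut.conj_apply, inv_inv]
      refine Subgroup.mem_inf.2 ⟨?_, ?_⟩
      · exact Subgroup.mul_mem _ (Subgroup.mul_mem _ (Subgroup.inv_mem _ heN) (hSNV haS)) heN
      · have h1 : QuotientGroup.mk' D (e⁻¹ * a * e) ∈ (S : Subgroup H).map (QuotientGroup.mk' D) := by
          apply tail.subset_left
          refine ⟨QuotientGroup.mk' D a, hAAb ⟨a, ha, rfl⟩, ?_⟩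
          simp [map_mul, map_inv]
        have h2 : e⁻¹ * a * e ∈
            ((S : Subgroup H).map (QuotientGroup.mk' D)).comap (QuotientGroup.mk' D) := h1
        rw [Subgroup.comap_map_eq, QuotientGroup.ker_mk'] at h2
        exact h2
    have hSi : ¬ p ∣ (S : Subgroup H).relIndex M := not_dvd_relIndex_of_sylow_le S hSM
    obtain ⟨m, hm, hmB⟩ := exists_mem_map_conj_le_of_sylowIn S.2 hSM hSi hBp hBM
    have hm' := Subgroup.mem_inf.1 hm
    obtain ⟨s, hs, d, hd, hsd⟩ := (Subgroup.mem_sup_of_normal_right).1 hm'.2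
    have hdN : d ∈ Subgroup.normalizer (V : Set H) := by
      have : d = s⁻¹ * m := by rw [← hsd]; group
      rw [this]
      exact Subgroup.mul_mem _ (Subgroup.inv_mem _ (hSNV hs)) hm'.1
    have hdB : B.map (MulAut.conj d).toMonoidHom ≤ (S : Subgroup H) := by
      rintro _ ⟨b, hb, rfl⟩
      have h1 : m * b * m⁻¹ ∈ (S : Subgroup H) := hmB ⟨b, hb, by simp⟩
      have e1 : (MulAut.conj d).toMonoidHom b = s⁻¹ * (m * b * m⁻¹) * s := by
        simp only [MulEquiv.coe_toMonoidHom, MulAut.conj_apply]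
        rw [← hsd]; group
      rw [e1]
      exact Subgroup.mul_mem _ (Subgroup.mul_mem _ (Subgroup.inv_mem _ hs) h1) hs
    set e' := e * d⁻¹ with he'
    have he'N : e' ∈ Subgroup.normalizer (V : Set H) :=
      Subgroup.mul_mem _ heN (Subgroup.inv_mem _ hdN)
    have hd1 : QuotientGroup.mk' D d = 1 := by
      rw [← MonoidHom.mem_ker, QuotientGroup.ker_mk']
      exact hd
    have he'π : QuotientGroup.mk' D e' = QuotientGroup.mk' D e := by
      rw [he', map_mul, map_inv, hd1, inv_one, mul_one]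
    have hAe' : rconj e' A ⊆ ((S : Subgroup H) : Set H) := by
      rintro _ ⟨a, ha, rfl⟩
      apply hdB
      refine ⟨e⁻¹ * a * e, ⟨a, Subgroup.subset_closure ha, by simp⟩, ?_⟩
      simp only [MulEquiv.coe_toMonoidHom, MulAut.conj_apply, he']
      group
    have hsub : QuotientGroup.mk' D '' rconj e' A ⊆ rconj (QuotientGroup.mk' D e) Ab := by
      rw [image_rconj, he'π]
      exact rconj_mono _ hAAb
    obtain ⟨g₂, hg₂, hFC⟩ := ih (rconj e' A) hAe' hsub
    refine ⟨e' * g₂, by rw [map_mul, hg₂, he'π], ?_⟩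
    exact FC.cons A e' g₂ (inducedFunctor W) ⟨W, hW, rfl⟩ ⟨Subgroup.mem_top _, he'N⟩ hA hFC

/-- Control of strong fusion by a set of functors lifts from the quotient by a normal `p'`-subgroup. -/
theorem ctlF_of_quotient_coprime [Finite H] {p : ℕ} [hp : Fact p.Prime]
    (h𝓦 : ∀ W ∈ 𝓦, IsCharPFunctor.{u} p W) (D : Subgroup H) [D.Normal]
    (hD : (Nat.card D).Coprime p) (S : Sylow p H)
    (h : CtlF (IF 𝓦 (H ⧸ D)) ((S : Subgroup H).map (QuotientGroup.mk' D))) :
    CtlF (IF 𝓦 H) (S : Subgroup H) := by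
  intro A g hA hAg
  have hAb : QuotientGroup.mk' D '' A ⊆
      (((S : Subgroup H).map (QuotientGroup.mk' D) : Subgroup (H ⧸ D)) : Set (H ⧸ D)) := by
    rintro _ ⟨a, ha, rfl⟩
    exact ⟨a, hA ha, rfl⟩
  have hAgb : rconj (QuotientGroup.mk' D g) (QuotientGroup.mk' D '' A) ⊆
      (((S : Subgroup H).map (QuotientGroup.mk' D) : Subgroup (H ⧸ D)) : Set (H ⧸ D)) := by
    rw [← image_rconj]
    rintro _ ⟨a, ha, rfl⟩
    exact ⟨a, hAg ha, rfl⟩
  obtain ⟨cb, hcb, hcba⟩ := h _ _ hAb hAgb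
  obtain ⟨c, hc, hFC⟩ := exists_lift_FC_of_coprime h𝓦 D hD S hcb A hA le_rfl
  refine ⟨c, hFC, ?_⟩
  intro a ha
  apply injOn_mk_of_coprime D hD S.2
  · exact hFC.subset_right ⟨a, ha, rfl⟩
  · exact hAg ⟨a, ha, rfl⟩
  · have := hcba (QuotientGroup.mk' D a) ⟨a, ha, rfl⟩
    rw [← hc] at this
    simpa [map_mul, map_inv] using this

end Cfsg.Agent.Lib.H10
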