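import Mathlib
import Cfsg.Prelude.Def_ConjugacyFunctors
import Cfsg.Agent.Lib.H10.SecLift
import Cfsg.Agent.Lib.H10.PResidual
import Cfsg.Agent.Lib.H19.SylowAux
import Cfsg.Agent.Lib.H7.Coprime

/-! The case `H = S C_H(P)` of the induction over sections for control of strong fusion by a set
of functors (helper10). -/

set_option autoImplicit false

namespace Cfsg.Agent.Lib.H10

open Cfsg

universe u

variable {𝓦 : Set (∀ (Q : Type u) [Group Q], Subgroup Q)}
variable {H : Type u} [Group H]

/-- an element of order prime to `p` lies in a normal subgroup `C` with `S C = H`, `S` a `p`-group -/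
theorem mem_of_coprime_of_sup_eq_top [Finite H] {p : ℕ} [hp : Fact p.Prime] {S C : Subgroup H}
    [C.Normal] (hS : IsPGroup p S) (hSC : S ⊔ C = ⊤) {y : H} (hy : (orderOf y).Coprime p) :
    y ∈ C := by
  have hQ : IsPGroup p (H ⧸ C) := by
    intro g
    induction g using QuotientGroup.induction_on with
    | H g =>
      have hg : g ∈ S ⊔ C := by rw [hSC]; exact Subgroup.mem_top g
      obtain ⟨s, hs, c, hc, rfl⟩ := Subgroup.mem_sup_of_normal_right.1 hg
      obtain ⟨k, hk⟩ := hS ⟨s, hs⟩
      refine ⟨k, ?_⟩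
      have h1 : ((s * c : H) : H ⧸ C) = (s : H ⧸ C) := by
        rw [QuotientGroup.eq]
        simpa using hc
      rw [h1, ← QuotientGroup.mk_pow]
      have : s ^ p ^ k = 1 := by simpa using congrArg Subtype.val hk
      rw [this]
      rfl
  obtain ⟨k, hk⟩ := hQ (QuotientGroup.mk' C y)
  have h1 : orderOf (QuotientGroup.mk' C y) ∣ p ^ k := orderOf_dvd_of_pow_eq_one hk
  have h2 : orderOf (QuotientGroup.mk' C y) ∣ orderOf y := orderOf_map_dvd _ y
  have h3 : (orderOf (QuotientGroup.mk' C y)).Coprime (p ^ k) :=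
    Nat.Coprime.coprime_dvd_left h2 (hy.pow_right k)
  have h4 : orderOf (QuotientGroup.mk' C y) = 1 := Nat.Coprime.eq_one_of_dvd h3 h1
  rw [orderOf_eq_one_iff] at h4
  rw [← QuotientGroup.ker_mk' C]
  exact h4

/-- The case `H = S C_H(P)`: control in `H / P`, in the preimages of the normalizers of the `W(S/P)`
and in `S` gives control in `H`. -/
theorem ctlF_caseC [Finite H] {p : ℕ} [hp : Fact p.Prime] (S : Sylow p H) (P : Subgroup H)
    [hPn : P.Normal] (hPS : P ≤ (S : Subgroup H))
    (hSC : (S : Subgroup H) ⊔ Subgroup.centralizer (P : Set H) = ⊤)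
    (hquot : CtlF (IF 𝓦 (H ⧸ P)) ((S : Subgroup H).map (QuotientGroup.mk' P)))
    (hL : ∀ W ∈ 𝓦, ∀ e : H,
      QuotientGroup.mk' P e ∈ Subgroup.normalizer
        ((inducedFunctor W ((S : Subgroup H).map (QuotientGroup.mk' P)) : Subgroup (H ⧸ P)) :
          Set (H ⧸ P)) →
      ∀ A : Set H, A ⊆ ((S : Subgroup H) : Set H) → rconj e A ⊆ ((S : Subgroup H) : Set H) →
        GoodF (IF 𝓦 H) (S : Subgroup H) A e)
    (hS : ∀ s ∈ (S : Subgroup H), ∀ A : Set H, A ⊆ ((S : Subgroup H) : Set H) →
      GoodF (IF 𝓦 H) (S : Subgroup H) A s) :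
    CtlF (IF 𝓦 H) (S : Subgroup H) := by
  have hPp : IsPGroup p P := S.2.to_le hPS
  apply ctlF_of_local S
  intro U hU hbig x hx
  have hUS : U ≤ (S : Subgroup H) := hU.1
  by_cases hPU : P ≤ U
  · set Sb := (S : Subgroup H).map (QuotientGroup.mk' P) with hSb
    have hAb : QuotientGroup.mk' P '' (U : Set H) ⊆ ((Sb : Subgroup (H ⧸ P)) : Set (H ⧸ P)) := by
      rintro _ ⟨u, hu, rfl⟩
      exact ⟨u, hUS hu, rfl⟩
    have hAgb : rconj (QuotientGroup.mk' P x) (QuotientGroup.mk' P '' (U : Set H)) ⊆
        ((Sb : Subgroup (H ⧸ P)) : Set (H ⧸ P)) := by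
      rw [← image_rconj, rconj_coe_of_mem_normalizer hx]
      exact hAb
    obtain ⟨cb, hcb, hcba⟩ := hquot _ _ hAb hAgb
    obtain ⟨n, hn, hgn⟩ := exists_lift_goodF hPS hL hcb (U : Set H)
      (SetLike.coe_subset_coe.2 hUS) le_rfl
    have hxinv : x⁻¹ ∈ Subgroup.normalizer (U : Set H) := Subgroup.inv_mem _ hx
    -- `n` and `x` agree on `U` modulo `P`
    have hagree : ∀ u ∈ U, QuotientGroup.mk' P (n⁻¹ * u * n) = QuotientGroup.mk' P (x⁻¹ * u * x) := by
      intro u hu
      have := hcba (QuotientGroup.mk' P u) ⟨u, hu, rfl⟩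
      rw [← hn] at this
      simpa [map_mul, map_inv] using this
    have hnU : ∀ u ∈ U, n⁻¹ * u * n ∈ U := by
      intro u hu
      have h1 : x⁻¹ * u * x ∈ U := by
        have := (Subgroup.mem_normalizer_iff.1 hxinv u).1 hu
        simpa using this
      have h2 : (x⁻¹ * u * x)⁻¹ * (n⁻¹ * u * n) ∈ P := by
        rw [← QuotientGroup.eq]
        exact (hagree u hu).symm
      have : n⁻¹ * u * n = (x⁻¹ * u * x) * ((x⁻¹ * u * x)⁻¹ * (n⁻¹ * u * n)) := by group
      rw [this]
      exact U.mul_mem h1 (hPU h2)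
    have hninvN : n⁻¹ ∈ Subgroup.normalizer (U : Set H) := by
      rw [mem_normalizer_iff_map_conj]
      apply eq_of_le_of_card_map_conj _ le_rfl
      rintro _ ⟨u, hu, rfl⟩
      have := hnU u hu
      simpa [MulAut.conj_apply] using this
    have hnN : n ∈ Subgroup.normalizer (U : Set H) := by
      have := Subgroup.inv_mem _ hninvN
      simpa using this
    set e := n⁻¹ * x with he
    have heN : e ∈ Subgroup.normalizer (U : Set H) := Subgroup.mul_mem _ hninvN hx
    have hx_eq : x = n * e := by rw [he]; group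
    rw [hx_eq]
    apply hgn.trans
    rw [rconj_coe_of_mem_normalizer hnN]
    -- now `e` centralizes `U` modulo `P`
    have heP : ∀ u ∈ U, QuotientGroup.mk' P (e⁻¹ * u * e) = QuotientGroup.mk' P u := by
      intro u hu
      have hv : n * u * n⁻¹ ∈ U := (Subgroup.mem_normalizer_iff.1 hnN u).1 hu
      have h1 := hagree _ hv
      have e1 : e⁻¹ * u * e = x⁻¹ * (n * u * n⁻¹) * x := by rw [he]; group
      have e2 : n⁻¹ * (n * u * n⁻¹) * n = u := by group
      rw [e1, ← h1, e2]
    set N := Subgroup.normalizer (U : Set H) with hNdef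
    set Ub : Subgroup (H ⧸ P) := U.map (QuotientGroup.mk' P) with hUb
    set E : Subgroup H := N ⊓ (Subgroup.centralizer (Ub : Set (H ⧸ P))).comap (QuotientGroup.mk' P)
      with hE
    have hmemE : ∀ y : H, y ∈ E ↔ y ∈ N ∧ ∀ u ∈ U,
        QuotientGroup.mk' P u * QuotientGroup.mk' P y = QuotientGroup.mk' P y * QuotientGroup.mk' P u := by
      intro y
      rw [hE, Subgroup.mem_inf, Subgroup.mem_comap, Subgroup.mem_centralizer_iff]
      constructor
      · rintro ⟨h1, h2⟩
        exact ⟨h1, fun u hu => h2 _ ⟨u, hu, rfl⟩⟩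
      · rintro ⟨h1, h2⟩
        refine ⟨h1, ?_⟩
        rintro _ ⟨u, hu, rfl⟩
        exact h2 u hu
    have heE : e ∈ E := by
      rw [hmemE]
      refine ⟨heN, fun u hu => ?_⟩
      have := heP u hu
      rw [map_mul, map_mul, map_inv] at this
      calc QuotientGroup.mk' P u * QuotientGroup.mk' P e
          = QuotientGroup.mk' P e * ((QuotientGroup.mk' P e)⁻¹ * QuotientGroup.mk' P u *
              QuotientGroup.mk' P e) := by group
        _ = QuotientGroup.mk' P e * QuotientGroup.mk' P u := by rw [this]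
    have hEN : E ≤ N := inf_le_left
    have hEnormal : (E.subgroupOf N).Normal := by
      rw [Subgroup.normal_subgroupOf_iff hEN]
      intro y m hy hm
      rw [hmemE] at hy ⊢
      refine ⟨Subgroup.mul_mem _ (Subgroup.mul_mem _ hm hy.1) (Subgroup.inv_mem _ hm), ?_⟩
      intro u hu
      have hu' : m⁻¹ * u * m ∈ U := by
        have := (Subgroup.mem_normalizer_iff.1 (Subgroup.inv_mem _ hm) u).1 hu
        simpa using this
      have h1 := hy.2 _ hu'
      have e1 : QuotientGroup.mk' P u = QuotientGroup.mk' P m * QuotientGroup.mk' P (m⁻¹ * u * m) *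
          (QuotientGroup.mk' P m)⁻¹ := by
        rw [← map_inv, ← map_mul, ← map_mul]
        congr 1
        group
      have e2 : QuotientGroup.mk' P (m * y * m⁻¹) =
          QuotientGroup.mk' P m * QuotientGroup.mk' P y * (QuotientGroup.mk' P m)⁻¹ := by
        rw [map_mul, map_mul, map_inv]
      rw [e1, e2]
      calc QuotientGroup.mk' P m * QuotientGroup.mk' P (m⁻¹ * u * m) * (QuotientGroup.mk' P m)⁻¹ *
            (QuotientGroup.mk' P m * QuotientGroup.mk' P y * (QuotientGroup.mk' P m)⁻¹)
          = QuotientGroup.mk' P m * (QuotientGroup.mk' P (m⁻¹ * u * m) * QuotientGroup.mk' P y) *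
            (QuotientGroup.mk' P m)⁻¹ := by group
        _ = QuotientGroup.mk' P m * (QuotientGroup.mk' P y * QuotientGroup.mk' P (m⁻¹ * u * m)) *
            (QuotientGroup.mk' P m)⁻¹ := by rw [h1]
        _ = QuotientGroup.mk' P m * QuotientGroup.mk' P y * (QuotientGroup.mk' P m)⁻¹ *
            (QuotientGroup.mk' P m * QuotientGroup.mk' P (m⁻¹ * u * m) * (QuotientGroup.mk' P m)⁻¹) := by
          group
    -- the Sylow subgroup of `E`
    set R := (S : Subgroup H) ⊓ N with hR
    have hRi : ¬ p ∣ R.relIndex N := hU.2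
    have hRp : IsPGroup p (R.subgroupOf N) := (S.2.to_le inf_le_left).comap_subtype
    let RS : Sylow p N := hRp.toSylow hRi
    have hRS : (RS : Subgroup N) = R.subgroupOf N := hRp.toSylow_coe hRi
    have h1 := H19.not_dvd_relIndex_inf_normal RS (E.subgroupOf N)
    rw [hRS] at h1
    have h2 : R.subgroupOf N ⊓ E.subgroupOf N = (R ⊓ E).subgroupOf N := by
      ext y
      simp [Subgroup.mem_subgroupOf, Subgroup.mem_inf]
    rw [h2, Subgroup.relIndex_subgroupOf hEN] at h1
    obtain ⟨s, hs, c, hc, hsc⟩ := exists_mul_of_sylow_pResidual p ((R ⊓ E).subgroupOf E) h1 ⟨e, heE⟩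
    have hsR : (s : H) ∈ R := (Subgroup.mem_inf.1 (Subgroup.mem_subgroupOf.1 hs)).1
    have hsS : (s : H) ∈ (S : Subgroup H) := (Subgroup.mem_inf.1 hsR).1
    have hsN : (s : H) ∈ N := (Subgroup.mem_inf.1 hsR).2
    have hle : Cfsg.pResidual p ↥E ≤ (Subgroup.centralizer (U : Set H)).subgroupOf E := by
      unfold Cfsg.pResidual
      rw [Subgroup.closure_le]
      intro y hy
      have hyo : (orderOf (y : H)).Coprime p := by
        rw [Subgroup.orderOf_coe]; exact hy
      have hyC : (y : H) ∈ Subgroup.centralizer (P : Set H) :=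
        mem_of_coprime_of_sup_eq_top S.2 hSC hyo
      have hyE := (hmemE (y : H)).1 y.2
      obtain ⟨k, hk⟩ := IsPGroup.iff_card.mp hPp
      have hcop : (orderOf (y : H)).Coprime (Nat.card P) := by
        rw [hk]; exact hyo.pow_right k
      have hcomm := H7.commute_of_stable_step (a := (y : H)) (Q := U) (R := P) hcop ?_ ?_
      · rw [SetLike.mem_coe, Subgroup.mem_subgroupOf, Subgroup.mem_centralizer_iff]
        intro u hu
        exact (hcomm u hu).symm
      · intro q hq
        rw [← QuotientGroup.ker_mk' P, MonoidHom.mem_ker, map_mul, map_mul, map_mul, map_inv, map_inv,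
          ← hyE.2 q hq]
        group
      · intro r hr
        exact (Subgroup.mem_centralizer_iff.1 hyC r hr).symm
    have hcC : (c : H) ∈ Subgroup.centralizer (U : Set H) := Subgroup.mem_subgroupOf.1 (hle hc)
    have hesc : e = (s : H) * (c : H) := by
      have := congrArg Subtype.val hsc
      simpa using this
    rw [hesc]
    apply (hS _ hsS _ (SetLike.coe_subset_coe.2 hUS)).trans
    rw [rconj_coe_of_mem_normalizer hsN]
    apply GoodF.of_centralizes (SetLike.coe_subset_coe.2 hUS)
    intro u hu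
    have := Subgroup.mem_centralizer_iff.1 hcC u hu
    calc (c : H)⁻¹ * u * (c : H) = (c : H)⁻¹ * (u * (c : H)) := by group
      _ = (c : H)⁻¹ * ((c : H) * u) := by rw [this]
      _ = u := by group
  · set U' := U ⊔ P with hU'
    have hU'S : U' ≤ (S : Subgroup H) := sup_le hUS hPS
    have hlt : U < U' := by
      refine lt_of_le_of_ne le_sup_left ?_
      intro h
      exact hPU (h ▸ le_sup_right)
    have hxinv : x⁻¹ ∈ Subgroup.normalizer (U : Set H) := Subgroup.inv_mem _ hx
    have hmap : U'.map (MulAut.conj x⁻¹).toMonoidHom = U' := by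
      rw [hU', Subgroup.map_sup, mem_normalizer_iff_map_conj.1 hxinv]
      have : x⁻¹ ∈ Subgroup.normalizer (P : Set H) := by
        rw [Subgroup.normalizer_eq_top]; exact Subgroup.mem_top _
      rw [mem_normalizer_iff_map_conj.1 this]
    have := hbig U' hU'S (card_lt_card_of_lt hlt) x (by rw [hmap]; exact hU'S)
    exact this.restrict (SetLike.coe_subset_coe.2 le_sup_left)

end Cfsg.Agent.Lib.H10
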