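import Mathlib
import Cfsg.Prelude.Def_ConjugacyFunctors

/-! Sections of a group, as a predicate on groups in the same universe (helper10).

`IsSec G H` says that `H` is a homomorphic image of a subgroup of `G`.  The class of such `H` is closed
under isomorphisms, subgroups and quotients, and every `↥K ⧸ R.subgroupOf K` belongs to it. -/

set_option autoImplicit false

namespace Cfsg.Agent.Lib.H10

universe u

/-- `H` is (isomorphic to) a section of `G`: a homomorphic image of a subgroup of `G`. -/
def IsSec (G : Type u) [Group G] (H : Type u) [Group H] : Prop :=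
  ∃ (K : Subgroup G) (f : ↥K →* H), Function.Surjective f

variable {G : Type u} [Group G] {H : Type u} [Group H] {H' : Type u} [Group H']

theorem isSec_self : IsSec G G :=
  ⟨⊤, (Subgroup.topEquiv : (⊤ : Subgroup G) ≃* G).toMonoidHom,
    (Subgroup.topEquiv : (⊤ : Subgroup G) ≃* G).surjective⟩

theorem IsSec.of_surjective (h : IsSec G H) (f : H →* H') (hf : Function.Surjective f) :
    IsSec G H' := by
  obtain ⟨K, g, hg⟩ := h
  exact ⟨K, f.comp g, hf.comp hg⟩

theorem IsSec.of_mulEquiv (h : IsSec G H) (e : H ≃* H') : IsSec G H' :=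
  h.of_surjective e.toMonoidHom e.surjective

theorem IsSec.quotient (h : IsSec G H) (N : Subgroup H) [N.Normal] : IsSec G (H ⧸ N) :=
  h.of_surjective (QuotientGroup.mk' N) (QuotientGroup.mk'_surjective N)

theorem IsSec.subgroup (h : IsSec G H) (L : Subgroup H) : IsSec G ↥L := by
  obtain ⟨K, f, hf⟩ := h
  refine ⟨(L.comap f).map K.subtype,
    (f.subgroupComap L).comp
      ((L.comap f).equivMapOfInjective K.subtype K.subtype_injective).symm.toMonoidHom, ?_⟩
  exact (f.subgroupComap_surjective_of_surjective L hf).comp (MulEquiv.surjective _)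

theorem IsSec.trans {H'' : Type u} [Group H''] (h : IsSec G H) (h' : IsSec H H'') : IsSec G H'' := by
  obtain ⟨L, f, hf⟩ := h'
  exact (h.subgroup L).of_surjective f hf

theorem IsSec.finite [Finite G] (h : IsSec G H) : Finite H := by
  obtain ⟨K, f, hf⟩ := h
  exact Finite.of_surjective f hf

theorem isSec_section (K R : Subgroup G) [(R.subgroupOf K).Normal] :
    IsSec G (↥K ⧸ R.subgroupOf K) :=
  ⟨K, QuotientGroup.mk' _, QuotientGroup.mk'_surjective _⟩

/-- Every section in the sense of `IsSec` is isomorphic to one of the form `K / R`. -/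
theorem IsSec.exists_equiv (h : IsSec G H) :
    ∃ (K R : Subgroup G) (_ : (R.subgroupOf K).Normal), Nonempty (↥K ⧸ R.subgroupOf K ≃* H) := by
  obtain ⟨K, f, hf⟩ := h
  have hker : (f.ker.map K.subtype).subgroupOf K = f.ker :=
    Subgroup.comap_map_eq_self_of_injective K.subtype_injective _
  have hn : ((f.ker.map K.subtype).subgroupOf K).Normal := by rw [hker]; infer_instance
  exact ⟨K, f.ker.map K.subtype, hn,
    ⟨(QuotientGroup.quotientMulEquivOfEq hker).trans (QuotientGroup.quotientKerEquivOfSurjective f hf)⟩⟩

theorem IsSec.card_le [Finite G] (h : IsSec G H) : Nat.card H ≤ Nat.card G := by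
  obtain ⟨K, f, hf⟩ := h
  exact (Nat.card_le_card_of_surjective f hf).trans (Subgroup.card_le_card_group K)

end Cfsg.Agent.Lib.H10
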