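import Mathlib
import Cfsg.Prelude.Def_ConjugacyFunctors
import Cfsg.Agent.Lib.H10.SecCaseC
import Cfsg.Agent.Lib.H10.Sections
import Cfsg.Agent.Lib.H10.CentralSylow
import Cfsg.Agent.Lib.H1.PCore

/-! Control of strong fusion by a set of isomorphism-invariant functors: from the `p`-constrained
sections to all sections (helper10). -/

set_option autoImplicit false

namespace Cfsg.Agent.Lib.H10

open Cfsg

universe u

variable {𝓦 : Set (∀ (Q : Type u) [Group Q], Subgroup Q)}
variable {H : Type u} [Group H]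

theorem closure_normal_of_conj_invariant {X : Set H} (h : ∀ x ∈ X, ∀ g : H, g * x * g⁻¹ ∈ X) :
    (Subgroup.closure X).Normal := by
  constructor
  intro n hn g
  have h1 : (MulAut.conj g).toMonoidHom n ∈ (Subgroup.closure X).map (MulAut.conj g).toMonoidHom :=
    Subgroup.mem_map_of_mem _ hn
  rw [MonoidHom.map_closure] at h1
  have h2 : (MulAut.conj g).toMonoidHom '' X ⊆ X := by
    rintro _ ⟨x, hx, rfl⟩
    exact h x hx g
  have := Subgroup.closure_mono h2 h1
  simpa [MulAut.conj_apply] using this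

/-- If `S ∩ C` is central in the normal subgroup `C`, then `C = (S ∩ C) D` with `D` a normal
`p'`-subgroup of `H`. -/
theorem exists_normal_coprime_complement [Finite H] {p : ℕ} [hp : Fact p.Prime] (S : Sylow p H)
    (C : Subgroup H) [hC : C.Normal]
    (hZ : ∀ z ∈ (S : Subgroup H) ⊓ C, ∀ c ∈ C, z * c = c * z) :
    ∃ D : Subgroup H, D.Normal ∧ (Nat.card D).Coprime p ∧
      ∀ x ∈ C, ∃ z ∈ (S : Subgroup H) ⊓ C, ∃ d ∈ D, x = z * d := by
  set Z : Subgroup C := ((S : Subgroup H) ⊓ C).subgroupOf C with hZdef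
  have hZc : Z ≤ Subgroup.center C := by
    intro z hz
    rw [Subgroup.mem_center_iff]
    intro c
    apply Subtype.ext
    have := hZ (z : H) (Subgroup.mem_subgroupOf.1 hz) (c : H) c.2
    simpa using this.symm
  have hZp : IsPGroup p Z := (S.2.to_le inf_le_left).comap_subtype
  have hZi : ¬ p ∣ Z.index := H19.not_dvd_relIndex_inf_normal S C
  have hcard := not_dvd_card_pResidual_of_central_sylow p Z hZc hZp hZi
  refine ⟨(Cfsg.pResidual p ↥C).map C.subtype, ?_, ?_, ?_⟩
  · unfold Cfsg.pResidual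
    rw [MonoidHom.map_closure]
    apply closure_normal_of_conj_invariant
    rintro _ ⟨y, hy, rfl⟩ g
    refine ⟨⟨g * (y : H) * g⁻¹, hC.conj_mem _ y.2 g⟩, ?_, rfl⟩
    show (orderOf (⟨g * (y : H) * g⁻¹, hC.conj_mem _ y.2 g⟩ : C)).Coprime p
    rw [← Subgroup.orderOf_coe]
    have h1 : orderOf (g * (y : H) * g⁻¹) = orderOf (y : H) := by
      have := (MulAut.conj g).orderOf_eq (y : H)
      rwa [MulAut.conj_apply] at this
    show (orderOf (g * (y : H) * g⁻¹)).Coprime p
    rw [h1, Subgroup.orderOf_coe]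
    exact hy
  · rw [Subgroup.card_map_of_injective C.subtype_injective]
    exact ((Nat.Prime.coprime_iff_not_dvd hp.out).2 hcard).symm
  · intro x hx
    obtain ⟨s, hs, u, hu, hsu⟩ := exists_mul_of_sylow_pResidual p Z hZi ⟨x, hx⟩
    refine ⟨(s : H), Subgroup.mem_subgroupOf.1 hs, (u : H), ⟨u, hu, rfl⟩, ?_⟩
    have := congrArg Subtype.val hsu
    simpa using this

/-- the quotient by a normal `p'`-subgroup `D` with `C_H(O_p(H)) ≤ O_p(H) D` is `p`-constrained -/
theorem constrained_quotient [Finite H] {p : ℕ} [hp : Fact p.Prime] (D : Subgroup H) [D.Normal]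
    (hD : (Nat.card D).Coprime p)
    (hfac : ∀ x ∈ Subgroup.centralizer ((Cfsg.pCore p H : Subgroup H) : Set H),
      ∃ z ∈ Cfsg.pCore p H, ∃ d ∈ D, x = z * d) :
    Subgroup.centralizer ((Cfsg.pCore p (H ⧸ D) : Subgroup (H ⧸ D)) : Set (H ⧸ D)) ≤
      Cfsg.pCore p (H ⧸ D) := by
  have hPn : (Cfsg.pCore p H).Normal := H1.pCore_normal p H
  have hPp : IsPGroup p (Cfsg.pCore p H) := H1.pCore_isPGroup p H
  have hPb : (Cfsg.pCore p H).map (QuotientGroup.mk' D) ≤ Cfsg.pCore p (H ⧸ D) :=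
    H1.le_pCore (hPn.map _ (QuotientGroup.mk'_surjective D)) (hPp.map _)
  have hdisj : Cfsg.pCore p H ⊓ D = ⊥ := by
    obtain ⟨k, hk⟩ := IsPGroup.iff_card.mp hPp
    rw [← disjoint_iff]
    apply Subgroup.disjoint_of_coprime_natCard
    rw [hk]
    exact (hD.symm).pow_left _
  intro xb hxb
  obtain ⟨x, rfl⟩ := QuotientGroup.mk'_surjective D xb
  have hxC : x ∈ Subgroup.centralizer ((Cfsg.pCore p H : Subgroup H) : Set H) := by
    rw [Subgroup.mem_centralizer_iff]
    intro u hu
    have h1 := Subgroup.mem_centralizer_iff.1 hxb _ (hPb ⟨u, hu, rfl⟩)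
    have h2 : u * x * u⁻¹ * x⁻¹ ∈ D := by
      rw [← QuotientGroup.ker_mk' D, MonoidHom.mem_ker, map_mul, map_mul, map_mul, map_inv, map_inv, h1]
      group
    have h3 : u * x * u⁻¹ * x⁻¹ ∈ Cfsg.pCore p H := by
      have : u * x * u⁻¹ * x⁻¹ = u * (x * u⁻¹ * x⁻¹) := by group
      rw [this]
      exact Subgroup.mul_mem _ hu (hPn.conj_mem _ (Subgroup.inv_mem _ hu) x)
    have h4 : u * x * u⁻¹ * x⁻¹ ∈ Cfsg.pCore p H ⊓ D := Subgroup.mem_inf.2 ⟨h3, h2⟩
    rw [hdisj, Subgroup.mem_bot] at h4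
    have : u * x = (u * x * u⁻¹ * x⁻¹) * (x * u) := by group
    rw [this, h4, one_mul]
  obtain ⟨z, hz, d, hd, rfl⟩ := hfac x hxC
  have hd1 : QuotientGroup.mk' D d = 1 := by
    rw [← MonoidHom.mem_ker, QuotientGroup.ker_mk']
    exact hd
  rw [map_mul, hd1, mul_one]
  exact hPb ⟨z, hz, rfl⟩

theorem sylow_map_mk [Finite H] {p : ℕ} [hp : Fact p.Prime] (S : Sylow p H) (N : Subgroup H)
    [N.Normal] : IsPGroup p ((S : Subgroup H).map (QuotientGroup.mk' N)) ∧
      ¬ p ∣ ((S : Subgroup H).map (QuotientGroup.mk' N)).index :=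
  ⟨S.2.map _, fun h => S.not_dvd_index
    (h.trans (Subgroup.index_map_dvd (S : Subgroup H) (QuotientGroup.mk'_surjective N)))⟩

/-- Case A: `S ∩ C_H(O_p(H)) ≤ O_p(H)`. -/
theorem familyControls_caseA [Finite H] {p : ℕ} [hp : Fact p.Prime]
    (h𝓦 : ∀ W ∈ 𝓦, IsCharPFunctor.{u} p W) (S : Sylow p H)
    (hSC : (S : Subgroup H) ⊓ Subgroup.centralizer ((Cfsg.pCore p H : Subgroup H) : Set H) ≤
      Cfsg.pCore p H)
    (hloc : ∀ (D : Subgroup H) [D.Normal],
      Subgroup.centralizer ((Cfsg.pCore p (H ⧸ D) : Subgroup (H ⧸ D)) : Set (H ⧸ D)) ≤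
        Cfsg.pCore p (H ⧸ D) → FamilyControlsStrongFusionIn p (IF 𝓦 (H ⧸ D)) ⊤) :
    FamilyControlsStrongFusionIn p (IF 𝓦 H) ⊤ := by
  have hPn : (Cfsg.pCore p H).Normal := H1.pCore_normal p H
  set C := Subgroup.centralizer ((Cfsg.pCore p H : Subgroup H) : Set H) with hCdef
  have hCn : C.Normal := Subgroup.normal_centralizer
  have hZ : ∀ z ∈ (S : Subgroup H) ⊓ C, ∀ c ∈ C, z * c = c * z := by
    intro z hz c hc
    exact Subgroup.mem_centralizer_iff.1 hc z (hSC hz)
  obtain ⟨D, hDn, hDc, hfac⟩ := exists_normal_coprime_complement S C hZ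
  have hcon := constrained_quotient D hDc (by
    intro x hx
    obtain ⟨z, hz, d, hd, rfl⟩ := hfac x hx
    exact ⟨z, hSC hz, d, hd, rfl⟩)
  have hctl := hloc D hcon
  have hSb := sylow_map_mk S D
  have h1 : CtlF (IF 𝓦 (H ⧸ D)) ((S : Subgroup H).map (QuotientGroup.mk' D)) :=
    ctlF_of_familyControls (isConjugacyFunctor_of_mem_IF h𝓦) hctl hSb.1 hSb.2
  have h2 := ctlF_of_quotient_coprime h𝓦 D hDc S h1
  exact familyControls_of_ctlF S.2 S.not_dvd_index h2

/-- Case B: the normalizer of `S ∩ P C` and `S C` are both proper. -/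
theorem ctlF_caseB [Finite H] {p : ℕ} [hp : Fact p.Prime]
    (h𝓦 : ∀ W ∈ 𝓦, IsCharPFunctor.{u} p W) (S : Sylow p H) (P C : Subgroup H) [hPn : P.Normal]
    [hCn : C.Normal] (hPS : P ≤ (S : Subgroup H))
    (h1 : FamilyControlsStrongFusionIn p (IF 𝓦 H)
      (Subgroup.normalizer (((S : Subgroup H) ⊓ (P ⊔ C) : Subgroup H) : Set H)))
    (h2 : FamilyControlsStrongFusionIn p (IF 𝓦 H) ((S : Subgroup H) ⊔ C)) :
    CtlF (IF 𝓦 H) (S : Subgroup H) := by
  set K := P ⊔ C with hK
  have hKn : K.Normal := Subgroup.sup_normal P C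
  set S₀ := (S : Subgroup H) ⊓ K with hS₀
  have hSX : (S : Subgroup H) ≤ Subgroup.normalizer (S₀ : Set H) := by
    have h1 : Subgroup.normalizer ((S : Subgroup H) : Set H) ⊓ Subgroup.normalizer (K : Set H) ≤
        Subgroup.normalizer (S₀ : Set H) := Subgroup.inf_normalizer_le_normalizer_inf
    refine le_trans (le_inf Subgroup.le_normalizer ?_) h1
    rw [Subgroup.normalizer_eq_top]
    exact le_top
  have hSY : (S : Subgroup H) ≤ (S : Subgroup H) ⊔ C := le_sup_left
  have hc := isConjugacyFunctor_of_mem_IF (H := H) h𝓦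
  apply ctlF_of_factorization S hSX hSY
  · intro g
    have hS₀p : IsPGroup p (S₀.subgroupOf K) := (S.2.to_le inf_le_left).comap_subtype
    have hS₀i : ¬ p ∣ (S₀.subgroupOf K).index := H19.not_dvd_relIndex_inf_normal S K
    let Q : Sylow p K := hS₀p.toSylow hS₀i
    have hQ : (Q : Subgroup K) = S₀.subgroupOf K := hS₀p.toSylow_coe hS₀i
    have hfr := Sylow.normalizer_sup_eq_top Q
    rw [hQ, Subgroup.subgroupOf_map_subtype, inf_eq_left.2 (inf_le_right : S₀ ≤ K)] at hfr
    have hg : g ∈ Subgroup.normalizer (S₀ : Set H) ⊔ K := by rw [hfr]; exact Subgroup.mem_top g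
    obtain ⟨n, hn, k, hk, rfl⟩ := Subgroup.mem_sup_of_normal_right.1 hg
    obtain ⟨u, hu, c, hc, rfl⟩ := Subgroup.mem_sup_of_normal_right.1 hk
    refine ⟨n * u, Subgroup.mul_mem _ hn ?_, c, Subgroup.mem_sup_right hc, by group⟩
    apply Subgroup.le_normalizer
    exact Subgroup.mem_inf.2 ⟨hPS hu, Subgroup.mem_sup_left hu⟩
  · intro A g hg hA hAg
    exact goodF_of_familyControlsIn hc h1 S.2 hSX (not_dvd_relIndex_of_sylow_le S hSX) hg hA hAg
  · intro A g hg hA hAg
    exact goodF_of_familyControlsIn hc h2 S.2 hSY (not_dvd_relIndex_of_sylow_le S hSY) hg hA hAg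

/-- the preimage of the normalizer of `W(S/P)` is proper when `P` contains all normal
`p`-subgroups and `S ≠ P` -/
theorem comap_normalizer_ne_top [Finite H] {p : ℕ} [hp : Fact p.Prime]
    {W : ∀ (Q : Type u) [Group Q], Subgroup Q} (hW : IsCharPFunctor.{u} p W) (S : Sylow p H)
    (P : Subgroup H) [hPn : P.Normal] (hPS : P ≤ (S : Subgroup H))
    (hPmax : ∀ V : Subgroup H, V.Normal → IsPGroup p V → V ≤ P)
    (hne : ¬ (S : Subgroup H) ≤ P) :
    (Subgroup.normalizer ((inducedFunctor W ((S : Subgroup H).map (QuotientGroup.mk' P)) :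
      Subgroup (H ⧸ P)) : Set (H ⧸ P))).comap (QuotientGroup.mk' P) ≠ ⊤ := by
  intro htop
  have hWc := isConjugacyFunctor_inducedFunctor (H := H ⧸ P) hW
  have hSb := sylow_map_mk S P
  set Sb := (S : Subgroup H).map (QuotientGroup.mk' P) with hSbdef
  set Vb := inducedFunctor W Sb with hVb
  have hVbn : Vb.Normal := by
    rw [← Subgroup.normalizer_eq_top_iff, eq_top_iff]
    intro xb _
    obtain ⟨x, rfl⟩ := QuotientGroup.mk'_surjective P xb
    have : x ∈ (Subgroup.normalizer (Vb : Set (H ⧸ P))).comap (QuotientGroup.mk' P) := by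
      rw [htop]; exact Subgroup.mem_top x
    exact this
  have hVbp : IsPGroup p Vb := hSb.1.to_le (hWc Sb hSb.1).1
  have hVn : (Vb.comap (QuotientGroup.mk' P)).Normal := hVbn.comap _
  have hVp : IsPGroup p (Vb.comap (QuotientGroup.mk' P)) := by
    apply hVbp.comap_of_ker_isPGroup
    rw [QuotientGroup.ker_mk']
    exact S.2.to_le hPS
  have hVP := hPmax _ hVn hVp
  have hVb1 : Vb = ⊥ := by
    rw [eq_bot_iff]
    intro vb hvb
    obtain ⟨v, rfl⟩ := QuotientGroup.mk'_surjective P vb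
    have : v ∈ P := hVP hvb
    rw [Subgroup.mem_bot, ← MonoidHom.mem_ker, QuotientGroup.ker_mk']
    exact this
  have hSb1 : Sb = ⊥ := by
    by_contra h
    exact (hWc Sb hSb.1).2.1 h hVb1
  apply hne
  rw [← QuotientGroup.ker_mk' P]
  exact (Subgroup.map_eq_bot_iff _).1 hSb1

theorem card_subgroup_lt_of_ne_top [Finite H] {L : Subgroup H} (h : L ≠ ⊤) :
    Nat.card L < Nat.card H := by
  refine lt_of_le_of_ne (Subgroup.card_le_card_group L) ?_
  intro heq
  exact h (Subgroup.eq_top_of_card_eq L heq)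

theorem card_quotient_lt_of_ne_bot [Finite H] {N : Subgroup H} [N.Normal] (h : N ≠ ⊥) :
    Nat.card (H ⧸ N) < Nat.card H := by
  have h1 := Subgroup.card_eq_card_quotient_mul_card_subgroup N
  have hnt : Nontrivial N := (Subgroup.nontrivial_iff_ne_bot N).2 h
  have h2 := Finite.one_lt_card (α := N)
  have h3 : 0 < Nat.card (H ⧸ N) := Nat.card_pos
  rw [h1]
  nlinarith

/-- **Main theorem.** If the set `𝓦` of isomorphism-invariant functors controls strong fusion in every
`p`-constrained section of `G₀`, then it controls strong fusion in every section of `G₀`. -/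
theorem familyControls_of_constrained_sections (G₀ : Type u) [Group G₀] [Finite G₀] {p : ℕ}
    [hp : Fact p.Prime] (𝓦 : Set (∀ (Q : Type u) [Group Q], Subgroup Q))
    (h𝓦 : ∀ W ∈ 𝓦, IsCharPFunctor.{u} p W)
    (hloc : ∀ (H : Type u) [Group H], IsSec G₀ H →
      Subgroup.centralizer ((Cfsg.pCore p H : Subgroup H) : Set H) ≤ Cfsg.pCore p H →
      FamilyControlsStrongFusionIn p (IF 𝓦 H) ⊤) :
    ∀ (n : ℕ) (H : Type u) [Group H] [Finite H], Nat.card H = n → IsSec G₀ H →
      FamilyControlsStrongFusionIn p (IF 𝓦 H) ⊤ := by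
  intro n
  induction n using Nat.strong_induction_on with
  | _ n ih =>
  intro H _ _ hn hsec
  have S : Sylow p H := default
  set P := Cfsg.pCore p H with hPdef
  have hPn : P.Normal := H1.pCore_normal p H
  have hPp : IsPGroup p P := H1.pCore_isPGroup p H
  have hPS : P ≤ (S : Subgroup H) := H1.pCore_le_sylow S
  have hc := isConjugacyFunctor_of_mem_IF (H := H) h𝓦
  have ihsub : ∀ L : Subgroup H, L ≠ ⊤ → FamilyControlsStrongFusionIn p (IF 𝓦 H) L := by
    intro L hL
    apply familyControlsIn_of_subgroup h𝓦 L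
    exact ih _ (by rw [← hn]; exact card_subgroup_lt_of_ne_top hL) ↥L rfl (hsec.subgroup L)
  by_cases hP1 : P = ⊥
  · apply familyControlsStrongFusionIn_top S hc
    intro T hTS hT1 _
    apply ihsub
    intro htop
    apply hT1
    have hTn : T.Normal := Subgroup.normalizer_eq_top_iff.1 htop
    have : T ≤ P := H1.le_pCore hTn (S.2.to_le hTS)
    rw [hP1] at this
    exact le_bot_iff.1 this
  set C := Subgroup.centralizer (P : Set H) with hCdef
  have hCn : C.Normal := Subgroup.normal_centralizer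
  by_cases hCP : C ≤ P
  · exact hloc H hsec hCP
  by_cases hA : (S : Subgroup H) ⊓ C ≤ P
  · apply familyControls_caseA h𝓦 S hA
    intro D _ hcon
    exact hloc (H ⧸ D) (hsec.quotient D) hcon
  have hG₁ : Subgroup.normalizer (((S : Subgroup H) ⊓ (P ⊔ C) : Subgroup H) : Set H) ≠ ⊤ := by
    intro htop
    apply hA
    have hn' : ((S : Subgroup H) ⊓ (P ⊔ C)).Normal := Subgroup.normalizer_eq_top_iff.1 htop
    have h1 : (S : Subgroup H) ⊓ (P ⊔ C) ≤ P := H1.le_pCore hn' (S.2.to_le inf_le_left)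
    exact le_trans (inf_le_inf_left _ le_sup_right) h1
  apply familyControls_of_ctlF S.2 S.not_dvd_index
  by_cases hX : (S : Subgroup H) ⊔ C = ⊤
  · have hSP : ¬ (S : Subgroup H) ≤ P := fun h => hA (le_trans inf_le_left h)
    have hSb := sylow_map_mk S P
    have hquot : CtlF (IF 𝓦 (H ⧸ P)) ((S : Subgroup H).map (QuotientGroup.mk' P)) := by
      apply ctlF_of_familyControls (isConjugacyFunctor_of_mem_IF h𝓦) _ hSb.1 hSb.2
      exact ih _ (by rw [← hn]; exact card_quotient_lt_of_ne_bot hP1) (H ⧸ P) rfl (hsec.quotient P)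
    apply ctlF_caseC S P hPS hX hquot
    · intro W hW e he A hA hAe
      have hWc := isConjugacyFunctor_inducedFunctor (H := H ⧸ P) (h𝓦 W hW)
      set L := (Subgroup.normalizer ((inducedFunctor W ((S : Subgroup H).map (QuotientGroup.mk' P)) :
        Subgroup (H ⧸ P)) : Set (H ⧸ P))).comap (QuotientGroup.mk' P) with hL
      have hLtop : L ≠ ⊤ :=
        comap_normalizer_ne_top (h𝓦 W hW) S P hPS (fun V hV hVp => H1.le_pCore hV hVp) hSP
      have hSL : (S : Subgroup H) ≤ L := by
        intro s hs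
        have h1 : (S : Subgroup H).map (QuotientGroup.mk' P) ≤ Subgroup.normalizer
            ((inducedFunctor W ((S : Subgroup H).map (QuotientGroup.mk' P)) : Subgroup (H ⧸ P)) :
              Set (H ⧸ P)) :=
          Subgroup.le_normalizer.trans (normalizer_le_normalizer_functor hWc hSb.1)
        exact h1 ⟨s, hs, rfl⟩
      exact goodF_of_familyControlsIn hc (ihsub L hLtop) S.2 hSL
        (not_dvd_relIndex_of_sylow_le S hSL) he hA hAe
    · intro s hs A hA
      have hStop : (S : Subgroup H) ≠ ⊤ := by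
        intro htop
        apply hSP
        have hSn : (S : Subgroup H).Normal := by rw [htop]; infer_instance
        exact H1.le_pCore hSn S.2
      have hAs : rconj s A ⊆ ((S : Subgroup H) : Set H) := by
        rintro _ ⟨a, ha, rfl⟩
        exact Subgroup.mul_mem _ (Subgroup.mul_mem _ (Subgroup.inv_mem _ hs) (hA ha)) hs
      refine goodF_of_familyControlsIn hc (ihsub _ hStop) S.2 le_rfl ?_ hs hA hAs
      rw [Subgroup.relIndex_self]
      exact hp.out.not_dvd_one
  · exact ctlF_caseB h𝓦 S P C hPS (ihsub _ hG₁) (ihsub _ hX)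

theorem pCore_map_mulEquiv {H' : Type u} [Group H'] (p : ℕ) [Fact p.Prime] (e : H ≃* H') :
    (Cfsg.pCore p H).map e.toMonoidHom = Cfsg.pCore p H' := by
  have key : ∀ {A B : Type u} [Group A] [Group B] (f : A ≃* B),
      (Cfsg.pCore p A).map f.toMonoidHom ≤ Cfsg.pCore p B := by
    intro A B _ _ f
    exact H1.le_pCore ((H1.pCore_normal p A).map _ f.surjective) ((H1.pCore_isPGroup p A).map _)
  apply le_antisymm (key e)
  intro y hy
  have h1 : e.symm y ∈ Cfsg.pCore p H := key e.symm ⟨y, hy, rfl⟩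
  exact ⟨e.symm y, h1, by simp⟩

/-- `p`-constraint is invariant under isomorphisms -/
theorem constrained_of_mulEquiv {H' : Type u} [Group H'] (p : ℕ) [Fact p.Prime] (e : H ≃* H')
    (h : Subgroup.centralizer ((Cfsg.pCore p H' : Subgroup H') : Set H') ≤ Cfsg.pCore p H') :
    Subgroup.centralizer ((Cfsg.pCore p H : Subgroup H) : Set H) ≤ Cfsg.pCore p H := by
  intro x hx
  have h1 : e x ∈ Subgroup.centralizer ((Cfsg.pCore p H' : Subgroup H') : Set H') := by
    rw [Subgroup.mem_centralizer_iff]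
    intro y' hy'
    rw [SetLike.mem_coe, ← pCore_map_mulEquiv p e] at hy'
    obtain ⟨y, hy, rfl⟩ := hy'
    have := Subgroup.mem_centralizer_iff.1 hx y hy
    show e y * e x = e x * e y
    rw [← map_mul, ← map_mul, this]
  have h2 := h h1
  rw [← pCore_map_mulEquiv p e] at h2
  obtain ⟨y, hy, hyx⟩ := h2
  have : y = x := e.injective hyx
  rw [← this]; exact hy

end Cfsg.Agent.Lib.H10
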