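import Mathlib
import Cfsg.Prelude.Def_ConjugacyFunctors
import Cfsg.Agent.Lib.H10.SecMain
import Cfsg.Agent.Lib.H10.FamilyTransfer
import Cfsg.Agent.Lib.L0.TransferPC

/-! Control of transfer by a set of isomorphism-invariant functors in the sections of a finite group:
transport along injective homomorphisms, lifting through quotients by normal `p'`-subgroups,
factorizations, and the reduction to `p`-constrained sections (helper10). -/

set_option autoImplicit false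

namespace Cfsg.Agent.Lib.H10

open Cfsg

universe u

variable {𝓦 : Set (∀ (Q : Type u) [Group Q], Subgroup Q)}
variable {H : Type u} [Group H] {H' : Type u} [Group H']

/-- the subgroup generated by the `T ∩ N_L(W T)'` -/
def TF (𝓕 : Set (Subgroup H → Subgroup H)) (L T : Subgroup H) : Subgroup H :=
  ⨆ W ∈ 𝓕, T ⊓ ⁅L ⊓ Subgroup.normalizer ((W T : Subgroup H) : Set H),
    L ⊓ Subgroup.normalizer ((W T : Subgroup H) : Set H)⁆

theorem TF_le_inf_commutator (𝓕 : Set (Subgroup H → Subgroup H)) (L T : Subgroup H) :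
    TF 𝓕 L T ≤ T ⊓ ⁅L, L⁆ := by
  unfold TF
  refine iSup₂_le fun W _ => ?_
  exact inf_le_inf_left _ (Subgroup.commutator_mono inf_le_left inf_le_left)

theorem TF_mono_left (𝓕 : Set (Subgroup H → Subgroup H)) {L L' : Subgroup H} (h : L ≤ L')
    (T : Subgroup H) : TF 𝓕 L T ≤ TF 𝓕 L' T := by
  unfold TF
  refine iSup₂_le fun W hW => ?_
  refine le_trans ?_ (le_iSup₂ (f := fun W (_ : W ∈ 𝓕) => T ⊓
    ⁅L' ⊓ Subgroup.normalizer ((W T : Subgroup H) : Set H),
      L' ⊓ Subgroup.normalizer ((W T : Subgroup H) : Set H)⁆) W hW)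
  exact inf_le_inf_left _ (Subgroup.commutator_mono (inf_le_inf_right _ h) (inf_le_inf_right _ h))

theorem familyControlsTransferIn_iff (p : ℕ) (𝓕 : Set (Subgroup H → Subgroup H)) (L : Subgroup H) :
    FamilyControlsTransferIn p 𝓕 L ↔ ∃ T : Subgroup H, T ≤ L ∧ IsPGroup p T ∧ ¬ p ∣ T.relIndex L ∧
      T ⊓ ⁅L, L⁆ ≤ TF 𝓕 L T := by
  constructor
  · rintro ⟨T, h1, h2, h3, h4⟩
    exact ⟨T, h1, h2, h3, le_of_eq h4⟩
  · rintro ⟨T, h1, h2, h3, h4⟩
    exact ⟨T, h1, h2, h3, le_antisymm h4 (TF_le_inf_commutator 𝓕 L T)⟩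

/-- the induced family version of `TF`, indexed by `𝓦` -/
theorem TF_IF (L T : Subgroup H) :
    TF (IF 𝓦 H) L T = ⨆ W ∈ 𝓦, T ⊓
      ⁅L ⊓ Subgroup.normalizer ((inducedFunctor W T : Subgroup H) : Set H),
        L ⊓ Subgroup.normalizer ((inducedFunctor W T : Subgroup H) : Set H)⁆ := by
  unfold TF IF
  rw [iSup_image]

theorem map_inf_normalizer_of_injective (f : H →* H') (hf : Function.Injective f)
    (X Y : Subgroup H) :
    (X ⊓ Subgroup.normalizer (Y : Set H)).map f =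
      X.map f ⊓ Subgroup.normalizer ((Y.map f : Subgroup H') : Set H') := by
  apply le_antisymm
  · rintro _ ⟨x, hx, rfl⟩
    obtain ⟨hxX, hxN⟩ := Subgroup.mem_inf.1 hx
    exact Subgroup.mem_inf.2 ⟨⟨x, hxX, rfl⟩, Subgroup.le_normalizer_map f ⟨x, hxN, rfl⟩⟩
  · intro z hz
    obtain ⟨⟨x, hxX, rfl⟩, hzN⟩ := Subgroup.mem_inf.1 hz
    refine ⟨x, Subgroup.mem_inf.2 ⟨hxX, ?_⟩, rfl⟩
    rw [Subgroup.mem_normalizer_iff]
    intro y
    have h1 := Subgroup.mem_normalizer_iff.1 hzN (f y)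
    have e : f x * f y * (f x)⁻¹ = f (x * y * x⁻¹) := by simp [map_mul, map_inv]
    rw [e] at h1
    constructor
    · intro hy
      obtain ⟨y', hy', hyy'⟩ := h1.1 ⟨y, hy, rfl⟩
      rw [← hf hyy']; exact hy'
    · intro hy
      obtain ⟨y', hy', hyy'⟩ := h1.2 ⟨_, hy, rfl⟩
      rw [← hf hyy']; exact hy'

/-- transport of control of transfer by a family along an injective homomorphism -/
theorem familyTransferIn_map_of_injective [Finite H] {p : ℕ}
    (h𝓦 : ∀ W ∈ 𝓦, IsCharPFunctor.{u} p W) (f : H →* H') (hf : Function.Injective f)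
    (X : Subgroup H) (h : FamilyControlsTransferIn p (IF 𝓦 H) X) :
    FamilyControlsTransferIn p (IF 𝓦 H') (X.map f) := by
  obtain ⟨T, hTX, hT, hTi, heq⟩ := h
  refine ⟨T.map f, Subgroup.map_mono hTX, hT.map _, ?_, ?_⟩
  · rwa [Subgroup.relIndex_map_map_of_injective _ _ hf]
  · have h1 : (T ⊓ ⁅X, X⁆).map f = T.map f ⊓ ⁅X.map f, X.map f⁆ := by
      rw [Subgroup.map_inf _ _ f hf, Subgroup.map_commutator]
    rw [← h1, heq]
    change (TF (IF 𝓦 H) X T).map f = TF (IF 𝓦 H') (X.map f) (T.map f)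
    rw [TF_IF, TF_IF, Subgroup.map_iSup]
    congr 1
    funext W
    rw [Subgroup.map_iSup]
    congr 1
    funext hW
    rw [Subgroup.map_inf _ _ f hf, Subgroup.map_commutator,
      map_inf_normalizer_of_injective f hf, inducedFunctor_map_injOn (h𝓦 W hW) f T hT hf.injOn]

theorem familyTransferIn_of_subgroup [Finite H] {p : ℕ}
    (h𝓦 : ∀ W ∈ 𝓦, IsCharPFunctor.{u} p W) (L : Subgroup H)
    (h : FamilyControlsTransferIn p (IF 𝓦 ↥L) ⊤) :
    FamilyControlsTransferIn p (IF 𝓦 H) L := by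
  have := familyTransferIn_map_of_injective h𝓦 L.subtype L.subtype_injective ⊤ h
  rwa [← MonoidHom.range_eq_map, Subgroup.range_subtype] at this

theorem familyTransfer_of_equiv [Finite H] {p : ℕ}
    (h𝓦 : ∀ W ∈ 𝓦, IsCharPFunctor.{u} p W) (e : H ≃* H')
    (h : FamilyControlsTransferIn p (IF 𝓦 H) ⊤) :
    FamilyControlsTransferIn p (IF 𝓦 H') ⊤ := by
  have := familyTransferIn_map_of_injective h𝓦 e.toMonoidHom e.injective ⊤ h
  rwa [Subgroup.map_top_of_surjective _ e.surjective] at this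


/-! ### Lifting through a quotient by a normal `p'`-subgroup -/

/-- If `S ∩ Y` is a Sylow `p`-subgroup of `Y` and `D` is a normal `p'`-subgroup, then the
intersection of the images of `S` and `Y` modulo `D` is the image of `S ∩ Y`. -/
theorem map_inf_map_le_of_coprime [Finite H] {p : ℕ} [hp : Fact p.Prime] (D : Subgroup H)
    [hDn : D.Normal] (hD : (Nat.card D).Coprime p) {S Y : Subgroup H} (hS : IsPGroup p S)
    (hSY : ¬ p ∣ (S ⊓ Y).relIndex Y) :
    S.map (QuotientGroup.mk' D) ⊓ Y.map (QuotientGroup.mk' D) ≤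
      (S ⊓ Y).map (QuotientGroup.mk' D) := by
  intro zb hzb
  obtain ⟨⟨s, hs, hsz⟩, ⟨y, hy, hyz⟩⟩ := Subgroup.mem_inf.1 hzb
  have hsy : s⁻¹ * y ∈ D := by
    rw [← QuotientGroup.eq]
    exact hsz.trans hyz.symm
  set M : Subgroup H := Y ⊓ (S ⊔ D) with hM
  have hyM : y ∈ M := by
    refine Subgroup.mem_inf.2 ⟨hy, ?_⟩
    have : y = s * (s⁻¹ * y) := by group
    rw [this]
    exact Subgroup.mul_mem _ (Subgroup.mem_sup_left hs) (Subgroup.mem_sup_right hsy)
  have hQM : S ⊓ Y ≤ M := le_inf inf_le_right (inf_le_left.trans le_sup_left)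
  have hMY : M ≤ Y := inf_le_left
  -- the normal `p'`-subgroup of `M`
  haveI : (D.subgroupOf M).Normal := Subgroup.normal_subgroupOf
  have hN1 : ¬ p ∣ Nat.card (D.subgroupOf M) := by
    intro hdvd
    have h1 : Nat.card (D.subgroupOf M) = Nat.card (D ⊓ M : Subgroup H) := by
      rw [← Subgroup.inf_subgroupOf_right]
      exact Nat.card_congr (Subgroup.subgroupOfEquivOfLe inf_le_right).toEquiv
    rw [h1] at hdvd
    have h2 := hdvd.trans (Subgroup.card_dvd_of_le (inf_le_left : D ⊓ M ≤ D))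
    exact (Nat.Prime.coprime_iff_not_dvd hp.out).1 hD.symm h2
  have hN2 : ∃ k, (D.subgroupOf M).index = p ^ k := by
    have h1 : (D.subgroupOf M).index = Nat.card (M.map (QuotientGroup.mk' D)) := by
      have := Subgroup.relIndex_ker M (QuotientGroup.mk' D)
      rw [QuotientGroup.ker_mk'] at this
      exact this
    rw [h1]
    have h2 : M.map (QuotientGroup.mk' D) ≤ S.map (QuotientGroup.mk' D) := by
      refine (Subgroup.map_mono (inf_le_right : M ≤ S ⊔ D)).trans ?_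
      rw [Subgroup.map_sup, (Subgroup.map_eq_bot_iff D).2 (le_of_eq (QuotientGroup.ker_mk' D).symm),
        sup_bot_eq]
    exact ((hS.map _).to_le h2).exists_card_eq
  -- the Sylow subgroup of `M`
  have hQp : IsPGroup p ((S ⊓ Y).subgroupOf M) := (hS.to_le inf_le_left).comap_subtype
  have hQi : ¬ p ∣ ((S ⊓ Y).subgroupOf M).index := by
    intro hdvd
    apply hSY
    rw [← Subgroup.relIndex_mul_relIndex (S ⊓ Y) M Y hQM hMY]
    exact Dvd.dvd.mul_right hdvd _
  have hcomp := L0.isComplement'_sylow_of_normal (D.subgroupOf M) hN1 hN2 (hQp.toSylow hQi)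
  have htop := hcomp.sup_eq_top
  have hyt : (⟨y, hyM⟩ : M) ∈ D.subgroupOf M ⊔ ((hQp.toSylow hQi : Sylow p M) : Subgroup M) := by
    rw [htop]; exact Subgroup.mem_top _
  obtain ⟨n, hn, q, hq, hnq⟩ := Subgroup.mem_sup_of_normal_left.1 hyt
  rw [hQp.toSylow_coe hQi] at hq
  have hn' : (n : H) ∈ D := Subgroup.mem_subgroupOf.1 hn
  have hq' : (q : H) ∈ S ⊓ Y := Subgroup.mem_subgroupOf.1 hq
  refine ⟨(q : H), hq', ?_⟩
  rw [← hyz]
  have h3 : y = (n : H) * (q : H) := by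
    have := congrArg Subtype.val hnq
    simpa using this.symm
  rw [h3, map_mul]
  have h4 : QuotientGroup.mk' D (n : H) = 1 := by
    rw [← MonoidHom.mem_ker, QuotientGroup.ker_mk']
    exact hn'
  rw [h4, one_mul]

/-- the intersection of a Sylow subgroup of `L` with a subgroup normalized by `L` -/
theorem not_dvd_relIndex_inf_of_le_normalizer [Finite H] {p : ℕ} [hp : Fact p.Prime]
    {T L K : Subgroup H} (hT : IsPGroup p T) (hTi : ¬ p ∣ T.relIndex L) (hKL : K ≤ L)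
    (hLK : L ≤ Subgroup.normalizer (K : Set H)) : ¬ p ∣ (T ⊓ K).relIndex K := by
  have hRp : IsPGroup p (T.subgroupOf L) := hT.comap_subtype
  haveI : (K.subgroupOf L).Normal := Subgroup.normal_subgroupOf_of_le_normalizer hLK
  have := H19.not_dvd_relIndex_inf_normal (hRp.toSylow hTi) (K.subgroupOf L)
  rw [hRp.toSylow_coe hTi] at this
  have e : T.subgroupOf L ⊓ K.subgroupOf L = (T ⊓ K).subgroupOf L := rfl
  rw [e, Subgroup.relIndex_subgroupOf hKL] at this
  exact this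

theorem le_normalizer_commutator_self (N : Subgroup H) :
    N ≤ Subgroup.normalizer ((⁅N, N⁆ : Subgroup H) : Set H) := by
  have h1 : (commutator ↥N).Normal := inferInstance
  have h2 := Subgroup.le_normalizer_map (H := commutator ↥N) N.subtype
  rw [Subgroup.normalizer_eq_top_iff.2 h1, ← MonoidHom.range_eq_map, Subgroup.range_subtype,
    Subgroup.map_subtype_commutator] at h2
  exact h2

/-- Control of transfer lifts through the quotient by a normal `p'`-subgroup. -/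
theorem familyTransfer_of_quotient_coprime [Finite H] {p : ℕ} [hp : Fact p.Prime]
    (h𝓦 : ∀ W ∈ 𝓦, IsCharPFunctor.{u} p W) (D : Subgroup H) [hDn : D.Normal]
    (hD : (Nat.card D).Coprime p) (S : Sylow p H)
    (h : FamilyControlsTransferIn p (IF 𝓦 (H ⧸ D)) ⊤) :
    FamilyControlsTransferIn p (IF 𝓦 H) ⊤ := by
  rw [familyControlsTransferIn_iff]
  refine ⟨(S : Subgroup H), le_top, S.2, ?_, ?_⟩
  · rw [Subgroup.relIndex_top_right]; exact S.not_dvd_index
  have hSb := sylow_map_mk S D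
  have hcb := isConjugacyFunctor_of_mem_IF (H := H ⧸ D) h𝓦
  have heq := familyControlsTransferIn_sylowIn hcb h hSb.1 le_top
    (by rw [Subgroup.relIndex_top_right]; exact hSb.2)
  have hinj := injOn_mk_of_coprime D hD S.2
  have hdisj : ∀ x : H, x ∈ (S : Subgroup H) → x ∈ D → x = 1 := by
    intro x hxS hxD
    exact hinj hxS (Subgroup.one_mem _) (by
      rw [map_one, ← MonoidHom.mem_ker, QuotientGroup.ker_mk']
      exact hxD)
  -- each term of the quotient lies in the image of the corresponding term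
  have hterm : ∀ W ∈ 𝓦, (S : Subgroup H).map (QuotientGroup.mk' D) ⊓
      ⁅⊤ ⊓ Subgroup.normalizer ((inducedFunctor W ((S : Subgroup H).map (QuotientGroup.mk' D)) :
        Subgroup (H ⧸ D)) : Set (H ⧸ D)),
        ⊤ ⊓ Subgroup.normalizer ((inducedFunctor W ((S : Subgroup H).map (QuotientGroup.mk' D)) :
        Subgroup (H ⧸ D)) : Set (H ⧸ D))⁆ ≤
      ((S : Subgroup H) ⊓ ⁅⊤ ⊓ Subgroup.normalizer ((inducedFunctor W (S : Subgroup H) :
        Subgroup H) : Set H), ⊤ ⊓ Subgroup.normalizer ((inducedFunctor W (S : Subgroup H) :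
        Subgroup H) : Set H)⁆).map (QuotientGroup.mk' D) := by
    intro W hW
    have hWc := isConjugacyFunctor_inducedFunctor (H := H) (h𝓦 W hW)
    set V := inducedFunctor W (S : Subgroup H) with hV
    have hVS : V ≤ (S : Subgroup H) := functor_le hWc S.2
    have hVp : IsPGroup p V := S.2.to_le hVS
    have hVmap : V.map (QuotientGroup.mk' D) =
        inducedFunctor W ((S : Subgroup H).map (QuotientGroup.mk' D)) :=
      inducedFunctor_map_injOn (h𝓦 W hW) _ _ S.2 hinj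
    rw [← hVmap, top_inf_eq, top_inf_eq]
    set N := Subgroup.normalizer (V : Set H) with hN
    have hNmap : Subgroup.normalizer ((V.map (QuotientGroup.mk' D) : Subgroup (H ⧸ D)) :
        Set (H ⧸ D)) = N.map (QuotientGroup.mk' D) := by
      apply le_antisymm
      · intro eb heb
        obtain ⟨e, he, hee⟩ := exists_lift_mem_normalizer D hD hVp heb
        exact ⟨e, he, hee⟩
      · exact Subgroup.le_normalizer_map _
    rw [hNmap, ← Subgroup.map_commutator]
    have hSN : (S : Subgroup H) ≤ N := Subgroup.le_normalizer.trans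
      (normalizer_le_normalizer_functor hWc S.2)
    have hSi : ¬ p ∣ ((S : Subgroup H) ⊓ ⁅N, N⁆).relIndex ⁅N, N⁆ :=
      not_dvd_relIndex_inf_of_le_normalizer S.2 (not_dvd_relIndex_of_sylow_le S hSN)
        (Subgroup.commutator_le_self N) (le_normalizer_commutator_self N)
    exact map_inf_map_le_of_coprime D hD S.2 hSi
  intro y hy
  obtain ⟨hyS, hyc⟩ := Subgroup.mem_inf.1 hy
  have h1 : QuotientGroup.mk' D y ∈ (S : Subgroup H).map (QuotientGroup.mk' D) ⊓
      ⁅(⊤ : Subgroup (H ⧸ D)), ⊤⁆ := by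
    refine Subgroup.mem_inf.2 ⟨⟨y, hyS, rfl⟩, ?_⟩
    have : Subgroup.map (QuotientGroup.mk' D) ⁅(⊤ : Subgroup H), ⊤⁆ = ⁅(⊤ : Subgroup (H ⧸ D)), ⊤⁆ := by
      rw [Subgroup.map_commutator, Subgroup.map_top_of_surjective _ (QuotientGroup.mk'_surjective D)]
    rw [← this]
    exact ⟨y, hyc, rfl⟩
  rw [heq] at h1
  have h2 : (⨆ W ∈ IF 𝓦 (H ⧸ D), (S : Subgroup H).map (QuotientGroup.mk' D) ⊓
      ⁅⊤ ⊓ Subgroup.normalizer ((W ((S : Subgroup H).map (QuotientGroup.mk' D)) :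
        Subgroup (H ⧸ D)) : Set (H ⧸ D)),
        ⊤ ⊓ Subgroup.normalizer ((W ((S : Subgroup H).map (QuotientGroup.mk' D)) :
        Subgroup (H ⧸ D)) : Set (H ⧸ D))⁆) ≤
      (TF (IF 𝓦 H) ⊤ (S : Subgroup H)).map (QuotientGroup.mk' D) := by
    have hIF : IF 𝓦 (H ⧸ D) = (fun W => inducedFunctor (G := H ⧸ D) W) '' 𝓦 := rfl
    rw [hIF, iSup_image]
    refine iSup₂_le fun W hW => ?_
    refine (hterm W hW).trans (Subgroup.map_mono ?_)
    rw [TF_IF]
    exact le_iSup₂ (f := fun W (_ : W ∈ 𝓦) => (S : Subgroup H) ⊓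
      ⁅⊤ ⊓ Subgroup.normalizer ((inducedFunctor W (S : Subgroup H) : Subgroup H) : Set H),
        ⊤ ⊓ Subgroup.normalizer ((inducedFunctor W (S : Subgroup H) : Subgroup H) : Set H)⁆) W hW
  obtain ⟨f, hf, hfy⟩ := h2 h1
  have hfS : f ∈ (S : Subgroup H) := ((TF_le_inf_commutator _ _ _).trans inf_le_left) hf
  have h3 : f⁻¹ * y ∈ D := by
    rw [← QuotientGroup.eq]
    exact hfy
  have h4 := hdisj _ (Subgroup.mul_mem _ (Subgroup.inv_mem _ hfS) hyS) h3
  have : y = f := by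
    have := inv_mul_eq_one.1 h4
    exact this.symm
  rw [this]
  exact hf


/-! ### Factorizations -/

open scoped commutatorElement in
/-- If `H = X Y` with `S ≤ X ∩ Y`, then `S ∩ H'` is generated by `S ∩ X'` and `S ∩ Y'`. -/
theorem inf_commutator_le_of_factorization [Finite H] {p : ℕ} [hp : Fact p.Prime] (S : Sylow p H)
    {X Y : Subgroup H} (hSX : (S : Subgroup H) ≤ X) (hSY : (S : Subgroup H) ≤ Y)
    (hfac : ∀ g : H, ∃ x ∈ X, ∃ y ∈ Y, g = x * y) :
    (S : Subgroup H) ⊓ ⁅(⊤ : Subgroup H), ⊤⁆ ≤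
      ((S : Subgroup H) ⊓ ⁅X, X⁆) ⊔ ((S : Subgroup H) ⊓ ⁅Y, Y⁆) := by
  have hfocal : (S : Subgroup H) ⊓ ⁅(⊤ : Subgroup H), ⊤⁆ = (S : Subgroup H).focalSubgroup := by
    rw [inf_comm, ← commutator_def]
    exact Subgroup.commutator_inf_eq_focalSubgroup S
  rw [hfocal, Subgroup.focalSubgroup_def, Subgroup.closure_le]
  rintro _ ⟨hgS, a, haS, u, rfl⟩
  have hb : u * a * u⁻¹ ∈ (S : Subgroup H) := by
    have h1 : a⁻¹ * ⁅a, u⁆ ∈ (S : Subgroup H) := mul_mem (inv_mem haS) hgS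
    have h2 : a⁻¹ * ⁅a, u⁆ = (u * a * u⁻¹)⁻¹ := by
      rw [commutatorElement_def]; group
    rw [h2] at h1
    exact (inv_mem_iff).mp h1
  obtain ⟨x, hx, y, hy, hxy⟩ := hfac u⁻¹
  have hu : u = y⁻¹ * x⁻¹ := by
    have : u = (u⁻¹)⁻¹ := (inv_inv u).symm
    rw [this, hxy]; group
  -- `a₁ = x⁻¹ a x` lies in `X ∩ Y`
  have ha₁X : x⁻¹ * a * x ∈ X := X.mul_mem (X.mul_mem (X.inv_mem hx) (hSX haS)) hx
  have ha₁Y : x⁻¹ * a * x ∈ Y := by
    have e : x⁻¹ * a * x = y * (u * a * u⁻¹) * y⁻¹ := by rw [hu]; group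
    rw [e]
    exact Y.mul_mem (Y.mul_mem hy (hSY hb)) (Y.inv_mem hy)
  have hSi : ¬ p ∣ (S : Subgroup H).relIndex (X ⊓ Y) :=
    not_dvd_relIndex_of_sylow_le S (le_inf hSX hSY)
  have hBp : IsPGroup p (Subgroup.zpowers (x⁻¹ * a * x)) := by
    have h1 : Subgroup.zpowers (x⁻¹ * a * x) =
        (Subgroup.zpowers a).map (MulAut.conj x⁻¹).toMonoidHom := by
      rw [MonoidHom.map_zpowers]
      simp [MulAut.conj_apply]
    rw [h1]
    exact (S.2.to_le ((Subgroup.zpowers_le).2 haS)).map _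
  have hBle : Subgroup.zpowers (x⁻¹ * a * x) ≤ X ⊓ Y :=
    (Subgroup.zpowers_le).2 (Subgroup.mem_inf.2 ⟨ha₁X, ha₁Y⟩)
  obtain ⟨m, hm, hmB⟩ :=
    exists_mem_map_conj_le_of_sylowIn S.2 (le_inf hSX hSY) hSi hBp hBle
  obtain ⟨hmX, hmY⟩ := Subgroup.mem_inf.1 hm
  have ha₂ : m * (x⁻¹ * a * x) * m⁻¹ ∈ (S : Subgroup H) := by
    apply hmB
    exact ⟨x⁻¹ * a * x, Subgroup.mem_zpowers _, by simp [MulAut.conj_apply]⟩
  -- split the commutator
  have e1 : ⁅a, u⁆ = ⁅a, m * x⁻¹⁆ * ⁅m * (x⁻¹ * a * x) * m⁻¹, y⁻¹ * m⁻¹⁆ := by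
    rw [commutatorElement_def, commutatorElement_def, commutatorElement_def, hu]
    group
  rw [e1]
  have h1 : ⁅a, m * x⁻¹⁆ ∈ (S : Subgroup H) ⊓ ⁅X, X⁆ := by
    refine Subgroup.mem_inf.2 ⟨?_, Subgroup.commutator_mem_commutator (hSX haS)
      (X.mul_mem hmX (X.inv_mem hx))⟩
    have e : ⁅a, m * x⁻¹⁆ = a * (m * (x⁻¹ * a * x) * m⁻¹)⁻¹ := by
      rw [commutatorElement_def]; group
    rw [e]
    exact mul_mem haS (inv_mem ha₂)
  have h2 : ⁅m * (x⁻¹ * a * x) * m⁻¹, y⁻¹ * m⁻¹⁆ ∈ (S : Subgroup H) ⊓ ⁅Y, Y⁆ := by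
    refine Subgroup.mem_inf.2 ⟨?_, Subgroup.commutator_mem_commutator (hSY ha₂)
      (Y.mul_mem (Y.inv_mem hy) (Y.inv_mem hmY))⟩
    have e : ⁅m * (x⁻¹ * a * x) * m⁻¹, y⁻¹ * m⁻¹⁆ =
        (m * (x⁻¹ * a * x) * m⁻¹) * (u * a * u⁻¹)⁻¹ := by
      rw [commutatorElement_def, hu]; group
    rw [e]
    exact mul_mem ha₂ (inv_mem hb)
  exact mul_mem (Subgroup.mem_sup_left h1) (Subgroup.mem_sup_right h2)

open scoped commutatorElement in
/-- If `H = S C_H(P)` for a normal `p`-subgroup `P ≤ S`, then `P ∩ H' ≤ S'`. -/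
theorem inf_commutator_le_of_sup_centralizer [Finite H] {p : ℕ} [hp : Fact p.Prime]
    (S : Sylow p H) (P : Subgroup H) [hPn : P.Normal] (hPS : P ≤ (S : Subgroup H))
    (htop : (S : Subgroup H) ⊔ Subgroup.centralizer (P : Set H) = ⊤) :
    P ⊓ ⁅(⊤ : Subgroup H), ⊤⁆ ≤ ⁅(S : Subgroup H), (S : Subgroup H)⁆ := by
  haveI hCn : (Subgroup.centralizer (P : Set H)).Normal := Subgroup.normal_centralizer
  haveI hN₀n : (⁅P, (⊤ : Subgroup H)⁆).Normal := Subgroup.commutator_normal P ⊤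
  have hN₀ : ⁅P, (⊤ : Subgroup H)⁆ ≤ ⁅(S : Subgroup H), (S : Subgroup H)⁆ := by
    rw [Subgroup.commutator_le]
    intro x hx h _
    have hh : h ∈ (S : Subgroup H) ⊔ Subgroup.centralizer (P : Set H) := by
      rw [htop]; exact Subgroup.mem_top h
    obtain ⟨s, hs, c, hc, rfl⟩ := Subgroup.mem_sup_of_normal_right.1 hh
    have hcx : x⁻¹ * c = c * x⁻¹ := Subgroup.mem_centralizer_iff.1 hc x⁻¹ (P.inv_mem hx)
    have e : ⁅x, s * c⁆ = ⁅x, s⁆ := by
      rw [commutatorElement_def, commutatorElement_def]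
      calc x * (s * c) * x⁻¹ * (s * c)⁻¹ = x * s * (c * x⁻¹) * c⁻¹ * s⁻¹ := by group
        _ = x * s * (x⁻¹ * c) * c⁻¹ * s⁻¹ := by rw [hcx]
        _ = x * s * x⁻¹ * s⁻¹ := by group
    rw [e]
    exact Subgroup.commutator_mem_commutator (hPS hx) hs
  intro x hx
  obtain ⟨hxP, hxc⟩ := Subgroup.mem_inf.1 hx
  set π := QuotientGroup.mk' ⁅P, (⊤ : Subgroup H)⁆ with hπ
  have hπs : Function.Surjective π := QuotientGroup.mk'_surjective _
  -- `π x` is central
  have hcent : ∀ (k : ℕ) (g₀ : H ⧸ ⁅P, (⊤ : Subgroup H)⁆),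
      g₀⁻¹ * (π x) ^ k * g₀ = (π x) ^ k := by
    intro k g₀
    obtain ⟨h, rfl⟩ := hπs g₀
    have h1 : ⁅x ^ k, h⁻¹⁆ ∈ ⁅P, (⊤ : Subgroup H)⁆ :=
      Subgroup.commutator_mem_commutator (P.pow_mem hxP k) (Subgroup.mem_top _)
    have h2 : π ⁅x ^ k, h⁻¹⁆ = 1 := by
      rw [← MonoidHom.mem_ker, hπ, QuotientGroup.ker_mk']
      exact h1
    have e : (π h)⁻¹ * (π x) ^ k * π h = (π ⁅x ^ k, h⁻¹⁆)⁻¹ * (π x) ^ k := by
      rw [commutatorElement_def]
      simp only [map_mul, map_inv, map_pow, mul_inv_rev, inv_inv]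
      group
    rw [e, h2, inv_one, one_mul]
  set Sb := (S : Subgroup H).map π with hSb
  have htr := MonoidHom.transfer_eq_pow (Abelianization.of : ↥Sb →* Abelianization ↥Sb) (π x)
    (fun k g₀ _ => hcent k g₀)
  have hker : π x ∈ (MonoidHom.transfer (Abelianization.of : ↥Sb →* Abelianization ↥Sb)).ker := by
    apply Abelianization.commutator_subset_ker
    have : Subgroup.map π ⁅(⊤ : Subgroup H), ⊤⁆ = commutator (H ⧸ ⁅P, (⊤ : Subgroup H)⁆) := by
      rw [Subgroup.map_commutator, Subgroup.map_top_of_surjective _ hπs, commutator_def]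
    rw [← this]
    exact ⟨x, hxc, rfl⟩
  rw [MonoidHom.mem_ker, htr] at hker
  have h3 : (⟨π x ^ Sb.index, MonoidHom.transfer_eq_pow_aux (π x) (fun k g₀ _ => hcent k g₀)⟩ :
      ↥Sb) ∈ commutator ↥Sb := by
    rw [← Abelianization.ker_of, MonoidHom.mem_ker]
    exact hker
  have h4 : π x ^ Sb.index ∈ ⁅Sb, Sb⁆ := by
    rw [← Subgroup.map_subtype_commutator]
    exact ⟨_, h3, rfl⟩
  rw [hSb, ← Subgroup.map_commutator] at h4
  obtain ⟨t, ht, htx⟩ := h4
  have h5 : x ^ Sb.index ∈ ⁅(S : Subgroup H), (S : Subgroup H)⁆ := by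
    have h6 : t⁻¹ * x ^ Sb.index ∈ ⁅P, (⊤ : Subgroup H)⁆ := by
      rw [← QuotientGroup.eq]
      change π t = π (x ^ Sb.index)
      rw [htx, map_pow]
    have : x ^ Sb.index = t * (t⁻¹ * x ^ Sb.index) := by group
    rw [this]
    exact mul_mem ht (hN₀ h6)
  have hcop : (Sb.index).Coprime (orderOf x) := by
    have h7 : Sb.index ∣ (S : Subgroup H).index := Subgroup.index_map_dvd _ hπs
    have h8 : (Sb.index).Coprime p := by
      rw [Nat.coprime_comm, Nat.Prime.coprime_iff_not_dvd hp.out]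
      exact fun h => S.not_dvd_index (h.trans h7)
    obtain ⟨k, hk⟩ := (S.2.to_le hPS) ⟨x, hxP⟩
    have h9 : orderOf x ∣ p ^ k := by
      apply orderOf_dvd_of_pow_eq_one
      have := congrArg Subtype.val hk
      simpa using this
    exact Nat.Coprime.coprime_dvd_right h9 (h8.pow_right k)
  obtain ⟨m, hm⟩ := exists_pow_eq_self_of_coprime hcop
  rw [← hm]
  exact Subgroup.pow_mem _ h5 m


/-! ### The quotient by `O_p` -/

/-- Control of transfer modulo a normal `p`-subgroup `P` containing every normal `p`-subgroup: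
`S ∩ H'` is reached from the preimages of the normalizers in `H / P` and from `P ∩ H'`. -/
theorem inf_commutator_le_of_quotient [Finite H] {p : ℕ} [hp : Fact p.Prime]
    (h𝓦 : ∀ W ∈ 𝓦, IsCharPFunctor.{u} p W) (S : Sylow p H) (P : Subgroup H) [hPn : P.Normal]
    (hPS : P ≤ (S : Subgroup H))
    (hPmax : ∀ V : Subgroup H, V.Normal → IsPGroup p V → V ≤ P)
    (hne : ¬ (S : Subgroup H) ≤ P)
    (hquot : FamilyControlsTransferIn p (IF 𝓦 (H ⧸ P)) ⊤)
    (F : Subgroup H) (hF : F ≤ ⁅(⊤ : Subgroup H), ⊤⁆)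
    (hsub : ∀ L : Subgroup H, L ≠ ⊤ → (S : Subgroup H) ≤ L → (S : Subgroup H) ⊓ ⁅L, L⁆ ≤ F)
    (hP : P ⊓ ⁅(⊤ : Subgroup H), ⊤⁆ ≤ F) :
    (S : Subgroup H) ⊓ ⁅(⊤ : Subgroup H), ⊤⁆ ≤ F := by
  have hSb := sylow_map_mk S P
  have hcb := isConjugacyFunctor_of_mem_IF (H := H ⧸ P) h𝓦
  have heq := familyControlsTransferIn_sylowIn hcb hquot hSb.1 le_top
    (by rw [Subgroup.relIndex_top_right]; exact hSb.2)
  have hπs := QuotientGroup.mk'_surjective P
  have hterm : ∀ W ∈ 𝓦, (S : Subgroup H).map (QuotientGroup.mk' P) ⊓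
      ⁅⊤ ⊓ Subgroup.normalizer ((inducedFunctor W ((S : Subgroup H).map (QuotientGroup.mk' P)) :
        Subgroup (H ⧸ P)) : Set (H ⧸ P)),
        ⊤ ⊓ Subgroup.normalizer ((inducedFunctor W ((S : Subgroup H).map (QuotientGroup.mk' P)) :
        Subgroup (H ⧸ P)) : Set (H ⧸ P))⁆ ≤ F.map (QuotientGroup.mk' P) := by
    intro W hW
    have hWc := isConjugacyFunctor_inducedFunctor (H := H ⧸ P) (h𝓦 W hW)
    rw [top_inf_eq]
    set Nb := Subgroup.normalizer ((inducedFunctor W ((S : Subgroup H).map (QuotientGroup.mk' P)) :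
        Subgroup (H ⧸ P)) : Set (H ⧸ P)) with hNb
    set L := Nb.comap (QuotientGroup.mk' P) with hL
    have hLtop : L ≠ ⊤ := comap_normalizer_ne_top (h𝓦 W hW) S P hPS hPmax hne
    have hSL : (S : Subgroup H) ≤ L := by
      intro s hs
      have h1 : (S : Subgroup H).map (QuotientGroup.mk' P) ≤ Nb :=
        Subgroup.le_normalizer.trans (normalizer_le_normalizer_functor hWc hSb.1)
      exact h1 ⟨s, hs, rfl⟩
    have hLmap : L.map (QuotientGroup.mk' P) = Nb :=
      Subgroup.map_comap_eq_self_of_surjective hπs Nb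
    rw [← hLmap, ← Subgroup.map_commutator]
    intro zb hzb
    obtain ⟨⟨s, hs, hsz⟩, ⟨l, hl, hlz⟩⟩ := Subgroup.mem_inf.1 hzb
    have h1 : s⁻¹ * l ∈ P := by
      rw [← QuotientGroup.eq]
      exact hsz.trans hlz.symm
    have hlS : l ∈ (S : Subgroup H) := by
      have : l = s * (s⁻¹ * l) := by group
      rw [this]
      exact mul_mem hs (hPS h1)
    exact ⟨l, hsub L hLtop hSL (Subgroup.mem_inf.2 ⟨hlS, hl⟩), hlz⟩
  intro y hy
  obtain ⟨hyS, hyc⟩ := Subgroup.mem_inf.1 hy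
  have h1 : QuotientGroup.mk' P y ∈ (S : Subgroup H).map (QuotientGroup.mk' P) ⊓
      ⁅(⊤ : Subgroup (H ⧸ P)), ⊤⁆ := by
    refine Subgroup.mem_inf.2 ⟨⟨y, hyS, rfl⟩, ?_⟩
    have : Subgroup.map (QuotientGroup.mk' P) ⁅(⊤ : Subgroup H), ⊤⁆ =
        ⁅(⊤ : Subgroup (H ⧸ P)), ⊤⁆ := by
      rw [Subgroup.map_commutator, Subgroup.map_top_of_surjective _ hπs]
    rw [← this]
    exact ⟨y, hyc, rfl⟩
  rw [heq] at h1
  have h2 : (⨆ W ∈ IF 𝓦 (H ⧸ P), (S : Subgroup H).map (QuotientGroup.mk' P) ⊓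
      ⁅⊤ ⊓ Subgroup.normalizer ((W ((S : Subgroup H).map (QuotientGroup.mk' P)) :
        Subgroup (H ⧸ P)) : Set (H ⧸ P)),
        ⊤ ⊓ Subgroup.normalizer ((W ((S : Subgroup H).map (QuotientGroup.mk' P)) :
        Subgroup (H ⧸ P)) : Set (H ⧸ P))⁆) ≤ F.map (QuotientGroup.mk' P) := by
    have hIF : IF 𝓦 (H ⧸ P) = (fun W => inducedFunctor (G := H ⧸ P) W) '' 𝓦 := rfl
    rw [hIF, iSup_image]
    exact iSup₂_le fun W hW => hterm W hW
  obtain ⟨f, hf, hfy⟩ := h2 h1
  have h3 : f⁻¹ * y ∈ P := by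
    rw [← QuotientGroup.eq]
    exact hfy
  have h4 : f⁻¹ * y ∈ F :=
    hP (Subgroup.mem_inf.2 ⟨h3, mul_mem (inv_mem (hF hf)) hyc⟩)
  have : y = f * (f⁻¹ * y) := by group
  rw [this]
  exact mul_mem hf h4

/-! ### The main theorem -/

/-- **Main theorem for transfer.** Suppose that in every `p`-constrained section `H` of `G₀` and for
every Sylow `p`-subgroup `S` of `H`, the subgroup `O_p(H) ∩ H'` lies in the subgroup generated by the
`S ∩ N_H(W S)'`, `W ∈ 𝓦`. Then `𝓦` controls transfer in every section of `G₀`. -/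
theorem familyTransfer_of_constrained_sections (G₀ : Type u) [Group G₀] [Finite G₀] {p : ℕ}
    [hp : Fact p.Prime] (𝓦 : Set (∀ (Q : Type u) [Group Q], Subgroup Q))
    (h𝓦 : ∀ W ∈ 𝓦, IsCharPFunctor.{u} p W)
    (hloc : ∀ (H : Type u) [Group H] [Finite H], IsSec G₀ H →
      Subgroup.centralizer ((Cfsg.pCore p H : Subgroup H) : Set H) ≤ Cfsg.pCore p H →
      ∀ S : Sylow p H, Cfsg.pCore p H ⊓ ⁅(⊤ : Subgroup H), ⊤⁆ ≤ TF (IF 𝓦 H) ⊤ (S : Subgroup H)) :
    ∀ (n : ℕ) (H : Type u) [Group H] [Finite H], Nat.card H = n → IsSec G₀ H →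
      FamilyControlsTransferIn p (IF 𝓦 H) ⊤ := by
  intro n
  induction n using Nat.strong_induction_on with
  | _ n ih =>
  intro H _ _ hn hsec
  have S : Sylow p H := default
  set P := Cfsg.pCore p H with hPdef
  have hPn : P.Normal := H1.pCore_normal p H
  have hPp : IsPGroup p P := H1.pCore_isPGroup p H
  have hPS : P ≤ (S : Subgroup H) := H1.pCore_le_sylow S
  have hc := isConjugacyFunctor_of_mem_IF (H := H) h𝓦
  have ihsub : ∀ L : Subgroup H, L ≠ ⊤ → FamilyControlsTransferIn p (IF 𝓦 H) L := by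
    intro L hL
    apply familyTransferIn_of_subgroup h𝓦 L
    exact ih _ (by rw [← hn]; exact card_subgroup_lt_of_ne_top hL) ↥L rfl (hsec.subgroup L)
  have ihsubS : ∀ L : Subgroup H, L ≠ ⊤ → (S : Subgroup H) ≤ L →
      (S : Subgroup H) ⊓ ⁅L, L⁆ ≤ TF (IF 𝓦 H) ⊤ (S : Subgroup H) := by
    intro L hL hSL
    have := familyControlsTransferIn_sylowIn hc (ihsub L hL) S.2 hSL
      (not_dvd_relIndex_of_sylow_le S hSL)
    rw [this]
    exact TF_mono_left _ le_top _
  by_cases hP1 : P = ⊥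
  · apply familyControlsTransferIn_top S hc
    intro T hTS hT1 _
    apply ihsub
    intro htop
    apply hT1
    have hTn : T.Normal := Subgroup.normalizer_eq_top_iff.1 htop
    have : T ≤ P := H1.le_pCore hTn (S.2.to_le hTS)
    rw [hP1] at this
    exact le_bot_iff.1 this
  rw [familyControlsTransferIn_iff]
  refine ⟨(S : Subgroup H), le_top, S.2, ?_, ?_⟩
  · rw [Subgroup.relIndex_top_right]; exact S.not_dvd_index
  have hFc : TF (IF 𝓦 H) ⊤ (S : Subgroup H) ≤ ⁅(⊤ : Subgroup H), ⊤⁆ :=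
    (TF_le_inf_commutator _ _ _).trans inf_le_right
  have hquot : FamilyControlsTransferIn p (IF 𝓦 (H ⧸ P)) ⊤ :=
    ih _ (by rw [← hn]; exact card_quotient_lt_of_ne_bot hP1) (H ⧸ P) rfl (hsec.quotient P)
  set C := Subgroup.centralizer (P : Set H) with hCdef
  have hCn : C.Normal := Subgroup.normal_centralizer
  by_cases hCP : C ≤ P
  · -- the constrained case
    have hlocS := hloc H hsec hCP S
    by_cases hSP : (S : Subgroup H) ≤ P
    · exact (inf_le_inf_right _ hSP).trans hlocS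
    · exact inf_commutator_le_of_quotient h𝓦 S P hPS (fun V hV hVp => H1.le_pCore hV hVp) hSP
        hquot _ hFc ihsubS hlocS
  by_cases hA : (S : Subgroup H) ⊓ C ≤ P
  · -- case A: a nontrivial normal `p'`-subgroup
    have hZ : ∀ z ∈ (S : Subgroup H) ⊓ C, ∀ c ∈ C, z * c = c * z := by
      intro z hz c hc
      exact Subgroup.mem_centralizer_iff.1 hc z (hA hz)
    obtain ⟨D, hDn, hDc, hfac⟩ := exists_normal_coprime_complement S C hZ
    have hD1 : D ≠ ⊥ := by
      intro hD0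
      apply hCP
      intro x hx
      obtain ⟨z, hz, d, hd, rfl⟩ := hfac x hx
      rw [hD0, Subgroup.mem_bot] at hd
      rw [hd, mul_one]
      exact hA hz
    have hq : FamilyControlsTransferIn p (IF 𝓦 (H ⧸ D)) ⊤ :=
      ih _ (by rw [← hn]; exact card_quotient_lt_of_ne_bot hD1) (H ⧸ D) rfl (hsec.quotient D)
    have := familyTransfer_of_quotient_coprime h𝓦 D hDc S hq
    have h2 := familyControlsTransferIn_sylowIn hc this S.2 le_top
      (by rw [Subgroup.relIndex_top_right]; exact S.not_dvd_index)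
    exact le_of_eq h2
  have hSP : ¬ (S : Subgroup H) ≤ P := fun h => hA (le_trans inf_le_left h)
  have hStop : (S : Subgroup H) ≠ ⊤ := by
    intro htop
    apply hSP
    have hSn : (S : Subgroup H).Normal := by rw [htop]; infer_instance
    exact H1.le_pCore hSn S.2
  have hS' : ⁅(S : Subgroup H), (S : Subgroup H)⁆ ≤ TF (IF 𝓦 H) ⊤ (S : Subgroup H) := by
    refine le_trans ?_ (ihsubS _ hStop le_rfl)
    exact le_inf (Subgroup.commutator_le_self _) le_rfl
  by_cases hX : (S : Subgroup H) ⊔ C = ⊤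
  · -- case C
    have hPc := inf_commutator_le_of_sup_centralizer S P hPS hX
    exact inf_commutator_le_of_quotient h𝓦 S P hPS (fun V hV hVp => H1.le_pCore hV hVp) hSP
      hquot _ hFc ihsubS (hPc.trans hS')
  · -- case B
    have hG₁ : Subgroup.normalizer (((S : Subgroup H) ⊓ (P ⊔ C) : Subgroup H) : Set H) ≠ ⊤ := by
      intro htop
      apply hA
      have hn' : ((S : Subgroup H) ⊓ (P ⊔ C)).Normal := Subgroup.normalizer_eq_top_iff.1 htop
      have h1 : (S : Subgroup H) ⊓ (P ⊔ C) ≤ P := H1.le_pCore hn' (S.2.to_le inf_le_left)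
      exact le_trans (inf_le_inf_left _ le_sup_right) h1
    set K := P ⊔ C with hK
    have hKn : K.Normal := Subgroup.sup_normal P C
    set S₀ := (S : Subgroup H) ⊓ K with hS₀
    have hSX : (S : Subgroup H) ≤ Subgroup.normalizer (S₀ : Set H) := by
      have h1 : Subgroup.normalizer ((S : Subgroup H) : Set H) ⊓ Subgroup.normalizer (K : Set H) ≤
          Subgroup.normalizer (S₀ : Set H) := Subgroup.inf_normalizer_le_normalizer_inf
      refine le_trans (le_inf Subgroup.le_normalizer ?_) h1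
      rw [Subgroup.normalizer_eq_top]
      exact le_top
    have hSY : (S : Subgroup H) ≤ (S : Subgroup H) ⊔ C := le_sup_left
    have hfac : ∀ g : H, ∃ x ∈ Subgroup.normalizer (S₀ : Set H), ∃ y ∈ (S : Subgroup H) ⊔ C,
        g = x * y := by
      intro g
      have hS₀p : IsPGroup p (S₀.subgroupOf K) := (S.2.to_le inf_le_left).comap_subtype
      have hS₀i : ¬ p ∣ (S₀.subgroupOf K).index := H19.not_dvd_relIndex_inf_normal S K
      let Q : Sylow p K := hS₀p.toSylow hS₀i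
      have hQ : (Q : Subgroup K) = S₀.subgroupOf K := hS₀p.toSylow_coe hS₀i
      have hfr := Sylow.normalizer_sup_eq_top Q
      rw [hQ, Subgroup.subgroupOf_map_subtype, inf_eq_left.2 (inf_le_right : S₀ ≤ K)] at hfr
      have hg : g ∈ Subgroup.normalizer (S₀ : Set H) ⊔ K := by rw [hfr]; exact Subgroup.mem_top g
      obtain ⟨n, hn, k, hk, rfl⟩ := Subgroup.mem_sup_of_normal_right.1 hg
      obtain ⟨u, hu, c, hc, rfl⟩ := Subgroup.mem_sup_of_normal_right.1 hk
      refine ⟨n * u, Subgroup.mul_mem _ hn ?_, c, Subgroup.mem_sup_right hc, by group⟩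
      apply Subgroup.le_normalizer
      exact Subgroup.mem_inf.2 ⟨hPS hu, Subgroup.mem_sup_left hu⟩
    refine (inf_commutator_le_of_factorization S hSX hSY hfac).trans (sup_le ?_ ?_)
    · exact ihsubS _ hG₁ hSX
    · exact ihsubS _ hX hSY

end Cfsg.Agent.Lib.H10
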