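import Mathlib
import Cfsg.Prelude.Def_ConjugacyFunctors
import Cfsg.Agent.Lib.H10.SecTransfer

/-! Control of transfer in sections: the focal estimate `P ∩ H' ≤ S' [P, H]` and the main reduction
theorem with the induction hypothesis made available in the constrained case (helper10). -/

set_option autoImplicit false

namespace Cfsg.Agent.Lib.H10

open Cfsg

universe u

variable {𝓦 : Set (∀ (Q : Type u) [Group Q], Subgroup Q)}
variable {H : Type u} [Group H] {H' : Type u} [Group H']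

open scoped commutatorElement in
/-- For a normal `p`-subgroup `P ≤ S`, `P ∩ H' ≤ S' [P, H]`. -/
theorem inf_commutator_le_sup_commutator_top [Finite H] {p : ℕ} [hp : Fact p.Prime]
    (S : Sylow p H) (P : Subgroup H) [hPn : P.Normal] (hPS : P ≤ (S : Subgroup H))
    :
    P ⊓ ⁅(⊤ : Subgroup H), ⊤⁆ ≤ ⁅(S : Subgroup H), (S : Subgroup H)⁆ ⊔ ⁅P, (⊤ : Subgroup H)⁆ := by
  haveI hN₀n : (⁅P, (⊤ : Subgroup H)⁆).Normal := Subgroup.commutator_normal P ⊤
  intro x hx
  obtain ⟨hxP, hxc⟩ := Subgroup.mem_inf.1 hx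
  set π := QuotientGroup.mk' ⁅P, (⊤ : Subgroup H)⁆ with hπ
  have hπs : Function.Surjective π := QuotientGroup.mk'_surjective _
  -- `π x` is central
  have hcent : ∀ (k : ℕ) (g₀ : H ⧸ ⁅P, (⊤ : Subgroup H)⁆),
      g₀⁻¹ * (π x) ^ k * g₀ = (π x) ^ k := by
    intro k g₀
    obtain ⟨h, rfl⟩ := hπs g₀
    have h1 : ⁅x ^ k, h⁻¹⁆ ∈ ⁅P, (⊤ : Subgroup H)⁆ :=
      Subgroup.commutator_mem_commutator (P.pow_mem hxP k) (Subgroup.mem_top _)
    have h2 : π ⁅x ^ k, h⁻¹⁆ = 1 := by
      rw [← MonoidHom.mem_ker, hπ, QuotientGroup.ker_mk']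
      exact h1
    have e : (π h)⁻¹ * (π x) ^ k * π h = (π ⁅x ^ k, h⁻¹⁆)⁻¹ * (π x) ^ k := by
      rw [commutatorElement_def]
      simp only [map_mul, map_inv, map_pow, mul_inv_rev, inv_inv]
      group
    rw [e, h2, inv_one, one_mul]
  set Sb := (S : Subgroup H).map π with hSb
  have htr := MonoidHom.transfer_eq_pow (Abelianization.of : ↥Sb →* Abelianization ↥Sb) (π x)
    (fun k g₀ _ => hcent k g₀)
  have hker : π x ∈ (MonoidHom.transfer (Abelianization.of : ↥Sb →* Abelianization ↥Sb)).ker := by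
    apply Abelianization.commutator_subset_ker
    have : Subgroup.map π ⁅(⊤ : Subgroup H), ⊤⁆ = commutator (H ⧸ ⁅P, (⊤ : Subgroup H)⁆) := by
      rw [Subgroup.map_commutator, Subgroup.map_top_of_surjective _ hπs, commutator_def]
    rw [← this]
    exact ⟨x, hxc, rfl⟩
  rw [MonoidHom.mem_ker, htr] at hker
  have h3 : (⟨π x ^ Sb.index, MonoidHom.transfer_eq_pow_aux (π x) (fun k g₀ _ => hcent k g₀)⟩ :
      ↥Sb) ∈ commutator ↥Sb := by
    rw [← Abelianization.ker_of, MonoidHom.mem_ker]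
    exact hker
  have h4 : π x ^ Sb.index ∈ ⁅Sb, Sb⁆ := by
    rw [← Subgroup.map_subtype_commutator]
    exact ⟨_, h3, rfl⟩
  rw [hSb, ← Subgroup.map_commutator] at h4
  obtain ⟨t, ht, htx⟩ := h4
  have h5 : x ^ Sb.index ∈ ⁅(S : Subgroup H), (S : Subgroup H)⁆ ⊔ ⁅P, (⊤ : Subgroup H)⁆ := by
    have h6 : t⁻¹ * x ^ Sb.index ∈ ⁅P, (⊤ : Subgroup H)⁆ := by
      rw [← QuotientGroup.eq]
      change π t = π (x ^ Sb.index)
      rw [htx, map_pow]
    have : x ^ Sb.index = t * (t⁻¹ * x ^ Sb.index) := by group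
    rw [this]
    exact mul_mem (Subgroup.mem_sup_left ht) (Subgroup.mem_sup_right h6)
  have hcop : (Sb.index).Coprime (orderOf x) := by
    have h7 : Sb.index ∣ (S : Subgroup H).index := Subgroup.index_map_dvd _ hπs
    have h8 : (Sb.index).Coprime p := by
      rw [Nat.coprime_comm, Nat.Prime.coprime_iff_not_dvd hp.out]
      exact fun h => S.not_dvd_index (h.trans h7)
    obtain ⟨k, hk⟩ := (S.2.to_le hPS) ⟨x, hxP⟩
    have h9 : orderOf x ∣ p ^ k := by
      apply orderOf_dvd_of_pow_eq_one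
      have := congrArg Subtype.val hk
      simpa using this
    exact Nat.Coprime.coprime_dvd_right h9 (h8.pow_right k)
  obtain ⟨m, hm⟩ := exists_pow_eq_self_of_coprime hcop
  rw [← hm]
  exact Subgroup.pow_mem _ h5 m



/-- **Main theorem for transfer, with induction hypothesis.** Suppose that in every `p`-constrained section `H` of `G₀` and for
every Sylow `p`-subgroup `S` of `H`, the subgroup `O_p(H) ∩ H'` lies in the subgroup generated by the
`S ∩ N_H(W S)'`, `W ∈ 𝓦`. Then `𝓦` controls transfer in every section of `G₀`. -/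
theorem familyTransfer_of_constrained_sections' (G₀ : Type u) [Group G₀] [Finite G₀] {p : ℕ}
    [hp : Fact p.Prime] (𝓦 : Set (∀ (Q : Type u) [Group Q], Subgroup Q))
    (h𝓦 : ∀ W ∈ 𝓦, IsCharPFunctor.{u} p W)
    (hloc : ∀ (H : Type u) [Group H] [Finite H], IsSec G₀ H →
      Subgroup.centralizer ((Cfsg.pCore p H : Subgroup H) : Set H) ≤ Cfsg.pCore p H →
      ∀ S : Sylow p H,
      (∀ L : Subgroup H, L ≠ ⊤ → (S : Subgroup H) ≤ L →
        (S : Subgroup H) ⊓ ⁅L, L⁆ ≤ TF (IF 𝓦 H) ⊤ (S : Subgroup H)) →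
      Cfsg.pCore p H ⊓ ⁅(⊤ : Subgroup H), ⊤⁆ ≤ TF (IF 𝓦 H) ⊤ (S : Subgroup H)) :
    ∀ (n : ℕ) (H : Type u) [Group H] [Finite H], Nat.card H = n → IsSec G₀ H →
      FamilyControlsTransferIn p (IF 𝓦 H) ⊤ := by
  intro n
  induction n using Nat.strong_induction_on with
  | _ n ih =>
  intro H _ _ hn hsec
  have S : Sylow p H := default
  set P := Cfsg.pCore p H with hPdef
  have hPn : P.Normal := H1.pCore_normal p H
  have hPp : IsPGroup p P := H1.pCore_isPGroup p H
  have hPS : P ≤ (S : Subgroup H) := H1.pCore_le_sylow S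
  have hc := isConjugacyFunctor_of_mem_IF (H := H) h𝓦
  have ihsub : ∀ L : Subgroup H, L ≠ ⊤ → FamilyControlsTransferIn p (IF 𝓦 H) L := by
    intro L hL
    apply familyTransferIn_of_subgroup h𝓦 L
    exact ih _ (by rw [← hn]; exact card_subgroup_lt_of_ne_top hL) ↥L rfl (hsec.subgroup L)
  have ihsubS : ∀ L : Subgroup H, L ≠ ⊤ → (S : Subgroup H) ≤ L →
      (S : Subgroup H) ⊓ ⁅L, L⁆ ≤ TF (IF 𝓦 H) ⊤ (S : Subgroup H) := by
    intro L hL hSL
    have := familyControlsTransferIn_sylowIn hc (ihsub L hL) S.2 hSL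
      (not_dvd_relIndex_of_sylow_le S hSL)
    rw [this]
    exact TF_mono_left _ le_top _
  by_cases hP1 : P = ⊥
  · apply familyControlsTransferIn_top S hc
    intro T hTS hT1 _
    apply ihsub
    intro htop
    apply hT1
    have hTn : T.Normal := Subgroup.normalizer_eq_top_iff.1 htop
    have : T ≤ P := H1.le_pCore hTn (S.2.to_le hTS)
    rw [hP1] at this
    exact le_bot_iff.1 this
  rw [familyControlsTransferIn_iff]
  refine ⟨(S : Subgroup H), le_top, S.2, ?_, ?_⟩
  · rw [Subgroup.relIndex_top_right]; exact S.not_dvd_index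
  have hFc : TF (IF 𝓦 H) ⊤ (S : Subgroup H) ≤ ⁅(⊤ : Subgroup H), ⊤⁆ :=
    (TF_le_inf_commutator _ _ _).trans inf_le_right
  have hquot : FamilyControlsTransferIn p (IF 𝓦 (H ⧸ P)) ⊤ :=
    ih _ (by rw [← hn]; exact card_quotient_lt_of_ne_bot hP1) (H ⧸ P) rfl (hsec.quotient P)
  set C := Subgroup.centralizer (P : Set H) with hCdef
  have hCn : C.Normal := Subgroup.normal_centralizer
  by_cases hCP : C ≤ P
  · -- the constrained case
    have hlocS := hloc H hsec hCP S ihsubS
    by_cases hSP : (S : Subgroup H) ≤ P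
    · exact (inf_le_inf_right _ hSP).trans hlocS
    · exact inf_commutator_le_of_quotient h𝓦 S P hPS (fun V hV hVp => H1.le_pCore hV hVp) hSP
        hquot _ hFc ihsubS hlocS
  by_cases hA : (S : Subgroup H) ⊓ C ≤ P
  · -- case A: a nontrivial normal `p'`-subgroup
    have hZ : ∀ z ∈ (S : Subgroup H) ⊓ C, ∀ c ∈ C, z * c = c * z := by
      intro z hz c hc
      exact Subgroup.mem_centralizer_iff.1 hc z (hA hz)
    obtain ⟨D, hDn, hDc, hfac⟩ := exists_normal_coprime_complement S C hZ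
    have hD1 : D ≠ ⊥ := by
      intro hD0
      apply hCP
      intro x hx
      obtain ⟨z, hz, d, hd, rfl⟩ := hfac x hx
      rw [hD0, Subgroup.mem_bot] at hd
      rw [hd, mul_one]
      exact hA hz
    have hq : FamilyControlsTransferIn p (IF 𝓦 (H ⧸ D)) ⊤ :=
      ih _ (by rw [← hn]; exact card_quotient_lt_of_ne_bot hD1) (H ⧸ D) rfl (hsec.quotient D)
    have := familyTransfer_of_quotient_coprime h𝓦 D hDc S hq
    have h2 := familyControlsTransferIn_sylowIn hc this S.2 le_top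
      (by rw [Subgroup.relIndex_top_right]; exact S.not_dvd_index)
    exact le_of_eq h2
  have hSP : ¬ (S : Subgroup H) ≤ P := fun h => hA (le_trans inf_le_left h)
  have hStop : (S : Subgroup H) ≠ ⊤ := by
    intro htop
    apply hSP
    have hSn : (S : Subgroup H).Normal := by rw [htop]; infer_instance
    exact H1.le_pCore hSn S.2
  have hS' : ⁅(S : Subgroup H), (S : Subgroup H)⁆ ≤ TF (IF 𝓦 H) ⊤ (S : Subgroup H) := by
    refine le_trans ?_ (ihsubS _ hStop le_rfl)
    exact le_inf (Subgroup.commutator_le_self _) le_rfl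
  by_cases hX : (S : Subgroup H) ⊔ C = ⊤
  · -- case C
    have hPc := inf_commutator_le_of_sup_centralizer S P hPS hX
    exact inf_commutator_le_of_quotient h𝓦 S P hPS (fun V hV hVp => H1.le_pCore hV hVp) hSP
      hquot _ hFc ihsubS (hPc.trans hS')
  · -- case B
    have hG₁ : Subgroup.normalizer (((S : Subgroup H) ⊓ (P ⊔ C) : Subgroup H) : Set H) ≠ ⊤ := by
      intro htop
      apply hA
      have hn' : ((S : Subgroup H) ⊓ (P ⊔ C)).Normal := Subgroup.normalizer_eq_top_iff.1 htop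
      have h1 : (S : Subgroup H) ⊓ (P ⊔ C) ≤ P := H1.le_pCore hn' (S.2.to_le inf_le_left)
      exact le_trans (inf_le_inf_left _ le_sup_right) h1
    set K := P ⊔ C with hK
    have hKn : K.Normal := Subgroup.sup_normal P C
    set S₀ := (S : Subgroup H) ⊓ K with hS₀
    have hSX : (S : Subgroup H) ≤ Subgroup.normalizer (S₀ : Set H) := by
      have h1 : Subgroup.normalizer ((S : Subgroup H) : Set H) ⊓ Subgroup.normalizer (K : Set H) ≤
          Subgroup.normalizer (S₀ : Set H) := Subgroup.inf_normalizer_le_normalizer_inf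
      refine le_trans (le_inf Subgroup.le_normalizer ?_) h1
      rw [Subgroup.normalizer_eq_top]
      exact le_top
    have hSY : (S : Subgroup H) ≤ (S : Subgroup H) ⊔ C := le_sup_left
    have hfac : ∀ g : H, ∃ x ∈ Subgroup.normalizer (S₀ : Set H), ∃ y ∈ (S : Subgroup H) ⊔ C,
        g = x * y := by
      intro g
      have hS₀p : IsPGroup p (S₀.subgroupOf K) := (S.2.to_le inf_le_left).comap_subtype
      have hS₀i : ¬ p ∣ (S₀.subgroupOf K).index := H19.not_dvd_relIndex_inf_normal S K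
      let Q : Sylow p K := hS₀p.toSylow hS₀i
      have hQ : (Q : Subgroup K) = S₀.subgroupOf K := hS₀p.toSylow_coe hS₀i
      have hfr := Sylow.normalizer_sup_eq_top Q
      rw [hQ, Subgroup.subgroupOf_map_subtype, inf_eq_left.2 (inf_le_right : S₀ ≤ K)] at hfr
      have hg : g ∈ Subgroup.normalizer (S₀ : Set H) ⊔ K := by rw [hfr]; exact Subgroup.mem_top g
      obtain ⟨n, hn, k, hk, rfl⟩ := Subgroup.mem_sup_of_normal_right.1 hg
      obtain ⟨u, hu, c, hc, rfl⟩ := Subgroup.mem_sup_of_normal_right.1 hk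
      refine ⟨n * u, Subgroup.mul_mem _ hn ?_, c, Subgroup.mem_sup_right hc, by group⟩
      apply Subgroup.le_normalizer
      exact Subgroup.mem_inf.2 ⟨hPS hu, Subgroup.mem_sup_left hu⟩
    refine (inf_commutator_le_of_factorization S hSX hSY hfac).trans (sup_le ?_ ?_)
    · exact ihsubS _ hG₁ hSX
    · exact ihsubS _ hX hSY

end Cfsg.Agent.Lib.H10
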