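import Mathlib
import Cfsg.Prelude.Def_PLocal
import Cfsg.Prelude.Def_LocalEven
import Cfsg.Agent.Lib.H10.EngelDeg
import Cfsg.Agent.Lib.H7.Coprime
import Cfsg.Agent.Lib.H1.PCore

/-! Coprime action on chief factors: an element of order prime to `p` centralizing all chief
factors inside a normal `p`-subgroup centralizes it; the centralizer of a critical subgroup in a
`p`-constrained group; every element outside `O_p(G)` moves some chief factor inside a critical
subgroup (helper10). -/

set_option autoImplicit false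

namespace Cfsg.Agent.Lib.H10

open Cfsg

variable {G : Type*} [Group G]

theorem commutator_zpowers_le_iff {U V B : Subgroup G} :
    ⁅U, B⁆ ≤ V ↔ ∀ g ∈ B, ⁅U, Subgroup.zpowers g⁆ ≤ V := by
  constructor
  · intro h g hg
    exact (Subgroup.commutator_mono le_rfl ((Subgroup.zpowers_le).mpr hg)).trans h
  · intro h
    rw [Subgroup.commutator_le]
    intro u hu b hb
    exact h b hb (Subgroup.commutator_mem_commutator hu (Subgroup.mem_zpowers b))

theorem eq_one_of_isPGroup_of_coprime {p : ℕ} {T : Subgroup G} (hT : IsPGroup p ↥T)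
    {x : G} (hxT : x ∈ T) (hx : (orderOf x).Coprime p) : x = 1 := by
  obtain ⟨k, hk⟩ := hT ⟨x, hxT⟩
  have h1 : x ^ (p ^ k) = 1 := by
    have := congrArg (Subtype.val) hk
    simpa using this
  have h2 : orderOf x ∣ p ^ k := orderOf_dvd_of_pow_eq_one h1
  have h3 : (orderOf x).Coprime (p ^ k) := Nat.Coprime.pow_right k hx
  have h4 : orderOf x = 1 := Nat.Coprime.eq_one_of_dvd h3 h2
  exact orderOf_eq_one_iff.mp h4

/-- a subgroup all of whose elements of order prime to `p` are trivial is a `p`-group -/
theorem isPGroup_of_coprime_trivial [Finite G] {p : ℕ} [hp : Fact p.Prime] (R : Subgroup G)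
    (h : ∀ r ∈ R, (orderOf r).Coprime p → r = 1) : IsPGroup p ↥R := by
  intro r
  have hpos : 0 < orderOf (r : G) := orderOf_pos _
  obtain ⟨k, m, hm, hkm⟩ := Nat.exists_eq_pow_mul_and_not_dvd hpos.ne' p hp.out.ne_one
  refine ⟨k, ?_⟩
  have hmpos : 0 < m := by
    rcases Nat.eq_zero_or_pos m with h0 | h0
    · rw [h0, mul_zero] at hkm; omega
    · exact h0
  have hord : orderOf ((r : G) ^ (p ^ k)) = m := by
    rw [orderOf_pow' _ (pow_ne_zero k hp.out.ne_zero), hkm, Nat.gcd_mul_right_left,
      Nat.mul_div_cancel_left _ (pow_pos hp.out.pos k)]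
  have hcop : (orderOf ((r : G) ^ (p ^ k))).Coprime p := by
    rw [hord]
    exact ((Nat.Prime.coprime_iff_not_dvd hp.out).mpr hm).symm
  have := h _ (R.pow_mem r.2 _) hcop
  apply Subtype.ext
  simpa using this

section chief

variable [Finite G] {p : ℕ} [hp : Fact p.Prime]

theorem card_zpowers_coprime_of_isPGroup {Q : Subgroup G} (hQ : IsPGroup p ↥Q) {x : G}
    (hx : (orderOf x).Coprime p) : (Nat.card (Subgroup.zpowers x)).Coprime (Nat.card Q) := by
  obtain ⟨k, hk⟩ := IsPGroup.iff_card.mp hQ
  rw [hk, Nat.card_zpowers]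
  exact Nat.Coprime.pow_right k hx

/-- an element of order prime to `p` centralizing every chief factor inside the normal
`p`-subgroup `W` centralizes `W` -/
theorem commutator_zpowers_eq_bot_of_chief (W : Subgroup G) (hW : IsPGroup p ↥W) (x : G)
    (hx : (orderOf x).Coprime p)
    (h : ∀ U V : Subgroup G, IsChiefFactor U V → U ≤ W → ⁅U, Subgroup.zpowers x⁆ ≤ V) :
    ∀ W' : Subgroup G, W'.Normal → W' ≤ W → ⁅W', Subgroup.zpowers x⁆ = ⊥ := by
  have key : ∀ (m : ℕ) (W' : Subgroup G), W'.Normal → Nat.card W' = m → W' ≤ W →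
      ⁅W', Subgroup.zpowers x⁆ = ⊥ := by
    intro m
    induction m using Nat.strong_induction_on with
    | _ m ih =>
      intro W' hW'n hm hW'W
      have := hW'n
      by_cases hne : W' = ⊥
      · rw [hne, Subgroup.commutator_bot_left]
      · obtain ⟨V, hV⟩ := exists_chief_below W' hne
        have hVn : V.Normal := hV.2.2.1
        have h1 : ⁅V, Subgroup.zpowers x⁆ = ⊥ :=
          ih (Nat.card V) (hm ▸ card_lt_card_of_lt' hV.1) V hVn rfl (hV.1.le.trans hW'W)
        have h2 : ⁅W', Subgroup.zpowers x⁆ ≤ V := h W' V hV hW'W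
        apply H7.commutator_eq_bot_of_commutator_commutator_eq_bot
          (card_zpowers_coprime_of_isPGroup (hW.to_le hW'W) hx)
        · rw [Subgroup.normalizer_eq_top]; exact le_top
        · rw [eq_bot_iff, ← h1]
          exact Subgroup.commutator_mono h2 le_rfl
  intro W' hW'n hW'W
  exact key _ W' hW'n rfl hW'W

/-- In a `p`-constrained group the centralizer of a critical subgroup `A` of `O_p(G)` lies in `A`. -/
theorem centralizer_le_of_critical (A : Subgroup G) [hAn : A.Normal]
    (hA4 : pCore p G ⊓ Subgroup.centralizer (A : Set G) = A ⊓ Subgroup.centralizer (A : Set G))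
    (hA5 : ∀ φ : MulAut ↥(pCore p G), (orderOf φ).Coprime p →
      (∀ a : ↥(pCore p G), (a : G) ∈ A → φ a = a) → φ = 1)
    (hCT : Subgroup.centralizer ((pCore p G : Subgroup G) : Set G) ≤ pCore p G) :
    Subgroup.centralizer (A : Set G) ≤ A := by
  set T := pCore p G with hT
  have hTn : T.Normal := H1.pCore_normal p G
  have hTp : IsPGroup p ↥T := H1.pCore_isPGroup p G
  have hCn : (Subgroup.centralizer (A : Set G)).Normal := Subgroup.normal_centralizer
  have hCp : IsPGroup p ↥(Subgroup.centralizer (A : Set G)) := by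
    apply isPGroup_of_coprime_trivial
    intro x hxC hx
    have h1 : (orderOf (MulAut.conjNormal (H := T) x)).Coprime p :=
      Nat.Coprime.coprime_dvd_left (orderOf_map_dvd _ x) hx
    have h2 : ∀ a : ↥T, (a : G) ∈ A → MulAut.conjNormal (H := T) x a = a := by
      intro a ha
      apply Subtype.ext
      rw [MulAut.conjNormal_apply]
      have := Subgroup.mem_centralizer_iff.mp hxC (a : G) ha
      rw [← this]; group
    have h3 := hA5 _ h1 h2
    have h4 : x ∈ Subgroup.centralizer ((T : Subgroup G) : Set G) := by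
      rw [Subgroup.mem_centralizer_iff]
      intro t ht
      have h5 : MulAut.conjNormal (H := T) x ⟨t, ht⟩ = ⟨t, ht⟩ := by rw [h3]; rfl
      have h6 := congrArg Subtype.val h5
      rw [MulAut.conjNormal_apply] at h6
      have h7 : x * t * x⁻¹ = t := h6
      calc t * x = (x * t * x⁻¹) * x := by rw [h7]
        _ = x * t := by group
    exact eq_one_of_isPGroup_of_coprime hTp (hCT h4) hx
  have h1 : Subgroup.centralizer (A : Set G) ≤ T := H1.le_pCore hCn hCp
  have h2 : Subgroup.centralizer (A : Set G) ≤ T ⊓ Subgroup.centralizer (A : Set G) :=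
    le_inf h1 le_rfl
  rw [hA4] at h2
  exact h2.trans inf_le_left

/-- Every element outside `O_p(G)` acts nontrivially on some chief factor inside `A`, if
`C_G(A) ≤ A ≤ O_p(G)`. -/
theorem exists_chief_not_centralized (A : Subgroup G) [hAn : A.Normal] (hAT : A ≤ pCore p G)
    (hCA : Subgroup.centralizer (A : Set G) ≤ A) {g : G} (hg : g ∉ pCore p G) :
    ∃ U V : Subgroup G, IsChiefFactor U V ∧ U ≤ A ∧ ¬ ⁅U, Subgroup.zpowers g⁆ ≤ V := by
  by_contra hcon
  have hall : ∀ U V : Subgroup G, IsChiefFactor U V → U ≤ A → ⁅U, Subgroup.zpowers g⁆ ≤ V := by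
    intro U V hUV hUA
    by_contra h
    exact hcon ⟨U, V, hUV, hUA, h⟩
  have hTp : IsPGroup p ↥(pCore p G) := H1.pCore_isPGroup p G
  set R := Subgroup.normalClosure ({g} : Set G) with hR
  have hRn : R.Normal := Subgroup.normalClosure_normal
  have hgR : g ∈ R := Subgroup.subset_normalClosure (Set.mem_singleton g)
  have hRc : ∀ U V : Subgroup G, IsChiefFactor U V → U ≤ A → ⁅U, R⁆ ≤ V := by
    intro U V hUV hUA
    have := hUV.2.1
    have := hUV.2.2.1
    have h1 : R ≤ cstab ⊤ U V := by
      apply Subgroup.normalClosure_le_normal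
      intro y hy
      rw [Set.mem_singleton_iff] at hy
      subst hy
      have : Subgroup.zpowers y ≤ cstab ⊤ U V :=
        le_cstab_iff.mpr ⟨le_top, hall U V hUV hUA⟩
      exact this (Subgroup.mem_zpowers y)
    exact (le_cstab_iff.mp h1).2
  have hRp : IsPGroup p ↥R := by
    apply isPGroup_of_coprime_trivial
    intro r hr hrc
    have h1 : ⁅A, Subgroup.zpowers r⁆ = ⊥ := by
      apply commutator_zpowers_eq_bot_of_chief A (hTp.to_le hAT) r hrc _ A hAn le_rfl
      intro U V hUV hUA
      exact (Subgroup.commutator_mono le_rfl ((Subgroup.zpowers_le).mpr hr)).trans (hRc U V hUV hUA)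
    have h2 : Subgroup.zpowers r ≤ Subgroup.centralizer (A : Set G) := by
      rw [← Subgroup.commutator_eq_bot_iff_le_centralizer, Subgroup.commutator_comm]
      exact h1
    exact eq_one_of_isPGroup_of_coprime hTp (hAT (hCA (h2 (Subgroup.mem_zpowers r)))) hrc
  exact hg (H1.le_pCore hRn hRp hgR)

end chief

end Cfsg.Agent.Lib.H10
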