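import Mathlib
import Cfsg.Agent.Lib.H10.ChiefCoprime
import Cfsg.Agent.Lib.H10.SecMain

/-! The subgroup generated by the elements of order prime to `p` of a subgroup `R` (in effect
`O^p(R)`), and the normalizer condition modulo it (helper10). -/

set_option autoImplicit false

namespace Cfsg.Agent.Lib.H10

open Cfsg

variable {G : Type*} [Group G]

/-- the subgroup generated by the elements of `R` of order prime to `p` -/
def pPrimeGen (p : ℕ) (R : Subgroup G) : Subgroup G :=
  Subgroup.closure {x | x ∈ R ∧ (orderOf x).Coprime p}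

theorem pPrimeGen_le (p : ℕ) (R : Subgroup G) : pPrimeGen p R ≤ R :=
  (Subgroup.closure_le R).mpr (fun _ hx => hx.1)

theorem mem_pPrimeGen {p : ℕ} {R : Subgroup G} {x : G} (hx : x ∈ R) (hc : (orderOf x).Coprime p) :
    x ∈ pPrimeGen p R :=
  Subgroup.subset_closure ⟨hx, hc⟩

instance pPrimeGen_normal (p : ℕ) (R : Subgroup G) [hR : R.Normal] : (pPrimeGen p R).Normal := by
  apply closure_normal_of_conj_invariant
  rintro x ⟨hxR, hxc⟩ g
  refine ⟨hR.conj_mem x hxR g, ?_⟩
  have : orderOf (g * x * g⁻¹) = orderOf x := (MulAut.conj g).orderOf_eq x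
  rw [this]; exact hxc

theorem exists_pow_mem_pPrimeGen [Finite G] {p : ℕ} [hp : Fact p.Prime] {R : Subgroup G} {r : G}
    (hr : r ∈ R) : ∃ k : ℕ, r ^ (p ^ k) ∈ pPrimeGen p R := by
  have hpos : 0 < orderOf r := orderOf_pos _
  obtain ⟨k, m, hm, hkm⟩ := Nat.exists_eq_pow_mul_and_not_dvd hpos.ne' p hp.out.ne_one
  refine ⟨k, ?_⟩
  have hord : orderOf (r ^ (p ^ k)) = m := by
    rw [orderOf_pow' _ (pow_ne_zero k hp.out.ne_zero), hkm, Nat.gcd_mul_right_left,
      Nat.mul_div_cancel_left _ (pow_pos hp.out.pos k)]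
  apply mem_pPrimeGen (R.pow_mem hr _)
  rw [hord]
  exact ((Nat.Prime.coprime_iff_not_dvd hp.out).mpr hm).symm

theorem commutator_pPrimeGen_eq_bot {p : ℕ} {W R : Subgroup G}
    (h : ∀ x ∈ R, (orderOf x).Coprime p → ⁅W, Subgroup.zpowers x⁆ = ⊥) :
    ⁅W, pPrimeGen p R⁆ = ⊥ := by
  rw [Subgroup.commutator_comm, Subgroup.commutator_eq_bot_iff_le_centralizer]
  apply (Subgroup.closure_le _).mpr
  rintro x ⟨hxR, hxc⟩
  have h1 := h x hxR hxc
  rw [Subgroup.commutator_comm, Subgroup.commutator_eq_bot_iff_le_centralizer] at h1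
  exact h1 (Subgroup.mem_zpowers x)

/-- if `O^p(R)` lies in a `p`-group, `R` is a `p`-group -/
theorem isPGroup_of_pPrimeGen_le [Finite G] {p : ℕ} [hp : Fact p.Prime] {R T : Subgroup G}
    (hT : IsPGroup p ↥T) (h : pPrimeGen p R ≤ T) : IsPGroup p ↥R := by
  apply isPGroup_of_coprime_trivial
  intro r hr hc
  exact eq_one_of_isPGroup_of_coprime hT (h (mem_pPrimeGen hr hc)) hc

/-- The normalizer condition modulo a normal subgroup `D` of `R` with `R / D` a `p`-group. -/
theorem exists_normalizing_of_pquotient [Finite G] {p : ℕ} [hp : Fact p.Prime] {D L R : Subgroup G}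
    (hDn : R ≤ Subgroup.normalizer (D : Set G)) (hDL : D ≤ L) (hLR : L ≤ R) (hne : L ≠ R)
    (hpow : ∀ r ∈ R, ∃ k : ℕ, r ^ (p ^ k) ∈ D) :
    ∃ r ∈ R, r ∉ L ∧ r ∈ Subgroup.normalizer (L : Set G) := by
  have hDn' : (D.subgroupOf R).Normal := by
    constructor
    intro n hn g
    rw [Subgroup.mem_subgroupOf] at hn ⊢
    have := (Subgroup.mem_normalizer_iff.mp (hDn g.2) (n : G)).mp hn
    simpa using this
  set π := QuotientGroup.mk' (D.subgroupOf R) with hπ
  have hQp : IsPGroup p (↥R ⧸ D.subgroupOf R) := by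
    intro q
    induction q using QuotientGroup.induction_on with
    | H r =>
    obtain ⟨k, hk⟩ := hpow (r : G) r.2
    refine ⟨k, ?_⟩
    rw [← QuotientGroup.mk_pow, QuotientGroup.eq_one_iff, Subgroup.mem_subgroupOf]
    simpa using hk
  have : Group.IsNilpotent (↥R ⧸ D.subgroupOf R) := hQp.isNilpotent
  have hnc : NormalizerCondition (↥R ⧸ D.subgroupOf R) := Group.normalizerCondition_of_isNilpotent
  set L' := L.subgroupOf R with hL'
  have hcomap : (L'.map π).comap π = L' := by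
    rw [Subgroup.comap_map_eq, hπ, QuotientGroup.ker_mk']
    exact sup_eq_left.mpr (Subgroup.subgroupOf_mono R hDL)
  have hlt : L'.map π < ⊤ := by
    rw [lt_top_iff_ne_top]
    intro htop
    apply hne
    apply le_antisymm hLR
    intro r hr
    have h1 : (⟨r, hr⟩ : ↥R) ∈ (L'.map π).comap π := by rw [htop]; trivial
    rw [hcomap, hL', Subgroup.mem_subgroupOf] at h1
    exact h1
  obtain ⟨hle, hnle⟩ := hnc _ hlt
  obtain ⟨q, hqN, hqL⟩ := Set.not_subset.mp hnle
  obtain ⟨r, rfl⟩ := QuotientGroup.mk'_surjective (D.subgroupOf R) q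
  refine ⟨(r : G), r.2, ?_, ?_⟩
  · intro hrL
    apply hqL
    exact ⟨r, (Subgroup.mem_subgroupOf.mpr hrL : r ∈ L.subgroupOf R), rfl⟩
  · have key : ∀ s : ↥R, π s ∈ Subgroup.normalizer ((L'.map π : Subgroup _) : Set _) →
        ∀ l ∈ L, (s : G) * l * (s : G)⁻¹ ∈ L := by
      intro s hs l hl
      have hlR : l ∈ R := hLR hl
      have h1 : π ⟨l, hlR⟩ ∈ L'.map π := ⟨⟨l, hlR⟩, (Subgroup.mem_subgroupOf.mpr hl : (⟨l, hlR⟩ : ↥R) ∈ L.subgroupOf R), rfl⟩
      have h2 := (Subgroup.mem_normalizer_iff.mp hs _).mp h1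
      have h3 : s * ⟨l, hlR⟩ * s⁻¹ ∈ (L'.map π).comap π := by
        rw [Subgroup.mem_comap]
        simpa using h2
      rw [hcomap, hL', Subgroup.mem_subgroupOf] at h3
      simpa using h3
    rw [Subgroup.mem_normalizer_iff]
    intro l
    constructor
    · intro hl
      exact key r hqN l hl
    · intro hl
      have hinv : π r⁻¹ ∈ Subgroup.normalizer ((L'.map π : Subgroup _) : Set _) := by
        rw [map_inv]; exact Subgroup.inv_mem _ hqN
      have := key r⁻¹ hinv _ hl
      simpa [mul_assoc] using this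

end Cfsg.Agent.Lib.H10
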