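import Mathlib
import Cfsg.Prelude.Def_LocalEven
import Cfsg.Agent.Lib.H10.PPrimeGen

/-! Clifford's theorem for abelian sections `U / V` of a finite group, in the language of
subgroups between `V` and `U` normalized by a subgroup `X`: complete reducibility passes from a
group to its normal subgroups, and hence to subnormal subgroups (helper10). -/

set_option autoImplicit false

namespace Cfsg.Agent.Lib.H10

open Cfsg

variable {G : Type*} [Group G]

theorem le_normalizer_of_conj_mem {L H : Subgroup G} (h : ∀ g ∈ L, ∀ x ∈ H, g * x * g⁻¹ ∈ H) :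
    L ≤ Subgroup.normalizer (H : Set G) := by
  intro g hg
  rw [Subgroup.mem_normalizer_iff]
  intro x
  constructor
  · exact h g hg x
  · intro hx
    have := h g⁻¹ (L.inv_mem hg) _ hx
    simpa [mul_assoc] using this

theorem conj_mem_of_le_normalizer {L H : Subgroup G} (h : L ≤ Subgroup.normalizer (H : Set G))
    {g x : G} (hg : g ∈ L) (hx : x ∈ H) : g * x * g⁻¹ ∈ H :=
  (Subgroup.mem_normalizer_iff.mp (h hg) x).mp hx

theorem mem_sup_of_le_normalizer {H N : Subgroup G} (h : H ≤ Subgroup.normalizer (N : Set G))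
    {x : G} (hx : x ∈ H ⊔ N) : ∃ a ∈ H, ∃ b ∈ N, a * b = x := by
  have h1 : x ∈ ((H ⊔ N : Subgroup G) : Set G) := hx
  rw [Subgroup.coe_mul_of_left_le_normalizer_right H N h] at h1
  exact Set.mem_mul.mp h1

theorem le_normalizer_sup {X K₁ K₂ : Subgroup G} (h1 : X ≤ Subgroup.normalizer (K₁ : Set G))
    (h2 : X ≤ Subgroup.normalizer (K₂ : Set G)) : X ≤ Subgroup.normalizer ((K₁ ⊔ K₂ : Subgroup G) : Set G) := by
  apply le_normalizer_of_conj_mem
  intro g hg
  have : K₁ ⊔ K₂ ≤ (K₁ ⊔ K₂).comap (MulAut.conj g).toMonoidHom := by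
    apply sup_le
    · intro x hx
      exact Subgroup.mem_sup_left (conj_mem_of_le_normalizer h1 hg hx)
    · intro x hx
      exact Subgroup.mem_sup_right (conj_mem_of_le_normalizer h2 hg hx)
  intro x hx
  exact this hx

theorem le_normalizer_inf {X K₁ K₂ : Subgroup G} (h1 : X ≤ Subgroup.normalizer (K₁ : Set G))
    (h2 : X ≤ Subgroup.normalizer (K₂ : Set G)) : X ≤ Subgroup.normalizer ((K₁ ⊓ K₂ : Subgroup G) : Set G) := by
  apply le_normalizer_of_conj_mem
  intro g hg x hx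
  exact ⟨conj_mem_of_le_normalizer h1 hg hx.1, conj_mem_of_le_normalizer h2 hg hx.2⟩

/-- subgroups between `V` and `U` are normalized by `U` when `U / V` is abelian -/
theorem le_normalizer_of_abelian_section {U V K : Subgroup G} (hUU : ⁅U, U⁆ ≤ V) (hVK : V ≤ K)
    (hKU : K ≤ U) : U ≤ Subgroup.normalizer (K : Set G) := by
  rw [Subgroup.le_normalizer_iff_commutator_le_left]
  exact (Subgroup.commutator_mono hKU le_rfl).trans (hUU.trans hVK)

/-- `K` is an "`X`-submodule" of the section `U / V` -/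
def IsSub (X U V K : Subgroup G) : Prop :=
  V ≤ K ∧ K ≤ U ∧ X ≤ Subgroup.normalizer (K : Set G)

/-- the section `U / V` is completely reducible under `X` -/
def Semis (X U V : Subgroup G) : Prop :=
  ∀ K : Subgroup G, IsSub X U V K → ∃ K' : Subgroup G, IsSub X U V K' ∧ K ⊓ K' ≤ V ∧ U ≤ K ⊔ K'

theorem IsSub.anti {X Y U V K : Subgroup G} (hXY : X ≤ Y) (h : IsSub Y U V K) : IsSub X U V K :=
  ⟨h.1, h.2.1, hXY.trans h.2.2⟩

theorem IsSub.sup {X U V K₁ K₂ : Subgroup G} (h1 : IsSub X U V K₁) (h2 : IsSub X U V K₂) :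
    IsSub X U V (K₁ ⊔ K₂) :=
  ⟨h1.1.trans le_sup_left, sup_le h1.2.1 h2.2.1, le_normalizer_sup h1.2.2 h2.2.2⟩

theorem IsSub.inf {X U V K₁ K₂ : Subgroup G} (h1 : IsSub X U V K₁) (h2 : IsSub X U V K₂) :
    IsSub X U V (K₁ ⊓ K₂) :=
  ⟨le_inf h1.1 h2.1, inf_le_left.trans h1.2.1, le_normalizer_inf h1.2.2 h2.2.2⟩

/-- conjugate of a subgroup -/
def cj (y : G) (K : Subgroup G) : Subgroup G := K.map (MulAut.conj y).toMonoidHom

theorem mem_cj {y x : G} {K : Subgroup G} : x ∈ cj y K ↔ y⁻¹ * x * y ∈ K := by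
  constructor
  · rintro ⟨k, hk, rfl⟩
    have : y⁻¹ * ((MulAut.conj y).toMonoidHom k) * y = k := by
      simp [MulAut.conj_apply, mul_assoc]
    rw [this]; exact hk
  · intro h
    refine ⟨y⁻¹ * x * y, h, ?_⟩
    simp [MulAut.conj_apply, mul_assoc]

theorem conj_mem_cj {y x : G} {K : Subgroup G} (hx : x ∈ K) : y * x * y⁻¹ ∈ cj y K := by
  rw [mem_cj]
  have : y⁻¹ * (y * x * y⁻¹) * y = x := by group
  rw [this]; exact hx

theorem cj_mono {y : G} {K K' : Subgroup G} (h : K ≤ K') : cj y K ≤ cj y K' :=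
  Subgroup.map_mono h

theorem cj_inv_cj (y : G) (K : Subgroup G) : cj y⁻¹ (cj y K) = K := by
  ext x
  rw [mem_cj, mem_cj]
  have : y⁻¹ * (y⁻¹⁻¹ * x * y⁻¹) * y = x := by group
  rw [this]

theorem cj_cj_inv (y : G) (K : Subgroup G) : cj y (cj y⁻¹ K) = K := by
  have := cj_inv_cj y⁻¹ K
  rwa [inv_inv] at this

theorem cj_eq_of_mem_normalizer {y : G} {K : Subgroup G}
    (hy : y ∈ Subgroup.normalizer (K : Set G)) : cj y K = K := by
  ext x
  rw [mem_cj]
  have h1 := Subgroup.mem_normalizer_iff.mp (Subgroup.inv_mem _ hy) x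
  rw [inv_inv] at h1
  exact h1.symm

theorem isSub_cj {X Y U V K : Subgroup G} (hYX : Y ≤ Subgroup.normalizer (X : Set G))
    (hYU : Y ≤ Subgroup.normalizer (U : Set G)) (hYV : Y ≤ Subgroup.normalizer (V : Set G))
    {y : G} (hy : y ∈ Y) (h : IsSub X U V K) : IsSub X U V (cj y K) := by
  refine ⟨?_, ?_, ?_⟩
  · have := cj_mono (y := y) h.1
    rwa [cj_eq_of_mem_normalizer (hYV hy)] at this
  · have := cj_mono (y := y) h.2.1
    rwa [cj_eq_of_mem_normalizer (hYU hy)] at this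
  · apply le_normalizer_of_conj_mem
    intro x hx k hk
    rw [mem_cj] at hk ⊢
    have hx' : y⁻¹ * x * y⁻¹⁻¹ ∈ X := conj_mem_of_le_normalizer hYX (Y.inv_mem hy) hx
    have := conj_mem_of_le_normalizer h.2.2 hx' hk
    have e : y⁻¹ * (x * k * x⁻¹) * y = y⁻¹ * x * y⁻¹⁻¹ * (y⁻¹ * k * y) * (y⁻¹ * x * y⁻¹⁻¹)⁻¹ := by
      group
    rw [e]; exact this

/-- `W` is a minimal "`X`-submodule" of `U / V` -/
def IsSimpleSub (X U V W : Subgroup G) : Prop :=
  IsSub X U V W ∧ ¬ W ≤ V ∧ ∀ W' : Subgroup G, IsSub X U V W' → W' ≤ W → W' ≤ V ∨ W ≤ W'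

theorem isSimpleSub_cj {X Y U V W : Subgroup G} (hYX : Y ≤ Subgroup.normalizer (X : Set G))
    (hYU : Y ≤ Subgroup.normalizer (U : Set G)) (hYV : Y ≤ Subgroup.normalizer (V : Set G))
    {y : G} (hy : y ∈ Y) (h : IsSimpleSub X U V W) : IsSimpleSub X U V (cj y W) := by
  obtain ⟨h1, h2, h3⟩ := h
  have hy' : y⁻¹ ∈ Y := Y.inv_mem hy
  refine ⟨isSub_cj hYX hYU hYV hy h1, ?_, ?_⟩
  · intro hle
    apply h2
    have := cj_mono (y := y⁻¹) hle
    rwa [cj_inv_cj, cj_eq_of_mem_normalizer (hYV hy')] at this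
  · intro W' hW' hle
    have h4 := isSub_cj hYX hYU hYV hy' hW'
    have h5 : cj y⁻¹ W' ≤ W := by
      have := cj_mono (y := y⁻¹) hle
      rwa [cj_inv_cj] at this
    rcases h3 _ h4 h5 with h6 | h6
    · left
      have := cj_mono (y := y) h6
      rwa [cj_cj_inv, cj_eq_of_mem_normalizer (hYV hy)] at this
    · right
      have := cj_mono (y := y) h6
      rwa [cj_cj_inv] at this

/-- **Clifford**: complete reducibility of `U / V` passes to normal subgroups. -/
theorem semis_of_normal [Finite G] {U V X Y : Subgroup G} (hVU : V ≤ U) (hUU : ⁅U, U⁆ ≤ V)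
    (hXY : X ≤ Y) (hYX : Y ≤ Subgroup.normalizer (X : Set G))
    (hYU : Y ≤ Subgroup.normalizer (U : Set G)) (hYV : Y ≤ Subgroup.normalizer (V : Set G))
    (h : Semis Y U V) : Semis X U V := by
  have hVsubY : IsSub Y U V V := ⟨le_rfl, hVU, hYV⟩
  have hVsubX : IsSub X U V V := hVsubY.anti hXY
  set 𝒮 : Set (Subgroup G) := {W | IsSimpleSub X U V W} with h𝒮
  set Soc := sSup 𝒮 ⊔ V with hSoc
  have hSocU : Soc ≤ U := sup_le (sSup_le fun W hW => hW.1.2.1) hVU
  -- the socle is normalized by `Y`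
  have hSocY : IsSub Y U V Soc := by
    refine ⟨le_sup_right, hSocU, ?_⟩
    apply le_normalizer_of_conj_mem
    intro y hy
    have : Soc ≤ Soc.comap (MulAut.conj y).toMonoidHom := by
      apply sup_le
      · apply sSup_le
        intro W hW w hw
        have h1 : cj y W ∈ 𝒮 := isSimpleSub_cj hYX hYU hYV hy hW
        have h2 : y * w * y⁻¹ ∈ cj y W := conj_mem_cj hw
        exact Subgroup.mem_sup_left ((le_sSup h1) h2)
      · intro v hv
        exact Subgroup.mem_sup_right (conj_mem_of_le_normalizer hYV hy hv)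
    intro x hx
    exact this hx
  -- the socle is everything
  have hSocTop : U ≤ Soc := by
    obtain ⟨C, hC, hC1, hC2⟩ := h Soc hSocY
    by_cases hCV : C ≤ V
    · refine hC2.trans (sup_le le_rfl (hCV.trans le_sup_right))
    · exfalso
      obtain ⟨W, hWC, hW⟩ := Finite.exists_le_minimal
        (p := fun W : Subgroup G => IsSub X U V W ∧ ¬ W ≤ V ∧ W ≤ C) (a := C)
        ⟨hC.anti hXY, hCV, le_rfl⟩
      have hWs : IsSimpleSub X U V W := by
        refine ⟨hW.prop.1, hW.prop.2.1, ?_⟩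
        intro W' hW' hle
        by_cases hW'V : W' ≤ V
        · exact Or.inl hW'V
        · exact Or.inr (hW.le_of_le ⟨hW', hW'V, hle.trans hW.prop.2.2⟩ hle)
      have h1 : W ≤ Soc := (le_sSup (a := W) hWs).trans le_sup_left
      exact hW.prop.2.1 ((le_inf h1 hW.prop.2.2).trans hC1)
  intro K hK
  obtain ⟨K', -, hK'⟩ := Finite.exists_le_maximal
    (p := fun K' : Subgroup G => IsSub X U V K' ∧ K ⊓ K' ≤ V) (a := V) ⟨hVsubX, inf_le_right⟩
  refine ⟨K', hK'.prop.1, hK'.prop.2, ?_⟩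
  by_contra hnot
  set M := K ⊔ K' with hM
  have hMsub : IsSub X U V M := hK.sup hK'.prop.1
  -- some simple submodule is not inside `M`
  have hex : ∃ W ∈ 𝒮, ¬ W ≤ M := by
    by_contra hall
    apply hnot
    refine hSocTop.trans (sup_le (sSup_le ?_) hMsub.1)
    intro W hW
    by_contra hWM
    exact hall ⟨W, hW, hWM⟩
  obtain ⟨W, hW, hWM⟩ := hex
  have hWM' : W ⊓ M ≤ V := by
    rcases hW.2.2 (W ⊓ M) (hW.1.inf hMsub) inf_le_left with h1 | h1
    · exact h1
    · exact absurd (h1.trans inf_le_right) hWM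
  have hnew : IsSub X U V (K' ⊔ W) ∧ K ⊓ (K' ⊔ W) ≤ V := by
    refine ⟨hK'.prop.1.sup hW.1, ?_⟩
    rintro x ⟨hxK, hxKW⟩
    have hn : K' ≤ Subgroup.normalizer (W : Set G) :=
      hK'.prop.1.2.1.trans (le_normalizer_of_abelian_section hUU hW.1.1 hW.1.2.1)
    obtain ⟨a, ha, b, hb, rfl⟩ := mem_sup_of_le_normalizer hn hxKW
    have hbM : b ∈ M := by
      have : b = a⁻¹ * (a * b) := by group
      rw [this]
      exact M.mul_mem (M.inv_mem (Subgroup.mem_sup_right ha)) (Subgroup.mem_sup_left hxK)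
    have hbV : b ∈ V := hWM' ⟨hb, hbM⟩
    have habK' : a * b ∈ K' := K'.mul_mem ha (hK'.prop.1.1 hbV)
    exact hK'.prop.2 ⟨hxK, habK'⟩
  have := hK'.le_of_ge hnew le_sup_left
  exact hWM ((le_sup_right.trans this).trans le_sup_right)

/-- a chief factor is completely reducible under the whole group -/
theorem semis_top_of_chief {U V : Subgroup G} (h : IsChiefFactor U V) : Semis ⊤ U V := by
  obtain ⟨hlt, hUn, hVn, hmin⟩ := h
  intro K hK
  have hKn : K.Normal := Subgroup.normalizer_eq_top_iff.mp (top_le_iff.mp hK.2.2)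
  rcases hmin K hKn hK.1 hK.2.1 with h1 | h1
  · refine ⟨U, ⟨hlt.le, le_rfl, ?_⟩, ?_, le_sup_right⟩
    · rw [Subgroup.normalizer_eq_top]
    · rw [h1]; exact inf_le_left
  · refine ⟨V, ⟨le_rfl, hlt.le, ?_⟩, inf_le_right, ?_⟩
    · rw [Subgroup.normalizer_eq_top]
    · rw [h1]; exact le_sup_left

/-- complete reducibility descends to every subgroup `L` with `D ≤ L ≤ R`, if `R / D` is a
`p`-group -/
theorem semis_of_pquotient [Finite G] {p : ℕ} [hp : Fact p.Prime] {U V D R : Subgroup G}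
    (hVU : V ≤ U) (hUU : ⁅U, U⁆ ≤ V)
    (hRU : R ≤ Subgroup.normalizer (U : Set G)) (hRV : R ≤ Subgroup.normalizer (V : Set G))
    (hDn : R ≤ Subgroup.normalizer (D : Set G))
    (hpow : ∀ r ∈ R, ∃ k : ℕ, r ^ (p ^ k) ∈ D) (hR : Semis R U V) :
    ∀ L : Subgroup G, D ≤ L → L ≤ R → Semis L U V := by
  have key : ∀ (n : ℕ) (L : Subgroup G), D ≤ L → L ≤ R → Nat.card R - Nat.card L = n →
      Semis L U V := by
    intro n
    induction n using Nat.strong_induction_on with
    | _ n ih =>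
      intro L hDL hLR hn
      by_cases hne : L = R
      · rw [hne]; exact hR
      · obtain ⟨r, hrR, hrL, hrN⟩ := exists_normalizing_of_pquotient hDn hDL hLR hne hpow
        set L' := R ⊓ Subgroup.normalizer (L : Set G) with hL'
        have hLL' : L ≤ L' := le_inf hLR Subgroup.le_normalizer
        have hlt : L < L' := lt_of_le_of_ne hLL' (fun he => hrL (he ▸ ⟨hrR, hrN⟩))
        have hc1 : Nat.card L < Nat.card L' := card_lt_card_of_lt' hlt
        have hc2 : Nat.card L' ≤ Nat.card R := Subgroup.card_le_of_le inf_le_left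
        have hL'semis : Semis L' U V :=
          ih (Nat.card R - Nat.card L') (by omega) L' (hDL.trans hLL') inf_le_left rfl
        exact semis_of_normal hVU hUU hLL' inf_le_right (inf_le_left.trans hRU)
          (inf_le_left.trans hRV) hL'semis
  intro L hDL hLR
  exact key _ L hDL hLR rfl

end Cfsg.Agent.Lib.H10
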