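import Mathlib
import Cfsg.Prelude.Def_ConjugacyFunctors
import Cfsg.Prelude.Def_PLocal
import Cfsg.Prelude.Def_LocalEven
import Cfsg.Agent.Lib.H10.Clifford
import Cfsg.Agent.Lib.H10.KInfCore
import Cfsg.Agent.Lib.H10.KInfMap

/-! The star families of the K-infinity construction in a `p`-constrained group: subgroups in a
lower-star family relative to a subgroup containing a critical subgroup `A` of `O_p(G)` lie in
`O_p(G)`, unless one of their elements acts quadratically and nontrivially on a chief factor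
inside `A` (helper10). -/

set_option autoImplicit false

namespace Cfsg.Agent.Lib.H10

open Cfsg
open scoped commutatorElement

variable {G : Type*} [Group G]

/-- The elements of `P` acting trivially on `X` modulo the subgroup `Y`, which `P` normalizes. -/
def cstabN (P X Y : Subgroup G) (hPY : P ≤ Subgroup.normalizer (Y : Set G)) : Subgroup G where
  carrier := {x | x ∈ P ∧ ∀ q ∈ X, ⁅q, x⁆ ∈ Y}
  one_mem' := ⟨P.one_mem, fun q _ => by rw [commutatorElement_one_right]; exact Y.one_mem⟩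
  mul_mem' := by
    rintro x y ⟨hxP, hx⟩ ⟨hyP, hy⟩
    refine ⟨P.mul_mem hxP hyP, fun q hq => ?_⟩
    have e : ⁅q, x * y⁆ = ⁅q, x⁆ * (x * ⁅q, y⁆ * x⁻¹) := by
      simp only [commutatorElement_def]; group
    rw [e]
    exact Y.mul_mem (hx q hq) (conj_mem_of_le_normalizer hPY hxP (hy q hq))
  inv_mem' := by
    rintro x ⟨hxP, hx⟩
    refine ⟨P.inv_mem hxP, fun q hq => ?_⟩
    have e : ⁅q, x⁻¹⁆ = x⁻¹ * (⁅q, x⁆)⁻¹ * x⁻¹⁻¹ := by
      simp only [commutatorElement_def]; group
    rw [e]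
    exact conj_mem_of_le_normalizer hPY (P.inv_mem hxP) (Y.inv_mem (hx q hq))

theorem le_cstabN_iff {P X Y K : Subgroup G} {hPY : P ≤ Subgroup.normalizer (Y : Set G)} :
    K ≤ cstabN P X Y hPY ↔ K ≤ P ∧ ⁅X, K⁆ ≤ Y := by
  constructor
  · intro h
    refine ⟨fun x hx => (h hx).1, ?_⟩
    rw [Subgroup.commutator_le]
    intro q hq x hx
    exact (h hx).2 q hq
  · rintro ⟨h1, h2⟩ x hx
    exact ⟨h1 hx, fun q hq => h2 (Subgroup.commutator_mem_commutator hq hx)⟩

theorem cstabN_le (P X Y : Subgroup G) (hPY : P ≤ Subgroup.normalizer (Y : Set G)) :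
    cstabN P X Y hPY ≤ P :=
  (le_cstabN_iff.mp le_rfl).1

theorem commutator_cstabN_le (P X Y : Subgroup G) (hPY : P ≤ Subgroup.normalizer (Y : Set G)) :
    ⁅X, cstabN P X Y hPY⁆ ≤ Y :=
  (le_cstabN_iff.mp le_rfl).2

theorem le_normalizer_cstabN {L P X Y : Subgroup G} {hPY : P ≤ Subgroup.normalizer (Y : Set G)}
    (hP : L ≤ Subgroup.normalizer (P : Set G)) (hX : L ≤ Subgroup.normalizer (X : Set G))
    (hY : L ≤ Subgroup.normalizer (Y : Set G)) :
    L ≤ Subgroup.normalizer ((cstabN P X Y hPY : Subgroup G) : Set G) := by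
  apply le_normalizer_of_conj_mem
  rintro g hg x ⟨hxP, hx⟩
  refine ⟨conj_mem_of_le_normalizer hP hg hxP, fun q hq => ?_⟩
  have e : ⁅q, g * x * g⁻¹⁆ = g * ⁅g⁻¹ * q * g⁻¹⁻¹, x⁆ * g⁻¹ := by
    simp only [commutatorElement_def]; group
  rw [e]
  exact conj_mem_of_le_normalizer hY hg
    (hx _ (conj_mem_of_le_normalizer hX (L.inv_mem hg) hq))

theorem le_normalizer_of_le_centralizer {L Y : Subgroup G}
    (h : L ≤ Subgroup.centralizer (Y : Set G)) : L ≤ Subgroup.normalizer (Y : Set G) := by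
  apply le_normalizer_of_conj_mem
  intro g hg y hy
  have := Subgroup.mem_centralizer_iff.mp (h hg) y hy
  have e : g * y * g⁻¹ = y := by rw [← this]; group
  rw [e]; exact hy

section star

variable [Finite G] {p : ℕ} [hp : Fact p.Prime] (A : Subgroup G) [hAn : A.Normal]

/-- **Lower-star subgroups lie in `O_p(G)`** unless some element acts quadratically and
nontrivially on a chief factor inside `A`. -/
theorem lower_le_of_neg (hAT : A ≤ pCore p G)
    (hA2 : ⁅A, A⁆ ≤ Subgroup.centralizer (A : Set G))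
    (hA3 : ⁅pCore p G, A⁆ ≤ A ⊓ Subgroup.centralizer (A : Set G))
    (hCA : Subgroup.centralizer (A : Set G) ≤ A)
    {Q B : Subgroup G} (hAQ : A ≤ Q) (hB : B ∈ kLowerStarFamily Q)
    (hnegB : ∀ g ∈ B, ∀ U V : Subgroup G, IsChiefFactor U V → U ≤ A →
      ⁅⁅U, Subgroup.zpowers g⁆, Subgroup.zpowers g⁆ ≤ V → ⁅U, Subgroup.zpowers g⁆ ≤ V) :
    B ≤ pCore p G := by
  set T := pCore p G with hT
  have hTn : T.Normal := H1.pCore_normal p G
  have hTp : IsPGroup p ↥T := H1.pCore_isPGroup p G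
  obtain ⟨hB2, hQB, hLS⟩ := hB
  have hB2' : ⁅B, B⁆ ≤ Subgroup.centralizer (B : Set G) := hB2
  have hAB : A ≤ Subgroup.normalizer (B : Set G) := hAQ.trans hQB
  set Z := B ⊓ Subgroup.centralizer (B : Set G) with hZ
  have hBZc : B ≤ Subgroup.centralizer (Z : Set G) :=
    Subgroup.le_centralizer_iff.mp inf_le_right
  -- subgroup form of the hypothesis
  have hnegS : ∀ U V : Subgroup G, IsChiefFactor U V → U ≤ A → ⁅⁅U, B⁆, B⁆ ≤ V → ⁅U, B⁆ ≤ V := by
    intro U V hUV hUA hq
    rw [commutator_zpowers_le_iff]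
    intro g hg
    have hΓ : Subgroup.zpowers g ≤ B := (Subgroup.zpowers_le).mpr hg
    apply hnegB g hg U V hUV hUA
    exact (Subgroup.commutator_mono (Subgroup.commutator_mono le_rfl hΓ) hΓ).trans hq
  by_contra hBT
  -- the centre of `B` lies in `T`
  have hZT : Z ≤ T := by
    intro g hgZ
    by_contra hgT
    obtain ⟨U, V, hUV, hUA, hnc⟩ := exists_chief_not_centralized A hAT hCA hgT
    apply hnc
    apply hnegB g hgZ.1 U V hUV hUA
    have h3 : ⁅⁅A, Z⁆, B⁆ = ⊥ := by
      apply Subgroup.commutator_commutator_eq_bot_of_rotate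
      · have : ⁅Z, B⁆ = ⊥ := Subgroup.commutator_eq_bot_iff_le_centralizer.mpr inf_le_right
        rw [this, Subgroup.commutator_bot_left]
      · rw [Subgroup.commutator_eq_bot_iff_le_centralizer]
        refine le_trans ?_ hBZc
        rw [Subgroup.commutator_comm]
        exact commutator_le_of_le_normalizer hAB
    have hΓZ : Subgroup.zpowers g ≤ Z := (Subgroup.zpowers_le).mpr hgZ
    have hΓB : Subgroup.zpowers g ≤ B := hΓZ.trans inf_le_left
    refine le_trans ?_ (bot_le (a := V))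
    rw [← h3]
    exact Subgroup.commutator_mono (Subgroup.commutator_mono hUA hΓZ) hΓB
  -- the normal closure of `B` and its `p'`-generated part
  set R := Subgroup.normalClosure (B : Set G) with hR
  have hRn : R.Normal := Subgroup.normalClosure_normal
  have hBR : B ≤ R := Subgroup.le_normalClosure
  set D := pPrimeGen p R with hD
  have hDn : D.Normal := pPrimeGen_normal p R
  have hDR : D ≤ R := pPrimeGen_le p R
  have hAD : ⁅A, D⁆ ≠ ⊥ := by
    intro h0
    have hDC : D ≤ Subgroup.centralizer (A : Set G) := by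
      rw [← Subgroup.commutator_eq_bot_iff_le_centralizer, Subgroup.commutator_comm]; exact h0
    have hDT : D ≤ T := hDC.trans (hCA.trans hAT)
    have hRp : IsPGroup p ↥R := isPGroup_of_pPrimeGen_le hTp hDT
    exact hBT (hBR.trans (H1.le_pCore hRn hRp))
  -- a minimal normal subgroup `U ≤ A` not centralized by `D`
  obtain ⟨U, hUA, hUmin⟩ := Finite.exists_le_minimal
    (p := fun U : Subgroup G => U.Normal ∧ ⁅U, D⁆ ≠ ⊥) (a := A) ⟨hAn, hAD⟩
  have hUn : U.Normal := hUmin.prop.1
  have hUD : ⁅U, D⁆ ≠ ⊥ := hUmin.prop.2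
  have hUp : IsPGroup p ↥U := hTp.to_le (hUA.trans hAT)
  have hsmall : ∀ W : Subgroup G, W.Normal → W ≤ U → W ≠ U → ⁅W, D⁆ = ⊥ := by
    intro W hWn hWU hne
    by_contra h0
    exact hne (le_antisymm hWU (hUmin.le_of_le ⟨hWn, h0⟩ hWU))
  have hUne : U ≠ ⊥ := by
    rintro rfl
    exact hUD (Subgroup.commutator_bot_left _)
  obtain ⟨V, hUV⟩ := exists_chief_below U hUne
  have hVn : V.Normal := hUV.2.2.1
  have hVU : V ≤ U := hUV.1.le
  have hVD : ⁅V, D⁆ = ⊥ := hsmall V hVn hVU hUV.1.ne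
  have huniq : ∀ W : Subgroup G, W.Normal → W ≤ U → W ≠ U → W ≤ V := by
    intro W hWn hWU hne
    have hWD := hsmall W hWn hWU hne
    rcases hUV.2.2.2 (W ⊔ V) inferInstance le_sup_right (sup_le hWU hVU) with h1 | h1
    · rw [← h1]; exact le_sup_left
    · exfalso
      apply hUD
      rw [← h1, Subgroup.commutator_eq_bot_iff_le_centralizer]
      exact sup_le (Subgroup.commutator_eq_bot_iff_le_centralizer.mp hWD)
        (Subgroup.commutator_eq_bot_iff_le_centralizer.mp hVD)
  have hUDU : ⁅U, D⁆ = U := by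
    by_contra hne
    have h1 : ⁅⁅U, D⁆, D⁆ = ⊥ := hsmall ⁅U, D⁆ inferInstance (Subgroup.commutator_le_left U D) hne
    apply hUD
    apply commutator_pPrimeGen_eq_bot
    intro x hxR hxc
    have hxD : Subgroup.zpowers x ≤ D := (Subgroup.zpowers_le).mpr (mem_pPrimeGen hxR hxc)
    apply H7.commutator_eq_bot_of_commutator_commutator_eq_bot
      (card_zpowers_coprime_of_isPGroup hUp hxc)
    · rw [Subgroup.normalizer_eq_top]; exact le_top
    · rw [eq_bot_iff, ← h1]
      exact Subgroup.commutator_mono (Subgroup.commutator_mono le_rfl hxD) hxD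
  have hUVc : ⁅U, V⁆ = ⊥ := by
    have h1 : ⁅⁅U, D⁆, V⁆ = ⊥ := by
      apply Subgroup.commutator_commutator_eq_bot_of_rotate
      · rw [Subgroup.commutator_comm D V, hVD, Subgroup.commutator_bot_left]
      · rw [eq_bot_iff, ← hVD]
        exact Subgroup.commutator_mono (Subgroup.commutator_le_left V U) le_rfl
    rwa [hUDU] at h1
  have hUU : ⁅U, U⁆ ≤ V := by
    apply huniq _ inferInstance (Subgroup.commutator_le_left U U)
    intro he
    have h1 : ⁅U, U⁆ ≤ Subgroup.centralizer (U : Set G) :=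
      (Subgroup.commutator_mono hUA hUA).trans (hA2.trans (Subgroup.centralizer_le hUA))
    rw [he, ← Subgroup.commutator_eq_bot_iff_le_centralizer, he] at h1
    exact hUne h1
  -- the subgroup `K₀`
  have hUcU : ⁅U, U⁆ ≤ Subgroup.centralizer (U : Set G) :=
    (Subgroup.commutator_mono hUA hUA).trans (hA2.trans (Subgroup.centralizer_le hUA))
  set Y := ⁅U, U⁆ ⊓ Subgroup.centralizer (B : Set G) with hY
  have hUY : U ≤ Subgroup.normalizer (Y : Set G) :=
    le_normalizer_of_le_centralizer (Subgroup.le_centralizer_iff.mp (inf_le_left.trans hUcU))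
  set K₀ := cstabN U U Y hUY with hK₀
  have hK₀U : K₀ ≤ U := cstabN_le U U Y hUY
  have hK₀Y : ⁅U, K₀⁆ ≤ Y := commutator_cstabN_le U U Y hUY
  have hVK₀ : V ≤ K₀ := by
    rw [hK₀, le_cstabN_iff]
    exact ⟨hVU, by rw [hUVc]; exact bot_le⟩
  have hBU : B ≤ Subgroup.normalizer (U : Set G) := by
    rw [Subgroup.normalizer_eq_top]; exact le_top
  have hDU : D ≤ Subgroup.normalizer (U : Set G) := by
    rw [Subgroup.normalizer_eq_top]; exact le_top
  have hBY : B ≤ Subgroup.normalizer (Y : Set G) :=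
    le_normalizer_of_le_centralizer (Subgroup.le_centralizer_iff.mp inf_le_right)
  have hDY : D ≤ Subgroup.normalizer (Y : Set G) := by
    apply le_normalizer_of_le_centralizer
    apply Subgroup.le_centralizer_iff.mp
    exact (inf_le_left.trans hUU).trans (Subgroup.commutator_eq_bot_iff_le_centralizer.mp hVD)
  have hBK₀ : B ≤ Subgroup.normalizer (K₀ : Set G) := le_normalizer_cstabN hBU hBU hBY
  have hDK₀ : D ≤ Subgroup.normalizer (K₀ : Set G) := le_normalizer_cstabN hDU hDU hDY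
  have hK₀A : K₀ ≤ A := hK₀U.trans hUA
  have hK₀cl : K₀ ∈ classTwoSubgroups G := by
    show ⁅K₀, K₀⁆ ≤ Subgroup.centralizer (K₀ : Set G)
    exact (Subgroup.commutator_mono hK₀A hK₀A).trans (hA2.trans (Subgroup.centralizer_le hK₀A))
  have hc1 : ⁅B, ⁅K₀, K₀⁆⁆ = ⊥ := by
    rw [Subgroup.commutator_comm, Subgroup.commutator_eq_bot_iff_le_centralizer]
    exact (Subgroup.commutator_mono hK₀U le_rfl).trans (hK₀Y.trans inf_le_right)
  have hc2 : ⁅⁅Z, K₀⁆, K₀⁆ = ⊥ := by
    rw [Subgroup.commutator_eq_bot_iff_le_centralizer]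
    refine le_trans (Subgroup.commutator_mono hZT hK₀A) ?_
    exact hA3.trans (inf_le_right.trans (Subgroup.centralizer_le hK₀A))
  have hBK₀Z : ⁅B, K₀⁆ ≤ Z := hLS K₀ hK₀cl (hK₀A.trans hAQ) hBK₀ hc1 hc2
  have hK₀q : ⁅⁅K₀, B⁆, B⁆ = ⊥ := by
    rw [Subgroup.commutator_eq_bot_iff_le_centralizer, Subgroup.commutator_comm]
    exact hBK₀Z.trans inf_le_right
  have hUB : ⁅U, B⁆ ≤ B := commutator_le_of_le_normalizer (hUA.trans hAB)
  have hUBU : ⁅U, B⁆ ≤ U := Subgroup.commutator_le_left U B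
  have hZUK₀ : Z ⊓ U ≤ K₀ := by
    rw [hK₀, le_cstabN_iff]
    refine ⟨inf_le_right, le_inf (Subgroup.commutator_mono le_rfl inf_le_right) ?_⟩
    rw [← Subgroup.commutator_eq_bot_iff_le_centralizer]
    apply Subgroup.commutator_commutator_eq_bot_of_rotate
    · have : ⁅Z ⊓ U, B⁆ = ⊥ :=
        Subgroup.commutator_eq_bot_iff_le_centralizer.mpr (inf_le_left.trans inf_le_right)
      rw [this, Subgroup.commutator_bot_left]
    · rw [Subgroup.commutator_eq_bot_iff_le_centralizer, Subgroup.commutator_comm]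
      exact hUB.trans (hBZc.trans (Subgroup.centralizer_le inf_le_left))
  have hUBB : ⁅⁅U, B⁆, B⁆ ≤ Z ⊓ U := by
    refine le_inf (le_inf ?_ ?_) ?_
    · exact (Subgroup.commutator_mono hUB le_rfl).trans (Subgroup.commutator_le_self B)
    · exact (Subgroup.commutator_mono hUB le_rfl).trans hB2'
    · exact (Subgroup.commutator_mono hUBU le_rfl).trans (Subgroup.commutator_le_left U B)
  -- complete reducibility under `D B`
  have hsemisTop : Semis ⊤ U V := semis_top_of_chief hUV
  have hsemisR : Semis R U V := by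
    apply semis_of_normal hVU hUU le_top _ _ _ hsemisTop
    · rw [Subgroup.normalizer_eq_top]
    · rw [Subgroup.normalizer_eq_top]
    · rw [Subgroup.normalizer_eq_top]
  have hsemisDB : Semis (D ⊔ B) U V := by
    apply semis_of_pquotient (p := p) (D := D) (R := R) hVU hUU _ _ _
      (fun r hr => exists_pow_mem_pPrimeGen hr) hsemisR (D ⊔ B) le_sup_left (sup_le hDR hBR)
    · rw [Subgroup.normalizer_eq_top]; exact le_top
    · rw [Subgroup.normalizer_eq_top]; exact le_top
    · rw [Subgroup.normalizer_eq_top]; exact le_top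
  obtain ⟨K₁, hK₁, hK₀₁, hUK⟩ := hsemisDB K₀ ⟨hVK₀, hK₀U, sup_le hDK₀ hBK₀⟩
  have hBK₁ : B ≤ Subgroup.normalizer (K₁ : Set G) := le_sup_right.trans hK₁.2.2
  have hK₁B : ⁅K₁, B⁆ ≤ K₁ := Subgroup.le_normalizer_iff_commutator_le_left.mp hBK₁
  -- `B` acts quadratically on `U / V`
  set F := cstab U B V with hF
  have hVF : V ≤ F := by
    rw [hF, le_cstab_iff]
    exact ⟨hVU, Subgroup.commutator_le_right B V⟩
  have hFU : F ≤ U := cstab_le U B V
  have hUF : U ≤ Subgroup.normalizer (F : Set G) := le_normalizer_of_abelian_section hUU hVF hFU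
  set F₂ := cstabN U B F hUF with hF₂
  have hmem : ∀ K : Subgroup G, K ≤ U → ⁅⁅K, B⁆, B⁆ ≤ V → K ≤ F₂ := by
    intro K hKU hq
    rw [hF₂, le_cstabN_iff]
    refine ⟨hKU, ?_⟩
    rw [hF, le_cstab_iff]
    refine ⟨?_, ?_⟩
    · rw [Subgroup.commutator_comm]
      exact (Subgroup.commutator_mono hKU le_rfl).trans hUBU
    · rw [Subgroup.commutator_comm, Subgroup.commutator_comm B K]
      exact hq
  have h0 : K₀ ≤ F₂ := hmem K₀ hK₀U (by rw [hK₀q]; exact bot_le)
  have h1 : K₁ ≤ F₂ := by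
    apply hmem K₁ hK₁.2.1
    refine le_trans (le_inf ?_ ?_) hK₀₁
    · exact ((Subgroup.commutator_mono (Subgroup.commutator_mono hK₁.2.1 le_rfl) le_rfl).trans
        hUBB).trans hZUK₀
    · exact (Subgroup.commutator_mono hK₁B le_rfl).trans hK₁B
  have hUF₂ : U ≤ F₂ := hUK.trans (sup_le h0 h1)
  have hq : ⁅⁅U, B⁆, B⁆ ≤ V := by
    have h2 := (le_cstabN_iff.mp hUF₂).2
    have h3 := (le_cstab_iff.mp h2).2
    rw [Subgroup.commutator_comm, Subgroup.commutator_comm B U] at h3
    exact h3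
  have hUBV : ⁅U, B⁆ ≤ V := hnegS U V hUV hUA hq
  have hRc : R ≤ cstab ⊤ U V := by
    apply Subgroup.normalClosure_le_normal
    have : B ≤ cstab ⊤ U V := le_cstab_iff.mpr ⟨le_top, hUBV⟩
    exact this
  have hUDV : ⁅U, D⁆ ≤ V := (le_cstab_iff.mp (hDR.trans hRc)).2
  rw [hUDU] at hUDV
  exact absurd hUV.1 (not_lt_of_ge hUDV)

end star

/-- an element of `G` acting cubically on `A` modulo its centre, quadratically on the centre of
`A`, and quadratically but nontrivially on some chief factor of `G` inside `A` -/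
def GoodElt (A : Subgroup G) (g : G) : Prop :=
  iterCommutator A (Subgroup.zpowers g) 3 ≤ A ⊓ Subgroup.centralizer (A : Set G) ∧
  ⁅⁅A ⊓ Subgroup.centralizer (A : Set G), Subgroup.zpowers g⁆, Subgroup.zpowers g⁆ = ⊥ ∧
  ∃ U V : Subgroup G, IsChiefFactor U V ∧ U ≤ A ∧
    ⁅⁅U, Subgroup.zpowers g⁆, Subgroup.zpowers g⁆ ≤ V ∧ ¬ ⁅U, Subgroup.zpowers g⁆ ≤ V

section claims

variable [Finite G] {p : ℕ} [hp : Fact p.Prime] (S : Sylow p G) (A : Subgroup G) [hAn : A.Normal]
  (hAT : A ≤ pCore p G) (hA2 : ⁅A, A⁆ ≤ Subgroup.centralizer (A : Set G))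
  (hA3 : ⁅pCore p G, A⁆ ≤ A ⊓ Subgroup.centralizer (A : Set G))
  (hCA : Subgroup.centralizer (A : Set G) ≤ A)
  (hneg : ∀ g ∈ (S : Subgroup G), GoodElt A g → g ∈ pCore p G)

include hAT hCA hneg in
theorem upper_le_of_negGood {Q B : Subgroup G} (hBS : B ≤ (S : Subgroup G)) (hAQ : A ≤ Q)
    (hB : B ∈ kUpperStarFamily Q) : B ≤ pCore p G := by
  obtain ⟨-, hBQ⟩ := hB
  have h2 : ⁅⁅A, B⁆, B⁆ = ⊥ := by
    rw [eq_bot_iff, ← commutator_centralizer_eq_bot B]
    refine Subgroup.commutator_mono ?_ le_rfl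
    rw [Subgroup.commutator_comm]
    exact (Subgroup.commutator_mono le_rfl hAQ).trans (hBQ.trans inf_le_right)
  intro g hg
  by_contra hgT
  apply hgT
  have hΓ : Subgroup.zpowers g ≤ B := (Subgroup.zpowers_le).mpr hg
  apply hneg g (hBS hg)
  refine ⟨?_, ?_, ?_⟩
  · rw [cubic_of_le g hg (by rw [h2, Subgroup.commutator_bot_left])]
    exact bot_le
  · rw [eq_bot_iff, ← h2]
    exact Subgroup.commutator_mono (Subgroup.commutator_mono inf_le_left hΓ) hΓ
  · obtain ⟨U, V, hUV, hUA, hnc⟩ := exists_chief_not_centralized A hAT hCA hgT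
    refine ⟨U, V, hUV, hUA, ?_, hnc⟩
    refine le_trans ?_ (bot_le (a := V))
    rw [← h2]
    exact Subgroup.commutator_mono (Subgroup.commutator_mono hUA hΓ) hΓ

include hAT hA2 hA3 hCA hneg in
theorem lower_le_of_negGood {Q B : Subgroup G} (hBS : B ≤ (S : Subgroup G)) (hAQ : A ≤ Q)
    (hB : B ∈ kLowerStarFamily Q) : B ≤ pCore p G := by
  have hTn : (pCore p G).Normal := H1.pCore_normal p G
  have hTp : IsPGroup p ↥(pCore p G) := H1.pCore_isPGroup p G
  apply lower_le_of_neg A hAT hA2 hA3 hCA hAQ hB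
  obtain ⟨hB2, hQB, hLS⟩ := hB
  have hB2' : ⁅B, B⁆ ≤ Subgroup.centralizer (B : Set G) := hB2
  have h3 : ⁅⁅⁅A, B⁆, B⁆, B⁆ = ⊥ := by
    rw [eq_bot_iff, ← commutator_centralizer_eq_bot B]
    refine Subgroup.commutator_mono ?_ le_rfl
    refine le_trans (Subgroup.commutator_mono ?_ le_rfl) hB2'
    exact commutator_le_of_le_normalizer (hAQ.trans hQB)
  have hZn : (A ⊓ Subgroup.centralizer (A : Set G)).Normal := center_normal_of_normal A
  have hZZ : ⁅A ⊓ Subgroup.centralizer (A : Set G), A ⊓ Subgroup.centralizer (A : Set G)⁆ = ⊥ := by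
    rw [Subgroup.commutator_eq_bot_iff_le_centralizer]
    exact inf_le_right.trans (Subgroup.centralizer_le inf_le_left)
  have hZ2 : (A ⊓ Subgroup.centralizer (A : Set G)) ∈ classTwoSubgroups G := by
    show ⁅A ⊓ Subgroup.centralizer (A : Set G), A ⊓ Subgroup.centralizer (A : Set G)⁆ ≤ _
    rw [hZZ]; exact bot_le
  have hBZ := hLS (A ⊓ Subgroup.centralizer (A : Set G)) hZ2 (inf_le_left.trans hAQ)
    (by rw [Subgroup.normalizer_eq_top]; exact le_top)
    (by rw [hZZ, Subgroup.commutator_bot_right])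
    (by
      rw [eq_bot_iff, ← hZZ]
      exact Subgroup.commutator_mono (Subgroup.commutator_le_right _ _) le_rfl)
  have hq : ⁅⁅A ⊓ Subgroup.centralizer (A : Set G), B⁆, B⁆ = ⊥ := by
    rw [eq_bot_iff, ← commutator_centralizer_eq_bot B]
    refine Subgroup.commutator_mono ?_ le_rfl
    rw [Subgroup.commutator_comm]
    exact hBZ.trans inf_le_right
  intro g hg U V hUV hUA hquad
  by_contra hnc
  have hΓ : Subgroup.zpowers g ≤ B := (Subgroup.zpowers_le).mpr hg
  have hgT : g ∈ pCore p G := by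
    apply hneg g (hBS hg)
    refine ⟨?_, ?_, U, V, hUV, hUA, hquad, hnc⟩
    · rw [cubic_of_le g hg h3]; exact bot_le
    · rw [eq_bot_iff, ← hq]
      exact Subgroup.commutator_mono (Subgroup.commutator_mono le_rfl hΓ) hΓ
  apply hnc
  refine le_trans (Subgroup.commutator_mono le_rfl ((Subgroup.zpowers_le).mpr hgT)) ?_
  exact commutator_le_of_chief_le (pCore p G) hTp hUV (hUA.trans hAT)

include hAT hA2 hA3 hCA hneg in
theorem critical_mem_lower_of_negGood {Q : Subgroup G} (hQS : Q ≤ (S : Subgroup G)) :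
    A ∈ kLowerStarFamily Q := by
  refine ⟨hA2, by rw [Subgroup.normalizer_eq_top]; exact le_top, ?_⟩
  intro A₁ hA₁2 hA₁Q hAN hc1 hc2
  have hA₁2' : ⁅A₁, A₁⁆ ≤ Subgroup.centralizer (A₁ : Set G) := hA₁2
  set Z := A ⊓ Subgroup.centralizer (A : Set G) with hZ
  have hZn : Z.Normal := center_normal_of_normal A
  have hA₁Z : ⁅A₁, A₁⁆ ≤ Z := by
    have h1 : ⁅A₁, A₁⁆ ≤ Subgroup.centralizer (A : Set G) := by
      rw [← Subgroup.commutator_eq_bot_iff_le_centralizer, Subgroup.commutator_comm]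
      exact hc1
    exact le_inf (h1.trans hCA) h1
  have hAA₁ : ⁅A, A₁⁆ ≤ A₁ := commutator_le_of_le_normalizer hAN
  have hA₁T : A₁ ≤ pCore p G := by
    intro g hg
    by_contra hgT
    apply hgT
    have hΓ : Subgroup.zpowers g ≤ A₁ := (Subgroup.zpowers_le).mpr hg
    have h3 : ⁅⁅⁅A, A₁⁆, A₁⁆, A₁⁆ = ⊥ := by
      rw [eq_bot_iff, ← commutator_centralizer_eq_bot A₁]
      refine Subgroup.commutator_mono ?_ le_rfl
      exact le_trans (Subgroup.commutator_mono hAA₁ le_rfl) hA₁2'
    have hq2 : ⁅⁅Z, Subgroup.zpowers g⁆, Subgroup.zpowers g⁆ = ⊥ := by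
      rw [eq_bot_iff, ← hc2]
      exact Subgroup.commutator_mono (Subgroup.commutator_mono le_rfl hΓ) hΓ
    apply hneg g (hQS (hA₁Q hg))
    refine ⟨?_, hq2, ?_⟩
    · rw [cubic_of_le g hg h3]; exact bot_le
    · obtain ⟨U, V, hUV, hUA, hnc⟩ := exists_chief_not_centralized A hAT hCA hgT
      refine ⟨U, V, hUV, hUA, ?_, hnc⟩
      have c1 : CW (Subgroup.zpowers g) 2 A Z := by
        apply cw_of_engel
        show ⁅⁅A, Subgroup.zpowers g⁆, Subgroup.zpowers g⁆ ≤ Z
        refine le_trans (Subgroup.commutator_mono (Subgroup.commutator_mono le_rfl hΓ) hΓ) ?_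
        exact (Subgroup.commutator_mono hAA₁ le_rfl).trans hA₁Z
      have c2 : CW (Subgroup.zpowers g) 2 Z ⊥ := by
        apply cw_of_engel
        show ⁅⁅Z, Subgroup.zpowers g⁆, Subgroup.zpowers g⁆ ≤ ⊥
        rw [hq2]
      have c3 := cw_trans c1 c2
      exact c3 U V hUV hUA (by rw [bot_inf_eq]; exact bot_le)
  rw [Subgroup.commutator_comm]
  exact (Subgroup.commutator_mono hA₁T le_rfl).trans hA3

end claims

/-- all terms of the K-sequence (from index `0` on) lie between `A` and `T`, given the four claims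
on the star families -/
theorem kcore_main_of_claims {P : Type*} [Group P] (T A : Subgroup P)
    (hU : ∀ Q B : Subgroup P, A ≤ Q → B ∈ kUpperStarFamily Q → B ≤ T)
    (hL : ∀ Q B : Subgroup P, A ≤ Q → B ∈ kLowerStarFamily Q → B ≤ T)
    (hAL : ∀ Q : Subgroup P, A ∈ kLowerStarFamily Q)
    (hAU : ∀ Q : Subgroup P, Q ≤ T → A ∈ kUpperStarFamily Q) (n : ℕ) :
    kSeqEven P n ≤ T ∧ kSeqOdd P (n + 1) ≤ T := by
  have step : ∀ n : ℕ, A ≤ kSeqOdd P n →
      A ≤ kSeqEven P n ∧ kSeqEven P n ≤ T ∧ A ≤ kSeqOdd P (n + 1) ∧ kSeqOdd P (n + 1) ≤ T := by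
    intro n hn
    have h1 : A ≤ kSeqEven P n := le_sSup (hAL _)
    have h2 : kSeqEven P n ≤ T := sSup_le fun B hB => hL _ B hn hB
    have h3 : A ≤ kSeqOdd P (n + 1) := by
      rw [kSeqOdd_succ_eq]
      exact le_sSup (hAU _ h2)
    have h4 : kSeqOdd P (n + 1) ≤ T := by
      rw [kSeqOdd_succ_eq]
      exact sSup_le fun B hB => hU _ B h1 hB
    exact ⟨h1, h2, h3, h4⟩
  have all : ∀ n : ℕ, A ≤ kSeqOdd P n := by
    intro n
    induction n with
    | zero => exact le_top
    | succ n ih => exact (step n ih).2.2.1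
  exact ⟨(step n (all n)).2.1, (step n (all n)).2.2.2⟩

section final

universe u

variable {G : Type u} [Group G] [Finite G] {p : ℕ} [hp : Fact p.Prime]

/-- In a group with a normal subgroup `A ≤ O_p(G)` of class at most two with `[O_p(G), A] ≤ Z(A)`
and `C_G(A) ≤ A`, if every good element of the Sylow subgroup `S` lies in `O_p(G)`, the K-infinity
subgroups of `S` are normal in `G`. -/
theorem kInf_normal_of_negGood (S : Sylow p G) (A : Subgroup G) [hAn : A.Normal]
    (hAT : A ≤ pCore p G) (hA2 : ⁅A, A⁆ ≤ Subgroup.centralizer (A : Set G))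
    (hA3 : ⁅pCore p G, A⁆ ≤ A ⊓ Subgroup.centralizer (A : Set G))
    (hCA : Subgroup.centralizer (A : Set G) ≤ A)
    (hneg : ∀ g ∈ (S : Subgroup G), GoodElt A g → g ∈ pCore p G) :
    (inducedFunctor kInfLower (S : Subgroup G)).Normal ∧
      (inducedFunctor kInfUpper (S : Subgroup G)).Normal := by
  set T := pCore p G with hT
  have hTS : T ≤ (S : Subgroup G) := H1.pCore_le_sylow S
  have hAS : A ≤ (S : Subgroup G) := hAT.trans hTS
  have hf : Function.Injective (S : Subgroup G).subtype := Subtype.coe_injective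
  set T' := T.subgroupOf (S : Subgroup G) with hT'
  set A' := A.subgroupOf (S : Subgroup G) with hA'
  have hmT : T'.map (S : Subgroup G).subtype = T := Subgroup.map_subgroupOf_eq_of_le hTS
  have hmA : A'.map (S : Subgroup G).subtype = A := Subgroup.map_subgroupOf_eq_of_le hAS
  have hle : ∀ B : Subgroup ↥(S : Subgroup G), B.map (S : Subgroup G).subtype ≤ T → B ≤ T' := by
    intro B hB
    rw [hT']
    exact Subgroup.map_le_iff_le_comap.mp hB
  have hmain := kcore_main_of_claims T' A'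
    (by
      intro Q B hAQ hB
      apply hle
      apply upper_le_of_negGood S A hAT hCA hneg (Subgroup.map_subtype_le B) _
        ((map_mem_upper_iff hf).mpr hB)
      rw [← hmA]; exact Subgroup.map_mono hAQ)
    (by
      intro Q B hAQ hB
      apply hle
      apply lower_le_of_negGood S A hAT hA2 hA3 hCA hneg (Subgroup.map_subtype_le B) _
        ((map_mem_lower_iff hf).mpr hB)
      rw [← hmA]; exact Subgroup.map_mono hAQ)
    (by
      intro Q
      rw [← map_mem_lower_iff hf, hmA]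
      exact critical_mem_lower_of_negGood S A hAT hA2 hA3 hCA hneg (Subgroup.map_subtype_le Q))
    (by
      intro Q hQT
      rw [← map_mem_upper_iff hf, hmA]
      apply kcore_mem_upper T A hA2 hA3
      rw [← hmT]; exact Subgroup.map_mono hQT)
  have hS1979 := Cfsg.Agent.S1979.result (p := p) S.2 T' hmain
  have hTp : IsPGroup p ↥T' := S.2.to_subgroup T'
  have : (pCore p G).Normal := H1.pCore_normal p G
  constructor
  · have e1 := inducedFunctor_map_subtype (isCharPFunctor_kInfLower.{u} p) (S : Subgroup G) T' hTp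
    rw [hmT] at e1
    have e2 : inducedFunctor kInfLower (S : Subgroup G) = inducedFunctor kInfLower T := by
      rw [← e1]
      show (kInfLower ↥(S : Subgroup G)).map (S : Subgroup G).subtype = _
      rw [← hS1979.1]
      rfl
    rw [e2]
    exact inducedFunctor_normal_of_normal (isCharPFunctor_kInfLower.{u} p) _ (H1.pCore_isPGroup p G)
  · have e1 := inducedFunctor_map_subtype (isCharPFunctor_kInfUpper.{u} p) (S : Subgroup G) T' hTp
    rw [hmT] at e1
    have e2 : inducedFunctor kInfUpper (S : Subgroup G) = inducedFunctor kInfUpper T := by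
      rw [← e1]
      show (kInfUpper ↥(S : Subgroup G)).map (S : Subgroup G).subtype = _
      rw [← hS1979.2]
      rfl
    rw [e2]
    exact inducedFunctor_normal_of_normal (isCharPFunctor_kInfUpper.{u} p) _ (H1.pCore_isPGroup p G)

/-- **Glauberman's K-infinity theorem, with the chief factor.** In a `p`-constrained group in
which a K-infinity subgroup of the Sylow subgroup `S` is not normal, some element of `S` outside
`O_p(G)` is good for the critical subgroup `A`. -/
theorem exists_goodElt_of_not_normal (S : Sylow p G) (A : Subgroup G) [hAn : A.Normal]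
    (hAT : A ≤ pCore p G) (hA2 : ⁅A, A⁆ ≤ Subgroup.centralizer (A : Set G))
    (hA3 : ⁅pCore p G, A⁆ ≤ A ⊓ Subgroup.centralizer (A : Set G))
    (hA4 : pCore p G ⊓ Subgroup.centralizer (A : Set G) = A ⊓ Subgroup.centralizer (A : Set G))
    (hA5 : ∀ φ : MulAut ↥(pCore p G), (orderOf φ).Coprime p →
      (∀ a : ↥(pCore p G), (a : G) ∈ A → φ a = a) → φ = 1)
    (hCT : Subgroup.centralizer ((pCore p G : Subgroup G) : Set G) ≤ pCore p G)
    (hK : ¬ (inducedFunctor kInfLower (S : Subgroup G)).Normal ∨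
      ¬ (inducedFunctor kInfUpper (S : Subgroup G)).Normal) :
    ∃ g : G, g ∈ (S : Subgroup G) ∧ g ∉ pCore p G ∧ GoodElt A g := by
  have hCA := centralizer_le_of_critical A hA4 hA5 hCT
  by_contra hcon
  have hneg : ∀ g ∈ (S : Subgroup G), GoodElt A g → g ∈ pCore p G := by
    intro g hg hgood
    by_contra hgT
    exact hcon ⟨g, hg, hgT, hgood⟩
  obtain ⟨n1, n2⟩ := kInf_normal_of_negGood S A hAT hA2 hA3 hCA hneg
  rcases hK with h | h
  · exact h n1
  · exact h n2

end final

end Cfsg.Agent.Lib.H10
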