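import Mathlib
import Cfsg.Prelude.Def_ConjugacyFunctors
import Cfsg.Prelude.Def_PLocal
import Cfsg.Prelude.Def_LocalEven
import Cfsg.Agent.Lib.H10.KInfEngel
import Cfsg.Agent.Lib.H10.KInfStar

/-! Critical subgroups of `O_p(G)`: automorphisms of order prime to `p` fixing a critical subgroup
elementwise are trivial; cubic action on a critical subgroup gives Engel degree `4` on all chief
factors inside `O_p(G)` (helper10). -/

set_option autoImplicit false

namespace Cfsg.Agent.Lib.H10

open Cfsg

universe u

variable {G : Type u} [Group G] [Finite G] {p : ℕ} [hp : Fact p.Prime]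

omit [Finite G] in
/-- automorphisms of `O_p(G)` of order prime to `p` fixing elementwise a normal subgroup `A` with
`C_{O_p(G)}(A) ≤ A` are trivial -/
theorem coprime_aut_trivial_of_critical (A : Subgroup G) [hAn : A.Normal] (hAT : A ≤ pCore p G)
    (hA4 : pCore p G ⊓ Subgroup.centralizer (A : Set G) = A ⊓ Subgroup.centralizer (A : Set G))
    (φ : MulAut ↥(pCore p G)) (hφ : (orderOf φ).Coprime p)
    (hfix : ∀ a : ↥(pCore p G), (a : G) ∈ A → φ a = a) : φ = 1 := by
  have hTp : IsPGroup p ↥(pCore p G) := H1.pCore_isPGroup p G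
  ext x
  set y : ↥(pCore p G) := x⁻¹ * φ x with hy
  have hφx : φ x = x * y := by rw [hy]; group
  have hyC : (y : G) ∈ Subgroup.centralizer (A : Set G) := by
    rw [Subgroup.mem_centralizer_iff]
    intro a ha
    set aT : ↥(pCore p G) := ⟨a, hAT ha⟩ with haT
    have hb : ((x * aT * x⁻¹ : ↥(pCore p G)) : G) ∈ A := by
      have := hAn.conj_mem a ha (x : G)
      simpa using this
    have h1 : φ (x * aT * x⁻¹) = x * aT * x⁻¹ := hfix _ hb
    have h2 : φ aT = aT := hfix aT ha
    rw [map_mul, map_mul, map_inv, h2, hφx] at h1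
    have h3 : aT * y = y * aT := by
      have : y * aT * y⁻¹ = aT := by
        calc y * aT * y⁻¹ = x⁻¹ * (x * y * aT * (x * y)⁻¹) * x := by group
          _ = x⁻¹ * (x * aT * x⁻¹) * x := by rw [h1]
          _ = aT := by group
      calc aT * y = (y * aT * y⁻¹) * y := by rw [this]
        _ = y * aT := by group
    have := congrArg Subtype.val h3
    simpa using this
  have hyA : (y : G) ∈ A := by
    have : (y : G) ∈ pCore p G ⊓ Subgroup.centralizer (A : Set G) := ⟨y.2, hyC⟩
    rw [hA4] at this
    exact this.1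
  have hφy : φ y = y := hfix y hyA
  have hpow : ∀ n : ℕ, (φ ^ n) x = x * y ^ n := by
    intro n
    induction n with
    | zero => simp
    | succ n ih =>
      rw [pow_succ', MulAut.mul_apply, ih, map_mul, map_pow, hφy, hφx, pow_succ']
      group
  have h1 := hpow (orderOf φ)
  rw [pow_orderOf_eq_one, MulAut.one_apply] at h1
  have h2 : y ^ orderOf φ = 1 := by
    have : x * y ^ orderOf φ = x * 1 := by rw [mul_one]; exact h1.symm
    exact mul_left_cancel this
  have h3 : orderOf y ∣ orderOf φ := orderOf_dvd_of_pow_eq_one h2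
  have h4 : (orderOf (y : G)).Coprime p := by
    rw [Subgroup.orderOf_coe]
    exact Nat.Coprime.coprime_dvd_left h3 hφ
  have h5 : (y : G) = 1 := eq_one_of_isPGroup_of_coprime hTp y.2 h4
  have h6 : y = 1 := Subtype.ext h5
  rw [hφx, h6, mul_one, MulAut.one_apply]

/-- cubic action on a critical subgroup modulo its centre, quadratic on its centre: Engel degree
`4` on all chief factors inside `O_p(G)`, quadratic action on `Z(O_p(G))` -/
theorem engel_four_of_cubic (A : Subgroup G) [hAn : A.Normal] (hAT : A ≤ pCore p G)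
    (hA3 : ⁅pCore p G, A⁆ ≤ A ⊓ Subgroup.centralizer (A : Set G))
    (hA4 : pCore p G ⊓ Subgroup.centralizer (A : Set G) = A ⊓ Subgroup.centralizer (A : Set G))
    (g : G)
    (h1 : iterCommutator A (Subgroup.zpowers g) 3 ≤ A ⊓ Subgroup.centralizer (A : Set G))
    (h2 : ⁅⁅A ⊓ Subgroup.centralizer (A : Set G), Subgroup.zpowers g⁆, Subgroup.zpowers g⁆ = ⊥) :
    (∀ U V : Subgroup G, IsChiefFactor U V → U ≤ pCore p G →
        iterCommutator U (Subgroup.zpowers g) 4 ≤ V) ∧
      ⁅⁅pCore p G ⊓ Subgroup.centralizer ((pCore p G : Subgroup G) : Set G), Subgroup.zpowers g⁆,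
        Subgroup.zpowers g⁆ = ⊥ := by
  constructor
  · set Γ := Subgroup.zpowers g with hΓ
    set Z := A ⊓ Subgroup.centralizer (A : Set G) with hZ
    have hZn : Z.Normal := by rw [hZ]; infer_instance
    have hPn : (pCore p G).Normal := H1.pCore_normal p G
    have hZ2 : iterCommutator Z Γ 2 = ⊥ := h2
    have hcw : CW Γ 3 A ⊥ := by
      have c1 : CW Γ 3 A Z := cw_of_engel h1
      have c2 : CW Γ 3 Z ⊥ := by
        apply cw_of_engel
        rw [iterCommutator_eq_bot_add' Z Γ 2 1 hZ2]
      exact cw_trans c1 c2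
    have hQi : ∀ U V : Subgroup G, IsChiefFactor U V → U ≤ A → iterCommutator U Γ 3 ≤ V := by
      intro U V hUV hUA
      exact hcw U V hUV hUA (by rw [bot_inf_eq]; exact bot_le)
    have hZj : ∀ U V : Subgroup G, IsChiefFactor U V → U ≤ A ⊓ Subgroup.centralizer (A : Set G) →
        iterCommutator U Γ 2 ≤ V := by
      intro U V _ hUZ
      have := iterCommutator_mono_left hUZ Γ 2
      rw [← hZ, hZ2] at this
      exact this.trans bot_le
    have := engel_chief_degree (pCore p G) (H1.pCore_isPGroup p G) A Γ 3 2 (by norm_num) hQi hZj hAT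
      (by norm_num) hA3 (le_of_eq hA4)
    exact this
  · rw [eq_bot_iff, ← h2]
    have := center_pCore_le_of_critical A hAT hA4
    exact Subgroup.commutator_mono (Subgroup.commutator_mono this le_rfl) le_rfl

end Cfsg.Agent.Lib.H10
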