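import Mathlib
import Cfsg.Prelude.Def_Transfer
import Cfsg.Agent.Lib.H14.PIrrQuot
import Cfsg.Agent.Lib.H14.PIrr
import Cfsg.Agent.Lib.H14.Subnormal
import Cfsg.Agent.Lib.L0.FrobeniusPC
import Cfsg.Agent.Lib.L0.TransferPC
import Cfsg.Agent.Lib.H10.PResidual

/-! Normal `p`-complements of subgroups, in extrinsic form (helper10).

`Npc p X` says that the subgroup generated by the `p'`-elements of `X` has order prime to `p`;
for finite groups this says that `X` has a normal `p`-complement. -/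

set_option autoImplicit false

namespace Cfsg.Agent.Lib.H10

open Cfsg

universe u

variable {H : Type u} [Group H] {H' : Type u} [Group H']

/-- the subgroup `X` has a normal `p`-complement -/
def Npc (p : ℕ) (X : Subgroup H) : Prop := ¬ p ∣ Nat.card (H14.presOf p X)

theorem hasNPC_iff_pResidual [Finite H] {p : ℕ} [hp : Fact p.Prime] :
    Cfsg.HasNormalPComplement p H ↔ ¬ p ∣ Nat.card (Cfsg.pResidual p H) := by
  constructor
  · intro h
    obtain ⟨N, hN, hpN, k, hk⟩ := L0.HasNormalPComplement.exists_normal h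
    have hle : Cfsg.pResidual p H ≤ N := by
      unfold Cfsg.pResidual
      rw [Subgroup.closure_le]
      intro g hg
      exact L0.mem_of_coprime_orderOf_of_index_pow N k hk g hg
    intro hdvd
    exact hpN (hdvd.trans (Subgroup.card_dvd_of_le hle))
  · intro h
    have := pResidual_normal p H
    apply L0.hasNormalPComplement_of_normal (Cfsg.pResidual p H) h
    have hq := pResidual_quotient_isPGroup p H
    obtain ⟨k, hk⟩ := IsPGroup.iff_card.mp hq
    exact ⟨k, by rw [Subgroup.index_eq_card, hk]⟩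

theorem hasNPC_iff_npc_top [Finite H] {p : ℕ} [hp : Fact p.Prime] :
    Cfsg.HasNormalPComplement p H ↔ Npc p (⊤ : Subgroup H) := by
  rw [hasNPC_iff_pResidual, Npc, H14.pResidual_eq_presOf_top]

theorem hasNPC_subgroup_iff [Finite H] {p : ℕ} [hp : Fact p.Prime] (X : Subgroup H) :
    Cfsg.HasNormalPComplement p ↥X ↔ Npc p X := by
  rw [hasNPC_iff_pResidual, Npc, ← H14.pResidual_map_eq,
    Subgroup.card_map_of_injective X.subtype_injective]

theorem Npc.mono {p : ℕ} {X Y : Subgroup H} (h : X ≤ Y) (hY : Npc p Y) : Npc p X := by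
  intro hdvd
  exact hY (hdvd.trans (Subgroup.card_dvd_of_le (H14.presOf_mono p h)))

theorem presOf_map_le (p : ℕ) (f : H →* H') (X : Subgroup H) :
    (H14.presOf p X).map f ≤ H14.presOf p (X.map f) := by
  unfold H14.presOf
  rw [MonoidHom.map_closure, Subgroup.closure_le]
  rintro _ ⟨x, ⟨hx, hxo⟩, rfl⟩
  apply Subgroup.subset_closure
  exact ⟨⟨x, hx, rfl⟩, Nat.Coprime.coprime_dvd_left (orderOf_map_dvd f x) hxo⟩

theorem presOf_map_eq [Finite H] (p : ℕ) [hp : Fact p.Prime] (f : H →* H') (X : Subgroup H) :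
    (H14.presOf p X).map f = H14.presOf p (X.map f) := by
  apply le_antisymm (presOf_map_le p f X)
  conv_lhs => unfold H14.presOf
  rw [Subgroup.closure_le]
  rintro _ ⟨⟨x, hx, rfl⟩, hyo⟩
  obtain ⟨k, hk⟩ := H14.exists_pow_mem_presOf p X x hx
  apply H14.mem_of_pow_mem_of_coprime p _ _ hyo k
  rw [← map_pow]
  exact Subgroup.mem_map_of_mem f hk

theorem Npc.map [Finite H] {p : ℕ} [hp : Fact p.Prime] (f : H →* H') {X : Subgroup H}
    (hX : Npc p X) : Npc p (X.map f) := by
  intro hdvd
  rw [← presOf_map_eq] at hdvd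
  exact hX (hdvd.trans (Subgroup.card_map_dvd _ f))

theorem npc_map_iff_of_injective [Finite H] {p : ℕ} [hp : Fact p.Prime] (f : H →* H')
    (hf : Function.Injective f) (X : Subgroup H) : Npc p (X.map f) ↔ Npc p X := by
  unfold Npc
  rw [← presOf_map_eq, Subgroup.card_map_of_injective hf]

theorem presOf_map_conj (p : ℕ) (g : H) (X : Subgroup H) :
    H14.presOf p (X.map (MulAut.conj g).toMonoidHom) =
      (H14.presOf p X).map (MulAut.conj g).toMonoidHom := by
  apply le_antisymm
  · conv_lhs => unfold H14.presOf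
    rw [Subgroup.closure_le]
    rintro _ ⟨⟨x, hx, rfl⟩, hyo⟩
    refine ⟨x, Subgroup.subset_closure ⟨hx, ?_⟩, rfl⟩
    have := orderOf_injective (MulAut.conj g).toMonoidHom (MulAut.conj g).injective x
    rwa [this] at hyo
  · exact presOf_map_le p _ X

theorem npc_map_conj_iff {p : ℕ} (g : H) (X : Subgroup H) :
    Npc p (X.map (MulAut.conj g).toMonoidHom) ↔ Npc p X := by
  unfold Npc
  rw [presOf_map_conj, Subgroup.card_map_of_injective (MulAut.conj g).injective]

/-- in a subgroup with a normal `p`-complement, `p'`-elements centralize normal `p`-subgroups -/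
theorem Npc.mem_centralizer [Finite H] {p : ℕ} [hp : Fact p.Prime] {X Q : Subgroup H}
    (hX : Npc p X) (hQ : IsPGroup p Q) (hXQ : X ≤ Subgroup.normalizer (Q : Set H)) (hQX : Q ≤ X)
    {g : H} (hg : g ∈ X) (hgo : (orderOf g).Coprime p) : g ∈ Subgroup.centralizer (Q : Set H) := by
  set D := H14.presOf p X with hD
  have hgD : g ∈ D := Subgroup.subset_closure ⟨hg, hgo⟩
  have hdisj : D ⊓ Q = ⊥ := by
    obtain ⟨k, hk⟩ := IsPGroup.iff_card.mp hQ
    rw [← disjoint_iff]
    apply Subgroup.disjoint_of_coprime_natCard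
    rw [hk]
    exact ((Nat.Prime.coprime_iff_not_dvd hp.out).2 hX).symm.pow_right k
  rw [Subgroup.mem_centralizer_iff]
  intro q hq
  have h1 : g * q * g⁻¹ * q⁻¹ ∈ Q :=
    Q.mul_mem ((Subgroup.mem_normalizer_iff.1 (hXQ hg) q).1 hq) (Q.inv_mem hq)
  have h2 : g * q * g⁻¹ * q⁻¹ ∈ D := by
    have : g * q * g⁻¹ * q⁻¹ = g * (q * g⁻¹ * q⁻¹) := by group
    rw [this]
    exact D.mul_mem hgD (H14.presOf_conj_mem p X q (Subgroup.le_normalizer (hQX hq)) _ (D.inv_mem hgD))
  have h3 : g * q * g⁻¹ * q⁻¹ ∈ D ⊓ Q := Subgroup.mem_inf.2 ⟨h2, h1⟩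
  rw [hdisj, Subgroup.mem_bot] at h3
  have : g * q = (g * q * g⁻¹ * q⁻¹) * (q * g) := by group
  rw [this, h3, one_mul]

/-- Frobenius: a finite group without normal `p`-complement has a nontrivial `p`-subgroup whose
normalizer has no normal `p`-complement. -/
theorem exists_not_npc_normalizer [Finite H] {p : ℕ} [hp : Fact p.Prime]
    (h : ¬ Npc p (⊤ : Subgroup H)) :
    ∃ U : Subgroup H, IsPGroup p U ∧ U ≠ ⊥ ∧ ¬ Npc p (Subgroup.normalizer (U : Set H)) := by
  have h1 : ¬ L0.FrobHyp p H := by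
    intro hF
    exact h (hasNPC_iff_npc_top.1 (L0.hasNormalPComplement_of_frobHyp hF))
  unfold L0.FrobHyp at h1
  push Not at h1
  obtain ⟨Q, hQ, g, hgN, hgo, hgC⟩ := h1
  refine ⟨Q, hQ, ?_, ?_⟩
  · intro hbot
    apply hgC
    rw [hbot, Subgroup.mem_centralizer_iff]
    intro q hq
    have : q = 1 := by simpa using hq
    rw [this]; simp
  · intro hnpc
    exact hgC (hnpc.mem_centralizer hQ le_rfl Subgroup.le_normalizer hgN hgo)

/-- a normal `p`-complement lifts from the quotient by a normal `p'`-subgroup -/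
theorem npc_top_of_quotient_coprime [Finite H] {p : ℕ} [hp : Fact p.Prime] (D : Subgroup H)
    [D.Normal] (hD : (Nat.card D).Coprime p) (h : Npc p (⊤ : Subgroup (H ⧸ D))) :
    Npc p (⊤ : Subgroup H) := by
  intro hdvd
  set R := H14.presOf p (⊤ : Subgroup H) with hR
  obtain ⟨x, hx⟩ := exists_prime_orderOf_dvd_card' (G := R) p hdvd
  have hxo : orderOf (x : H) = p := by rw [Subgroup.orderOf_coe]; exact hx
  have himg : QuotientGroup.mk' D (x : H) ∈ H14.presOf p (⊤ : Subgroup (H ⧸ D)) := by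
    have h1 := presOf_map_le p (QuotientGroup.mk' D) (⊤ : Subgroup H)
    have h2 : (⊤ : Subgroup H).map (QuotientGroup.mk' D) = ⊤ :=
      Subgroup.map_top_of_surjective _ (QuotientGroup.mk'_surjective D)
    rw [h2] at h1
    exact h1 ⟨x, x.2, rfl⟩
  have hdvd2 : orderOf (QuotientGroup.mk' D (x : H)) ∣ p := by
    rw [← hxo]; exact orderOf_map_dvd _ _
  rcases (Nat.dvd_prime hp.out).1 hdvd2 with h1 | h1
  · rw [orderOf_eq_one_iff, ← MonoidHom.mem_ker, QuotientGroup.ker_mk'] at h1
    have : p ∣ Nat.card D := by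
      rw [← hxo]
      exact Subgroup.orderOf_dvd_natCard D h1
    have h2 := Nat.Coprime.eq_one_of_dvd hD.symm this
    exact hp.out.one_lt.ne' h2
  · apply h
    have := Subgroup.orderOf_dvd_natCard _ himg
    rwa [h1] at this

/-- a subgroup all of whose elements have `p`-power order has a normal `p`-complement -/
theorem npc_of_isPGroup {p : ℕ} [hp : Fact p.Prime] {X : Subgroup H} (hX : IsPGroup p X) :
    Npc p X := by
  have : H14.presOf p X = ⊥ := by
    unfold H14.presOf
    rw [Subgroup.closure_eq_bot_iff]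
    rintro x ⟨hx, hxo⟩
    obtain ⟨k, hk⟩ := hX ⟨x, hx⟩
    have h1 : x ^ p ^ k = 1 := by simpa using congrArg Subtype.val hk
    have h2 : orderOf x ∣ p ^ k := orderOf_dvd_of_pow_eq_one h1
    have h3 := Nat.Coprime.eq_one_of_dvd (hxo.pow_right k) h2
    exact orderOf_eq_one_iff.1 h3
  unfold Npc
  rw [this, Subgroup.card_bot]
  exact hp.out.not_dvd_one

/-- a subgroup with trivial `O^p` is a `p`-group -/
theorem isPGroup_of_presOf_eq_bot [Finite H] {p : ℕ} [hp : Fact p.Prime] {X : Subgroup H}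
    (h : H14.presOf p X = ⊥) : IsPGroup p X := by
  intro x
  obtain ⟨k, hk⟩ := H14.exists_pow_mem_presOf p X (x : H) x.2
  rw [h, Subgroup.mem_bot] at hk
  exact ⟨k, Subtype.ext (by simpa using hk)⟩

end Cfsg.Agent.Lib.H10
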