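import Mathlib
import Cfsg.Prelude.Def_OddOrderLocal

/-! p-group lemmas: normal subgroups meet the centre; existence of self-centralizing normal subgroups (helper10). -/

set_option autoImplicit false

namespace Cfsg.Agent.Lib.H10

/-- A nontrivial normal subgroup of a finite `p`-group meets the centre nontrivially. -/
theorem exists_ne_one_mem_center_of_normal {P : Type*} [Group P] [Finite P] {p : ℕ} [Fact p.Prime]
    (hP : IsPGroup p P) (N : Subgroup P) [N.Normal] (hN : N ≠ ⊥) :
    ∃ x ∈ N, x ≠ 1 ∧ x ∈ Subgroup.center P := by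
  have hPc : IsPGroup p (ConjAct P) := hP.of_equiv ConjAct.toConjAct
  have hNp : IsPGroup p N := hP.to_subgroup N
  have hnt : Nontrivial N := (Subgroup.nontrivial_iff_ne_bot N).mpr hN
  have dvd : p ∣ Nat.card N := by
    obtain ⟨n, hn0, hn⟩ := hNp.nontrivial_iff_card.mp hnt
    exact hn.symm ▸ dvd_pow_self _ (ne_of_gt hn0)
  have h1 : (1 : N) ∈ MulAction.fixedPoints (ConjAct P) N := by
    intro g
    exact smul_one g
  obtain ⟨b, hb, hb1⟩ := hPc.exists_fixed_point_of_prime_dvd_card_of_fixed_point N dvd h1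
  refine ⟨b, b.2, fun h => hb1 (Subtype.ext h.symm), ?_⟩
  rw [Subgroup.mem_center_iff]
  intro g
  have := hb (ConjAct.toConjAct g)
  have h2 := congrArg Subtype.val this
  rw [ConjAct.Subgroup.val_conj_smul] at h2
  rw [ConjAct.smul_def, ConjAct.ofConjAct_toConjAct] at h2
  calc g * (b : P) = g * b * g⁻¹ * g := by group
    _ = b * g := by rw [h2]

/-- In a finite `p`-group `P`, given normal subgroups `B ≤ A` with `B` abelian, there is a normal subgroup `C`
of `P` with `B ≤ C ≤ A` and `C_A(C) = C`. -/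
theorem exists_scn {P : Type*} [Group P] [Finite P] {p : ℕ} [Fact p.Prime] (hP : IsPGroup p P)
    (A : Subgroup P) [hAn : A.Normal] (B : Subgroup P) [hBn : B.Normal] (hBA : B ≤ A)
    (hB : IsMulCommutative B) :
    ∃ C : Subgroup P, C.Normal ∧ B ≤ C ∧ Cfsg.IsSCN A C := by
  obtain ⟨C, hBC, hCmax⟩ := Finite.exists_le_maximal
    (p := fun C : Subgroup P => C.Normal ∧ B ≤ C ∧ C ≤ A ∧ IsMulCommutative C) (a := B)
    ⟨hBn, le_rfl, hBA, hB⟩
  obtain ⟨⟨hCn, hBC', hCA, hCc⟩, hmax⟩ := hCmax
  have hCcent : C ≤ Subgroup.centralizer (C : Set P) :=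
    Subgroup.le_centralizer_iff_isMulCommutative.mpr hCc
  refine ⟨C, hCn, hBC, hCA, ?_, ?_⟩
  · intro x _
    rw [Subgroup.mem_normalizer_iff]
    intro h
    exact ⟨fun hh => hCn.conj_mem h hh x, fun hh => by
      have := hCn.conj_mem _ hh x⁻¹
      simpa [mul_assoc] using this⟩
  · apply le_antisymm _ (le_inf hCA hCcent)
    by_contra hcon
    set D : Subgroup P := A ⊓ Subgroup.centralizer (C : Set P) with hD
    have hDn : D.Normal := by
      haveI : (Subgroup.centralizer (C : Set P)).Normal := Subgroup.normal_centralizer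
      exact Subgroup.normal_inf_normal A (Subgroup.centralizer (C : Set P))
    -- an element of D outside C
    obtain ⟨d, hdD, hdC⟩ := SetLike.not_le_iff_exists.mp hcon
    let N' : Subgroup (P ⧸ C) := D.map (QuotientGroup.mk' C)
    haveI hN'n : N'.Normal := Subgroup.Normal.map hDn _ (QuotientGroup.mk'_surjective C)
    have hN' : N' ≠ ⊥ := by
      intro h
      have : QuotientGroup.mk' C d ∈ N' := Subgroup.mem_map_of_mem _ hdD
      rw [h, Subgroup.mem_bot, QuotientGroup.mk'_apply, QuotientGroup.eq_one_iff] at this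
      exact hdC this
    have hPq : IsPGroup p (P ⧸ C) := hP.to_quotient C
    obtain ⟨xb, hxbN, hxb1, hxbZ⟩ := exists_ne_one_mem_center_of_normal hPq N' hN'
    obtain ⟨x, hxD, rfl⟩ := Subgroup.mem_map.mp hxbN
    have hxC : x ∉ C := by
      intro h
      apply hxb1
      rw [QuotientGroup.mk'_apply, QuotientGroup.eq_one_iff]; exact h
    have hxA : x ∈ A := (Subgroup.mem_inf.mp hxD).1
    have hxcent : x ∈ Subgroup.centralizer (C : Set P) := (Subgroup.mem_inf.mp hxD).2
    -- the new subgroup
    let Z : Subgroup (P ⧸ C) := Subgroup.zpowers (QuotientGroup.mk' C x)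
    have hZn : Z.Normal := by
      constructor
      intro n hn g
      have : g * n * g⁻¹ = n := by
        obtain ⟨k, rfl⟩ := Subgroup.mem_zpowers_iff.mp hn
        have hc : Commute g (QuotientGroup.mk' C x) := Subgroup.mem_center_iff.mp hxbZ g
        have hc' : Commute g ((QuotientGroup.mk' C x) ^ k) := hc.zpow_right k
        rw [hc'.eq]; group
      rw [this]; exact hn
    let C' : Subgroup P := Z.comap (QuotientGroup.mk' C)
    have hC'n : C'.Normal := Subgroup.Normal.comap hZn _
    have hCC' : C ≤ C' := by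
      intro c hc
      show QuotientGroup.mk' C c ∈ Z
      have : QuotientGroup.mk' C c = 1 := by
        rw [QuotientGroup.mk'_apply, QuotientGroup.eq_one_iff]; exact hc
      rw [this]; exact Z.one_mem
    have hxC' : x ∈ C' := by
      show QuotientGroup.mk' C x ∈ Z
      exact Subgroup.mem_zpowers _
    -- decomposition of elements of C'
    have hdecomp : ∀ y ∈ C', ∃ c ∈ C, ∃ k : ℤ, y = c * x ^ k := by
      intro y hy
      obtain ⟨k, hk⟩ := Subgroup.mem_zpowers_iff.mp (show QuotientGroup.mk' C y ∈ Z from hy)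
      refine ⟨y * (x ^ k)⁻¹, ?_, k, by group⟩
      rw [← QuotientGroup.eq_one_iff, QuotientGroup.mk_mul, QuotientGroup.mk_inv, QuotientGroup.mk_zpow]
      rw [QuotientGroup.mk'_apply] at hk
      rw [hk, QuotientGroup.mk'_apply, mul_inv_cancel]
    have hC'A : C' ≤ A := by
      intro y hy
      obtain ⟨c, hc, k, rfl⟩ := hdecomp y hy
      exact A.mul_mem (hCA hc) (A.zpow_mem hxA k)
    have hxc : ∀ c ∈ C, Commute c x := by
      intro c hc
      exact (Subgroup.mem_centralizer_iff.mp hxcent c hc)
    have hC'c : IsMulCommutative C' := by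
      refine ⟨⟨fun a b => ?_⟩⟩
      obtain ⟨c1, hc1, k1, h1⟩ := hdecomp a a.2
      obtain ⟨c2, hc2, k2, h2⟩ := hdecomp b b.2
      apply Subtype.ext
      show (a : P) * b = b * a
      rw [h1, h2]
      have e1 : Commute c1 c2 := by
        have := hCc.is_comm.comm (⟨c1, hc1⟩ : C) ⟨c2, hc2⟩
        exact congrArg Subtype.val this
      have e2 : Commute c1 (x ^ k2) := (hxc c1 hc1).zpow_right k2
      have e3 : Commute (x ^ k1) c2 := ((hxc c2 hc2).zpow_right k1).symm
      have e4 : Commute (x ^ k1) (x ^ k2) := (Commute.refl x).zpow_zpow k1 k2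
      exact ((e1.mul_right e2).mul_left (e3.mul_right e4)).eq
    have := hmax (y := C') ⟨hC'n, le_trans hBC hCC', hC'A, hC'c⟩ hCC'
    exact hxC (this hxC')

end Cfsg.Agent.Lib.H10
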