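import Mathlib
import Cfsg.Prelude.Def_Local
import Cfsg.Agent.Lib.H1.PCore
import Cfsg.Agent.Lib.H22.PPrimeCore
import Cfsg.Agent.Lib.H10.CentralSylow
import Cfsg.Agent.Lib.H10.PResidual

set_option autoImplicit false
open Cfsg

namespace Cfsg.Agent.Lib.H10

variable {G : Type*} [Group G]

/-- `O^p(M)`, viewed in `G`, is normal in `G` when `M` is. -/
theorem pResidual_map_subtype_normal (p : ℕ) (M : Subgroup G) [hM : M.Normal] :
    ((Cfsg.pResidual p ↥M).map M.subtype).Normal := by
  unfold Cfsg.pResidual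
  rw [MonoidHom.map_closure]
  apply Subgroup.Normal.mk
  intro n hn g
  induction hn using Subgroup.closure_induction with
  | mem x hx =>
    obtain ⟨m, hm, rfl⟩ := hx
    apply Subgroup.subset_closure
    refine ⟨⟨g * m * g⁻¹, hM.conj_mem m m.2 g⟩, ?_, rfl⟩
    have h1 : orderOf (⟨g * m * g⁻¹, hM.conj_mem m m.2 g⟩ : M) = orderOf (m : M) := by
      rw [← Subgroup.orderOf_coe, ← Subgroup.orderOf_coe]
      exact (MulAut.conj g).orderOf_eq (m : G)
    change Nat.Coprime (orderOf _) p
    rw [h1]; exact hm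
  | one => simp
  | mul a b _ _ iha ihb =>
    have : g * (a * b) * g⁻¹ = (g * a * g⁻¹) * (g * b * g⁻¹) := by group
    rw [this]; exact Subgroup.mul_mem _ iha ihb
  | inv a _ iha =>
    have : g * a⁻¹ * g⁻¹ = (g * a * g⁻¹)⁻¹ := by group
    rw [this]; exact Subgroup.inv_mem _ iha

variable [Finite G]

/-- A normal subgroup `M` with a central (in `M`) `p`-subgroup `Z` of index prime to `p` is a
`p`-group, provided `O_{p'}(G) = 1`. -/
theorem isPGroup_of_central_of_pPrimeCore_eq_bot (p : ℕ) [hp : Fact p.Prime]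
    (hO : Cfsg.pPrimeCore p G = ⊥) (M Z : Subgroup G) [hM : M.Normal] (_hZM : Z ≤ M)
    (hZ : IsPGroup p Z) (hZc : M ≤ Subgroup.centralizer (Z : Set G))
    (hZi : (Z.relIndex M).Coprime p) : IsPGroup p M := by
  have h1 : ¬ p ∣ Nat.card (Cfsg.pResidual p ↥M) := by
    apply not_dvd_card_pResidual_of_central_sylow p (Z.subgroupOf M)
    · intro z hz
      rw [Subgroup.mem_center_iff]
      intro m
      apply Subtype.ext
      have := Subgroup.mem_centralizer_iff.1 (hZc m.2) z (Subgroup.mem_subgroupOf.1 hz)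
      exact this.symm
    · exact hZ.comap_of_injective M.subtype (Subgroup.subtype_injective M)
    · intro hd
      have : (Z.subgroupOf M).index = Z.relIndex M := rfl
      rw [this] at hd
      exact (Nat.Prime.coprime_iff_not_dvd hp.out).1 hZi.symm hd
  have hKn := pResidual_map_subtype_normal p M
  have hKc : (Nat.card ((Cfsg.pResidual p ↥M).map M.subtype)).Coprime p := by
    rw [← Nat.card_congr ((Cfsg.pResidual p ↥M).equivMapOfInjective M.subtype
      (Subgroup.subtype_injective M)).toEquiv]
    exact ((Nat.Prime.coprime_iff_not_dvd hp.out).2 h1).symm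
  have hK := Cfsg.Agent.Lib.H22.le_pPrimeCore p _ hKn hKc
  rw [hO, le_bot_iff, Subgroup.map_eq_bot_iff_of_injective _ (Subgroup.subtype_injective M)] at hK
  intro m
  obtain ⟨k, hk⟩ := exists_pow_mem_pResidual p m
  refine ⟨k, ?_⟩
  rw [hK, Subgroup.mem_bot] at hk
  exact hk

/-- **Hall–Higman Lemma 1.2.3** for `p`-solvable groups: if `O_{p'}(G) = 1` then
`C_G(O_p(G)) ≤ O_p(G)`. -/
theorem centralizer_pCore_le_of_isPSolvable (p : ℕ) [hp : Fact p.Prime]
    (hG : Cfsg.IsPSolvable p G) (hO : Cfsg.pPrimeCore p G = ⊥) :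
    Subgroup.centralizer (Cfsg.pCore p G : Set G) ≤ Cfsg.pCore p G := by
  obtain ⟨n, H, h0, hlast, hmono, hnorm, hstep⟩ := hG
  have hPn : (Cfsg.pCore p G).Normal := Cfsg.Agent.Lib.H1.pCore_normal p G
  have hPp : IsPGroup p (Cfsg.pCore p G) := Cfsg.Agent.Lib.H1.pCore_isPGroup p G
  set P := Cfsg.pCore p G with hP
  set C := Subgroup.centralizer (P : Set G) with hC
  have hCn : C.Normal := inferInstance
  have key : ∀ i : ℕ, ∀ hi : i < n + 1, C ⊓ H ⟨i, hi⟩ ≤ P := by
    intro i
    induction i with
    | zero =>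
      intro hi
      have : H ⟨0, hi⟩ = ⊥ := h0
      rw [this, inf_bot_eq]; exact bot_le
    | succ i ih =>
      intro hi
      have hi' : i < n := Nat.lt_of_succ_lt_succ hi
      have ih' := ih (Nat.lt_succ_of_lt hi')
      set j : Fin n := ⟨i, hi'⟩ with hj
      have e1 : (⟨i, Nat.lt_succ_of_lt hi'⟩ : Fin (n + 1)) = j.castSucc := rfl
      have e2 : (⟨i + 1, hi⟩ : Fin (n + 1)) = j.succ := rfl
      rw [e1] at ih'
      rw [e2]
      set H0 := H j.castSucc with hH0
      set H1 := H j.succ with hH1
      have hH0n : H0.Normal := hnorm _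
      have hH1n : H1.Normal := hnorm _
      have hle : H0 ≤ H1 := hmono (Fin.castSucc_lt_succ.le)
      set M := C ⊓ H1 with hMdef
      have hMn : M.Normal := Subgroup.normal_inf_normal C H1
      set Z := C ⊓ H0 with hZdef
      have hZM : Z ≤ M := inf_le_inf_left C hle
      have hZeq : Z = H0 ⊓ M := by
        rw [hZdef, hMdef]
        apply le_antisymm
        · exact le_inf inf_le_right (le_inf inf_le_left (inf_le_right.trans hle))
        · exact le_inf (inf_le_right.trans inf_le_left) inf_le_left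
      have hZp : IsPGroup p Z := hPp.to_le ih'
      -- `|M : Z|` divides `|H1 : H0|`
      have hdvd : Z.relIndex M ∣ H0.relIndex H1 := by
        rw [hZeq, Subgroup.inf_relIndex_right, ← Subgroup.relIndex_sup_right M H0]
        have h2 : M ⊔ H0 ≤ H1 := sup_le inf_le_right hle
        exact Dvd.intro _ (Subgroup.relIndex_mul_relIndex H0 (M ⊔ H0) H1 le_sup_right h2)
      have hcard : Nat.card Z * Z.relIndex M = Nat.card M := by
        have := Subgroup.relIndex_mul_relIndex ⊥ Z M bot_le hZM
        rwa [Subgroup.relIndex_bot_left, Subgroup.relIndex_bot_left] at this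
      have hMp : IsPGroup p M := by
        rcases hstep j with ⟨m, hm⟩ | hcop
        · -- `p`-power step
          rw [← hH0, ← hH1] at hm
          rw [hm] at hdvd
          obtain ⟨k, _, hk⟩ := (Nat.dvd_prime_pow hp.out).1 hdvd
          obtain ⟨l, hl⟩ := IsPGroup.iff_card.1 hZp
          apply IsPGroup.of_card (n := l + k)
          rw [← hcard, hl, hk, pow_add]
        · rw [← hH0, ← hH1] at hcop
          have hZi : (Z.relIndex M).Coprime p := Nat.Coprime.coprime_dvd_left hdvd hcop
          apply isPGroup_of_central_of_pPrimeCore_eq_bot p hO M Z hZM hZp _ hZi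
          intro m hm
          rw [Subgroup.mem_centralizer_iff]
          intro z hz
          have hzP : z ∈ P := ih' hz
          have hmC : m ∈ C := hm.1
          exact Subgroup.mem_centralizer_iff.1 hmC z hzP
      exact Cfsg.Agent.Lib.H1.le_pCore hMn hMp
  have := key n (Nat.lt_succ_self n)
  have e : (⟨n, Nat.lt_succ_self n⟩ : Fin (n + 1)) = Fin.last n := rfl
  rw [e, hlast, inf_top_eq] at this
  exact this

end Cfsg.Agent.Lib.H10
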