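import Mathlib
import Cfsg.Prelude.Def_ConjugacyFunctors
import Cfsg.Agent.Lib.H10.NPC
import Cfsg.Agent.Lib.H10.SecMain
import Cfsg.Agent.Lib.H10.PSolvable
import Cfsg.Agent.Lib.H22.PPrimeCore

/-! Thompson-style reduction for normal `p`-complement theorems in functor form: a minimal
counterexample among the sections is `p`-constrained with `H / O_p(H)` having a normal
`p`-complement and a maximal Sylow `p`-subgroup (helper10). -/

set_option autoImplicit false

namespace Cfsg.Agent.Lib.H10

open Cfsg

universe u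

variable {H : Type u} [Group H]

/-- the family used for the extremal choice -/
def BadFam (p : ℕ) (T : Subgroup H) : Set (Subgroup H) :=
  {U | U ≤ T ∧ U ≠ ⊥ ∧ U ∈ sylNormFamily p T ∧ ¬ Npc p (Subgroup.normalizer (U : Set H))}

/-- every `p`-subgroup of `T` whose normalizer has no normal `p`-complement has a conjugate in
`BadFam` with at least as large a normalizer in `T`. -/
theorem exists_mem_badFam [Finite H] {p : ℕ} [hp : Fact p.Prime] (T : Sylow p H) {V : Subgroup H}
    (hVT : V ≤ (T : Subgroup H)) (hV1 : V ≠ ⊥) (hV : ¬ Npc p (Subgroup.normalizer (V : Set H))) :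
    ∃ V' ∈ BadFam p (T : Subgroup H), Nat.card V' = Nat.card V ∧
      Nat.card ((T : Subgroup H) ⊓ Subgroup.normalizer (V : Set H) : Subgroup H) ≤
        Nat.card ((T : Subgroup H) ⊓ Subgroup.normalizer (V' : Set H) : Subgroup H) := by
  obtain ⟨k, hkT, hkN, hki⟩ := exists_conj_normalizer_sylow T hVT
  refine ⟨V.map (MulAut.conj k).toMonoidHom, ⟨hkT, ?_, ⟨hkT, hki⟩, ?_⟩, card_map_conj _ _, ?_⟩
  · intro h0
    apply hV1
    have : Nat.card (V.map (MulAut.conj k).toMonoidHom) = Nat.card V := card_map_conj _ _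
    rw [h0, Subgroup.card_bot] at this
    exact Subgroup.card_eq_one.1 this.symm
  · rw [normalizer_map_conj, npc_map_conj_iff]
    exact hV
  · rw [← card_map_conj k]
    exact Subgroup.card_le_of_le hkN

theorem isPSolvable_of_quotient_pCore [Finite H] {p : ℕ} [hp : Fact p.Prime]
    (hq : Cfsg.HasNormalPComplement p (H ⧸ Cfsg.pCore p H)) : Cfsg.IsPSolvable p H := by
  set P := Cfsg.pCore p H with hP
  have hPp : IsPGroup p P := H1.pCore_isPGroup p H
  obtain ⟨Nb, hNbn, hNbp, k, hk⟩ := L0.HasNormalPComplement.exists_normal hq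
  set K := Nb.comap (QuotientGroup.mk' P) with hK
  have hKn : K.Normal := hNbn.comap _
  have hPK : P ≤ K := by
    intro x hx
    show QuotientGroup.mk' P x ∈ Nb
    have : QuotientGroup.mk' P x = 1 := by
      rw [← MonoidHom.mem_ker, QuotientGroup.ker_mk']; exact hx
    rw [this]; exact Nb.one_mem
  refine ⟨3, ![⊥, P, K, ⊤], rfl, rfl, ?_, ?_, ?_⟩
  · rw [Fin.monotone_iff_le_succ]
    intro i
    fin_cases i
    · exact bot_le
    · exact hPK
    · exact le_top
  · intro i
    fin_cases i
    · exact Subgroup.normal_bot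
    · exact Cfsg.pCore_normal p H
    · exact hKn
    · exact Subgroup.normal_top
  · intro i
    fin_cases i
    · left
      obtain ⟨m, hm⟩ := IsPGroup.iff_card.mp hPp
      exact ⟨m, by simpa [Subgroup.relIndex_bot_left] using hm⟩
    · right
      have h1 := Subgroup.relIndex_ker (K := K) (QuotientGroup.mk' P)
      rw [QuotientGroup.ker_mk', hK, Subgroup.map_comap_eq_self_of_surjective
        (QuotientGroup.mk'_surjective P)] at h1
      show (P.relIndex K).Coprime p
      rw [← hK] at h1
      rw [h1]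
      exact ((Nat.Prime.coprime_iff_not_dvd hp.out).2 hNbp).symm
    · left
      refine ⟨k, ?_⟩
      show K.relIndex ⊤ = p ^ k
      rw [Subgroup.relIndex_top_right, hK, Subgroup.index_comap_of_surjective _
        (QuotientGroup.mk'_surjective P), hk]

/-- `T ∩ N(U) = T` when `T` normalizes `U` -/
theorem inf_normalizer_eq_of_le {T U : Subgroup H} (h : T ≤ Subgroup.normalizer (U : Set H)) :
    T ⊓ Subgroup.normalizer (U : Set H) = T := inf_eq_left.2 h

theorem mem_sylNormFamily_of_le_normalizer [Finite H] {p : ℕ} [hp : Fact p.Prime] (T : Sylow p H)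
    {U : Subgroup H} (hUT : U ≤ (T : Subgroup H))
    (h : (T : Subgroup H) ≤ Subgroup.normalizer (U : Set H)) :
    U ∈ sylNormFamily p (T : Subgroup H) := by
  refine ⟨hUT, ?_⟩
  rw [inf_normalizer_eq_of_le h]
  exact not_dvd_relIndex_of_sylow_le T h

/-- **Thompson's reduction.** Let `W` be an isomorphism-invariant functor.  Suppose that every
`p`-constrained section `H` of `G₀` with `H / O_p(H)` having a normal `p`-complement, a maximal
Sylow `p`-subgroup `T` and `N_H(W(T))` having a normal `p`-complement has a normal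
`p`-complement.  Then so does every section `H` with `N_H(W(T))` having one. -/
theorem npc_of_sections (G₀ : Type u) [Group G₀] [Finite G₀] {p : ℕ} [hp : Fact p.Prime]
    (W : ∀ (Q : Type u) [Group Q], Subgroup Q) (hW : IsCharPFunctor.{u} p W)
    (hloc : ∀ (H : Type u) [Group H] [Finite H], IsSec G₀ H →
      Subgroup.centralizer ((Cfsg.pCore p H : Subgroup H) : Set H) ≤ Cfsg.pCore p H →
      Cfsg.HasNormalPComplement p (H ⧸ Cfsg.pCore p H) →
      ∀ T : Sylow p H, IsCoatom (T : Subgroup H) →
      Npc p (Subgroup.normalizer ((inducedFunctor W (T : Subgroup H) : Subgroup H) : Set H)) →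
      Npc p (⊤ : Subgroup H)) :
    ∀ (n : ℕ) (H : Type u) [Group H] [Finite H], Nat.card H = n → IsSec G₀ H →
      ∀ T : Sylow p H,
      Npc p (Subgroup.normalizer ((inducedFunctor W (T : Subgroup H) : Subgroup H) : Set H)) →
      Npc p (⊤ : Subgroup H) := by
  intro n
  induction n using Nat.strong_induction_on with
  | _ n ih =>
  intro H _ _ hn hsec T hN
  by_contra hH
  have hWc := isConjugacyFunctor_inducedFunctor (H := H) hW
  -- Step 1: the family is nonempty
  obtain ⟨U₀, hU₀p, hU₀1, hU₀N⟩ := exists_not_npc_normalizer hH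
  obtain ⟨g₀, hg₀⟩ := exists_map_conj_le_sylow T hU₀p
  have hU₁1 : U₀.map (MulAut.conj g₀).toMonoidHom ≠ ⊥ := by
    intro h0
    apply hU₀1
    have : Nat.card (U₀.map (MulAut.conj g₀).toMonoidHom) = Nat.card U₀ := card_map_conj _ _
    rw [h0, Subgroup.card_bot] at this
    exact Subgroup.card_eq_one.1 this.symm
  have hU₁N : ¬ Npc p (Subgroup.normalizer
      ((U₀.map (MulAut.conj g₀).toMonoidHom : Subgroup H) : Set H)) := by
    rw [normalizer_map_conj, npc_map_conj_iff]; exact hU₀N
  obtain ⟨U₂, hU₂, -, -⟩ := exists_mem_badFam T hg₀ hU₁1 hU₁N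
  -- Step 2: extremal choice
  set f : Subgroup H → ℕ := fun U =>
    Nat.card ((T : Subgroup H) ⊓ Subgroup.normalizer (U : Set H) : Subgroup H) * (Nat.card H + 1) +
      Nat.card U with hf
  obtain ⟨U, hU, hUmax⟩ := Set.exists_max_image (BadFam p (T : Subgroup H)) f (Set.toFinite _)
    ⟨U₂, hU₂⟩
  obtain ⟨hUT, hU1, hUfam, hUN⟩ := hU
  have hcardle : ∀ X : Subgroup H, Nat.card X ≤ Nat.card H := fun X => Subgroup.card_le_card_group X
  -- if `V' ∈ BadFam` then `|N_T(V')| ≤ |N_T(U)|`
  have hmax1 : ∀ V' ∈ BadFam p (T : Subgroup H),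
      Nat.card ((T : Subgroup H) ⊓ Subgroup.normalizer (V' : Set H) : Subgroup H) ≤
        Nat.card ((T : Subgroup H) ⊓ Subgroup.normalizer (U : Set H) : Subgroup H) := by
    intro V' hV'
    have h1 := hUmax V' hV'
    simp only [hf] at h1
    by_contra hlt
    push Not at hlt
    have h2 := hcardle U
    have h3 := hcardle V'
    nlinarith
  have hmax2 : ∀ V' ∈ BadFam p (T : Subgroup H),
      Nat.card ((T : Subgroup H) ⊓ Subgroup.normalizer (V' : Set H) : Subgroup H) =
        Nat.card ((T : Subgroup H) ⊓ Subgroup.normalizer (U : Set H) : Subgroup H) →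
      Nat.card V' ≤ Nat.card U := by
    intro V' hV' heq
    have h1 := hUmax V' hV'
    simp only [hf] at h1
    rw [heq] at h1
    omega
  -- Step 3: `U` is normal
  set M := Subgroup.normalizer (U : Set H) with hM
  set T₁ := (T : Subgroup H) ⊓ M with hT₁
  have hT₁p : IsPGroup p T₁ := T.2.to_le inf_le_left
  have hUT₁ : U ≤ T₁ := le_inf hUT Subgroup.le_normalizer
  have hT₁1 : T₁ ≠ ⊥ := fun h0 => hU1 (le_bot_iff.1 (h0 ▸ hUT₁))
  have hMtop : M = ⊤ := by
    by_contra hMne
    set V := inducedFunctor W T₁ with hV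
    have hVT₁ : V ≤ T₁ := (hWc T₁ hT₁p).1
    have hV1 : V ≠ ⊥ := (hWc T₁ hT₁p).2.1 hT₁1
    have hNV : Npc p (Subgroup.normalizer (V : Set H)) := by
      by_cases hcase : T₁ = (T : Subgroup H)
      · rw [hV, hcase]; exact hN
      · have hlt : T₁ < (T : Subgroup H) := lt_of_le_of_ne inf_le_left hcase
        by_contra hbad
        obtain ⟨V', hV', -, hle⟩ := exists_mem_badFam T (hVT₁.trans inf_le_left) hV1 hbad
        have h1 := hmax1 V' hV'
        have h2 : T₁ < (T : Subgroup H) ⊓ Subgroup.normalizer (T₁ : Set H) :=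
          lt_inf_normalizer_of_lt T.2 hlt
        have h3 : (T : Subgroup H) ⊓ Subgroup.normalizer (T₁ : Set H) ≤
            (T : Subgroup H) ⊓ Subgroup.normalizer (V : Set H) :=
          inf_le_inf_left _ (normalizer_le_normalizer_functor hWc hT₁p)
        have h4 := card_lt_card_of_lt (lt_of_lt_of_le h2 h3)
        omega
    -- apply the induction hypothesis to `M`
    have hT₁i : ¬ p ∣ (T₁.subgroupOf M).index := hUfam.2
    have hT₁p' : IsPGroup p (T₁.subgroupOf M) := hT₁p.comap_subtype
    let T₁' : Sylow p M := hT₁p'.toSylow hT₁i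
    have hT₁' : (T₁' : Subgroup M) = T₁.subgroupOf M := hT₁p'.toSylow_coe hT₁i
    have hmap : (T₁' : Subgroup M).map M.subtype = T₁ := by
      rw [hT₁', Subgroup.subgroupOf_map_subtype]
      exact inf_eq_left.2 inf_le_right
    have hNM : Npc p (Subgroup.normalizer
        ((inducedFunctor W (T₁' : Subgroup M) : Subgroup M) : Set M)) := by
      rw [← npc_map_iff_of_injective M.subtype M.subtype_injective]
      refine Npc.mono ?_ hNV
      have h1 := Subgroup.le_normalizer_map (H := inducedFunctor W (T₁' : Subgroup M)) M.subtype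
      rw [inducedFunctor_map_subtype hW M (T₁' : Subgroup M) T₁'.2, hmap] at h1
      exact h1
    have h5 := ih _ (by rw [← hn]; exact card_subgroup_lt_of_ne_top hMne) ↥M rfl
      (hsec.subgroup M) T₁' hNM
    rw [← npc_map_iff_of_injective M.subtype M.subtype_injective, ← MonoidHom.range_eq_map,
      Subgroup.range_subtype] at h5
    exact hUN h5
  have hUn : U.Normal := Subgroup.normalizer_eq_top_iff.1 hMtop
  -- Step 4: `U = O_p(H)`
  set P := Cfsg.pCore p H with hP
  have hPn : P.Normal := H1.pCore_normal p H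
  have hPp : IsPGroup p P := H1.pCore_isPGroup p H
  have hPT : P ≤ (T : Subgroup H) := H1.pCore_le_sylow T
  have hUP : U ≤ P := H1.le_pCore hUn (T.2.to_le hUT)
  have hP1 : P ≠ ⊥ := fun h0 => hU1 (le_bot_iff.1 (h0 ▸ hUP))
  have hNtop : ∀ {K : Subgroup H}, K.Normal → Subgroup.normalizer (K : Set H) = ⊤ :=
    fun hK => Subgroup.normalizer_eq_top_iff.2 hK
  have hT₁T : T₁ = (T : Subgroup H) := by
    rw [hT₁, hMtop, inf_top_eq]
  -- (★)
  have hstar : ∀ K : Subgroup H, P ≤ K → K ≤ (T : Subgroup H) →
      (T : Subgroup H) ≤ Subgroup.normalizer (K : Set H) → Nat.card U < Nat.card K →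
      Npc p (Subgroup.normalizer (K : Set H)) := by
    intro K hPK hKT hTK hlt
    by_contra hbad
    have hK1 : K ≠ ⊥ := fun h0 => hP1 (le_bot_iff.1 (h0 ▸ hPK))
    have hKfam : K ∈ BadFam p (T : Subgroup H) :=
      ⟨hKT, hK1, mem_sylNormFamily_of_le_normalizer T hKT hTK, hbad⟩
    have := hmax2 K hKfam (by rw [inf_normalizer_eq_of_le hTK, hT₁T])
    omega
  have hUeqP : U = P := by
    by_contra hne
    have hlt : U < P := lt_of_le_of_ne hUP hne
    have h1 := hstar P le_rfl hPT (by rw [hNtop hPn]; exact le_top) (card_lt_card_of_lt hlt)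
    rw [hNtop hPn] at h1
    exact hH h1
  -- `T` is not contained in `P`
  have hTP : ¬ (T : Subgroup H) ≤ P := by
    intro hle
    have hTeq : (T : Subgroup H) = P := le_antisymm hle hPT
    have h1 : Subgroup.normalizer ((T : Subgroup H) : Set H) ≤
        Subgroup.normalizer ((inducedFunctor W (T : Subgroup H) : Subgroup H) : Set H) :=
      normalizer_le_normalizer_functor hWc T.2
    have h2 : Subgroup.normalizer ((T : Subgroup H) : Set H) = ⊤ := by
      rw [hTeq]; exact hNtop hPn
    rw [h2, top_le_iff] at h1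
    rw [h1] at hN
    exact hH hN
  -- Step 5: `H / P` has a normal `p`-complement
  have hquot : Cfsg.HasNormalPComplement p (H ⧸ P) := by
    rw [hasNPC_iff_npc_top]
    have hSb := sylow_map_mk T P
    let Tb : Sylow p (H ⧸ P) := hSb.1.toSylow hSb.2
    have hTb : (Tb : Subgroup (H ⧸ P)) = (T : Subgroup H).map (QuotientGroup.mk' P) :=
      hSb.1.toSylow_coe hSb.2
    have hWcb := isConjugacyFunctor_inducedFunctor (H := H ⧸ P) hW
    apply ih _ (by rw [← hn]; exact card_quotient_lt_of_ne_bot hP1) (H ⧸ P) rfl (hsec.quotient P) Tb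
    set Vb := inducedFunctor W (Tb : Subgroup (H ⧸ P)) with hVb
    have hVbT : Vb ≤ (Tb : Subgroup (H ⧸ P)) := (hWcb _ Tb.2).1
    have hTb1 : (Tb : Subgroup (H ⧸ P)) ≠ ⊥ := by
      rw [hTb]
      intro h0
      apply hTP
      rw [← QuotientGroup.ker_mk' P]
      exact (Subgroup.map_eq_bot_iff _).1 h0
    have hVb1 : Vb ≠ ⊥ := (hWcb _ Tb.2).2.1 hTb1
    set K := Vb.comap (QuotientGroup.mk' P) with hK
    have hPK : P ≤ K := by
      intro x hx
      show QuotientGroup.mk' P x ∈ Vb
      have : QuotientGroup.mk' P x = 1 := by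
        rw [← MonoidHom.mem_ker, QuotientGroup.ker_mk']; exact hx
      rw [this]; exact Vb.one_mem
    have hKT : K ≤ (T : Subgroup H) := by
      intro x hx
      have h1 : QuotientGroup.mk' P x ∈ (T : Subgroup H).map (QuotientGroup.mk' P) := by
        rw [← hTb]; exact hVbT hx
      have h2 : x ∈ ((T : Subgroup H).map (QuotientGroup.mk' P)).comap (QuotientGroup.mk' P) := h1
      rw [Subgroup.comap_map_eq, QuotientGroup.ker_mk', sup_eq_left.2 hPT] at h2
      exact h2
    have hcomapN : (Subgroup.normalizer (Vb : Set (H ⧸ P))).comap (QuotientGroup.mk' P) =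
        Subgroup.normalizer (K : Set H) :=
      Subgroup.comap_normalizer_eq_of_surjective _ (QuotientGroup.mk'_surjective P)
    have hTK : (T : Subgroup H) ≤ Subgroup.normalizer (K : Set H) := by
      rw [← hcomapN]
      intro t ht
      have h1 : (Tb : Subgroup (H ⧸ P)) ≤ Subgroup.normalizer (Vb : Set (H ⧸ P)) :=
        Subgroup.le_normalizer.trans (normalizer_le_normalizer_functor hWcb Tb.2)
      apply h1
      rw [hTb]
      exact ⟨t, ht, rfl⟩
    have hlt : Nat.card U < Nat.card K := by
      rw [hUeqP]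
      apply card_lt_card_of_lt
      refine lt_of_le_of_ne hPK ?_
      intro heq
      apply hVb1
      have h1 : K.map (QuotientGroup.mk' P) = Vb :=
        Subgroup.map_comap_eq_self_of_surjective (QuotientGroup.mk'_surjective P) Vb
      have h2 : K.map (QuotientGroup.mk' P) = ⊥ := by
        rw [← heq]
        exact (Subgroup.map_eq_bot_iff _).2 (le_of_eq (QuotientGroup.ker_mk' P).symm)
      rw [← h1, h2]
    have h1 := hstar K hPK hKT hTK hlt
    have h2 := h1.map (QuotientGroup.mk' P)
    have h3 : (Subgroup.normalizer (K : Set H)).map (QuotientGroup.mk' P) =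
        Subgroup.normalizer (Vb : Set (H ⧸ P)) := by
      rw [← hcomapN]
      exact Subgroup.map_comap_eq_self_of_surjective (QuotientGroup.mk'_surjective P) _
    rw [h3] at h2
    exact h2
  -- Step 6: `O_{p'}(H) = 1`
  have hD : Cfsg.pPrimeCore p H = ⊥ := by
    by_contra hDne
    set D := Cfsg.pPrimeCore p H with hDdef
    haveI hDn : D.Normal := H22.pPrimeCore_normal p
    have hDc : (Nat.card D).Coprime p := H22.card_pPrimeCore_coprime p
    have hSb := sylow_map_mk T D
    let Tb : Sylow p (H ⧸ D) := hSb.1.toSylow hSb.2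
    have hTb : (Tb : Subgroup (H ⧸ D)) = (T : Subgroup H).map (QuotientGroup.mk' D) :=
      hSb.1.toSylow_coe hSb.2
    have hmapV : (inducedFunctor W (T : Subgroup H)).map (QuotientGroup.mk' D) =
        inducedFunctor W (Tb : Subgroup (H ⧸ D)) := by
      rw [hTb]
      exact inducedFunctor_map_injOn hW _ _ T.2 (injOn_mk_of_coprime D hDc T.2)
    have hVp : IsPGroup p (inducedFunctor W (T : Subgroup H)) := T.2.to_le (hWc _ T.2).1
    have hle : Subgroup.normalizer ((inducedFunctor W (Tb : Subgroup (H ⧸ D)) : Subgroup (H ⧸ D)) :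
        Set (H ⧸ D)) ≤ (Subgroup.normalizer
          ((inducedFunctor W (T : Subgroup H) : Subgroup H) : Set H)).map (QuotientGroup.mk' D) := by
      intro eb heb
      rw [← hmapV] at heb
      obtain ⟨e, he, rfl⟩ := exists_lift_mem_normalizer D hDc hVp heb
      exact ⟨e, he, rfl⟩
    have h1 := ih _ (by rw [← hn]; exact card_quotient_lt_of_ne_bot hDne) (H ⧸ D) rfl
      (hsec.quotient D) Tb (Npc.mono hle (hN.map _))
    exact hH (npc_top_of_quotient_coprime D hDc h1)
  -- Step 7: `H` is `p`-constrained
  have hcon : Subgroup.centralizer ((Cfsg.pCore p H : Subgroup H) : Set H) ≤ Cfsg.pCore p H :=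
    centralizer_pCore_le_of_isPSolvable p (isPSolvable_of_quotient_pCore hquot) hD
  -- Step 8: `T` is a maximal subgroup
  have hcoatom : IsCoatom (T : Subgroup H) := by
    constructor
    · intro htop
      apply hTP
      have hTn : (T : Subgroup H).Normal := by rw [htop]; infer_instance
      exact H1.le_pCore hTn T.2
    · intro M₁ hTM
      by_contra hMne
      have hTM' : (T : Subgroup H) ≤ M₁ := hTM.le
      have hTi : ¬ p ∣ ((T : Subgroup H).subgroupOf M₁).index := not_dvd_relIndex_of_sylow_le T hTM'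
      have hTp' : IsPGroup p ((T : Subgroup H).subgroupOf M₁) := T.2.comap_subtype
      let T' : Sylow p M₁ := hTp'.toSylow hTi
      have hT' : (T' : Subgroup M₁) = (T : Subgroup H).subgroupOf M₁ := hTp'.toSylow_coe hTi
      have hmap : (T' : Subgroup M₁).map M₁.subtype = (T : Subgroup H) := by
        rw [hT', Subgroup.subgroupOf_map_subtype]
        exact inf_eq_left.2 hTM'
      have hNM : Npc p (Subgroup.normalizer
          ((inducedFunctor W (T' : Subgroup M₁) : Subgroup M₁) : Set M₁)) := by
        rw [← npc_map_iff_of_injective M₁.subtype M₁.subtype_injective]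
        refine Npc.mono ?_ hN
        have h1 := Subgroup.le_normalizer_map (H := inducedFunctor W (T' : Subgroup M₁)) M₁.subtype
        rw [inducedFunctor_map_subtype hW M₁ (T' : Subgroup M₁) T'.2, hmap] at h1
        exact h1
      have h5 := ih _ (by rw [← hn]; exact card_subgroup_lt_of_ne_top hMne) ↥M₁ rfl
        (hsec.subgroup M₁) T' hNM
      rw [← npc_map_iff_of_injective M₁.subtype M₁.subtype_injective, ← MonoidHom.range_eq_map,
        Subgroup.range_subtype] at h5
      -- `O^p(M₁)` centralizes `P`, hence is trivial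
      have hcen : H14.presOf p M₁ ≤ Subgroup.centralizer (P : Set H) := by
        conv_lhs => unfold H14.presOf
        rw [Subgroup.closure_le]
        rintro x ⟨hxM, hxo⟩
        exact h5.mem_centralizer hPp (by rw [hNtop hPn]; exact le_top) (hPT.trans hTM') hxM hxo
      have hbot : H14.presOf p M₁ = ⊥ := by
        have h6 : H14.presOf p M₁ ≤ P := hcen.trans hcon
        obtain ⟨k, hk⟩ := IsPGroup.iff_card.mp (hPp.to_le h6)
        have h7 : Nat.card (H14.presOf p M₁) = 1 := by
          rcases Nat.eq_zero_or_pos k with h0 | h0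
          · rw [hk, h0, pow_zero]
          · exfalso
            apply h5
            unfold Npc at *
            rw [hk]
            exact dvd_pow_self p h0.ne'
        exact Subgroup.card_eq_one.1 h7
      have hMp : IsPGroup p M₁ := isPGroup_of_presOf_eq_bot hbot
      have := T.is_maximal' hMp hTM'
      exact hTM.ne this.symm
  exact hH (hloc H hsec hcon hquot T hcoatom hN)

end Cfsg.Agent.Lib.H10
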