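import Mathlib
import Cfsg.Agent.Lib.H10.LocalGlobalGen
import Cfsg.Agent.Lib.H5.AlperinCentric

/-! Alperin–Goldschmidt induction for a family satisfying Goldschmidt's criterion, restricted to
centric members (helper10). -/

set_option autoImplicit false

namespace Cfsg.Agent.Lib.H10

open Cfsg Subgroup

variable {G : Type*} [Group G]

/-- One step of the Alperin–Goldschmidt argument, for a family `𝓕` satisfying the criterion. -/
theorem alperin_step_family {p : ℕ} [Fact p.Prime] [Finite G] (S : Sylow p G)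
    (𝓕 : Set (Subgroup G)) (h𝓕 : ∀ U ∈ 𝓕, U ≤ (S : Subgroup G))
    (hcrit : ∀ T : Subgroup G, T ≤ (S : Subgroup G) → ∃ U ∈ 𝓕,
      (∃ g : G, T.map (MulAut.conj g).toMonoidHom = U) ∧
        ¬ p ∣ ((S : Subgroup G) ⊓ Subgroup.normalizer ((U : Subgroup G) : Set G)).relIndex
          (Subgroup.normalizer ((U : Subgroup G) : Set G)))
    (Good : Set G → G → Prop)
    (hres : ∀ {A B : Set G} {g : G}, Good A g → B ⊆ A → Good B g)
    (htrans : ∀ {A : Set G} {g h : G}, Good A g → Good (rconj g A) h → Good A (g * h))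
    (hsymm : ∀ {A : Set G} {g : G}, Good A g → Good (rconj g A) g⁻¹)
    (Q : Subgroup G) (hQ : Q ≤ (S : Subgroup G)) (g : G)
    (hg : Q.map (MulAut.conj g⁻¹).toMonoidHom ≤ (S : Subgroup G))
    (hbig : ∀ Q' : Subgroup G, Q' ≤ (S : Subgroup G) → Nat.card Q < Nat.card Q' → ∀ g' : G,
      Q'.map (MulAut.conj g'⁻¹).toMonoidHom ≤ (S : Subgroup G) → Good (Q' : Set G) g')
    (hloc : ∀ U ∈ 𝓕, ¬ p ∣ ((S : Subgroup G) ⊓ Subgroup.normalizer ((U : Subgroup G) : Set G)).relIndex
          (Subgroup.normalizer ((U : Subgroup G) : Set G)) → Nat.card U = Nat.card Q →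
      ∀ x ∈ Subgroup.normalizer (U : Set G), Good (U : Set G) x) :
    Good (Q : Set G) g := by
  obtain ⟨U, hU𝓕, ⟨k, hk⟩, hUi⟩ := hcrit Q hQ
  have hkS : U ≤ (S : Subgroup G) := h𝓕 U hU𝓕
  have hUcard : Nat.card U = Nat.card Q := by rw [← hk]; exact card_map_conj _ _
  by_cases hQS : Q = (S : Subgroup G)
  · have hUQ : U = Q := by
      rw [← hk]
      exact eq_of_le_of_card_map_conj (hk ▸ (hkS.trans hQS.ge)) le_rfl
    have hgQ : Q.map (MulAut.conj g⁻¹).toMonoidHom = Q :=
      eq_of_le_of_card_map_conj (hg.trans hQS.ge) le_rfl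
    have hgN : g ∈ Subgroup.normalizer (Q : Set G) := by
      have := mem_normalizer_iff_map_conj.mpr hgQ
      simpa using inv_mem this
    have := hloc U hU𝓕 hUi hUcard g (hUQ ▸ hgN)
    rwa [hUQ] at this
  · have hQlt : Q < (S : Subgroup G) := lt_of_le_of_ne hQ hQS
    set Q' := Q.map (MulAut.conj g⁻¹).toMonoidHom with hQ'
    have hc3 : Nat.card Q' = Nat.card Q := card_map_conj _ _
    have hQ'lt : Q' < (S : Subgroup G) := by
      refine lt_of_le_of_ne hg ?_
      intro heq
      have h2 := card_lt_card_of_lt hQlt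
      rw [heq] at hc3
      omega
    obtain ⟨k1, hk1, hN1⟩ := exists_map_conj_eq_and_normalizer_le S hUi (T := Q) (k := k) hk
    have hk' : Q'.map (MulAut.conj (k * g)).toMonoidHom = U := by
      rw [hQ', map_conj_map_conj, mul_assoc, mul_inv_cancel, mul_one, hk]
    obtain ⟨k2, hk2, hN2⟩ := exists_map_conj_eq_and_normalizer_le S hUi hk'
    have hlt1 : Q < (S : Subgroup G) ⊓ Subgroup.normalizer (Q : Set G) :=
      lt_inf_normalizer_of_lt S.2 hQlt
    have hlt2 : Q' < (S : Subgroup G) ⊓ Subgroup.normalizer (Q' : Set G) :=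
      lt_inf_normalizer_of_lt S.2 hQ'lt
    have hc1 := card_lt_card_of_lt hlt1
    have hc2 := card_lt_card_of_lt hlt2
    have r1 : Good (((S : Subgroup G) ⊓ Subgroup.normalizer (Q : Set G) : Subgroup G) : Set G)
        k1⁻¹ := hbig _ inf_le_left hc1 k1⁻¹ (by rw [inv_inv]; exact hN1)
    have r1' : Good (Q : Set G) k1⁻¹ := hres r1 (SetLike.coe_subset_coe.mpr hlt1.le)
    have r2 : Good (((S : Subgroup G) ⊓ Subgroup.normalizer (Q' : Set G) : Subgroup G) : Set G)
        k2⁻¹ := hbig _ inf_le_left (by omega) k2⁻¹ (by rw [inv_inv]; exact hN2)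
    have r2' : Good (Q' : Set G) k2⁻¹ := hres r2 (SetLike.coe_subset_coe.mpr hlt2.le)
    have r2'' : Good (U : Set G) k2 := by
      have := hsymm r2'
      rw [rconj_coe, inv_inv, hk2] at this
      exact this
    have e1 : rconj k1⁻¹ (Q : Set G) = (U : Set G) := by
      rw [rconj_coe, inv_inv, hk1]
    have hmid : U.map (MulAut.conj (k1 * g * k2⁻¹)⁻¹).toMonoidHom = U := by
      have : (k1 * g * k2⁻¹)⁻¹ = k2 * (g⁻¹ * k1⁻¹) := by group
      rw [this, ← map_conj_map_conj, ← map_conj_map_conj]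
      have h1 : U.map (MulAut.conj k1⁻¹).toMonoidHom = Q := by
        rw [← hk1, map_conj_inv_map_conj]
      rw [h1, ← hQ', hk2]
    have hmN : k1 * g * k2⁻¹ ∈ Subgroup.normalizer (U : Set G) := by
      have := mem_normalizer_iff_map_conj.mpr hmid
      simpa using inv_mem this
    have r3 : Good (U : Set G) (k1 * g * k2⁻¹) := hloc U hU𝓕 hUi hUcard _ hmN
    have e2 : rconj (k1 * g * k2⁻¹) (U : Set G) = (U : Set G) :=
      rconj_coe_of_mem_normalizer hmN
    have r4 : Good (Q : Set G) (k1⁻¹ * (k1 * g * k2⁻¹)) := htrans r1' (by rw [e1]; exact r3)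
    have e3 : rconj (k1⁻¹ * (k1 * g * k2⁻¹)) (Q : Set G) = (U : Set G) := by
      rw [rconj_mul, e1, e2]
    have r5 : Good (Q : Set G) (k1⁻¹ * (k1 * g * k2⁻¹) * k2) := htrans r4 (by rw [e3]; exact r2'')
    have : k1⁻¹ * (k1 * g * k2⁻¹) * k2 = g := by group
    rwa [this] at r5

/-- **Alperin–Goldschmidt**, centric version for a family satisfying the criterion. -/
theorem good_of_centric_family {p : ℕ} [Fact p.Prime] [Finite G] (S : Sylow p G)
    (𝓕 : Set (Subgroup G)) (h𝓕 : ∀ U ∈ 𝓕, U ≤ (S : Subgroup G))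
    (hcrit : ∀ T : Subgroup G, T ≤ (S : Subgroup G) → ∃ U ∈ 𝓕,
      (∃ g : G, T.map (MulAut.conj g).toMonoidHom = U) ∧
        ¬ p ∣ ((S : Subgroup G) ⊓ Subgroup.normalizer ((U : Subgroup G) : Set G)).relIndex
          (Subgroup.normalizer ((U : Subgroup G) : Set G)))
    (Good : Set G → G → Prop)
    (hres : ∀ {A B : Set G} {g : G}, Good A g → B ⊆ A → Good B g)
    (htrans : ∀ {A : Set G} {g h : G}, Good A g → Good (rconj g A) h → Good A (g * h))
    (hsymm : ∀ {A : Set G} {g : G}, Good A g → Good (rconj g A) g⁻¹)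
    (hcent : ∀ (T : Subgroup G) (c : G), T ≤ (S : Subgroup G) → c ∈ centralizer (T : Set G) →
      Good (T : Set G) c)
    (hloc : ∀ T ∈ 𝓕, ¬ p ∣ ((S : Subgroup G) ⊓ Subgroup.normalizer ((T : Subgroup G) : Set G)).relIndex
          (Subgroup.normalizer ((T : Subgroup G) : Set G)) →
      centralizer (T : Set G) ⊓ (S : Subgroup G) ≤ T →
      ∀ x ∈ normalizer (T : Set G), Good (T : Set G) x) :
    ∀ Q : Subgroup G, Q ≤ (S : Subgroup G) → ∀ g : G,
      Q.map (MulAut.conj g⁻¹).toMonoidHom ≤ (S : Subgroup G) → Good (Q : Set G) g := by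
  have key : ∀ n : ℕ, ∀ Q : Subgroup G, Q ≤ (S : Subgroup G) →
      Nat.card (S : Subgroup G) - Nat.card Q = n → ∀ g : G,
      Q.map (MulAut.conj g⁻¹).toMonoidHom ≤ (S : Subgroup G) → Good (Q : Set G) g := by
    intro n
    induction n using Nat.strong_induction_on with
    | _ n ih =>
      intro Q hQ hn g hg
      have hcQ : Nat.card Q ≤ Nat.card (S : Subgroup G) := Subgroup.card_le_of_le hQ
      have hbig : ∀ Q' : Subgroup G, Q' ≤ (S : Subgroup G) → Nat.card Q < Nat.card Q' → ∀ g' : G,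
          Q'.map (MulAut.conj g'⁻¹).toMonoidHom ≤ (S : Subgroup G) → Good (Q' : Set G) g' := by
        intro Q' hQ' hlt g' hg'
        have hcQ' : Nat.card Q' ≤ Nat.card (S : Subgroup G) := Subgroup.card_le_of_le hQ'
        exact ih (Nat.card (S : Subgroup G) - Nat.card Q') (by omega) Q' hQ' rfl g' hg'
      apply alperin_step_family S 𝓕 h𝓕 hcrit Good hres htrans hsymm Q hQ g hg hbig
      intro U hU hUi hUcard x hx
      by_cases hc : centralizer (U : Set G) ⊓ (S : Subgroup G) ≤ U
      · exact hloc U hU hUi hc x hx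
      have hUS := h𝓕 U hU
      set N := normalizer (U : Set G) with hN
      set C := centralizer (U : Set G) with hC
      have hCN : C ≤ N := centralizer_le_normalizer _
      have hNC : N ≤ normalizer (C : Set G) :=
        Cfsg.Agent.Lib.H5.NC.normalizer_le_normalizer_centralizer U
      set H := (S : Subgroup G) ⊓ N with hH
      have hHp : IsPGroup p H := S.2.to_le inf_le_left
      set R := H ⊓ C with hR
      have hRp : IsPGroup p R := hHp.to_le inf_le_left
      have hRi : ¬ p ∣ R.relIndex C :=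
        Cfsg.Agent.Lib.H5.AC.not_dvd_relIndex_inf_of_normal hHp inf_le_right hUi hCN hNC
      have hRC : R ≤ C := inf_le_right
      have hY : R.map (MulAut.conj x).toMonoidHom ≤ C := by
        rintro _ ⟨r, hr, rfl⟩
        exact (mem_normalizer_iff.mp (hNC hx) r).mp (hRC hr)
      obtain ⟨k, hkC, hk⟩ := exists_mem_map_conj_le_of_sylowIn hRp hRC hRi (hRp.map _) hY
      rw [map_conj_map_conj] at hk
      have hmR : k * x ∈ normalizer (R : Set G) :=
        mem_normalizer_iff_map_conj.mpr (eq_of_le_of_card_map_conj hk le_rfl)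
      have hmN : k * x ∈ N := N.mul_mem (hCN hkC) hx
      have hmU₁ : k * x ∈ normalizer ((U ⊔ R : Subgroup G) : Set G) :=
        Cfsg.Agent.Lib.H5.NC.normalizer_inf_le_normalizer_sup' U R ⟨hmN, hmR⟩
      have hRS : R ≤ (S : Subgroup G) := inf_le_left.trans inf_le_left
      have hU₁S : U ⊔ R ≤ (S : Subgroup G) := sup_le hUS hRS
      have hlt : U < U ⊔ R := by
        refine lt_of_le_of_ne le_sup_left ?_
        intro heq
        apply hc
        intro c hc'
        have hcR : c ∈ R := ⟨⟨hc'.2, hCN hc'.1⟩, hc'.1⟩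
        rw [heq]
        exact le_sup_right (a := U) hcR
      have hm' : (U ⊔ R).map (MulAut.conj (k * x)⁻¹).toMonoidHom ≤ (S : Subgroup G) := by
        rw [mem_normalizer_iff_map_conj.mp (inv_mem hmU₁)]
        exact hU₁S
      have r1 : Good ((U ⊔ R : Subgroup G) : Set G) (k * x) :=
        hbig _ hU₁S (by rw [← hUcard]; exact card_lt_card_of_lt hlt) (k * x) hm'
      have r2 : Good (U : Set G) (k * x) := hres r1 (SetLike.coe_subset_coe.mpr hlt.le)
      have r3 : Good (U : Set G) k⁻¹ := hcent U k⁻¹ hUS (inv_mem hkC)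
      have r4 : Good (U : Set G) (k⁻¹ * (k * x)) := by
        refine htrans r3 ?_
        rw [rconj_coe_of_mem_normalizer (inv_mem (hCN hkC))]
        exact r2
      have e : k⁻¹ * (k * x) = x := by group
      rwa [e] at r4
  intro Q hQ g hg
  exact key _ Q hQ rfl g hg

end Cfsg.Agent.Lib.H10
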