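import Mathlib
import Cfsg.Agent.Lib.H10.FamilyFusion

/-! Chains of conjugations with steps in an arbitrary set of elements (helper10). -/

set_option autoImplicit false

namespace Cfsg.Agent.Lib.H10

open Cfsg

variable {G : Type*} [Group G]

/-- `SC E T₀ A g`: the right conjugation `a ↦ g⁻¹ a g` on `A ⊆ T₀` is a product of steps
`e ∈ E`, all partial conjugates of `A` staying inside `T₀`. -/
inductive SC (E : Set G) (T₀ : Subgroup G) : Set G → G → Prop
  | nil (A : Set G) : A ⊆ (T₀ : Set G) → SC E T₀ A 1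
  | cons (A : Set G) (e g : G) : e ∈ E → A ⊆ (T₀ : Set G) →
      SC E T₀ (rconj e A) g → SC E T₀ A (e * g)

variable {E : Set G} {T₀ : Subgroup G}

theorem SC.subset_left {A : Set G} {g : G} (h : SC E T₀ A g) : A ⊆ (T₀ : Set G) := by
  cases h with
  | nil _ hA => exact hA
  | cons _ e g _ hA _ => exact hA

theorem SC.subset_right {A : Set G} {g : G} (h : SC E T₀ A g) : rconj g A ⊆ (T₀ : Set G) := by
  induction h with
  | nil A hA => rw [rconj_one]; exact hA
  | cons A e g _ _ _ ih => rw [rconj_mul]; exact ih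

theorem SC.restrict {A : Set G} {g : G} (h : SC E T₀ A g) :
    ∀ {B : Set G}, B ⊆ A → SC E T₀ B g := by
  induction h with
  | nil A hA => intro B hB; exact SC.nil _ (hB.trans hA)
  | cons A e g he hA _ ih =>
    intro B hB
    exact SC.cons B e g he (hB.trans hA) (ih (rconj_mono e hB))

theorem SC.trans {A : Set G} {g : G} (h : SC E T₀ A g) :
    ∀ {k : G}, SC E T₀ (rconj g A) k → SC E T₀ A (g * k) := by
  induction h with
  | nil A _ => intro k hk; rwa [rconj_one, ← one_mul k] at hk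
  | cons A e g he hA _ ih =>
    intro k hk
    rw [rconj_mul] at hk
    rw [mul_assoc]
    exact SC.cons A e (g * k) he hA (ih hk)

theorem SC.single {A : Set G} {e : G} (he : e ∈ E) (hA : A ⊆ (T₀ : Set G))
    (hAe : rconj e A ⊆ (T₀ : Set G)) : SC E T₀ A e := by
  have := SC.cons A e 1 he hA (SC.nil _ hAe)
  rwa [mul_one] at this

theorem SC.symm (hE : ∀ e ∈ E, e⁻¹ ∈ E) {A : Set G} {g : G} (h : SC E T₀ A g) :
    SC E T₀ (rconj g A) g⁻¹ := by
  induction h with
  | nil A hA => rw [inv_one, rconj_one]; exact SC.nil _ hA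
  | cons A e g he hA h' ih =>
    rw [rconj_mul, mul_inv_rev]
    refine SC.trans ih ?_
    rw [rconj_inv_rconj]
    refine SC.single (hE e he) h'.subset_left ?_
    rw [rconj_inv_rconj]
    exact hA

theorem SC.mono {E' : Set G} {T₁ : Subgroup G} (hE : E ⊆ E') (hT : T₀ ≤ T₁) {A : Set G} {g : G}
    (h : SC E T₀ A g) : SC E' T₁ A g := by
  induction h with
  | nil A hA => exact SC.nil _ (hA.trans (SetLike.coe_subset_coe.mpr hT))
  | cons A e g he hA _ ih =>
    exact SC.cons A e g (hE he) (hA.trans (SetLike.coe_subset_coe.mpr hT)) ih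

/-- conjugating a chain. -/
theorem SC.conj (m : G) {A : Set G} {g : G} (h : SC E T₀ A g) :
    SC ((fun e => m * e * m⁻¹) '' E) (T₀.map (MulAut.conj m).toMonoidHom) (rconj m⁻¹ A)
      (m * g * m⁻¹) := by
  have hsub : ∀ {B : Set G}, B ⊆ (T₀ : Set G) →
      rconj m⁻¹ B ⊆ ((T₀.map (MulAut.conj m).toMonoidHom : Subgroup G) : Set G) := by
    intro B hB
    rintro _ ⟨b, hb, rfl⟩
    rw [inv_inv]
    exact conj_mem_map_conj (hB hb)
  induction h with
  | nil A hA =>
    have : m * 1 * m⁻¹ = 1 := by group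
    rw [this]
    exact SC.nil _ (hsub hA)
  | cons A e g he hA _ ih =>
    have e1 : m * (e * g) * m⁻¹ = (m * e * m⁻¹) * (m * g * m⁻¹) := by group
    rw [e1]
    refine SC.cons _ _ _ ⟨e, he, rfl⟩ (hsub hA) ?_
    have e2 : rconj (m * e * m⁻¹) (rconj m⁻¹ A) = rconj m⁻¹ (rconj e A) := by
      rw [← rconj_mul, ← rconj_mul]
      congr 1
      group
    rw [e2]
    exact ih

/-- from a list of steps to a chain. -/
theorem SC.of_list : ∀ (l : List G) (A : Set G), (∀ e ∈ l, e ∈ E) →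
    (∀ k : ℕ, k ≤ l.length → rconj (l.take k).prod A ⊆ (T₀ : Set G)) → SC E T₀ A l.prod := by
  intro l
  induction l with
  | nil =>
    intro A _ h
    have := h 0 (le_refl _)
    simp only [List.take_nil, List.prod_nil, rconj_one] at this
    simpa using SC.nil (E := E) A this
  | cons e l ih =>
    intro A hE h
    rw [List.prod_cons]
    have h0 := h 0 (Nat.zero_le _)
    simp only [List.take_zero, List.prod_nil, rconj_one] at h0
    refine SC.cons A e _ (hE e (List.mem_cons_self)) h0 ?_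
    apply ih
    · intro e' he'
      exact hE e' (List.mem_cons_of_mem _ he')
    · intro k hk
      have := h (k + 1) (by simpa using hk)
      rw [List.take_succ_cons, List.prod_cons, rconj_mul] at this
      exact this

/-- from a chain to a list of steps. -/
theorem SC.exists_list {A : Set G} {g : G} (h : SC E T₀ A g) :
    ∃ l : List G, (∀ e ∈ l, e ∈ E) ∧ l.prod = g ∧
      ∀ k : ℕ, k ≤ l.length → rconj (l.take k).prod A ⊆ (T₀ : Set G) := by
  induction h with
  | nil A hA =>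
    refine ⟨[], by simp, by simp, ?_⟩
    intro k _
    simpa [rconj_one] using hA
  | cons A e g he hA _ ih =>
    obtain ⟨l, hl, hprod, hsub⟩ := ih
    refine ⟨e :: l, ?_, by rw [List.prod_cons, hprod], ?_⟩
    · intro e' he'
      rcases List.mem_cons.mp he' with rfl | h'
      · exact he
      · exact hl e' h'
    · intro k hk
      cases k with
      | zero => simpa [rconj_one] using hA
      | succ k =>
        rw [List.take_succ_cons, List.prod_cons, rconj_mul]
        exact hsub k (by simpa using hk)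

/-- right conjugation by `g` on `A` is induced by a chain with steps in `E`, with all
intermediate images inside `S`. -/
def GoodE (E : Set G) (S : Subgroup G) (A : Set G) (g : G) : Prop :=
  ∃ c : G, SC E S A c ∧ ∀ a ∈ A, c⁻¹ * a * c = g⁻¹ * a * g

variable {S : Subgroup G}

theorem GoodE.subset_left {A : Set G} {g : G} (h : GoodE E S A g) : A ⊆ (S : Set G) := by
  obtain ⟨c, hc, -⟩ := h
  exact hc.subset_left

theorem GoodE.subset_right {A : Set G} {g : G} (h : GoodE E S A g) : rconj g A ⊆ (S : Set G) := by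
  obtain ⟨c, hc, hca⟩ := h
  rw [← rconj_congr hca]
  exact hc.subset_right

theorem GoodE.restrict {A B : Set G} {g : G} (h : GoodE E S A g) (hBA : B ⊆ A) : GoodE E S B g := by
  obtain ⟨c, hc, hca⟩ := h
  exact ⟨c, hc.restrict hBA, fun a ha => hca a (hBA ha)⟩

theorem GoodE.trans {A : Set G} {g h : G} (h1 : GoodE E S A g) (h2 : GoodE E S (rconj g A) h) :
    GoodE E S A (g * h) := by
  obtain ⟨c₁, hc₁, hca₁⟩ := h1
  obtain ⟨c₂, hc₂, hca₂⟩ := h2
  refine ⟨c₁ * c₂, hc₁.trans (by rw [rconj_congr hca₁]; exact hc₂), ?_⟩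
  intro a ha
  have h1 := hca₁ a ha
  have h2 := hca₂ (g⁻¹ * a * g) ⟨a, ha, rfl⟩
  have e1 : (c₁ * c₂)⁻¹ * a * (c₁ * c₂) = c₂⁻¹ * (c₁⁻¹ * a * c₁) * c₂ := by group
  rw [e1, h1, h2]
  group

theorem GoodE.symm (hE : ∀ e ∈ E, e⁻¹ ∈ E) {A : Set G} {g : G} (h : GoodE E S A g) :
    GoodE E S (rconj g A) g⁻¹ := by
  obtain ⟨c, hc, hca⟩ := h
  refine ⟨c⁻¹, by rw [← rconj_congr hca]; exact hc.symm hE, ?_⟩
  rintro _ ⟨a, ha, rfl⟩
  change c⁻¹⁻¹ * (g⁻¹ * a * g) * c⁻¹ = g⁻¹⁻¹ * (g⁻¹ * a * g) * g⁻¹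
  calc c⁻¹⁻¹ * (g⁻¹ * a * g) * c⁻¹ = c⁻¹⁻¹ * (c⁻¹ * a * c) * c⁻¹ := by rw [hca a ha]
    _ = a := by group
    _ = g⁻¹⁻¹ * (g⁻¹ * a * g) * g⁻¹ := by group

theorem GoodE.congr {A : Set G} {g g' : G} (h : GoodE E S A g)
    (hg : ∀ a ∈ A, g⁻¹ * a * g = g'⁻¹ * a * g') : GoodE E S A g' := by
  obtain ⟨c, hc, hca⟩ := h
  exact ⟨c, hc, fun a ha => (hca a ha).trans (hg a ha)⟩

theorem GoodE.of_centralizes {A : Set G} {g : G} (hA : A ⊆ (S : Set G))
    (hg : ∀ a ∈ A, g⁻¹ * a * g = a) : GoodE E S A g :=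
  ⟨1, SC.nil _ hA, fun a ha => by rw [hg a ha]; group⟩

theorem GoodE.one {A : Set G} (hA : A ⊆ (S : Set G)) : GoodE E S A 1 :=
  GoodE.of_centralizes hA (fun a _ => by group)

theorem GoodE.mono {E' : Set G} {S' : Subgroup G} (hE : E ⊆ E') (hS : S ≤ S') {A : Set G} {g : G}
    (h : GoodE E S A g) : GoodE E' S' A g := by
  obtain ⟨c, hc, hca⟩ := h
  exact ⟨c, hc.mono hE hS, hca⟩

theorem GoodE.single {A : Set G} {e : G} (he : e ∈ E) (hA : A ⊆ (S : Set G))
    (hAe : rconj e A ⊆ (S : Set G)) : GoodE E S A e :=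
  ⟨e, SC.single he hA hAe, fun _ _ => rfl⟩

/-- a chain whose steps are each good is good. -/
theorem GoodE.of_chain {E' : Set G} {T₁ : Subgroup G}
    (hstep : ∀ (B : Set G) (e : G), e ∈ E' → B ⊆ (T₁ : Set G) → rconj e B ⊆ (T₁ : Set G) →
      GoodE E S B e) (hT : T₁ ≤ S) {A : Set G} {g : G} (h : SC E' T₁ A g) : GoodE E S A g := by
  induction h with
  | nil A hA => exact GoodE.one (hA.trans (SetLike.coe_subset_coe.mpr hT))
  | cons A e g he hA h' ih =>
    exact (hstep A e he hA h'.subset_left).trans ih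

end Cfsg.Agent.Lib.H10
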