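import Mathlib
import Cfsg.Agent.Lib.H10.StepChain
import Cfsg.Agent.Lib.H10.CentricFamily
import Cfsg.Agent.Lib.H10.LocalGlobal

/-! Local-to-global theorem for control of strong fusion by a pair `(W, V)`: a conjugacy functor
`W` containing the centre and a central functor `V` (helper10). -/

set_option autoImplicit false

namespace Cfsg.Agent.Lib.H10

open Cfsg

variable {G : Type*} [Group G]

/-- the admissible steps for the pair `(W, V)` inside `H` with respect to `Q`. -/
def pairSteps (W V : Subgroup G → Subgroup G) (H Q : Subgroup G) : Set G :=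
  {e | e ∈ H ⊓ Subgroup.normalizer ((W Q : Subgroup G) : Set G) ∨
    e ∈ H ⊓ Subgroup.centralizer ((V Q : Subgroup G) : Set G)}

theorem pairSteps_inv {W V : Subgroup G → Subgroup G} {H Q : Subgroup G} :
    ∀ e ∈ pairSteps W V H Q, e⁻¹ ∈ pairSteps W V H Q := by
  intro e he
  rcases he with he | he
  · exact Or.inl (inv_mem he)
  · exact Or.inr (inv_mem he)

/-- the pair `(W, V)` controls strong fusion in `H` with respect to `Q`. -/
def PairCtl (W V : Subgroup G → Subgroup G) (H Q : Subgroup G) : Prop :=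
  ∀ (X : Set G) (a : G), X ⊆ (Q : Set G) → a ∈ H → rconj a X ⊆ (Q : Set G) →
    GoodE (pairSteps W V H Q) Q X a

theorem rconj_eq_self_of_mem_centralizer {X : Set G} {c : G} (hc : c ∈ Subgroup.centralizer X) :
    rconj c X = X := by
  have : ∀ x ∈ X, c⁻¹ * x * c = id x := by
    intro x hx
    have := Subgroup.mem_centralizer_iff.mp hc x hx
    rw [mul_assoc, this, ← mul_assoc, inv_mul_cancel, one_mul]
    rfl
  unfold rconj
  rw [Set.image_congr this, Set.image_id]

/-- the list format of the statements gives `PairCtl`. -/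
theorem pairCtl_of_list {W V : Subgroup G → Subgroup G} {H Q : Subgroup G}
    (h : ∀ (X : Set G) (a : G), X ⊆ Q → a ∈ H → (fun x => a⁻¹ * x * a) '' X ⊆ Q →
      ∃ c ∈ H ⊓ Subgroup.centralizer X, ∃ (n : ℕ) (b : Fin n → G),
        (∀ i, b i ∈ H ⊓ Subgroup.normalizer ((W Q : Subgroup G) : Set G) ∨
          b i ∈ H ⊓ Subgroup.centralizer ((V Q : Subgroup G) : Set G)) ∧
        a = c * (List.ofFn b).prod ∧
        ∀ k : ℕ, k ≤ n → (fun x => (((List.ofFn b).take k).prod)⁻¹ * x * ((List.ofFn b).take k).prod) ''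
          ((fun x => c⁻¹ * x * c) '' X) ⊆ Q) :
    PairCtl W V H Q := by
  intro X a hX ha hXa
  obtain ⟨c, hc, n, b, hb, hab, hpart⟩ := h X a hX ha hXa
  have hcX : rconj c X = X := rconj_eq_self_of_mem_centralizer hc.2
  refine ⟨(List.ofFn b).prod, ?_, ?_⟩
  · apply SC.of_list
    · intro e he
      obtain ⟨i, rfl⟩ := (List.mem_ofFn' _ _).mp he
      exact hb i
    · intro k hk
      rw [List.length_ofFn] at hk
      have := hpart k hk
      change rconj _ (rconj c X) ⊆ _ at this
      rw [hcX] at this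
      exact this
  · intro x hx
    rw [hab]
    have := Subgroup.mem_centralizer_iff.mp hc.2 x hx
    have e1 : (c * (List.ofFn b).prod)⁻¹ * x * (c * (List.ofFn b).prod) =
        ((List.ofFn b).prod)⁻¹ * (c⁻¹ * (x * c)) * (List.ofFn b).prod := by group
    rw [e1, this]
    group

/-- `GoodE` for the pair gives the list format of the statements. -/
theorem list_of_goodE {W V : Subgroup G → Subgroup G} {H Q : Subgroup G} {X : Set G} {a : G}
    (ha : a ∈ H) (h : GoodE (pairSteps W V H Q) Q X a) :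
    ∃ c ∈ H ⊓ Subgroup.centralizer X, ∃ (n : ℕ) (b : Fin n → G),
        (∀ i, b i ∈ H ⊓ Subgroup.normalizer ((W Q : Subgroup G) : Set G) ∨
          b i ∈ H ⊓ Subgroup.centralizer ((V Q : Subgroup G) : Set G)) ∧
        a = c * (List.ofFn b).prod ∧
        ∀ k : ℕ, k ≤ n → (fun x => (((List.ofFn b).take k).prod)⁻¹ * x * ((List.ofFn b).take k).prod) ''
          ((fun x => c⁻¹ * x * c) '' X) ⊆ Q := by
  obtain ⟨g, hg, hga⟩ := h
  obtain ⟨l, hl, hprod, hsub⟩ := hg.exists_list
  have hgH : g ∈ H := by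
    rw [← hprod]
    apply Subgroup.list_prod_mem
    intro e he
    rcases hl e he with h1 | h1
    · exact h1.1
    · exact h1.1
  have hc : a * g⁻¹ ∈ Subgroup.centralizer X := by
    rw [Subgroup.mem_centralizer_iff]
    intro x hx
    have := hga x hx
    have e1 : x * (a * g⁻¹) = a * (a⁻¹ * x * a) * g⁻¹ := by group
    rw [e1, ← this]
    group
  refine ⟨a * g⁻¹, ⟨H.mul_mem ha (H.inv_mem hgH), hc⟩, l.length, l.get, ?_, ?_, ?_⟩
  · intro i
    exact hl _ (List.get_mem l i)
  · rw [List.ofFn_get, hprod]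
    group
  · intro k hk
    rw [List.ofFn_get]
    change rconj _ (rconj (a * g⁻¹) X) ⊆ _
    rw [rconj_eq_self_of_mem_centralizer hc]
    exact hsub k hk

theorem conj_mem_centralizer_map_conj {K : Subgroup G} {e : G} (m : G)
    (he : e ∈ Subgroup.centralizer (K : Set G)) :
    m * e * m⁻¹ ∈ Subgroup.centralizer ((K.map (MulAut.conj m).toMonoidHom : Subgroup G) : Set G) := by
  rw [Subgroup.mem_centralizer_iff]
  rintro _ ⟨k, hk, rfl⟩
  have := Subgroup.mem_centralizer_iff.mp he k hk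
  simp only [MulEquiv.toMonoidHom_eq_coe, MonoidHom.coe_coe, MulAut.conj_apply]
  calc m * k * m⁻¹ * (m * e * m⁻¹) = m * (k * e) * m⁻¹ := by group
    _ = m * (e * k) * m⁻¹ := by rw [this]
    _ = m * e * m⁻¹ * (m * k * m⁻¹) := by group

/-- `PairCtl` is invariant under conjugating the Sylow subgroup by an element of `H`. -/
theorem PairCtl.conj {p : ℕ} {W V : Subgroup G → Subgroup G} (hW : IsConjugacyFunctor p W)
    (hV : IsConjugacyFunctor p V) {H Q : Subgroup G} (hQ : IsPGroup p Q)
    (h : PairCtl W V H Q) {m : G} (hm : m ∈ H) :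
    PairCtl W V H (Q.map (MulAut.conj m).toMonoidHom) := by
  intro X a hX ha hXa
  have hX' : rconj m X ⊆ (Q : Set G) := by
    rintro _ ⟨x, hx, rfl⟩
    exact mem_map_conj.mp (hX hx)
  have ha' : m⁻¹ * a * m ∈ H := H.mul_mem (H.mul_mem (H.inv_mem hm) ha) hm
  have hXa' : rconj (m⁻¹ * a * m) (rconj m X) ⊆ (Q : Set G) := by
    rw [← rconj_mul]
    have : m * (m⁻¹ * a * m) = a * m := by group
    rw [this, rconj_mul]
    rintro _ ⟨y, hy, rfl⟩
    exact mem_map_conj.mp (hXa hy)
  obtain ⟨c, hc, hca⟩ := h _ _ hX' ha' hXa'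
  have hc' := hc.conj m
  have e0 : rconj m⁻¹ (rconj m X) = X := by
    rw [← rconj_mul, mul_inv_cancel, rconj_one]
  rw [e0] at hc'
  refine ⟨m * c * m⁻¹, hc'.mono ?_ le_rfl, ?_⟩
  · rintro _ ⟨e, he, rfl⟩
    rcases he with he | he
    · left
      refine ⟨H.mul_mem (H.mul_mem hm he.1) (H.inv_mem hm), ?_⟩
      have h1 := conj_mem_normalizer_map_conj m he.2
      rw [← functor_map_conj hW hQ] at h1
      exact h1
    · right
      refine ⟨H.mul_mem (H.mul_mem hm he.1) (H.inv_mem hm), ?_⟩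
      have h1 := conj_mem_centralizer_map_conj m he.2
      rw [← functor_map_conj hV hQ] at h1
      exact h1
  · intro x hx
    have := hca _ ⟨x, hx, rfl⟩
    have e1 : (m * c * m⁻¹)⁻¹ * x * (m * c * m⁻¹) = m * (c⁻¹ * (m⁻¹ * x * m) * c) * m⁻¹ := by group
    rw [e1, this]
    group

/-- `PairCtl` for some Sylow subgroup of `H` gives `PairCtl` for every Sylow subgroup of `H`. -/
theorem PairCtl.sylowIn {p : ℕ} [Fact p.Prime] [Finite G] {W V : Subgroup G → Subgroup G}
    (hW : IsConjugacyFunctor p W) (hV : IsConjugacyFunctor p V) {H Q Q₁ : Subgroup G}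
    (hQH : Q ≤ H) (hQ : IsPGroup p Q) (hQi : ¬ p ∣ Q.relIndex H) (h : PairCtl W V H Q)
    (hQ₁H : Q₁ ≤ H) (hQ₁ : IsPGroup p Q₁) (hQ₁i : ¬ p ∣ Q₁.relIndex H) : PairCtl W V H Q₁ := by
  obtain ⟨m, hm, hmQ⟩ := exists_mem_map_conj_eq_of_sylowIn hQ₁ hQ₁H hQ₁i hQ hQH hQi
  rw [← hmQ]
  exact h.conj hW hV hQ hm

end Cfsg.Agent.Lib.H10

namespace Cfsg.Agent.Lib.H10

open Cfsg

variable {G : Type*} [Group G]

theorem center_le_center_of_le {P Q : Subgroup G} (hQP : Q ≤ P)
    (hZ : P ⊓ Subgroup.centralizer (P : Set G) ≤ Q) :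
    P ⊓ Subgroup.centralizer (P : Set G) ≤ Q ⊓ Subgroup.centralizer (Q : Set G) := by
  intro z hz
  exact ⟨hZ hz, Subgroup.centralizer_le (SetLike.coe_subset_coe.mpr hQP) hz.2⟩

/-- Climbing the tower for the pair `(W, V)`. -/
theorem pair_climb {p : ℕ} [Fact p.Prime] [Finite G] (P : Sylow p G)
    {W V : Subgroup G → Subgroup G} (hW : IsConjugacyFunctor p W)
    (hWZ : ∀ H : Subgroup G, IsPGroup p H → H ⊓ Subgroup.centralizer (H : Set G) ≤ W H)
    (hVmono : ∀ H K : Subgroup G, IsPGroup p H → IsPGroup p K → H ≠ ⊥ → K ≠ ⊥ →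
      H ⊓ Subgroup.centralizer (H : Set G) ≤ K ⊓ Subgroup.centralizer (K : Set G) → V H ≤ V K)
    (hloc : ∀ T : Subgroup G, (P : Subgroup G) ⊓ Subgroup.centralizer ((P : Subgroup G) : Set G) ≤ T →
      T ≤ (P : Subgroup G) →
      ¬ p ∣ ((P : Subgroup G) ⊓ Subgroup.normalizer (T : Set G)).relIndex
        (Subgroup.normalizer (T : Set G)) →
      PairCtl W V (Subgroup.normalizer (T : Set G))
        ((P : Subgroup G) ⊓ Subgroup.normalizer (T : Set G))) :
    ∀ (n : ℕ) (T : Subgroup G), IsWellPlaced p W (P : Subgroup G) T →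
      (P : Subgroup G) ⊓ Subgroup.centralizer ((P : Subgroup G) : Set G) ≤ T →
      Nat.card (P : Subgroup G) -
        Nat.card ((P : Subgroup G) ⊓ Subgroup.normalizer (T : Set G) : Subgroup G) = n →
      ∀ (B : Set G) (x : G), x ∈ Subgroup.normalizer (T : Set G) →
        B ⊆ (((P : Subgroup G) ⊓ Subgroup.normalizer (T : Set G) : Subgroup G) : Set G) →
        rconj x B ⊆ (((P : Subgroup G) ⊓ Subgroup.normalizer (T : Set G) : Subgroup G) : Set G) →
        GoodE (pairSteps W V ⊤ (P : Subgroup G)) (P : Subgroup G) B x := by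
  intro n
  induction n using Nat.strong_induction_on with
  | _ n ih =>
  intro T hwp hZT hn B x hx hB hBx
  have hNp : IsPGroup p ((P : Subgroup G) ⊓ Subgroup.normalizer (T : Set G) : Subgroup G) :=
    P.2.to_le inf_le_left
  have hctl := hloc T hZT hwp.1 (hwp.2 0)
  obtain ⟨c, hc, hca⟩ := hctl B x hB hx hBx
  refine GoodE.congr ?_ hca
  by_cases hcase : (P : Subgroup G) ⊓ Subgroup.normalizer (T : Set G) = (P : Subgroup G)
  · rw [hcase] at hc
    refine ⟨c, hc.mono ?_ le_rfl, fun _ _ => rfl⟩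
    intro e he
    rcases he with he | he
    · exact Or.inl ⟨Subgroup.mem_top _, he.2⟩
    · exact Or.inr ⟨Subgroup.mem_top _, he.2⟩
  · set N := (P : Subgroup G) ⊓ Subgroup.normalizer (T : Set G) with hN
    have hNS : N < (P : Subgroup G) := lt_of_le_of_ne inf_le_left hcase
    have hwp1 : IsWellPlaced p W (P : Subgroup G) (W N) := isWellPlaced_functor P.2 hW hwp
    have hTN : T ≤ N := le_inf hwp.1 Subgroup.le_normalizer
    have hN1 : N ≠ ⊥ := by
      intro h0
      apply hcase
      have hT0 : T = ⊥ := le_bot_iff.mp (h0 ▸ hTN)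
      have : Subgroup.normalizer ((T : Subgroup G) : Set G) = ⊤ := by
        rw [hT0]
        exact Subgroup.normalizer_eq_top_iff.mpr inferInstance
      rw [hN, this, inf_top_eq]
    have hP1 : (P : Subgroup G) ≠ ⊥ := by
      intro h0
      apply hN1
      exact le_bot_iff.mp (h0 ▸ hNS.le)
    have hZN : (P : Subgroup G) ⊓ Subgroup.centralizer ((P : Subgroup G) : Set G) ≤
        N ⊓ Subgroup.centralizer (N : Set G) :=
      center_le_center_of_le hNS.le (hZT.trans hTN)
    have hVle : V (P : Subgroup G) ≤ V N := hVmono _ _ P.2 hNp hP1 hN1 hZN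
    have hZW : (P : Subgroup G) ⊓ Subgroup.centralizer ((P : Subgroup G) : Set G) ≤ W N :=
      hZN.trans (hWZ N hNp)
    have hlt : N < (P : Subgroup G) ⊓ Subgroup.normalizer (N : Set G) :=
      lt_inf_normalizer_of_lt P.2 hNS
    have hle : (P : Subgroup G) ⊓ Subgroup.normalizer (N : Set G) ≤
        (P : Subgroup G) ⊓ Subgroup.normalizer ((W N : Subgroup G) : Set G) :=
      inf_le_inf_left _ (normalizer_le_normalizer_functor hW hNp)
    have hlt2 : N < (P : Subgroup G) ⊓ Subgroup.normalizer ((W N : Subgroup G) : Set G) :=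
      lt_of_lt_of_le hlt hle
    have hc2 : Nat.card N <
        Nat.card ((P : Subgroup G) ⊓ Subgroup.normalizer ((W N : Subgroup G) : Set G) : Subgroup G) :=
      card_lt_card_of_lt hlt2
    have hc3 : Nat.card ((P : Subgroup G) ⊓ Subgroup.normalizer ((W N : Subgroup G) : Set G) : Subgroup G) ≤
        Nat.card (P : Subgroup G) := Subgroup.card_le_of_le inf_le_left
    refine GoodE.of_chain ?_ hNS.le hc
    intro B' e he hB' hB'e
    rcases he with he | he
    · exact ih _ (by omega) (W N) hwp1 hZW rfl B' e he.2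
        (hB'.trans (SetLike.coe_subset_coe.mpr hlt2.le))
        (hB'e.trans (SetLike.coe_subset_coe.mpr hlt2.le))
    · refine GoodE.single (Or.inr ⟨Subgroup.mem_top _, ?_⟩)
        (hB'.trans (SetLike.coe_subset_coe.mpr hNS.le))
        (hB'e.trans (SetLike.coe_subset_coe.mpr hNS.le))
      exact Subgroup.centralizer_le (SetLike.coe_subset_coe.mpr hVle) he.2

/-- Local-to-global for control of strong fusion by the pair `(W, V)`. -/
theorem pairCtl_top_of_local {p : ℕ} [Fact p.Prime] [Finite G] (P : Sylow p G)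
    {W V : Subgroup G → Subgroup G} (hW : IsConjugacyFunctor p W) (hV : IsConjugacyFunctor p V)
    (hWZ : ∀ H : Subgroup G, IsPGroup p H → H ⊓ Subgroup.centralizer (H : Set G) ≤ W H)
    (hVmono : ∀ H K : Subgroup G, IsPGroup p H → IsPGroup p K → H ≠ ⊥ → K ≠ ⊥ →
      H ⊓ Subgroup.centralizer (H : Set G) ≤ K ⊓ Subgroup.centralizer (K : Set G) → V H ≤ V K)
    (hloc : ∀ H : Subgroup G, (P : Subgroup G) ⊓ Subgroup.centralizer ((P : Subgroup G) : Set G) ≤ H →
      H ≤ (P : Subgroup G) → ∃ Q : Subgroup G, Q ≤ Subgroup.normalizer (H : Set G) ∧ IsPGroup p Q ∧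
        ¬ p ∣ Q.relIndex (Subgroup.normalizer (H : Set G)) ∧
        PairCtl W V (Subgroup.normalizer (H : Set G)) Q) :
    PairCtl W V ⊤ (P : Subgroup G) := by
  have hloc' : ∀ T : Subgroup G,
      (P : Subgroup G) ⊓ Subgroup.centralizer ((P : Subgroup G) : Set G) ≤ T →
      T ≤ (P : Subgroup G) →
      ¬ p ∣ ((P : Subgroup G) ⊓ Subgroup.normalizer (T : Set G)).relIndex
        (Subgroup.normalizer (T : Set G)) →
      PairCtl W V (Subgroup.normalizer (T : Set G))
        ((P : Subgroup G) ⊓ Subgroup.normalizer (T : Set G)) := by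
    intro T hZT hTP hTi
    obtain ⟨Q, hQN, hQ, hQi, hctl⟩ := hloc T hZT hTP
    exact hctl.sylowIn hW hV hQN hQ hQi inf_le_right (P.2.to_le inf_le_left) hTi
  have hgood : ∀ Q : Subgroup G, Q ≤ (P : Subgroup G) → ∀ g : G,
      Q.map (MulAut.conj g⁻¹).toMonoidHom ≤ (P : Subgroup G) →
      GoodE (pairSteps W V ⊤ (P : Subgroup G)) (P : Subgroup G) (Q : Set G) g := by
    apply good_of_centric_family P {T : Subgroup G | IsWellPlaced p W (P : Subgroup G) T}
      (fun U hU => hU.1) _ (GoodE (pairSteps W V ⊤ (P : Subgroup G)) (P : Subgroup G))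
      (fun h hBA => h.restrict hBA) (fun h1 h2 => h1.trans h2) (fun h => h.symm pairSteps_inv)
    · intro T c hT hc
      apply GoodE.of_centralizes (SetLike.coe_subset_coe.mpr hT)
      intro a ha
      have := Subgroup.mem_centralizer_iff.mp hc a ha
      rw [mul_assoc, this, ← mul_assoc, inv_mul_cancel, one_mul]
    · intro T hT hTi hcen x hx
      have hZT : (P : Subgroup G) ⊓ Subgroup.centralizer ((P : Subgroup G) : Set G) ≤ T := by
        intro z hz
        exact hcen ⟨Subgroup.centralizer_le (SetLike.coe_subset_coe.mpr hT.1) hz.2, hz.1⟩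
      have hTN : T ≤ (P : Subgroup G) ⊓ Subgroup.normalizer (T : Set G) :=
        le_inf hT.1 Subgroup.le_normalizer
      apply pair_climb P hW hWZ hVmono hloc' _ T hT hZT rfl (T : Set G) x hx
        (SetLike.coe_subset_coe.mpr hTN)
      rw [rconj_coe_of_mem_normalizer hx]
      exact SetLike.coe_subset_coe.mpr hTN
    · intro T hT
      obtain ⟨g, hg, -⟩ := exists_wellPlaced_conj P hW _ T hT rfl
      exact ⟨_, hg, ⟨g, rfl⟩, hg.2 0⟩
  intro X a hX _ hXa
  have hT : Subgroup.closure X ≤ (P : Subgroup G) := (Subgroup.closure_le _).mpr hX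
  have hTg : (Subgroup.closure X).map (MulAut.conj a⁻¹).toMonoidHom ≤ (P : Subgroup G) := by
    rw [MonoidHom.map_closure, Subgroup.closure_le]
    rintro _ ⟨x, hx, rfl⟩
    apply hXa
    exact ⟨x, hx, by simp⟩
  exact (hgood _ hT a hTg).restrict Subgroup.subset_closure

end Cfsg.Agent.Lib.H10
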