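import Mathlib
import Cfsg.Agent.Lib.H10.PairFusion
import Cfsg.Agent.Lib.H10.LocalGlobalTransfer

/-! Local-to-global theorem for control of transfer by a pair `(W, V)`: a conjugacy functor
`W` containing the centre and a central functor `V` (helper10). -/

set_option autoImplicit false

namespace Cfsg.Agent.Lib.H10

open Cfsg
open scoped commutatorElement

variable {G : Type*} [Group G]

/-- the pair `(W, V)` controls transfer in `H` with respect to `Q` (the nontrivial inclusion). -/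
def PairTr (W V : Subgroup G → Subgroup G) (H Q : Subgroup G) : Prop :=
  ∀ x ∈ Q ⊓ ⁅H, H⁆,
    ∃ a ∈ Q ⊓ ⁅H ⊓ Subgroup.normalizer ((W Q : Subgroup G) : Set G),
        H ⊓ Subgroup.normalizer ((W Q : Subgroup G) : Set G)⁆,
      ∃ b ∈ Q ⊓ ⁅H ⊓ Subgroup.centralizer ((V Q : Subgroup G) : Set G),
          H ⊓ Subgroup.centralizer ((V Q : Subgroup G) : Set G)⁆, x = a * b

theorem centralizer_map_conj (m : G) (K : Subgroup G) :
    Subgroup.centralizer ((K.map (MulAut.conj m).toMonoidHom : Subgroup G) : Set G) =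
      (Subgroup.centralizer (K : Set G)).map (MulAut.conj m).toMonoidHom := by
  apply le_antisymm
  · intro y hy
    rw [mem_map_conj]
    have := conj_mem_centralizer_map_conj m⁻¹ hy
    rw [map_conj_map_conj, inv_mul_cancel, map_conj_one, inv_inv] at this
    exact this
  · rintro _ ⟨e, he, rfl⟩
    exact conj_mem_centralizer_map_conj m he

theorem conj_mem_commutator_of_mem {K K' : Subgroup G} {m a : G}
    (hK : K.map (MulAut.conj m).toMonoidHom = K') (ha : a ∈ ⁅K, K⁆) :
    m * a * m⁻¹ ∈ ⁅K', K'⁆ := by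
  have : m * a * m⁻¹ ∈ (⁅K, K⁆).map (MulAut.conj m).toMonoidHom := conj_mem_map_conj ha
  rw [Subgroup.map_commutator, hK] at this
  exact this

/-- `PairTr` is invariant under conjugating the Sylow subgroup by an element of `H`. -/
theorem PairTr.conj {p : ℕ} {W V : Subgroup G → Subgroup G} (hW : IsConjugacyFunctor p W)
    (hV : IsConjugacyFunctor p V) {H Q : Subgroup G} (hQ : IsPGroup p Q)
    (h : PairTr W V H Q) {m : G} (hm : m ∈ H) :
    PairTr W V H (Q.map (MulAut.conj m).toMonoidHom) := by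
  intro x hx
  have hHm : H.map (MulAut.conj m).toMonoidHom = H := map_conj_self_of_mem hm
  have hx1 : m⁻¹ * x * m ∈ Q := mem_map_conj.mp hx.1
  have hx2 : m⁻¹ * x * m ∈ ⁅H, H⁆ := by
    have := conj_mem_commutator_of_mem (m := m⁻¹) (K := H) (K' := H)
      (map_conj_self_of_mem (H.inv_mem hm)) hx.2
    rwa [inv_inv] at this
  obtain ⟨a, ha, b, hb, hab⟩ := h _ ⟨hx1, hx2⟩
  refine ⟨m * a * m⁻¹, ⟨conj_mem_map_conj ha.1, ?_⟩, m * b * m⁻¹, ⟨conj_mem_map_conj hb.1, ?_⟩, ?_⟩
  · refine conj_mem_commutator_of_mem ?_ ha.2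
    rw [map_conj_inf, hHm, ← normalizer_map_conj, ← functor_map_conj hW hQ]
  · refine conj_mem_commutator_of_mem ?_ hb.2
    rw [map_conj_inf, hHm, ← centralizer_map_conj, ← functor_map_conj hV hQ]
  · have : x = m * (m⁻¹ * x * m) * m⁻¹ := by group
    rw [this, hab]
    group

/-- `PairTr` for some Sylow subgroup of `H` gives `PairTr` for every Sylow subgroup of `H`. -/
theorem PairTr.sylowIn {p : ℕ} [Fact p.Prime] [Finite G] {W V : Subgroup G → Subgroup G}
    (hW : IsConjugacyFunctor p W) (hV : IsConjugacyFunctor p V) {H Q Q₁ : Subgroup G}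
    (hQH : Q ≤ H) (hQ : IsPGroup p Q) (hQi : ¬ p ∣ Q.relIndex H) (h : PairTr W V H Q)
    (hQ₁H : Q₁ ≤ H) (hQ₁ : IsPGroup p Q₁) (hQ₁i : ¬ p ∣ Q₁.relIndex H) : PairTr W V H Q₁ := by
  obtain ⟨m, hm, hmQ⟩ := exists_mem_map_conj_eq_of_sylowIn hQ₁ hQ₁H hQ₁i hQ hQH hQi
  rw [← hmQ]
  exact h.conj hW hV hQ hm

/-- the target subgroup `D = (P ∩ N(W P)')(P ∩ C(V P)')`. -/
def pairD (W V : Subgroup G → Subgroup G) (P : Subgroup G) : Subgroup G :=
  (P ⊓ ⁅Subgroup.normalizer ((W P : Subgroup G) : Set G),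
      Subgroup.normalizer ((W P : Subgroup G) : Set G)⁆) ⊔
    (P ⊓ ⁅Subgroup.centralizer ((V P : Subgroup G) : Set G),
      Subgroup.centralizer ((V P : Subgroup G) : Set G)⁆)

theorem commutator_self_normal_aux (K : Subgroup G) :
    K ≤ Subgroup.normalizer ((⁅K, K⁆ : Subgroup G) : Set G) := by
  intro k hk
  rw [mem_normalizer_iff_map_conj, Subgroup.map_commutator, map_conj_self_of_mem hk]

theorem mem_pairD_iff {p : ℕ} {W V : Subgroup G → Subgroup G} (hW : IsConjugacyFunctor p W)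
    {P : Subgroup G} (hP : IsPGroup p P) (x : G) :
    x ∈ pairD W V P ↔
      ∃ a ∈ P ⊓ ⁅Subgroup.normalizer ((W P : Subgroup G) : Set G),
          Subgroup.normalizer ((W P : Subgroup G) : Set G)⁆,
        ∃ b ∈ P ⊓ ⁅Subgroup.centralizer ((V P : Subgroup G) : Set G),
            Subgroup.centralizer ((V P : Subgroup G) : Set G)⁆, x = a * b := by
  have hPN : P ≤ Subgroup.normalizer ((W P : Subgroup G) : Set G) :=
    Subgroup.le_normalizer.trans (normalizer_le_normalizer_functor hW hP)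
  have hnorm : (P ⊓ ⁅Subgroup.centralizer ((V P : Subgroup G) : Set G),
      Subgroup.centralizer ((V P : Subgroup G) : Set G)⁆) ≤
      Subgroup.normalizer (((P ⊓ ⁅Subgroup.normalizer ((W P : Subgroup G) : Set G),
        Subgroup.normalizer ((W P : Subgroup G) : Set G)⁆ : Subgroup G)) : Set G) := by
    intro y hy
    have h1 : y ∈ Subgroup.normalizer (P : Set G) := Subgroup.le_normalizer hy.1
    have h2 := commutator_self_normal_aux _ (hPN hy.1)
    rw [mem_normalizer_iff_map_conj] at h1 h2 ⊢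
    rw [map_conj_inf, h1, h2]
  have := Subgroup.coe_mul_of_right_le_normalizer_left _ _ hnorm
  unfold pairD
  rw [← SetLike.mem_coe, this, Set.mem_mul]
  constructor
  · rintro ⟨a, ha, b, hb, rfl⟩
    exact ⟨a, ha, b, hb, rfl⟩
  · rintro ⟨a, ha, b, hb, rfl⟩
    exact ⟨a, ha, b, hb, rfl⟩

/-- Climbing the tower for transfer for the pair `(W, V)`. -/
theorem pairTr_climb {p : ℕ} [Fact p.Prime] [Finite G] (P : Sylow p G)
    {W V : Subgroup G → Subgroup G} (hW : IsConjugacyFunctor p W)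
    (hWZ : ∀ H : Subgroup G, IsPGroup p H → H ⊓ Subgroup.centralizer (H : Set G) ≤ W H)
    (hVmono : ∀ H K : Subgroup G, IsPGroup p H → IsPGroup p K → H ≠ ⊥ → K ≠ ⊥ →
      H ⊓ Subgroup.centralizer (H : Set G) ≤ K ⊓ Subgroup.centralizer (K : Set G) → V H ≤ V K)
    (hloc : ∀ T : Subgroup G, (P : Subgroup G) ⊓ Subgroup.centralizer ((P : Subgroup G) : Set G) ≤ T →
      T ≤ (P : Subgroup G) →
      ¬ p ∣ ((P : Subgroup G) ⊓ Subgroup.normalizer (T : Set G)).relIndex
        (Subgroup.normalizer (T : Set G)) →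
      PairTr W V (Subgroup.normalizer (T : Set G))
        ((P : Subgroup G) ⊓ Subgroup.normalizer (T : Set G))) :
    ∀ (n : ℕ) (T : Subgroup G), IsWellPlaced p W (P : Subgroup G) T →
      (P : Subgroup G) ⊓ Subgroup.centralizer ((P : Subgroup G) : Set G) ≤ T →
      Nat.card (P : Subgroup G) -
        Nat.card ((P : Subgroup G) ⊓ Subgroup.normalizer (T : Set G) : Subgroup G) = n →
      ((P : Subgroup G) ⊓ Subgroup.normalizer (T : Set G)) ⊓
        ⁅Subgroup.normalizer (T : Set G), Subgroup.normalizer (T : Set G)⁆ ≤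
      pairD W V (P : Subgroup G) := by
  intro n
  induction n using Nat.strong_induction_on with
  | _ n ih =>
  intro T hwp hZT hn x hx
  have hNp : IsPGroup p ((P : Subgroup G) ⊓ Subgroup.normalizer (T : Set G) : Subgroup G) :=
    P.2.to_le inf_le_left
  have hctl := hloc T hZT hwp.1 (hwp.2 0)
  obtain ⟨a, ha, b, hb, rfl⟩ := hctl x hx
  by_cases hcase : (P : Subgroup G) ⊓ Subgroup.normalizer (T : Set G) = (P : Subgroup G)
  · rw [hcase] at ha hb
    rw [mem_pairD_iff hW P.2]
    refine ⟨a, ⟨ha.1, Subgroup.commutator_mono inf_le_right inf_le_right ha.2⟩,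
      b, ⟨hb.1, Subgroup.commutator_mono inf_le_right inf_le_right hb.2⟩, rfl⟩
  · set N := (P : Subgroup G) ⊓ Subgroup.normalizer (T : Set G) with hN
    have hNS : N < (P : Subgroup G) := lt_of_le_of_ne inf_le_left hcase
    have hwp1 : IsWellPlaced p W (P : Subgroup G) (W N) := isWellPlaced_functor P.2 hW hwp
    have hTN : T ≤ N := le_inf hwp.1 Subgroup.le_normalizer
    have hN1 : N ≠ ⊥ := by
      intro h0
      apply hcase
      have hT0 : T = ⊥ := le_bot_iff.mp (h0 ▸ hTN)
      have : Subgroup.normalizer ((T : Subgroup G) : Set G) = ⊤ := by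
        rw [hT0]
        exact Subgroup.normalizer_eq_top_iff.mpr inferInstance
      rw [hN, this, inf_top_eq]
    have hP1 : (P : Subgroup G) ≠ ⊥ := by
      intro h0
      apply hN1
      exact le_bot_iff.mp (h0 ▸ hNS.le)
    have hZN : (P : Subgroup G) ⊓ Subgroup.centralizer ((P : Subgroup G) : Set G) ≤
        N ⊓ Subgroup.centralizer (N : Set G) :=
      center_le_center_of_le hNS.le (hZT.trans hTN)
    have hVle : V (P : Subgroup G) ≤ V N := hVmono _ _ P.2 hNp hP1 hN1 hZN
    have hZW : (P : Subgroup G) ⊓ Subgroup.centralizer ((P : Subgroup G) : Set G) ≤ W N :=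
      hZN.trans (hWZ N hNp)
    have hlt : N < (P : Subgroup G) ⊓ Subgroup.normalizer (N : Set G) :=
      lt_inf_normalizer_of_lt P.2 hNS
    have hle : (P : Subgroup G) ⊓ Subgroup.normalizer (N : Set G) ≤
        (P : Subgroup G) ⊓ Subgroup.normalizer ((W N : Subgroup G) : Set G) :=
      inf_le_inf_left _ (normalizer_le_normalizer_functor hW hNp)
    have hlt2 : N < (P : Subgroup G) ⊓ Subgroup.normalizer ((W N : Subgroup G) : Set G) :=
      lt_of_lt_of_le hlt hle
    have hc2 : Nat.card N <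
        Nat.card ((P : Subgroup G) ⊓ Subgroup.normalizer ((W N : Subgroup G) : Set G) : Subgroup G) :=
      card_lt_card_of_lt hlt2
    have hc3 : Nat.card ((P : Subgroup G) ⊓ Subgroup.normalizer ((W N : Subgroup G) : Set G) : Subgroup G) ≤
        Nat.card (P : Subgroup G) := Subgroup.card_le_of_le inf_le_left
    have hih := ih _ (by omega) (W N) hwp1 hZW rfl
    have ha' : a ∈ pairD W V (P : Subgroup G) :=
      hih ⟨hlt2.le ha.1, Subgroup.commutator_mono inf_le_right inf_le_right ha.2⟩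
    have hb' : b ∈ pairD W V (P : Subgroup G) := by
      apply (le_sup_right : _ ≤ pairD W V (P : Subgroup G))
      refine ⟨hNS.le hb.1, ?_⟩
      have hcc : Subgroup.normalizer (T : Set G) ⊓ Subgroup.centralizer ((V N : Subgroup G) : Set G) ≤
          Subgroup.centralizer ((V (P : Subgroup G) : Subgroup G) : Set G) :=
        inf_le_right.trans (Subgroup.centralizer_le (SetLike.coe_subset_coe.mpr hVle))
      exact Subgroup.commutator_mono hcc hcc hb.2
    exact mul_mem ha' hb'

/-- Local-to-global for control of transfer by the pair `(W, V)`. -/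
theorem pairTr_top_of_local {p : ℕ} [Fact p.Prime] [Finite G] (P : Sylow p G)
    {W V : Subgroup G → Subgroup G} (hW : IsConjugacyFunctor p W) (hV : IsConjugacyFunctor p V)
    (hWZ : ∀ H : Subgroup G, IsPGroup p H → H ⊓ Subgroup.centralizer (H : Set G) ≤ W H)
    (hVmono : ∀ H K : Subgroup G, IsPGroup p H → IsPGroup p K → H ≠ ⊥ → K ≠ ⊥ →
      H ⊓ Subgroup.centralizer (H : Set G) ≤ K ⊓ Subgroup.centralizer (K : Set G) → V H ≤ V K)
    (hloc : ∀ H : Subgroup G, (P : Subgroup G) ⊓ Subgroup.centralizer ((P : Subgroup G) : Set G) ≤ H →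
      H ≤ (P : Subgroup G) → ∃ Q : Subgroup G, Q ≤ Subgroup.normalizer (H : Set G) ∧ IsPGroup p Q ∧
        ¬ p ∣ Q.relIndex (Subgroup.normalizer (H : Set G)) ∧
        PairTr W V (Subgroup.normalizer (H : Set G)) Q) :
    (P : Subgroup G) ⊓ commutator G ≤ pairD W V (P : Subgroup G) := by
  have hloc' : ∀ T : Subgroup G,
      (P : Subgroup G) ⊓ Subgroup.centralizer ((P : Subgroup G) : Set G) ≤ T →
      T ≤ (P : Subgroup G) →
      ¬ p ∣ ((P : Subgroup G) ⊓ Subgroup.normalizer (T : Set G)).relIndex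
        (Subgroup.normalizer (T : Set G)) →
      PairTr W V (Subgroup.normalizer (T : Set G))
        ((P : Subgroup G) ⊓ Subgroup.normalizer (T : Set G)) := by
    intro T hZT hTP hTi
    obtain ⟨Q, hQN, hQ, hQi, hctl⟩ := hloc T hZT hTP
    exact hctl.sylowIn hW hV hQN hQ hQi inf_le_right (P.2.to_le inf_le_left) hTi
  set D := pairD W V (P : Subgroup G) with hD
  let Good : Set G → G → Prop := fun A g => ∀ a ∈ A, a * (g⁻¹ * a * g)⁻¹ ∈ D
  have hgood : ∀ Q : Subgroup G, Q ≤ (P : Subgroup G) → ∀ g : G,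
      Q.map (MulAut.conj g⁻¹).toMonoidHom ≤ (P : Subgroup G) → Good (Q : Set G) g := by
    apply good_of_centric_family P {T : Subgroup G | IsWellPlaced p W (P : Subgroup G) T}
      (fun U hU => hU.1) _ Good
    · intro A B g h hBA a ha
      exact h a (hBA ha)
    · intro A g h h1 h2 a ha
      have e : a * ((g * h)⁻¹ * a * (g * h))⁻¹ =
          (a * (g⁻¹ * a * g)⁻¹) * ((g⁻¹ * a * g) * (h⁻¹ * (g⁻¹ * a * g) * h)⁻¹) := by group
      rw [e]
      exact mul_mem (h1 a ha) (h2 _ ⟨a, ha, rfl⟩)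
    · rintro A g h _ ⟨a, ha, rfl⟩
      have e : g⁻¹ * a * g * (g⁻¹⁻¹ * (g⁻¹ * a * g) * g⁻¹)⁻¹ = (a * (g⁻¹ * a * g)⁻¹)⁻¹ := by group
      rw [e]
      exact inv_mem (h a ha)
    · intro T c _ hc a ha
      have := Subgroup.mem_centralizer_iff.mp hc a ha
      have e : a * (c⁻¹ * a * c)⁻¹ = a * (c⁻¹ * (a * c))⁻¹ := by group
      rw [e, this]
      have e2 : a * (c⁻¹ * (c * a))⁻¹ = 1 := by group
      rw [e2]
      exact one_mem _
    · intro T hT hTi hcen x hx a ha
      have hZT : (P : Subgroup G) ⊓ Subgroup.centralizer ((P : Subgroup G) : Set G) ≤ T := by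
        intro z hz
        exact hcen ⟨Subgroup.centralizer_le (SetLike.coe_subset_coe.mpr hT.1) hz.2, hz.1⟩
      have hTN : T ≤ (P : Subgroup G) ⊓ Subgroup.normalizer (T : Set G) :=
        le_inf hT.1 Subgroup.le_normalizer
      have hxinv : x⁻¹ ∈ Subgroup.normalizer (T : Set G) := inv_mem hx
      have hxaT : x⁻¹ * a * x ∈ T := by
        have := (Subgroup.mem_normalizer_iff.mp hxinv a).mp ha
        simpa using this
      have hcomm : a * (x⁻¹ * a * x)⁻¹ = ⁅a, x⁻¹⁆ := by
        rw [commutatorElement_def]; group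
      apply pairTr_climb P hW hWZ hVmono hloc' _ T hT hZT rfl
      refine ⟨hTN (mul_mem ha (inv_mem hxaT)), ?_⟩
      rw [hcomm]
      exact Subgroup.commutator_mem_commutator (Subgroup.le_normalizer ha) hxinv
    · intro T hT
      obtain ⟨g, hg, -⟩ := exists_wellPlaced_conj P hW _ T hT rfl
      exact ⟨_, hg, ⟨g, rfl⟩, hg.2 0⟩
  have hfocal : (P : Subgroup G) ⊓ commutator G = (P : Subgroup G).focalSubgroup := by
    rw [inf_comm]
    exact Subgroup.commutator_inf_eq_focalSubgroup P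
  rw [hfocal, Subgroup.focalSubgroup_def, Subgroup.closure_le]
  rintro _ ⟨hgS, x, hxS, u, rfl⟩
  have hux : u * x * u⁻¹ ∈ (P : Subgroup G) := by
    have h1 : x⁻¹ * ⁅x, u⁆ ∈ (P : Subgroup G) := mul_mem (inv_mem hxS) hgS
    have h2 : x⁻¹ * ⁅x, u⁆ = (u * x * u⁻¹)⁻¹ := by
      rw [commutatorElement_def]; group
    rw [h2] at h1
    exact (inv_mem_iff).mp h1
  have hT : Subgroup.closure {x} ≤ (P : Subgroup G) := by
    rw [Subgroup.closure_le]
    intro y hy
    rw [Set.mem_singleton_iff.mp hy]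
    exact hxS
  have hTg : (Subgroup.closure {x}).map (MulAut.conj u⁻¹⁻¹).toMonoidHom ≤ (P : Subgroup G) := by
    rw [MonoidHom.map_closure, Subgroup.closure_le]
    rintro _ ⟨y, hy, rfl⟩
    rw [Set.mem_singleton_iff.mp hy]
    have e : (MulAut.conj u⁻¹⁻¹).toMonoidHom x = u * x * u⁻¹ := by simp
    rw [e]
    exact hux
  have := hgood _ hT u⁻¹ hTg x (Subgroup.subset_closure rfl)
  have h3 : x * (u⁻¹⁻¹ * x * u⁻¹)⁻¹ = ⁅x, u⁆ := by
    rw [commutatorElement_def]; group
  rw [h3] at this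
  exact this

end Cfsg.Agent.Lib.H10
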