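import Mathlib
import Cfsg.Agent.Lib.H16.BGHyp
import Cfsg.Agent.Lib.H8.BG1213b
import Cfsg.Agent.Lib.H8.BG12i
import Cfsg.Agent.Lib.H10.FrobCyc1
import Cfsg.Agent.S1408
import Cfsg.Agent.S1415

/-! # BG Lemma 13.1(b) (helper10), part 1: `D₁ = [M_σ ∩ H, M ∩ H]` centralizes the `E_{p²}` of a
complement of `H_σ` (board #1202/#1217 (A2), steps (i)-(vi)). -/

set_option autoImplicit false
set_option linter.style.haveILetI false
set_option linter.unusedSectionVars false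
set_option linter.unusedVariables false

open Cfsg

namespace Cfsg.Agent.Lib.H10.BG131b

open Cfsg.Agent.Lib.H16.BG
open Cfsg.Agent.Lib.H7.BG7
open Cfsg.Agent.Lib.H7.BG10
open Cfsg.Agent.Lib.H20.BGS
open Cfsg.Agent.Lib.H19 (IsPiCard)
open Cfsg.Agent.Lib.H1 (CoprimeAction)
open Cfsg.Agent.Lib.H10.FrobCyc
open scoped commutatorElement

universe u
variable {G : Type u} [Group G] [Finite G]

local notation:max "cj(" g ", " X ")" => Subgroup.map (MulEquiv.toMonoidHom (MulAut.conj g)) X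

/-- The recurring contradiction: an `E_{p²}`-subgroup `A'` of `M ∩ Ms` with `p ∉ σ(M)` forces
`M_σ ∩ Ms = 1`. -/
theorem false_of_elemAb_le (hG : IsMinSimpleOddOrder G) {M Ms : Subgroup G} (hM : IsCoatom M)
    (hMs : IsCoatom Ms) (hne : Ms ≠ M) {p : ℕ} [Fact p.Prime] (hpM : p ∉ sigma M)
    {A' : Subgroup G} (hA'M : A' ≤ M) (hA'Ms : A' ≤ Ms) (hA'e : IsElementaryAbelian p A')
    (hA'c : Nat.card A' = p ^ 2) {Y : Subgroup G} (hY1 : Y ≠ ⊥) (hYσ : Y ≤ sigmaCore M)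
    (hYMs : Y ≤ Ms) : False := by
  have hτ : p ∈ tau2 M := Cfsg.Agent.Lib.H20.BGT.mem_tau2_of_elemAb_sq hG hM hpM hA'M hA'e hA'c
  have h := (Cfsg.Agent.Lib.H16.BGHyp.h1417 hG M hM p hτ A' ⟨hA'M, hA'e, hA'c⟩).2.2.2.2.1 Ms hMs hne
    hA'Ms
  apply hY1
  rw [eq_bot_iff, ← h]
  exact le_inf hYσ hYMs

/-- the image of an elementary abelian subgroup under conjugation. -/
theorem isElementaryAbelian_map_conj {p : ℕ} {A : Subgroup G} (hA : IsElementaryAbelian p A)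
    (g : G) : IsElementaryAbelian p cj(g, A) := by
  refine ⟨⟨⟨?_⟩⟩, ?_⟩
  · rintro ⟨_, x, hx, rfl⟩ ⟨_, y, hy, rfl⟩
    apply Subtype.ext
    have h1 := hA.1.is_comm.comm ⟨x, hx⟩ ⟨y, hy⟩
    have h2 : x * y = y * x := congrArg Subtype.val h1
    show (MulAut.conj g).toMonoidHom x * (MulAut.conj g).toMonoidHom y =
      (MulAut.conj g).toMonoidHom y * (MulAut.conj g).toMonoidHom x
    rw [← map_mul, ← map_mul, h2]
  · rintro _ ⟨x, hx, rfl⟩
    rw [← map_pow, hA.2 x hx, map_one]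

theorem isNilpotent_of_le {N K : Subgroup G} (hN : Group.IsNilpotent ↥N) (hKN : K ≤ N) :
    Group.IsNilpotent ↥K := by
  haveI := hN
  exact Group.nilpotent_of_mulEquiv
    (MonoidHom.ofInjective (Subgroup.inclusion_injective hKN)).symm

end Cfsg.Agent.Lib.H10.BG131b
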