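import Mathlib
import Cfsg.Agent.Lib.H10.BG131b1

/-! # BG Lemma 13.1(b) (helper10), part 2: the main argument, with the `β`-supplement statement
(helper16's Step 0 (d')) as an explicit hypothesis. -/

set_option autoImplicit false
set_option linter.style.haveILetI false
set_option linter.unusedSectionVars false
set_option linter.unusedVariables false
set_option maxHeartbeats 800000

open Cfsg

namespace Cfsg.Agent.Lib.H10.BG131b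

open Cfsg.Agent.Lib.H16.BG
open Cfsg.Agent.Lib.H7.BG7
open Cfsg.Agent.Lib.H7.BG10
open Cfsg.Agent.Lib.H20.BGS
open Cfsg.Agent.Lib.H19 (IsPiCard)
open Cfsg.Agent.Lib.H1 (CoprimeAction)
open Cfsg.Agent.Lib.H10.FrobCyc
open scoped commutatorElement

universe u
variable {G : Type u} [Group G] [Finite G]

local notation:max "cj(" g ", " X ")" => Subgroup.map (MulEquiv.toMonoidHom (MulAut.conj g)) X

/-- helper16's Step 0 (d') (first conjunct of (A1) in board #1202) as a hypothesis. -/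
def HypD (G : Type u) [Group G] : Prop :=
  ∀ {M Ms : Subgroup G}, IsCoatom M → IsCoatom Ms → Ms ≠ M → ∀ {q : ℕ} [Fact q.Prime],
    q ∈ sigma M → q ∈ sigma Ms → ∀ {X : Subgroup G}, IsPGroup q X → X ≠ ⊥ → X ≤ M →
      Subgroup.normalizer (X : Set G) ≤ Ms →
      ∀ m ∈ Ms, ∃ k ∈ piCoreOf (beta Ms) Ms, ∃ n ∈ M ⊓ Ms, m = k * n

/-- Steps (i)-(v): the configuration produced from `p ∈ τ₂(H)`. -/
theorem exists_config (hG : IsMinSimpleOddOrder G) {M H : Subgroup G} (hM : IsCoatom M)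
    (hH : IsCoatom H) (hnc : ∀ g : G, H ≠ cj(g, M)) {p : ℕ} [hpf : Fact p.Prime]
    (hpM : p ∉ sigma M) {P₀ : Subgroup G} (hP₀ : Nat.card P₀ = p) (hP₀M : P₀ ≤ M) (hP₀H : P₀ ≤ H)
    (hcomm : ⁅sigmaCore M ⊓ H, M ⊓ H⁆ ≠ ⊥) (hpH : p ∈ tau2 H) :
    ∃ (A Q₁ : Subgroup G) (q : ℕ), q.Prime ∧ q ∈ sigma M ∧ A ≤ H ∧ IsElementaryAbelian p A ∧
      Nat.card A = p ^ 2 ∧ P₀ ≤ A ∧ IsPGroup q Q₁ ∧ Q₁ ≠ ⊥ ∧ Q₁ ≤ sigmaCore M ⊓ H ∧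
      M ⊓ H ≤ Subgroup.normalizer (Q₁ : Set G) ∧ A ≤ Subgroup.centralizer (Q₁ : Set G) := by
  have hU := Cfsg.Agent.Lib.H20.BGT.uniq3 hG
  have hp : p.Prime := hpf.out
  -- (ii)
  have hDI : sigmaCore M ⊓ H ≤ M ⊓ H := inf_le_inf_right _ (Cfsg.Agent.Lib.H20.BGS.sigmaCore_le M)
  have hID : M ⊓ H ≤ Subgroup.normalizer ((sigmaCore M ⊓ H : Subgroup G) : Set G) :=
    le_normalizer_inf'' (inf_le_left.trans (Cfsg.Agent.Lib.H20.BGS.le_normalizer_sigmaCore M))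
      (inf_le_right.trans Subgroup.le_normalizer)
  have hD₁D : ⁅sigmaCore M ⊓ H, M ⊓ H⁆ ≤ sigmaCore M ⊓ H :=
    Subgroup.le_normalizer_iff_commutator_le_left.mp hID
  have hD₁H' : ⁅sigmaCore M ⊓ H, M ⊓ H⁆ ≤ ⁅H, H⁆ := Subgroup.commutator_mono inf_le_right inf_le_right
  have hID₁ : M ⊓ H ≤ Subgroup.normalizer ((⁅sigmaCore M ⊓ H, M ⊓ H⁆ : Subgroup G) : Set G) :=
    Subgroup.normalizer_commutator_ge_right _ _
  have hD₁σ : IsPiCard (sigma M) (Nat.card ↥⁅sigmaCore M ⊓ H, M ⊓ H⁆) :=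
    Cfsg.Agent.Lib.H19.isPiCard_of_dvd (Subgroup.card_dvd_of_le (hD₁D.trans inf_le_left))
      (Cfsg.Agent.Lib.H20.BGS.sigmaCore_isPiCard M)
  have hP₀I : P₀ ≤ M ⊓ H := le_inf hP₀M hP₀H
  have hXH : P₀ ⊔ ⁅sigmaCore M ⊓ H, M ⊓ H⁆ ≤ H := sup_le hP₀H (hD₁D.trans inf_le_right)
  -- (i)
  obtain ⟨A₀, hA₀H, hA₀e, hA₀c⟩ := Cfsg.Agent.Lib.H8.BG12.exists_elemAb_sq hp hpH.2.2.2
  have hnilH : Group.IsNilpotent (sigmaCore H) :=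
    (Cfsg.Agent.Lib.H16.BGHyp.h1417 hG H hH p hpH A₀ ⟨hA₀H, hA₀e, hA₀c⟩).1
  have hXσ : ∀ r : ℕ, r.Prime → r ∣ Nat.card ↥(P₀ ⊔ ⁅sigmaCore M ⊓ H, M ⊓ H⁆ : Subgroup G) →
      r ∉ sigma H := by
    intro r hr hrd
    have h1 := hrd.trans (Cfsg.Agent.Lib.H19.card_sup_dvd_mul_of_le_normalizer (hP₀I.trans hID₁))
    rcases (Nat.Prime.dvd_mul hr).1 h1 with h2 | h2
    · rw [hP₀] at h2
      have : r = p := (Nat.prime_dvd_prime_iff_eq hr hp).1 h2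
      rw [this]; exact hpH.2.1
    · exact Cfsg.Agent.Lib.H20.BGT.not_mem_sigma_of_mem_sigma hG hM hH hnc hnilH (hD₁σ r hr h2)
  obtain ⟨E, hE, hXE⟩ := Cfsg.Agent.Lib.H19.BG13.exists_compl_ge hG hH hXH hXσ
  -- (iii)
  have c : Cfsg.Agent.Lib.H8.BG12.Ctx H E :=
    ⟨hG, hU, Cfsg.Agent.Lib.H16.BGHyp.hypCent hG, Cfsg.Agent.Lib.H16.BGHyp.hyp1417 hG, hH, hE⟩
  obtain ⟨Q, A, d⟩ := c.exists_tData hpH
  have hP₀A : P₀ ≤ A := d.line_le c (le_sup_left.trans hXE) hP₀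
  have hD₁E : ⁅sigmaCore M ⊓ H, M ⊓ H⁆ ≤ E := le_sup_right.trans hXE
  -- (iv)
  have hD₁E' : ⁅sigmaCore M ⊓ H, M ⊓ H⁆ ≤ ⁅E, E⁆ :=
    fun x hx => Cfsg.Agent.Lib.H8.BG12.commutator_inf_compl_le hE ⟨hD₁H' hx, hD₁E hx⟩
  have hnilE' : Group.IsNilpotent ↥⁅E, E⁆ := (Cfsg.Agent.S1415.result hG H hH E hE).1
  have hEA : E ≤ Subgroup.normalizer (A : Set G) := d.le_normalizer c
  have hD₁A : ⁅sigmaCore M ⊓ H, M ⊓ H⁆ ≤ Subgroup.centralizer (A : Set G) := by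
    intro x hx
    rw [Subgroup.mem_centralizer_iff]
    intro a ha
    have haE : a ∈ E := d.hAE ha
    have hxE : x ∈ E := hD₁E hx
    have hc₀E' : a * x * a⁻¹ * x⁻¹ ∈ ⁅E, E⁆ := by
      have h1 : a * x * a⁻¹ ∈ ⁅E, E⁆ :=
        conj_mem_of_le_normalizer (Subgroup.normalizer_commutator_ge_left E E) haE (hD₁E' hx)
      exact Subgroup.mul_mem _ h1 (Subgroup.inv_mem _ (hD₁E' hx))
    have hc₀A : a * x * a⁻¹ * x⁻¹ ∈ A := by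
      have h1 : x * a⁻¹ * x⁻¹ ∈ A := conj_mem_of_le_normalizer hEA hxE (A.inv_mem ha)
      have h2 : a * x * a⁻¹ * x⁻¹ = a * (x * a⁻¹ * x⁻¹) := by group
      rw [h2]; exact A.mul_mem ha h1
    have hcop : (orderOf (a * x * a⁻¹ * x⁻¹)).Coprime (orderOf x) := by
      have h1 : orderOf (a * x * a⁻¹ * x⁻¹) ∣ p ^ 2 := by
        rw [← d.hAc]; exact Subgroup.orderOf_dvd_natCard A hc₀A
      have h2 : orderOf x ∣ Nat.card ↥⁅sigmaCore M ⊓ H, M ⊓ H⁆ := Subgroup.orderOf_dvd_natCard _ hx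
      apply Nat.Coprime.coprime_dvd_left h1
      apply Nat.Coprime.pow_left
      rw [Nat.Prime.coprime_iff_not_dvd hp]
      intro h3
      exact hpM (hD₁σ p hp (h3.trans h2))
    have hcx : (a * x * a⁻¹ * x⁻¹) * x = x * (a * x * a⁻¹ * x⁻¹) :=
      Cfsg.Agent.Lib.H8.mul_comm_of_coprime_of_mem_nilpotent ⁅E, E⁆ hnilE' hc₀E' (hD₁E' hx) hcop
    have h1 : a * x * a⁻¹ * x⁻¹ = 1 :=
      Cfsg.Agent.Lib.H19.BG13.eq_one_of_conj_eq_mul hcx hcop (by group : a * x * a⁻¹ = _ * x)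
    calc a * x = (a * x * a⁻¹ * x⁻¹) * x * a := by group
      _ = x * a := by rw [h1, one_mul]
  -- (v)
  have hD₁card : Nat.card ↥⁅sigmaCore M ⊓ H, M ⊓ H⁆ ≠ 1 := fun h => hcomm (Subgroup.card_eq_one.mp h)
  obtain ⟨q, hq, hqd⟩ := Nat.exists_prime_and_dvd hD₁card
  haveI : Fact q.Prime := ⟨hq⟩
  have hqM : q ∈ sigma M := hD₁σ q hq hqd
  obtain ⟨Q₁, hQ₁⟩ := SylIn.exists_sylIn q ⁅sigmaCore M ⊓ H, M ⊓ H⁆
  have hQ₁1 : Q₁ ≠ ⊥ := hQ₁.ne_bot hqd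
  have hnilD₁ : Group.IsNilpotent ↥⁅sigmaCore M ⊓ H, M ⊓ H⁆ := isNilpotent_of_le hnilE' hD₁E'
  have hIQ₁ : M ⊓ H ≤ Subgroup.normalizer (Q₁ : Set G) :=
    hID₁.trans (Cfsg.Agent.Lib.H8.BG12.normalizer_le_of_sylIn_nilpotent hnilD₁ hQ₁)
  have hAQ₁ : A ≤ Subgroup.centralizer (Q₁ : Set G) :=
    Subgroup.le_centralizer_iff.mp (hQ₁.le.trans hD₁A)
  exact ⟨A, Q₁, q, hq, hqM, d.hAE.trans hE.1, d.hAe, d.hAc, hP₀A, hQ₁.isPGroup, hQ₁1,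
    hQ₁.le.trans hD₁D, hIQ₁, hAQ₁⟩

end Cfsg.Agent.Lib.H10.BG131b
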