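import Mathlib
import Cfsg.Agent.Lib.H10.BG131b2

/-! # BG Lemma 13.1(b) (helper10), part 3: the case analysis on `M(N_G(Q₁))`. -/

set_option autoImplicit false
set_option linter.style.haveILetI false
set_option linter.unusedSectionVars false
set_option linter.unusedVariables false
set_option maxHeartbeats 800000

open Cfsg

namespace Cfsg.Agent.Lib.H10.BG131b

open Cfsg.Agent.Lib.H16.BG
open Cfsg.Agent.Lib.H7.BG7
open Cfsg.Agent.Lib.H7.BG10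
open Cfsg.Agent.Lib.H20.BGS
open Cfsg.Agent.Lib.H19 (IsPiCard)
open Cfsg.Agent.Lib.H1 (CoprimeAction)
open Cfsg.Agent.Lib.H10.FrobCyc
open scoped commutatorElement

universe u
variable {G : Type u} [Group G] [Finite G]

local notation:max "cj(" g ", " X ")" => Subgroup.map (MulEquiv.toMonoidHom (MulAut.conj g)) X

theorem map_conj_le_of_mem {A K : Subgroup G} (hAK : A ≤ K) {m : G} (hm : m ∈ K) :
    cj(m, A) ≤ K := by
  rintro _ ⟨x, hx, rfl⟩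
  show m * x * m⁻¹ ∈ K
  exact K.mul_mem (K.mul_mem hm (hAK hx)) (K.inv_mem hm)

/-- **BG Lemma 13.1(b)** modulo helper16's `(d')`. -/
theorem not_tau2_of_commutator_ne_bot_aux (hG : IsMinSimpleOddOrder G) (hD : HypD G)
    {M H : Subgroup G} (hM : IsCoatom M) (hH : IsCoatom H) (hnc : ∀ g : G, H ≠ cj(g, M))
    {p : ℕ} [hpf : Fact p.Prime] (hpM : p ∉ sigma M) {P₀ : Subgroup G} (hP₀ : Nat.card P₀ = p)
    (hP₀M : P₀ ≤ M) (hP₀H : P₀ ≤ H) (hcomm : ⁅sigmaCore M ⊓ H, M ⊓ H⁆ ≠ ⊥) : p ∉ tau2 H := by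
  intro hpH
  obtain ⟨A, Q₁, q, hq, hqM, hAH, hAe, hAc, hP₀A, hQ₁q, hQ₁1, hQ₁D, hIQ₁, hAQ₁⟩ :=
    exists_config hG hM hH hnc hpM hP₀ hP₀M hP₀H hcomm hpH
  haveI : Fact q.Prime := ⟨hq⟩
  have hU := Cfsg.Agent.Lib.H20.BGT.uniq3 hG
  have hp : p.Prime := hpf.out
  have hHM : H ≠ M := by
    intro e
    apply hnc 1
    rw [Cfsg.Agent.Lib.H10.map_conj_one]
    exact e
  have hQ₁σ : Q₁ ≤ sigmaCore M := hQ₁D.trans inf_le_left
  have hQ₁M : Q₁ ≤ M := hQ₁σ.trans (Cfsg.Agent.Lib.H20.BGS.sigmaCore_le M)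
  have hQ₁H : Q₁ ≤ H := hQ₁D.trans inf_le_right
  have hAp : IsPGroup p A := isPGroup_of_elemAb hAe
  have hP₀p : IsPGroup p P₀ := IsPGroup.of_card (n := 1) (by rw [hP₀, pow_one])
  -- `Ms ∈ M(N_G(Q₁))`
  obtain ⟨Ms, hMs, hNMs⟩ := exists_coatom_ge (normalizer_ne_top_of_isPGroup hG hQ₁q hQ₁1)
  have hAMs : A ≤ Ms := hAQ₁.trans ((Subgroup.centralizer_le_normalizer _).trans hNMs)
  have hIMs : M ⊓ H ≤ Ms := hIQ₁.trans hNMs
  have hQ₁Ms : Q₁ ≤ Ms := Subgroup.le_normalizer.trans hNMs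
  have hP₀Ms : P₀ ≤ Ms := (le_inf hP₀M hP₀H).trans hIMs
  by_cases hMsM : Ms = M
  · -- (vi)
    rw [hMsM] at hAMs
    exact false_of_elemAb_le hG hM hH hHM hpM hAMs hAH hAe hAc hQ₁1 hQ₁σ hQ₁H
  -- (vii)
  obtain ⟨S', hS', hQ₁S'⟩ := SylIn.exists_ge hQ₁q (le_inf hQ₁M hQ₁Ms : Q₁ ≤ M ⊓ Ms)
  obtain ⟨hncs, hNS', hS'Ms⟩ := Cfsg.Agent.Lib.H20.BGT.sigma_subgroup_embedding hG
    (Cfsg.Agent.Lib.H16.BGHyp.h1416a hG) hM hqM hQ₁q hQ₁1 hQ₁M hMs hMsM hNMs hS' hQ₁S'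
  have hS'1 : S' ≠ ⊥ := fun h => hQ₁1 (le_bot_iff.mp (h ▸ hQ₁S'))
  by_cases hqs : q ∈ sigma Ms
  · -- (a)
    have hnotideal : ¬ IsIdealPrime p G :=
      (Cfsg.Agent.S1408.result hG H hH p hpH.2.1 hpH.2.2.1 hpH.2.2.2).1
    have hfac := hD hM hMs hMsM hqM hqs hQ₁q hQ₁1 hQ₁M hNMs
    have hKD : piCore (beta Ms) ↥Ms ⊔ (M ⊓ Ms).subgroupOf Ms = ⊤ := by
      rw [eq_top_iff]
      intro t _
      obtain ⟨k, hk, n, hn, hkn⟩ := hfac t.1 t.2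
      obtain ⟨k', hk', rfl⟩ := hk
      have hnMs : n ∈ Ms := hn.2
      have ht : t = k' * ⟨n, hnMs⟩ := Subtype.ext hkn
      rw [ht]
      exact Subgroup.mul_mem_sup hk' (Subgroup.mem_subgroupOf.mpr hn)
    have hsolv : Group.IsSolvable ↥Ms := solvable_of_coatom hG hMs
    obtain ⟨hHallβ, -⟩ := Cfsg.Agent.S1414.result hG Ms hMs
    have hKcard : IsPiCard (beta Ms) (Nat.card ↥(piCore (beta Ms) ↥Ms)) :=
      Cfsg.Agent.Lib.H19.piCore_isPiCard (beta Ms)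
    have hrel : (piCoreOf (beta Ms) Ms).relIndex Ms = (piCore (beta Ms) ↥Ms).index := by
      unfold piCoreOf Subgroup.relIndex
      rw [Subgroup.subgroupOf, Subgroup.comap_map_eq_self_of_injective Ms.subtype_injective]
    have hHall : (Nat.card ↥(piCore (beta Ms) ↥Ms)).Coprime (piCore (beta Ms) ↥Ms).index :=
      Cfsg.Agent.Lib.H20.BGT.coprime_card_index_of_hall hKcard
        (fun r hr hrβ => by rw [← hrel]; exact hHallβ.2.2 r hr hrβ)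
    have hpβ : p ∉ beta Ms := fun h => hnotideal h.2
    have hY : (Nat.card ↥A).Coprime (Nat.card ↥(piCore (beta Ms) ↥Ms)) := by
      rw [hAc]
      apply Nat.Coprime.pow_left
      rw [Nat.Prime.coprime_iff_not_dvd hp]
      exact fun hd => hpβ (hKcard p hp hd)
    obtain ⟨h, hhMs, hle⟩ := Cfsg.Agent.Lib.H20.BGT.exists_conj_le_of_supplement_amb hsolv
      (piCore (beta Ms) ↥Ms) hHall (M ⊓ Ms) hKD hAMs hY
    exact false_of_elemAb_le hG hM hMs hMsM hpM (hle.trans inf_le_left) (hle.trans inf_le_right)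
      (isElementaryAbelian_map_conj hAe h) (by rw [Cfsg.Agent.Lib.H10.card_map_conj, hAc])
      hQ₁1 hQ₁σ hQ₁Ms
  · -- (b)
    have hS'nc : ¬ IsCyclic ↥S' := by
      intro hc
      have h1 : Subgroup.normalizer (S' : Set G) ≤ Ms :=
        (Cfsg.Agent.Lib.H20.BGT.normalizer_le_normalizer_of_le_cyclic hc hQ₁S').trans hNMs
      exact hqs (Cfsg.Agent.Lib.H19.BG13.mem_sigma_of_sylIn hS'Ms hS'1 h1)
    have hq2 : q ≠ 2 := Cfsg.Agent.Lib.H20.BGT.prime_ne_two' hG hS'.isPGroup hS'1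
    obtain ⟨Aq, hAqS', hAqe, hAqc⟩ :=
      Cfsg.Agent.Lib.H20.BGT.exists_elemAb_sq_of_not_cyclic hq2 hS'.isPGroup hS'nc
    have hAqM : Aq ≤ M := hAqS'.trans (hS'.le.trans inf_le_left)
    have hAqMs : Aq ≤ Ms := hAqS'.trans (hS'.le.trans inf_le_right)
    have hAqq : IsPGroup q Aq := isPGroup_of_elemAb hAqe
    have hqτ : q ∈ tau2 Ms :=
      Cfsg.Agent.Lib.H20.BGT.mem_tau2_of_elemAb_sq hG hMs hqs hAqMs hAqe hAqc
    have hbot : sigmaCore Ms ⊓ M = ⊥ :=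
      (Cfsg.Agent.Lib.H16.BGHyp.h1417 hG Ms hMs q hqτ Aq ⟨hAqMs, hAqe, hAqc⟩).2.2.2.2.1 M hM
        (Ne.symm hMsM) hAqM
    have hpMs : p ∉ sigma Ms := by
      intro hps
      have h1 : P₀ ≤ sigmaCore Ms :=
        Cfsg.Agent.Lib.H20.BGT.le_sigmaCore_of_isPiCard hG hMs hP₀Ms
          (isPiCard_of_isPGroup hp hps hP₀p)
      have h2 : P₀ ≤ ⊥ := by rw [← hbot]; exact le_inf h1 hP₀M
      have h3 : P₀ = ⊥ := le_bot_iff.mp h2
      rw [h3, Subgroup.card_bot] at hP₀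
      exact hp.one_lt.ne hP₀
    have hpτ : p ∈ tau2 Ms :=
      Cfsg.Agent.Lib.H20.BGT.mem_tau2_of_elemAb_sq hG hMs hpMs hAMs hAe hAc
    have hAqσ : ∀ r : ℕ, r.Prime → r ∣ Nat.card ↥Aq → r ∉ sigma Ms := by
      intro r hr hrd
      rw [hAqc] at hrd
      have : r = q := (Nat.prime_dvd_prime_iff_eq hr hq).1 (hr.dvd_of_dvd_pow hrd)
      rw [this]; exact hqs
    obtain ⟨Es, hEs, hAqEs⟩ := Cfsg.Agent.Lib.H19.BG13.exists_compl_ge hG hMs hAqMs hAqσ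
    have hσs : IsPiHallOf (sigma Ms) (sigmaCore Ms) Ms := (sigma_core_hall hG hU hMs).1
    obtain ⟨T, hT⟩ := SylIn.exists_sylIn p Es
    have hTMs : SylIn p T Ms := Cfsg.Agent.Lib.H8.BG12.sylIn_of_compl hσs hEs hpMs hT
    obtain ⟨m, hm, hle⟩ := hTMs.exists_conj_le hAp hAMs
    have hA'Es : cj(m, A) ≤ Es := hle.trans hT.le
    have hEsAq : Es ≤ Subgroup.normalizer (Aq : Set G) :=
      (Cfsg.Agent.S1418.result hG Ms hMs Es hEs q hqτ Aq ⟨hAqEs, hAqe, hAqc⟩).1.1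
    have hcent : Aq ≤ Subgroup.centralizer ((cj(m, A) : Subgroup G) : Set G) :=
      Cfsg.Agent.Lib.H19.BG13.le_centralizer_of_tau2_tau2 hG (Cfsg.Agent.Lib.H16.BGHyp.hyp13 hG) hMs
        hpτ hqτ (hAp.map _) hAqq (hA'Es.trans hEs.1) hAqMs (hA'Es.trans hEsAq)
    have hA'M : cj(m, A) ≤ M :=
      (Subgroup.le_centralizer_iff.mp hcent).trans
        (Cfsg.Agent.Lib.H16.BGHyp.h1416a hG M hM q Aq hAqM hAqe hAqc)
    exact false_of_elemAb_le hG hM hMs hMsM hpM hA'M (map_conj_le_of_mem hAMs hm)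
      (isElementaryAbelian_map_conj hAe m) (by rw [Cfsg.Agent.Lib.H10.card_map_conj, hAc])
      hQ₁1 hQ₁σ hQ₁Ms

end Cfsg.Agent.Lib.H10.BG131b
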