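import Mathlib
import Cfsg.Agent.Lib.H10.BG131b3
import Cfsg.Agent.Lib.H16.BG134c

/-! # BG Lemma 13.1(b) (helper10), unconditional (board #1202/#1217 (A2)). -/

set_option autoImplicit false
set_option linter.style.haveILetI false
set_option linter.unusedSectionVars false
set_option linter.unusedVariables false

open Cfsg

namespace Cfsg.Agent.Lib.H10.BG131b

universe u
variable {G : Type u} [Group G] [Finite G]

local notation:max "cj(" g ", " X ")" => Subgroup.map (MulEquiv.toMonoidHom (MulAut.conj g)) X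

theorem hypD (hG : IsMinSimpleOddOrder G) : HypD G :=
  fun hM hMs hne _ _ hq hqs _ hXq hX1 hXM hNX =>
    Cfsg.Agent.Lib.H16.BG134.sigma_embedding_d' hG hM hMs hne hq hqs hXq hX1 hXM hNX

/-- **BG Lemma 13.1(b)**: if `H` is not conjugate to `M`, `p ∉ σ(M)`, `M ∩ H` contains a subgroup
of order `p`, and `[M_σ ∩ H, M ∩ H] ≠ 1`, then `p ∉ τ₂(H)`. -/
theorem not_tau2_of_commutator_ne_bot (hG : IsMinSimpleOddOrder G) {M H : Subgroup G}
    (hM : IsCoatom M) (hH : IsCoatom H) (hnc : ∀ g : G, H ≠ cj(g, M)) {p : ℕ} [Fact p.Prime]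
    (hpM : p ∉ sigma M) {P₀ : Subgroup G} (hP₀ : Nat.card P₀ = p) (hP₀M : P₀ ≤ M) (hP₀H : P₀ ≤ H)
    (hcomm : ⁅sigmaCore M ⊓ H, M ⊓ H⁆ ≠ ⊥) : p ∉ tau2 H :=
  not_tau2_of_commutator_ne_bot_aux hG (hypD hG) hM hH hnc hpM hP₀ hP₀M hP₀H hcomm

end Cfsg.Agent.Lib.H10.BG131b
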