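import Mathlib
import Cfsg.Agent.Lib.H10.FrobCyc1
import Cfsg.Agent.Lib.H8.FrobFormula2
import Cfsg.Agent.Lib.H16.ClassTwo
import Cfsg.Agent.Lib.H16.SylCommA
import Cfsg.Agent.Lib.H1.CoprimeAction
import Cfsg.Agent.Lib.H1.Complement

/-! helper10: Frobenius group `QR` acting on a `p`-group `S` with `C_S(R)` cyclic
(board #1202 (X')). -/

set_option autoImplicit false
set_option linter.style.haveILetI false

open scoped commutatorElement

namespace Cfsg.Agent.Lib.H10.FrobCyc

universe u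
variable {X : Type u} [Group X]

/-- In a cyclic subgroup `C`, an element of `C` with `c ^ p = 1` lies in every subgroup of `C`
of order `p`. -/
theorem mem_of_pow_eq_one_of_isCyclic [Finite X] {C P : Subgroup X} [IsCyclic ↥C] (hPC : P ≤ C)
    {p : ℕ} (hp : p.Prime) (hPc : Nat.card P = p) {c : X} (hc : c ∈ C) (hcp : c ^ p = 1) :
    c ∈ P := by
  letI : CommGroup ↥C := IsCyclic.commGroup
  set K : Subgroup ↥C := (powMonoidHom p : ↥C →* ↥C).ker with hKdef
  have hK : Nat.card K = Nat.gcd (Nat.card ↥C) p := IsCyclic.card_powMonoidHom_ker (G := ↥C) p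
  have hKle : Nat.card K ≤ p := by
    rw [hK]; exact Nat.le_of_dvd hp.pos (Nat.gcd_dvd_right _ _)
  have hP'K : P.subgroupOf C ≤ K := by
    intro x hx
    rw [Subgroup.mem_subgroupOf] at hx
    rw [hKdef, MonoidHom.mem_ker, powMonoidHom_apply]
    apply Subtype.ext
    have h1 : (⟨(x : X), hx⟩ : ↥P) ^ Nat.card ↥P = 1 := pow_card_eq_one'
    rw [hPc] at h1
    have h2 := congrArg Subtype.val h1
    simpa using h2
  have hcard : Nat.card (P.subgroupOf C) = p := by
    rw [← hPc]
    exact Nat.card_congr (Subgroup.subgroupOfEquivOfLe hPC).toEquiv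
  have hEq : P.subgroupOf C = K :=
    Subgroup.eq_of_le_of_card_ge hP'K (by rw [hcard]; exact hKle)
  have hcK : (⟨c, hc⟩ : ↥C) ∈ K := by
    rw [hKdef, MonoidHom.mem_ker, powMonoidHom_apply]
    apply Subtype.ext
    simpa using hcp
  rw [← hEq, Subgroup.mem_subgroupOf] at hcK
  exact hcK

/-- a maximal subgroup of `S`, normal in `S Q R` and centralized by `Q` -/
theorem exists_max_normal_centralized [Finite X] (S Q R : Subgroup X) :
    ∃ N : Subgroup X, (N ≤ S ∧ S ≤ Subgroup.normalizer (N : Set X) ∧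
        Q ≤ Subgroup.normalizer (N : Set X) ∧ R ≤ Subgroup.normalizer (N : Set X) ∧
        N ≤ Subgroup.centralizer (Q : Set X)) ∧
      ∀ N' : Subgroup X, (N' ≤ S ∧ S ≤ Subgroup.normalizer (N' : Set X) ∧
        Q ≤ Subgroup.normalizer (N' : Set X) ∧ R ≤ Subgroup.normalizer (N' : Set X) ∧
        N' ≤ Subgroup.centralizer (Q : Set X)) → N ≤ N' → N' = N := by
  classical
  let F : Set (Subgroup X) := {N | N ≤ S ∧ S ≤ Subgroup.normalizer (N : Set X) ∧
        Q ≤ Subgroup.normalizer (N : Set X) ∧ R ≤ Subgroup.normalizer (N : Set X) ∧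
        N ≤ Subgroup.centralizer (Q : Set X)}
  have hbot : (⊥ : Subgroup X) ∈ F := by
    refine ⟨bot_le, ?_, ?_, ?_, bot_le⟩ <;>
    · rw [Subgroup.normalizer_eq_top]; exact le_top
  obtain ⟨N, hNF, hmax⟩ := Set.exists_max_image F (fun N => Nat.card N) (Set.toFinite F) ⟨⊥, hbot⟩
  refine ⟨N, hNF, ?_⟩
  intro N' hN' hle
  exact (Subgroup.eq_of_le_of_card_ge hle (hmax N' hN')).symm

end Cfsg.Agent.Lib.H10.FrobCyc
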