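import Mathlib
import Cfsg.Agent.Lib.H10.FrobCyc2

/-! helper10: Frobenius group `QR` acting on a `p`-group `S` with `C_S(R)` cyclic
(board #1202 (X')): main theorem. -/

set_option autoImplicit false
set_option linter.style.haveILetI false
set_option linter.unusedVariables false

open scoped commutatorElement

namespace Cfsg.Agent.Lib.H10.FrobCyc

open Cfsg.Agent.Lib.H1 Cfsg.Agent.Lib.H8 Cfsg.Agent.Lib.H16

universe u

/-- Frobenius group `QR` (`R` of prime order `r`, fixed-point-free on the abelian `p'`-group `Q`)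
acting on a `p`-group `S`, `p` odd, with `C_S(R)` cyclic and its subgroup `P` of order `p`
centralized by `Q`. Then `Q` centralizes `S`. -/
theorem le_centralizer_of_frobenius_of_cyclic_fixed {X : Type u} [Group X] [Finite X] {p : ℕ}
    [Fact p.Prime] (hp2 : p ≠ 2) {S Q R P : Subgroup X} (hS : IsPGroup p S)
    (hQS : Q ≤ Subgroup.normalizer (S : Set X)) (hRS : R ≤ Subgroup.normalizer (S : Set X))
    (hRQ : R ≤ Subgroup.normalizer (Q : Set X)) (hQc : IsMulCommutative Q)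
    (hQp : (Nat.card Q).Coprime p) (hRr : (Nat.card R).Prime) (hRp : Nat.card R ≠ p)
    (hfpf : Q ⊓ Subgroup.centralizer (R : Set X) = ⊥) (hPS : P ≤ S) (hPc : Nat.card P = p)
    (hPR : P ≤ Subgroup.centralizer (R : Set X)) (hPQ : P ≤ Subgroup.centralizer (Q : Set X))
    (hcyc : IsCyclic ↥(S ⊓ Subgroup.centralizer (R : Set X))) :
    Q ≤ Subgroup.centralizer (S : Set X) := by
  classical
  have hp : p.Prime := Fact.out
  have hodd : Odd p := hp.odd_of_ne_two hp2
  by_cases hQ1 : Q = ⊥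
  · rw [hQ1]; exact bot_le
  by_contra hcon
  obtain ⟨N, ⟨hNS, hSN, hQN, hRN, hNQ⟩, hNmax⟩ := exists_max_normal_centralized S Q R
  have hne : N ≠ S := by
    intro h
    rw [h] at hNQ
    exact hcon (Subgroup.le_centralizer_iff.mp hNQ)
  obtain ⟨A, hNA, hAS, ⟨x₀, hx₀A, hx₀N⟩, hAc, hAp, hAnorm⟩ := exists_omegaZMod hS hNS hSN hne
  have hSA : S ≤ Subgroup.normalizer (A : Set X) :=
    fun s hs => hAnorm s (Subgroup.le_normalizer hs) (hSN hs)
  have hQA : Q ≤ Subgroup.normalizer (A : Set X) := fun s hs => hAnorm s (hQS hs) (hQN hs)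
  have hRA : R ≤ Subgroup.normalizer (A : Set X) := fun s hs => hAnorm s (hRS hs) (hRN hs)
  -- (iv)
  have hCAQ : A ⊓ Subgroup.centralizer (Q : Set X) ≤ N := by
    have hNK : N ≤ (A ⊓ Subgroup.centralizer (Q : Set X)) ⊔ N := le_sup_right
    have hKA : (A ⊓ Subgroup.centralizer (Q : Set X)) ⊔ N ≤ A := sup_le inf_le_left hNA
    have hKeq := hNmax _ ⟨hKA.trans hAS, le_normalizer_of_between hNK hKA hAc,
       le_normalizer_sup'' (le_normalizer_inf'' hQA
         (le_normalizer_centralizer'' Subgroup.le_normalizer)) hQN,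
       le_normalizer_sup'' (le_normalizer_inf'' hRA (le_normalizer_centralizer'' hRQ)) hRN,
       sup_le inf_le_right hNQ⟩ hNK
    rw [← hKeq]; exact le_sup_left
  -- `B = [A, Q]`
  have hAA : IsPGroup p A := hS.to_le hAS
  obtain ⟨nA, hnA⟩ := IsPGroup.iff_card.mp hAA
  have hcopA : CoprimeAction Q A :=
    { normalizes := hQA
      coprime := by rw [hnA]; exact Nat.Coprime.pow_right nA hQp
      solvable := Or.inr (by
        haveI := hAA.isNilpotent
        infer_instance) }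
  have hBA : ⁅A, Q⁆ ≤ A := hcopA.commutator_le
  have hdec : ∀ a ∈ A, ∃ b ∈ ⁅A, Q⁆, ∃ c ∈ A ⊓ Subgroup.centralizer (Q : Set X), a = b * c := by
    intro a ha
    have h1 : a ∈ ⁅A, Q⁆ ⊔ (A ⊓ Subgroup.centralizer (Q : Set X)) := by
      rw [coprime_commutator_sup_centralizer hcopA]; exact ha
    exact mem_sup_of_le_normalizer
      (inf_le_left.trans (Subgroup.normalizer_commutator_ge_left A Q)) h1
  have hQB : Q ≤ Subgroup.normalizer ((⁅A, Q⁆ : Subgroup X) : Set X) :=
    Subgroup.normalizer_commutator_ge_right A Q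
  have hRB : R ≤ Subgroup.normalizer ((⁅A, Q⁆ : Subgroup X) : Set X) :=
    le_normalizer_commutator'' hRA hRQ
  -- (vi)
  have hBN : ⁅⁅A, Q⁆, N⁆ = ⊥ := by
    apply Subgroup.commutator_commutator_eq_bot_of_rotate
    · have h1 : ⁅Q, N⁆ = ⊥ :=
        Subgroup.commutator_eq_bot_iff_le_centralizer.mpr (Subgroup.le_centralizer_iff.mp hNQ)
      rw [h1, Subgroup.commutator_bot_left]
    · have h1 : ⁅N, A⁆ ≤ N := (Subgroup.le_normalizer_iff_commutator_le_left).mp (hAS.trans hSN)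
      have h2 : ⁅N, Q⁆ = ⊥ := Subgroup.commutator_eq_bot_iff_le_centralizer.mpr hNQ
      rw [eq_bot_iff, ← h2]; exact Subgroup.commutator_mono h1 le_rfl
  have hcommBN : ∀ b ∈ ⁅A, Q⁆, ∀ n ∈ N, Commute b n := by
    intro b hb n hn
    have h1 := Subgroup.commutator_eq_bot_iff_le_centralizer.mp hBN hb
    exact (Subgroup.mem_centralizer_iff.mp h1 n hn).symm
  have hcommQN : ∀ q ∈ Q, ∀ n ∈ N, q * n * q⁻¹ = n := by
    intro q hq n hn
    have h1 := Subgroup.mem_centralizer_iff.mp (hNQ hn) q hq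
    rw [h1]; group
  -- (viii) power map is multiplicative on `B`
  have hmulpow : ∀ x ∈ ⁅A, Q⁆, ∀ y ∈ ⁅A, Q⁆, (x * y) ^ p = x ^ p * y ^ p := by
    intro x hx y hy
    have h : y * x = x * y * ⁅y⁻¹, x⁻¹⁆ := by rw [commutatorElement_def]; group
    have hcN : ⁅y⁻¹, x⁻¹⁆ ∈ N :=
      hAc _ (A.inv_mem (hBA hy)) _ (S.inv_mem (hAS (hBA hx)))
    have hcx : Commute ⁅y⁻¹, x⁻¹⁆ x := (hcommBN x hx _ hcN).symm
    have hcy : Commute ⁅y⁻¹, x⁻¹⁆ y := (hcommBN y hy _ hcN).symm
    have hyp : Commute (y ^ p) x := (hcommBN x hx _ (hAp y (hBA hy))).symm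
    have hc : ⁅y⁻¹, x⁻¹⁆ ^ p = 1 := pow_eq_one_of_pow_commute h hcy hyp
    exact mul_pow_eq_of_central h hcx hcy hodd hc
  let K' : Subgroup X :=
    { carrier := {x | x ∈ ⁅A, Q⁆ ∧ x ^ p = 1}
      one_mem' := ⟨Subgroup.one_mem _, one_pow _⟩
      mul_mem' := by
        rintro x y ⟨hx, hxp⟩ ⟨hy, hyp⟩
        exact ⟨Subgroup.mul_mem _ hx hy, by rw [hmulpow x hx y hy, hxp, hyp, one_mul]⟩
      inv_mem' := by
        rintro x ⟨hx, hxp⟩
        exact ⟨Subgroup.inv_mem _ hx, by rw [inv_pow, hxp, inv_one]⟩ }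
  have hBK' : ⁅A, Q⁆ ≤ K' := by
    rw [Subgroup.commutator_le]
    intro a ha q hq
    obtain ⟨b, hb, c, hc, rfl⟩ := hdec a ha
    have hcq : c * q = q * c := (Subgroup.mem_centralizer_iff.mp hc.2 q hq).symm
    have h1 : ⁅b * c, q⁆ = b * (q * b⁻¹ * q⁻¹) := by
      rw [commutatorElement_def]
      calc b * c * q * (b * c)⁻¹ * q⁻¹ = b * (c * q) * c⁻¹ * b⁻¹ * q⁻¹ := by group
        _ = b * (q * c) * c⁻¹ * b⁻¹ * q⁻¹ := by rw [hcq]
        _ = b * (q * b⁻¹ * q⁻¹) := by group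
    have hy : q * b⁻¹ * q⁻¹ ∈ ⁅A, Q⁆ :=
      conj_mem_of_le_normalizer hQB hq (Subgroup.inv_mem _ hb)
    refine ⟨?_, ?_⟩
    · rw [h1]; exact Subgroup.mul_mem _ hb hy
    · rw [h1, hmulpow b hb _ hy, conj_pow, inv_pow,
        hcommQN q hq _ (N.inv_mem (hAp b (hBA hb))), mul_inv_cancel]
  have hexp : ∀ b ∈ ⁅A, Q⁆, b ^ p = 1 := fun b hb => (hBK' hb).2
  -- (ix) the Frobenius action of `QR` on `B`
  have hBp : IsPGroup p (⁅A, Q⁆ : Subgroup X) := hAA.to_le hBA
  obtain ⟨nB, hnB⟩ := IsPGroup.iff_card.mp hBp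
  haveI : Fact (Nat.card R).Prime := ⟨hRr⟩
  have hRcyc : IsCyclic ↥R := isCyclic_of_prime_card rfl
  have hRcomm : R ≤ Subgroup.centralizer (R : Set X) := by
    intro a ha
    rw [Subgroup.mem_centralizer_iff]
    intro b hb
    letI := IsCyclic.commGroup (α := ↥R)
    have := mul_comm (⟨b, hb⟩ : ↥R) ⟨a, ha⟩
    exact congrArg Subtype.val this
  have hcopR : p.Coprime (Nat.card R) := (Nat.coprime_primes hp hRr).mpr (Ne.symm hRp)
  have hFA : FrobAct Q R (⁅A, Q⁆ : Subgroup X) :=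
    { hU1 := hQ1
      hE1 := by
        intro h
        rw [h, Subgroup.card_bot] at hRr
        exact Nat.not_prime_one hRr
      hUE := by
        rw [eq_bot_iff, ← hfpf]
        exact inf_le_inf_left _ hRcomm
      hUn := fun e he u hu => conj_mem_of_le_normalizer hRQ he hu
      hfpf := by
        intro e he he1 u hu heu
        have h1 : u ∈ Q ⊓ Subgroup.centralizer (R : Set X) := by
          refine ⟨hu, ?_⟩
          show u ∈ Subgroup.centralizer (R : Set X)
          rw [Subgroup.mem_centralizer_iff]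
          intro r hr
          have h2 : (⟨r, hr⟩ : ↥R) ∈ Subgroup.zpowers (⟨e, he⟩ : ↥R) :=
            mem_zpowers_of_prime_card rfl (fun h => he1 (congrArg Subtype.val h))
          obtain ⟨k, hk⟩ := Subgroup.mem_zpowers_iff.mp h2
          have h3 : r = e ^ k := by
            have := congrArg Subtype.val hk
            simpa using this.symm
          rw [h3]
          have h4 : Commute e u := heu
          exact ((h4.zpow_left k).eq)
        rw [hfpf, Subgroup.mem_bot] at h1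
        exact h1
      hHn := fun x hx h hh => conj_mem_of_le_normalizer (sup_le hQB hRB) hx hh
      hdisj := by
        apply (Subgroup.disjoint_of_coprime_natCard _).eq_bot
        have h3 := Cfsg.Agent.Lib.H16.SylComm.card_sup_dvd_of_le_normalizer (H := R) (N := Q) hRQ
        rw [sup_comm] at h3
        rw [hnB]
        apply Nat.Coprime.pow_left
        exact Nat.Coprime.coprime_dvd_right h3 (Nat.Coprime.mul_right hcopR hQp.symm)
      hsolv := by
        haveI := hBp.isNilpotent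
        infer_instance
      hcop := by
        have h3 := Cfsg.Agent.Lib.H16.SylComm.card_sup_dvd_of_le_normalizer (H := R) (N := Q) hRQ
        rw [sup_comm] at h3
        rw [hnB]
        apply Nat.Coprime.pow_left
        exact Nat.Coprime.coprime_dvd_right h3 (Nat.Coprime.mul_right hcopR hQp.symm) }
  have hF := frobFormula Q R _ hFA
  unfold FrobFormula at hF
  -- `C_B(Q) = B ⊓ N`
  have hCBQ : (⁅A, Q⁆ : Subgroup X) ⊓ Subgroup.centralizer (Q : Set X) = ⁅A, Q⁆ ⊓ N := by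
    apply le_antisymm
    · exact le_inf inf_le_left ((inf_le_inf_right _ hBA).trans hCAQ)
    · exact inf_le_inf_left _ hNQ
  -- there is `c ∈ C_B(R)` outside `N`
  have hex : ∃ c ∈ (⁅A, Q⁆ : Subgroup X) ⊓ Subgroup.centralizer (R : Set X), c ∉ N := by
    by_contra hno
    have hle : (⁅A, Q⁆ : Subgroup X) ⊓ Subgroup.centralizer (R : Set X) ≤ N := by
      intro c hc
      by_contra hcN
      exact hno ⟨c, hc, hcN⟩
    have hE1 : (⁅A, Q⁆ : Subgroup X) ⊓ Subgroup.centralizer ((Q ⊔ R : Subgroup X) : Set X) =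
        ⁅A, Q⁆ ⊓ Subgroup.centralizer (R : Set X) := by
      apply le_antisymm
      · exact inf_le_inf_left _ (Subgroup.centralizer_le (by exact_mod_cast (le_sup_right : R ≤ Q ⊔ R)))
      · intro c hc
        refine ⟨hc.1, mem_centralizer_sup.mpr ⟨?_, hc.2⟩⟩
        exact hNQ (hle hc)
    rw [hE1, hCBQ] at hF
    have hpos : 0 < Nat.card ↥((⁅A, Q⁆ : Subgroup X) ⊓ Subgroup.centralizer (R : Set X)) ^
        Nat.card R := pow_pos Nat.card_pos _
    have hcardEq : Nat.card (⁅A, Q⁆ : Subgroup X) = Nat.card ↥((⁅A, Q⁆ : Subgroup X) ⊓ N) :=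
      Nat.eq_of_mul_eq_mul_left hpos hF
    have hBN' : (⁅A, Q⁆ : Subgroup X) ⊓ N = ⁅A, Q⁆ :=
      Subgroup.eq_of_le_of_card_ge inf_le_left hcardEq.le
    have hBleN : (⁅A, Q⁆ : Subgroup X) ≤ N := by
      rw [← hBN']; exact inf_le_right
    -- then `A ≤ N`
    obtain ⟨b, hb, c, hc, hx⟩ := hdec x₀ hx₀A
    apply hx₀N
    rw [hx]
    exact N.mul_mem (hBleN hb) (hCAQ hc)
  obtain ⟨c, hc, hcN⟩ := hex
  -- (x)
  have hcS : c ∈ S ⊓ Subgroup.centralizer (R : Set X) := ⟨hAS (hBA hc.1), hc.2⟩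
  have hcP : c ∈ P :=
    mem_of_pow_eq_one_of_isCyclic (le_inf hPS hPR) hp hPc hcS (hexp c hc.1)
  exact hcN (hCAQ ⟨hBA hc.1, hPQ hcP⟩)

end Cfsg.Agent.Lib.H10.FrobCyc
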