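import Mathlib
import Cfsg.Agent.Lib.H7.BG14v
import Cfsg.Agent.S1415
import Cfsg.Agent.S1417
import Cfsg.Agent.S1418
import Cfsg.Agent.S1420

/-! # BG Theorem 14.4 (helper10), part 1: elementary lemmas and the fusion statement. -/

set_option autoImplicit false
set_option linter.style.haveILetI false
set_option linter.unusedSectionVars false
set_option linter.unusedVariables false
set_option maxHeartbeats 800000

open Cfsg

namespace Cfsg.Agent.Lib.H10.BG144

open Cfsg.Agent.Lib.H16.BG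
open Cfsg.Agent.Lib.H7.BG7
open Cfsg.Agent.Lib.H7.BG10
open Cfsg.Agent.Lib.H20.BGS
open Cfsg.Agent.Lib.H19 (IsPiCard)
open scoped commutatorElement

universe u
variable {G : Type u} [Group G]

local notation:max "cj(" g ", " X ")" => Subgroup.map (MulEquiv.toMonoidHom (MulAut.conj g)) X

/-- In `N = E S` (complement, `S` normalized by `N`), an element of `N` commuting with `x ∈ E`
splits into commuting pieces. -/
theorem exists_mul_of_comm {E S N : Subgroup G} (h : IsComplIn E S N)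
    (hSn : N ≤ Subgroup.normalizer (S : Set G)) {x : G} (hx : x ∈ E) {n : G} (hn : n ∈ N)
    (hnx : n * x = x * n) :
    ∃ a ∈ E, ∃ b ∈ S, n = a * b ∧ a * x = x * a ∧ b * x = x * b := by
  obtain ⟨hEN, hSN, hES, hprod⟩ := h
  obtain ⟨a, ha, b, hb, rfl⟩ := hprod n hn
  have hxN : x ∈ N := hEN hx
  have hxn : x ∈ Subgroup.normalizer (S : Set G) := hSn hxN
  -- `t = b x b⁻¹ x⁻¹`
  have h1 : b * x * b⁻¹ * x⁻¹ ∈ S := by
    have h2 : x * b⁻¹ * x⁻¹ ∈ S := (Subgroup.mem_normalizer_iff.1 hxn b⁻¹).1 (S.inv_mem hb)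
    have := S.mul_mem hb h2
    have e : b * (x * b⁻¹ * x⁻¹) = b * x * b⁻¹ * x⁻¹ := by group
    rwa [e] at this
  have h3 : b * x * b⁻¹ = a⁻¹ * x * a := by
    have e : b * x = a⁻¹ * (a * b * x) := by group
    rw [e, hnx]; group
  have h4 : b * x * b⁻¹ * x⁻¹ ∈ E := by
    rw [h3]
    exact E.mul_mem (E.mul_mem (E.mul_mem (E.inv_mem ha) hx) ha) (E.inv_mem hx)
  have h5 : b * x * b⁻¹ * x⁻¹ = 1 := by
    have : b * x * b⁻¹ * x⁻¹ ∈ E ⊓ S := ⟨h4, h1⟩
    rw [hES] at this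
    exact Subgroup.mem_bot.1 this
  have hbx : b * x = x * b := by
    have e : b * x = (b * x * b⁻¹ * x⁻¹) * (x * b) := by group
    rw [e, h5, one_mul]
  refine ⟨a, ha, b, hb, rfl, ?_, hbx⟩
  calc a * x = (a * (x * b)) * b⁻¹ := by group
    _ = (a * b * x) * b⁻¹ := by rw [← hbx, mul_assoc a b x]
    _ = x * (a * b) * b⁻¹ := by rw [hnx]
    _ = x * a := by group


variable [Finite G]

/-- transitivity of `C_G(x)` on the conjugates of `M` through `x`. -/
def Trans (M : Subgroup G) (x : G) : Prop :=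
  ∀ g : G, x ∈ cj(g, M) → ∃ c ∈ Subgroup.centralizer ({x} : Set G), cj(g, M) = cj(c, M)

theorem mem_sigma_of_mem_sigmaCore (hG : IsMinSimpleOddOrder G) {M : Subgroup G} (hM : IsCoatom M)
    {x : G} (hx : x ∈ sigmaCore M) {p : ℕ} (hp : p.Prime) (hpx : p ∣ orderOf x) : p ∈ sigma M := by
  have hU := Cfsg.Agent.Lib.H20.BGT.uniq3 hG
  have hσ := (sigma_core_hall hG hU hM).1
  apply hσ.2.1 p hp
  refine hpx.trans ?_
  have := orderOf_dvd_natCard (⟨x, hx⟩ : sigmaCore M)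
  rwa [Subgroup.orderOf_mk] at this

/-- (T) for elements of prime order of `M_σ` (BG 10.1). -/
theorem trans_prime (hG : IsMinSimpleOddOrder G) {M : Subgroup G} (hM : IsCoatom M) {x : G}
    (hx : x ∈ sigmaCore M) {p : ℕ} [hp : Fact p.Prime] (hxp : orderOf x = p) : Trans M x := by
  intro g hg
  have hU := Cfsg.Agent.Lib.H20.BGT.uniq3 hG
  have hpσ : p ∈ sigma M := mem_sigma_of_mem_sigmaCore hG hM hx hp.out (by rw [hxp])
  obtain ⟨-, -, P₀, hNP⟩ := hpσ
  have hP : SylIn p ((P₀ : Subgroup M).map M.subtype) M := SylIn.of_sylow P₀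
  have hXp : IsPGroup p (Subgroup.zpowers x) :=
    IsPGroup.of_card (n := 1) (by rw [Nat.card_zpowers, hxp, pow_one])
  have hX1 : Subgroup.zpowers x ≠ ⊥ := by
    intro h
    rw [Subgroup.zpowers_eq_bot] at h
    rw [h, orderOf_one] at hxp
    exact hp.out.one_lt.ne hxp
  have hXM : Subgroup.zpowers x ≤ M := Subgroup.zpowers_le.2 (Cfsg.Agent.Lib.H20.BGS.sigmaCore_le M hx)
  obtain ⟨c, hc, hceq⟩ := conj_trans hG hU p _ M _ (Subgroup.zpowers x) hM hP hNP hXp hX1 rfl hXM g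
    (Subgroup.zpowers_le.2 hg)
  rw [centralizer_zpowers_eq] at hc
  exact ⟨c, hc, hceq⟩

/-- under (T), a maximal subgroup containing `C_G(x) ≰ M` is not conjugate to `M`. -/
theorem not_conj_of_trans {M N : Subgroup G} {x : G} (hT : Trans M x)
    (hCN : Subgroup.centralizer ({x} : Set G) ≤ N)
    (hC : ¬ Subgroup.centralizer ({x} : Set G) ≤ M) : ∀ g : G, N ≠ cj(g, M) := by
  intro g hNg
  apply hC
  have hxC : x ∈ Subgroup.centralizer ({x} : Set G) :=
    Subgroup.mem_centralizer_singleton_iff.2 rfl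
  have hxN : x ∈ cj(g, M) := by rw [← hNg]; exact hCN hxC
  obtain ⟨c, hc, hceq⟩ := hT g hxN
  intro y hy
  have h1 : c * y * c⁻¹ ∈ Subgroup.centralizer ({x} : Set G) :=
    Subgroup.mul_mem _ (Subgroup.mul_mem _ hc hy) (Subgroup.inv_mem _ hc)
  have h2 : c * y * c⁻¹ ∈ cj(c, M) := by rw [← hceq, ← hNg]; exact hCN h1
  rw [Cfsg.Agent.Lib.H10.mem_map_conj] at h2
  have e : c⁻¹ * (c * y * c⁻¹) * c = y := by group
  rwa [e] at h2

/-- the complement statement: if `A ≤ M ∩ N` is elementary abelian of order `p²`, `p ∈ τ₂(N)`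
and `N_G(A) ≤ M ≠ N`, then `M ∩ N` is a complement of `N_σ` in `N`. -/
theorem compl_of_tau2 (hG : IsMinSimpleOddOrder G) {M N : Subgroup G} (hM : IsCoatom M)
    (hN : IsCoatom N) (hne : M ≠ N) {p : ℕ} [hp : Fact p.Prime] (hp2 : p ∈ tau2 N)
    {A : Subgroup G} (hAM : A ≤ M) (hAN : A ≤ N) (hAe : IsElementaryAbelian p A)
    (hAc : Nat.card A = p ^ 2) (hNA : Subgroup.normalizer (A : Set G) ≤ M) :
    Group.IsNilpotent (sigmaCore N) ∧ sigmaCore N ⊓ M = ⊥ ∧
      IsComplIn (M ⊓ N) (sigmaCore N) N := by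
  have h17 := Cfsg.Agent.S1417.result hG N hN p hp2 A ⟨hAN, hAe, hAc⟩
  have hdisj : sigmaCore N ⊓ M = ⊥ := h17.2.2.2.2.1 M hM hne hAM
  refine ⟨h17.1, hdisj, ?_⟩
  obtain ⟨E, hE, hAE⟩ := Cfsg.Agent.Lib.H7.BG13.exists_compl_ge hG hN hAN (by
    intro q hq hd
    rw [hAc] at hd
    have : q = p := (Nat.prime_dvd_prime_iff_eq hq hp.out).1 (hq.dvd_of_dvd_pow hd)
    rw [this]; exact hp2.2.1)
  have h18 := Cfsg.Agent.S1418.result hG N hN E hE p hp2 A ⟨hAE, hAe, hAc⟩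
  have hEM : E ≤ M := by
    have : N ⊓ Subgroup.normalizer (A : Set G) = E := h18.2.1.2.1
    rw [← this]; exact inf_le_right.trans hNA
  have hEq : M ⊓ N = E := by
    apply le_antisymm
    · intro y hy
      obtain ⟨a, ha, b, hb, rfl⟩ := hE.2.2.2 y hy.2
      have hbM : b ∈ M := by
        have := M.mul_mem (M.inv_mem (hEM ha)) hy.1
        rwa [inv_mul_cancel_left] at this
      have : b ∈ sigmaCore N ⊓ M := ⟨hb, hbM⟩
      rw [hdisj] at this
      rw [Subgroup.mem_bot.1 this, mul_one]; exact ha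
    · exact le_inf hEM hE.1
  rw [hEq]; exact hE


/-- elements of an abelian Sylow subgroup of `N` commute (transfer from the subtype). -/
theorem comm_of_sylow_comm {N : Subgroup G} {p : ℕ} [Fact p.Prime] {S : Subgroup G}
    (S' : Sylow p N) (hS' : (S' : Subgroup N).map N.subtype = S)
    (hc : IsMulCommutative (S' : Subgroup N)) {a b : G} (ha : a ∈ S) (hb : b ∈ S) :
    a * b = b * a := by
  rw [← hS'] at ha hb
  obtain ⟨a', ha', rfl⟩ := ha
  obtain ⟨b', hb', rfl⟩ := hb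
  have h1 := hc.is_comm.comm ⟨a', ha'⟩ ⟨b', hb'⟩
  have h2 : a' * b' = b' * a' := congrArg Subtype.val h1
  have h3 : ((a' * b' : N) : G) = ((b' * a' : N) : G) := congrArg Subtype.val h2
  simpa using h3

/-- **BG 14.4, prime order case**: the maximal subgroup `N` and the subgroup `A`. -/
theorem prime_case (hG : IsMinSimpleOddOrder G) {M : Subgroup G} (hM : IsCoatom M) {x : G}
    (hx : x ∈ sigmaCore M) {p : ℕ} [hp : Fact p.Prime] (hxp : orderOf x = p)
    (hC : ¬ Subgroup.centralizer ({x} : Set G) ≤ M) :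
    ∃ N A : Subgroup G, IsCoatom N ∧ Subgroup.centralizer ({x} : Set G) ≤ N ∧
      (∀ g : G, N ≠ cj(g, M)) ∧ p ∈ tau2 N ∧ A ≤ M ∧ A ≤ N ∧ IsElementaryAbelian p A ∧
      Nat.card A = p ^ 2 ∧ x ∈ A ∧ Subgroup.normalizer (A : Set G) ≤ M := by
  have hU := Cfsg.Agent.Lib.H20.BGT.uniq3 hG
  have hT := trans_prime hG hM hx hxp
  have hpσ : p ∈ sigma M := mem_sigma_of_mem_sigmaCore hG hM hx hp.out (by rw [hxp])
  have hxM : x ∈ M := Cfsg.Agent.Lib.H20.BGS.sigmaCore_le M hx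
  have hXc : Nat.card (Subgroup.zpowers x) = p := by rw [Nat.card_zpowers, hxp]
  have hXp : IsPGroup p (Subgroup.zpowers x) :=
    IsPGroup.of_card (n := 1) (by rw [hXc, pow_one])
  have hX1 : Subgroup.zpowers x ≠ ⊥ := by
    intro h
    rw [h, Subgroup.card_bot] at hXc
    exact hp.out.one_lt.ne hXc
  have hXM : Subgroup.zpowers x ≤ M := Subgroup.zpowers_le.2 hxM
  have hXtop : Subgroup.zpowers x ≠ ⊤ := by
    intro h; rw [h] at hXM; exact hM.1 (top_le_iff.1 hXM)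
  obtain ⟨N, hN, hNX⟩ := exists_coatom_ge (normalizer_ne_top hG hX1 hXtop)
  have hCN : Subgroup.centralizer ({x} : Set G) ≤ N := by
    rw [← centralizer_zpowers_eq]
    exact (Subgroup.centralizer_le_normalizer _).trans hNX
  have hnc := not_conj_of_trans hT hCN hC
  have hxC : x ∈ Subgroup.centralizer ({x} : Set G) :=
    Subgroup.mem_centralizer_singleton_iff.2 rfl
  have hxN : x ∈ N := hCN hxC
  have hXN : Subgroup.zpowers x ≤ N := Subgroup.zpowers_le.2 hxN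
  have hpσN : p ∉ sigma N := by
    intro h
    obtain ⟨g, hg⟩ := Cfsg.Agent.Lib.H7.BG14v.sigma_partition' hG hM hN hpσ h
    exact hnc g hg
  have hp2 : p ∈ tau2 N := by
    refine ⟨hp.out, hpσN, ?_, ?_⟩
    · by_contra h
      exact hpσN (alpha_subset_sigma hG hU hN ⟨hp.out, h⟩)
    · intro h1
      obtain ⟨S, hS, hXS⟩ := SylIn.exists_ge hXp hXN
      have hSc : IsCyclic ↥S :=
        Cfsg.Agent.Lib.H7.BG14.isCyclic_of_pRankLE_one hG hS.le hS.isPGroup h1
      have hS1 : S ≠ ⊥ := _root_.ne_bot_of_le_ne_bot hX1 hXS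
      have hNS : Subgroup.normalizer (S : Set G) ≤ N :=
        (Cfsg.Agent.Lib.H20.BGT.normalizer_le_normalizer_of_le_cyclic hSc hXS).trans hNX
      exact hpσN (Cfsg.Agent.Lib.H7.BG13.mem_sigma_of_sylIn hS hS1 hNS)
  -- an `E_{p²}`-subgroup `B ∋ x` of `N` and an abelian Sylow subgroup `S ≥ B`
  obtain ⟨B, hBN, hBe, hBc, hXB⟩ :=
    Cfsg.Agent.Lib.H7.BG14t.exists_elemAb_sq_ge_of_tau2 hG hN hp2 hXN hXc
  have hBp : IsPGroup p B := IsPGroup.of_card (n := 2) hBc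
  obtain ⟨S, hS, hBS⟩ := SylIn.exists_ge hBp hBN
  obtain ⟨S', hS'⟩ := hS.exists_sylow
  have hSab := ((Cfsg.Agent.S1417.result hG N hN p hp2 B ⟨hBN, hBe, hBc⟩).2.1 S').1
  have hxB : x ∈ B := hXB (Subgroup.mem_zpowers x)
  have hxS : x ∈ S := hBS hxB
  -- conjugate `S` into `M` by an element of `C_G(x)`
  obtain ⟨-, -, P₀, hNP⟩ := id hpσ
  have hP : SylIn p ((P₀ : Subgroup M).map M.subtype) M := SylIn.of_sylow P₀
  have hPtop := sylIn_top_of_normalizer_le hP hNP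
  obtain ⟨g, -, hg⟩ := hPtop.exists_conj_le hS.isPGroup le_top
  have hSg : S ≤ cj(g⁻¹, M) := by
    rw [← map_conj_le_iff]; exact hg.trans hP.le
  obtain ⟨c, hc, hceq⟩ := hT g⁻¹ (hSg hxS)
  have hcN : c ∈ N := hCN hc
  have hcS : cj(c⁻¹, S) ≤ M := by
    rw [map_conj_le_iff, inv_inv, ← hceq]; exact hSg
  refine ⟨N, cj(c⁻¹, B), hN, hCN, hnc, hp2, ?_, ?_, ?_, ?_, ?_, ?_⟩
  · exact (Subgroup.map_mono hBS).trans hcS
  · exact Cfsg.Agent.Lib.H10.BG131b.map_conj_le_of_mem hBN (N.inv_mem hcN)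
  · exact Cfsg.Agent.Lib.H10.BG131b.isElementaryAbelian_map_conj hBe _
  · rw [Cfsg.Agent.Lib.H10.card_map_conj, hBc]
  · rw [Cfsg.Agent.Lib.H10.mem_map_conj, inv_inv]
    have h1 : c * x = x * c := (Subgroup.mem_centralizer_singleton_iff.1 hc)
    have e : c * x * c⁻¹ = x := by rw [h1]; group
    rw [e]; exact hxB
  · have hAM : cj(c⁻¹, B) ≤ M := (Subgroup.map_mono hBS).trans hcS
    obtain ⟨E, hE, -⟩ := Cfsg.Agent.Lib.H7.BG13.exists_compl_ge hG hM (Y := ⊥) bot_le (by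
      intro q hq hd
      rw [Subgroup.card_bot] at hd
      exact absurd (Nat.dvd_one.1 hd) hq.one_lt.ne')
    have h20 := (Cfsg.Agent.S1420.result hG M hM E hE).2.2.1
    apply h20 p _ hpσ (hBp.map _) hAM
    apply Cfsg.Agent.Lib.H20.BGT.not_isCyclic_of_elemAb_sq
      (Cfsg.Agent.Lib.H10.BG131b.isElementaryAbelian_map_conj hBe _)
    rw [Cfsg.Agent.Lib.H10.card_map_conj, hBc]

end Cfsg.Agent.Lib.H10.BG144
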