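import Mathlib
import Cfsg.Agent.Lib.H10.BG144a

/-! # BG Theorem 14.4 (helper10), part 2: the configuration attached to a prime order element and
the case of a general element of `M_σ`. -/

set_option autoImplicit false
set_option linter.style.haveILetI false
set_option linter.unusedSectionVars false
set_option linter.unusedVariables false
set_option maxHeartbeats 800000

open Cfsg

namespace Cfsg.Agent.Lib.H10.BG144

open Cfsg.Agent.Lib.H16.BG
open Cfsg.Agent.Lib.H7.BG7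
open Cfsg.Agent.Lib.H7.BG10
open Cfsg.Agent.Lib.H19 (IsPiCard)
open scoped commutatorElement

universe u
variable {G : Type u} [Group G] [Finite G]

local notation:max "cj(" g ", " X ")" => Subgroup.map (MulEquiv.toMonoidHom (MulAut.conj g)) X

/-- the configuration of BG 14.4 attached to an element `x₁` of prime order `p` of `M_σ` with
`C_G(x₁) ≰ M`. -/
structure Cfg (M N : Subgroup G) (x₁ : G) (p : ℕ) : Prop where
  hM : IsCoatom M
  hN : IsCoatom N
  hx₁ : x₁ ∈ sigmaCore M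
  ord : orderOf x₁ = p
  hCN : Subgroup.centralizer ({x₁} : Set G) ≤ N
  nconj : ∀ g : G, N ≠ cj(g, M)
  tau2 : p ∈ tau2 N
  nil : Group.IsNilpotent (sigmaCore N)
  disj : sigmaCore N ⊓ M = ⊥
  compl : IsComplIn (M ⊓ N) (sigmaCore N) N
  trans : Trans M x₁
  hA : ∃ A : Subgroup G, A ≤ M ⊓ N ∧ IsElementaryAbelian p A ∧ Nat.card A = p ^ 2

theorem exists_cfg (hG : IsMinSimpleOddOrder G) {M : Subgroup G} (hM : IsCoatom M) {x : G}
    (hx : x ∈ sigmaCore M) {p : ℕ} [hp : Fact p.Prime] (hxp : orderOf x = p)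
    (hC : ¬ Subgroup.centralizer ({x} : Set G) ≤ M) : ∃ N : Subgroup G, Cfg M N x p := by
  obtain ⟨N, A, hN, hCN, hnc, hp2, hAM, hAN, hAe, hAc, hxA, hNA⟩ := prime_case hG hM hx hxp hC
  have hne : M ≠ N := by
    intro h
    apply hnc 1
    rw [Cfsg.Agent.Lib.H10.map_conj_one, h]
  obtain ⟨h1, h2, h3⟩ := compl_of_tau2 hG hM hN hne hp2 hAM hAN hAe hAc hNA
  exact ⟨N, hM, hN, hx, hxp, hCN, hnc, hp2, h1, h2, h3, trans_prime hG hM hx hxp,
    A, le_inf hAM hAN, hAe, hAc⟩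


namespace Cfg

variable {M N : Subgroup G} {x₁ x : G} {p : ℕ}

theorem centralizer_le (hx₁x : x₁ ∈ Subgroup.zpowers x) :
    Subgroup.centralizer ({x} : Set G) ≤ Subgroup.centralizer ({x₁} : Set G) := by
  rw [← centralizer_zpowers_eq x]
  apply Subgroup.centralizer_le
  intro y hy
  rw [Set.mem_singleton_iff] at hy
  rw [hy]; exact hx₁x

theorem centralizer_le_N (h : Cfg M N x₁ p) (hx₁x : x₁ ∈ Subgroup.zpowers x) :
    Subgroup.centralizer ({x} : Set G) ≤ N := (centralizer_le hx₁x).trans h.hCN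

theorem mem_N (h : Cfg M N x₁ p) (hx₁x : x₁ ∈ Subgroup.zpowers x) : x ∈ N :=
  centralizer_le_N h hx₁x (Subgroup.mem_centralizer_singleton_iff.2 rfl)

theorem le_normalizer (h : Cfg M N x₁ p) : N ≤ Subgroup.normalizer ((sigmaCore N : Subgroup G) : Set G) :=
  Cfsg.Agent.Lib.H20.BGS.le_normalizer_sigmaCore N

/-- `C_G(x) = C_M(x) C_{N_σ}(x)`. -/
theorem compl_cent (h : Cfg M N x₁ p) (hx : x ∈ sigmaCore M) (hx₁x : x₁ ∈ Subgroup.zpowers x) :
    IsComplIn (M ⊓ Subgroup.centralizer ({x} : Set G))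
      (sigmaCore N ⊓ Subgroup.centralizer ({x} : Set G)) (Subgroup.centralizer ({x} : Set G)) := by
  refine ⟨inf_le_right, inf_le_right, ?_, ?_⟩
  · rw [eq_bot_iff, ← h.disj]
    exact le_inf (inf_le_right.trans inf_le_left) (inf_le_left.trans inf_le_left)
  · intro n hn
    have hxMN : x ∈ M ⊓ N := ⟨Cfsg.Agent.Lib.H20.BGS.sigmaCore_le M hx, mem_N h hx₁x⟩
    obtain ⟨a, ha, b, hb, hnab, hax, hbx⟩ := exists_mul_of_comm h.compl (le_normalizer h) hxMN
      (centralizer_le_N h hx₁x hn) (Subgroup.mem_centralizer_singleton_iff.1 hn)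
    exact ⟨a, ⟨ha.1, Subgroup.mem_centralizer_singleton_iff.2 hax⟩, b,
      ⟨hb, Subgroup.mem_centralizer_singleton_iff.2 hbx⟩, hnab⟩

/-- `C_{N_σ}(x)` is transitive on the conjugates of `M` through `x`. -/
theorem regular (h : Cfg M N x₁ p) (hx : x ∈ sigmaCore M) (hx₁x : x₁ ∈ Subgroup.zpowers x) {g : G}
    (hg : x ∈ cj(g, M)) :
    ∃ r ∈ sigmaCore N ⊓ Subgroup.centralizer ({x} : Set G), cj(g, M) = cj(r, M) := by
  have hxM : x ∈ M := Cfsg.Agent.Lib.H20.BGS.sigmaCore_le M hx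
  have hx₁g : x₁ ∈ cj(g, M) := (Subgroup.zpowers_le.2 hg) hx₁x
  obtain ⟨c, hc, hceq⟩ := h.trans g hx₁g
  obtain ⟨a, ha, b, hb, rfl⟩ := h.compl.2.2.2 c (h.hCN hc)
  have hrσ : a * b * a⁻¹ ∈ sigmaCore N :=
    (Subgroup.mem_normalizer_iff.1 (le_normalizer h ha.2) b).1 hb
  have heq : cj(g, M) = cj(a * b * a⁻¹, M) := by
    rw [hceq]
    have e : a * b = (a * b * a⁻¹) * a := by group
    rw [e, ← Cfsg.Agent.Lib.H10.map_conj_map_conj, map_conj_eq_self_of_mem ha.1]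
    congr 2; group
  refine ⟨a * b * a⁻¹, ⟨hrσ, ?_⟩, heq⟩
  set r := a * b * a⁻¹ with hr
  rw [heq, Cfsg.Agent.Lib.H10.mem_map_conj] at hg
  -- `x⁻¹ r⁻¹ x r ∈ N_σ ∩ M`
  have hxN : x ∈ N := mem_N h hx₁x
  have h1 : x⁻¹ * r⁻¹ * x ∈ sigmaCore N := by
    have := (Subgroup.mem_normalizer_iff.1 (le_normalizer h (N.inv_mem hxN)) r⁻¹).1
      (Subgroup.inv_mem _ hrσ)
    rwa [inv_inv] at this
  have h2 : x⁻¹ * r⁻¹ * x * r ∈ sigmaCore N ⊓ M := by
    refine ⟨Subgroup.mul_mem _ h1 hrσ, ?_⟩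
    have := M.mul_mem (M.inv_mem hxM) hg
    have e : x⁻¹ * (r⁻¹ * x * r) = x⁻¹ * r⁻¹ * x * r := by group
    rwa [e] at this
  rw [h.disj, Subgroup.mem_bot] at h2
  show r ∈ Subgroup.centralizer ({x} : Set G)
  rw [Subgroup.mem_centralizer_singleton_iff]
  have e : r * x = x * r * (x⁻¹ * r⁻¹ * x * r)⁻¹ := by group
  rw [e, h2, inv_one, mul_one]

/-- (T) for a general element. -/
theorem trans_of (h : Cfg M N x₁ p) (hx : x ∈ sigmaCore M) (hx₁x : x₁ ∈ Subgroup.zpowers x) :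
    Trans M x := by
  intro g hg
  obtain ⟨r, hr, hreq⟩ := regular h hx hx₁x hg
  exact ⟨r, hr.2, hreq⟩

/-- uniqueness of the conjugating element of `N_σ`. -/
theorem eq_of_map_conj_eq (hG : IsMinSimpleOddOrder G) (h : Cfg M N x₁ p) {r r' : G}
    (hr : r ∈ sigmaCore N) (hr' : r' ∈ sigmaCore N) (he : cj(r, M) = cj(r', M)) : r = r' := by
  have hMne : M ≠ ⊥ := by
    intro hb
    have := h.hx₁
    have h1 : x₁ ∈ M := Cfsg.Agent.Lib.H20.BGS.sigmaCore_le M this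
    rw [hb, Subgroup.mem_bot] at h1
    have h2 := h.ord
    rw [h1, orderOf_one] at h2
    have h3 := h.tau2.1
    rw [← h2] at h3
    exact Nat.not_prime_one h3
  have hNM : Subgroup.normalizer (M : Set G) = M :=
    normalizer_eq_of_coatom hG h.hM le_rfl hMne Subgroup.le_normalizer
  have h1 : cj(r'⁻¹ * r, M) = M := by
    rw [← Cfsg.Agent.Lib.H10.map_conj_map_conj, he, Cfsg.Agent.Lib.H10.map_conj_map_conj,
      inv_mul_cancel, Cfsg.Agent.Lib.H10.map_conj_one]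
  have h2 : r'⁻¹ * r ∈ M := by
    rw [← hNM]; exact Subgroup.mem_normalizer_iff_map_conj_eq.2 h1
  have h3 : r'⁻¹ * r ∈ sigmaCore N ⊓ M := ⟨Subgroup.mul_mem _ (Subgroup.inv_mem _ hr') hr, h2⟩
  rw [h.disj, Subgroup.mem_bot] at h3
  exact (inv_mul_eq_one.1 h3).symm

end Cfg

end Cfsg.Agent.Lib.H10.BG144
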