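import Mathlib
import Cfsg.Agent.Lib.H10.BG144b

/-! # BG Theorem 14.4 (helper10), part 3: `x` is a `τ₂(N)`-element and `N` is unique. -/

set_option autoImplicit false
set_option linter.style.haveILetI false
set_option linter.unusedSectionVars false
set_option linter.unusedVariables false
set_option maxHeartbeats 800000

open Cfsg

namespace Cfsg.Agent.Lib.H10.BG144

open Cfsg.Agent.Lib.H16.BG
open Cfsg.Agent.Lib.H7.BG7
open Cfsg.Agent.Lib.H7.BG10
open Cfsg.Agent.Lib.H19 (IsPiCard)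
open scoped commutatorElement

universe u
variable {G : Type u} [Group G] [Finite G]

local notation:max "cj(" g ", " X ")" => Subgroup.map (MulEquiv.toMonoidHom (MulAut.conj g)) X

/-- BG 12.2: if `N_G(X) ≤ L` for a subgroup `X` of prime order `q`, then `q ∈ σ(L) ∪ τ₂(L)`. -/
theorem mem_sigma_or_tau2_of_normalizer_le (hG : IsMinSimpleOddOrder G) {L X : Subgroup G}
    (hL : IsCoatom L) {q : ℕ} [hq : Fact q.Prime] (hXc : Nat.card X = q)
    (hNX : Subgroup.normalizer (X : Set G) ≤ L) : q ∈ sigma L ∨ q ∈ tau2 L := by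
  have hU := Cfsg.Agent.Lib.H20.BGT.uniq3 hG
  by_cases hσ : q ∈ sigma L
  · exact Or.inl hσ
  right
  have hXL : X ≤ L := Subgroup.le_normalizer.trans hNX
  have hXp : IsPGroup q X := IsPGroup.of_card (n := 1) (by rw [hXc, pow_one])
  have hX1 : X ≠ ⊥ := by
    intro h
    rw [h, Subgroup.card_bot] at hXc
    exact hq.out.one_lt.ne hXc
  refine ⟨hq.out, hσ, ?_, ?_⟩
  · by_contra h
    exact hσ (alpha_subset_sigma hG hU hL ⟨hq.out, h⟩)
  · intro h1
    obtain ⟨S, hS, hXS⟩ := SylIn.exists_ge hXp hXL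
    have hSc : IsCyclic ↥S :=
      Cfsg.Agent.Lib.H7.BG14.isCyclic_of_pRankLE_one hG hS.le hS.isPGroup h1
    have hS1 : S ≠ ⊥ := _root_.ne_bot_of_le_ne_bot hX1 hXS
    have hNS : Subgroup.normalizer (S : Set G) ≤ L :=
      (Cfsg.Agent.Lib.H20.BGT.normalizer_le_normalizer_of_le_cyclic hSc hXS).trans hNX
    exact hσ (Cfsg.Agent.Lib.H7.BG13.mem_sigma_of_sylIn hS hS1 hNS)

namespace Cfg

variable {M N : Subgroup G} {x₁ x : G} {p : ℕ}

theorem inf_centralizer_ne_bot (h : Cfg M N x₁ p) (hx : x ∈ sigmaCore M)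
    (hx₁x : x₁ ∈ Subgroup.zpowers x) (hC : ¬ Subgroup.centralizer ({x} : Set G) ≤ M) :
    sigmaCore N ⊓ Subgroup.centralizer ({x} : Set G) ≠ ⊥ := by
  intro hb
  apply hC
  intro n hn
  obtain ⟨a, ha, b, hb', rfl⟩ := (compl_cent h hx hx₁x).2.2.2 n hn
  rw [hb, Subgroup.mem_bot] at hb'
  rw [hb', mul_one]; exact ha.1

theorem ne_one (h : Cfg M N x₁ p) (hx₁x : x₁ ∈ Subgroup.zpowers x) : x ≠ 1 := by
  rintro rfl
  rw [Subgroup.zpowers_one_eq_bot, Subgroup.mem_bot] at hx₁x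
  have h2 := h.ord
  rw [hx₁x, orderOf_one] at h2
  have h3 := h.tau2.1
  rw [← h2] at h3
  exact Nat.not_prime_one h3

/-- every prime divisor of the order of `x` lies in `τ₂(N)`. -/
theorem mem_tau2_of_dvd (hG : IsMinSimpleOddOrder G) (h : Cfg M N x₁ p) (hx : x ∈ sigmaCore M)
    (hx₁x : x₁ ∈ Subgroup.zpowers x) (hC : ¬ Subgroup.centralizer ({x} : Set G) ≤ M) {q : ℕ}
    (hq : q.Prime) (hqx : q ∣ orderOf x) : q ∈ Cfsg.tau2 N := by
  haveI hqF : Fact q.Prime := ⟨hq⟩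
  have hU := Cfsg.Agent.Lib.H20.BGT.uniq3 hG
  have hM := h.hM
  have hN := h.hN
  have hxM : x ∈ M := Cfsg.Agent.Lib.H20.BGS.sigmaCore_le M hx
  have hxN : x ∈ N := mem_N h hx₁x
  have hqσM : q ∈ sigma M := mem_sigma_of_mem_sigmaCore hG hM hx hq hqx
  have hqσN : q ∉ sigma N := by
    intro hh
    obtain ⟨g, hg⟩ := Cfsg.Agent.Lib.H7.BG14v.sigma_partition' hG hM hN hqσM hh
    exact h.nconj g hg
  by_contra hnot
  have hr1 : PRankLE q 1 ↥N := by
    by_contra h1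
    apply hnot
    refine ⟨hq, hqσN, ?_, h1⟩
    by_contra h2
    exact hqσN (alpha_subset_sigma hG hU hN ⟨hq, h2⟩)
  -- the subgroup `X_q` of order `q`
  have hord : orderOf (x ^ (orderOf x / q)) = q :=
    orderOf_pow_orderOf_div (orderOf_pos x).ne' hqx
  set y := x ^ (orderOf x / q) with hy
  have hXc : Nat.card (Subgroup.zpowers y) = q := by rw [Nat.card_zpowers, hord]
  have hXx : Subgroup.zpowers y ≤ Subgroup.zpowers x :=
    Subgroup.zpowers_le.2 (Subgroup.pow_mem _ (Subgroup.mem_zpowers x) _)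
  have hXN : Subgroup.zpowers y ≤ N := hXx.trans (Subgroup.zpowers_le.2 hxN)
  have hXM : Subgroup.zpowers y ≤ M := hXx.trans (Subgroup.zpowers_le.2 hxM)
  have hXE : Subgroup.zpowers y ≤ M ⊓ N := le_inf hXM hXN
  have hXp : IsPGroup q (Subgroup.zpowers y) := IsPGroup.of_card (n := 1) (by rw [hXc, pow_one])
  have hX1 : Subgroup.zpowers y ≠ ⊥ := by
    intro hh
    rw [hh, Subgroup.card_bot] at hXc
    exact hq.one_lt.ne hXc
  have hXtop : Subgroup.zpowers y ≠ ⊤ := by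
    intro hh; rw [hh] at hXM; exact hM.1 (top_le_iff.1 hXM)
  have hqN : q ∣ Nat.card ↥N := by rw [← hXc]; exact Subgroup.card_dvd_of_le hXN
  have hR := inf_centralizer_ne_bot h hx hx₁x hC
  have hCX : Subgroup.centralizer ({x} : Set G) ≤
      Subgroup.centralizer ((Subgroup.zpowers y : Subgroup G) : Set G) := by
    rw [← centralizer_zpowers_eq x]
    exact Subgroup.centralizer_le hXx
  obtain ⟨L, hL, hNXL⟩ := exists_coatom_ge (normalizer_ne_top hG hX1 hXtop)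
  have hCL : Subgroup.centralizer ({x} : Set G) ≤ L :=
    hCX.trans ((Subgroup.centralizer_le_normalizer _).trans hNXL)
  have hE := h.compl
  by_cases hd : q ∣ Nat.card ↥⁅N, N⁆
  · -- `q ∈ τ₃(N)`
    have hq3 : q ∈ tau3 N := ⟨hq, hqσN, hd, hr1⟩
    haveI : Group.IsSolvable ↥(M ⊓ N) := solvable_of_le_ne_top hG hN.1 inf_le_right
    obtain ⟨E₃, hE₃, hXE₃⟩ := Cfsg.Agent.Lib.H19.exists_isPiHallOf_ge hXE
      (isPiCard_of_isPGroup hq hq3 hXp)
    obtain ⟨hE₃c, -, hE₃n⟩ := (Cfsg.Agent.S1415.result hG N hN (M ⊓ N) hE).2.2 E₃ hE₃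
    have hEL : M ⊓ N ≤ L :=
      hE₃n.trans ((Cfsg.Agent.Lib.H20.BGT.normalizer_le_normalizer_of_le_cyclic hE₃c hXE₃).trans
        hNXL)
    obtain ⟨A, hAE, hAe, hAc⟩ := h.hA
    haveI : Fact p.Prime := ⟨h.tau2.1⟩
    have hLN : L = N := by
      by_contra hne
      have h17 := (Cfsg.Agent.S1417.result hG N hN p h.tau2 A
        ⟨hAE.trans inf_le_right, hAe, hAc⟩).2.2.2.2.1 L hL hne (hAE.trans hEL)
      apply hR
      rw [eq_bot_iff, ← h17]
      exact le_inf inf_le_left (inf_le_right.trans hCL)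
    rw [hLN] at hNXL
    rcases mem_sigma_or_tau2_of_normalizer_le hG hN hXc hNXL with h1 | h1
    · exact hqσN h1
    · exact hnot h1
  · -- `q ∈ τ₁(N)`
    have hq1 : q ∈ tau1 N := ⟨hq, hqσN, hqN, hd, hr1⟩
    obtain ⟨q', hq', Y, hYR, hYc⟩ := Cfsg.Agent.Lib.H7.BG14u.exists_le_card_prime hR
    haveI : Fact q'.Prime := ⟨hq'⟩
    have hYX : Y ≤ Subgroup.centralizer ((Subgroup.zpowers y : Subgroup G) : Set G) :=
      hYR.trans (inf_le_right.trans hCX)
    obtain ⟨hq'σ, ⟨hCY, -⟩, -⟩ := Cfsg.Agent.Lib.H7.BG14v.centralizer_le_uniq_of_tau1 hG hN hE hq1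
      hXE hXc (hYR.trans inf_le_left) hYc hYX
    rcases mem_sigma_or_tau2_of_normalizer_le hG hL hXc hNXL with h1 | h1
    · obtain ⟨g, hg⟩ := Cfsg.Agent.Lib.H7.BG14v.sigma_partition' hG hM hL hqσM h1
      exact not_conj_of_trans (trans_of h hx hx₁x) hCL hC g hg
    · exact Cfsg.Agent.Lib.H7.BG14v.no_theta' hG hN hL h1 hqσN hr1 hXN hXc hNXL hq'σ hYc hYX hCY

/-- `N` is the unique maximal subgroup containing `C_G(x)`. -/
theorem unique (hG : IsMinSimpleOddOrder G) (h : Cfg M N x₁ p) (hx : x ∈ sigmaCore M)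
    (hx₁x : x₁ ∈ Subgroup.zpowers x) (hC : ¬ Subgroup.centralizer ({x} : Set G) ≤ M)
    {L : Subgroup G} (hL : IsCoatom L) (hCL : Subgroup.centralizer ({x} : Set G) ≤ L) : L = N := by
  have hR := inf_centralizer_ne_bot h hx hx₁x hC
  obtain ⟨r, hr1⟩ := (Subgroup.ne_bot_iff_exists_ne_one.1 hR)
  have hrx : (r : G) * x = x * r := Subgroup.mem_centralizer_singleton_iff.1 r.2.2
  have hσ : x ∈ sigmaHat N :=
    ⟨mem_N h hx₁x, (r : G), r.2.1, fun hh => hr1 (Subtype.ext hh), hrx.symm⟩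
  exact ((Cfsg.Agent.S1420.result hG N h.hN (M ⊓ N) h.compl).2.2.2 x (mem_N h hx₁x)
    (ne_one h hx₁x) (fun q hq hqx => mem_tau2_of_dvd hG h hx hx₁x hC hq hqx) hσ).2 L hL hCL

end Cfg

end Cfsg.Agent.Lib.H10.BG144
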