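import Mathlib
import Cfsg.Agent.Lib.H10.BG144c
import Cfsg.Agent.Lib.H8.MinSimpleStruct
import Cfsg.Agent.Lib.H20.BGZ1

/-! # BG Theorem 14.4 (helper10), part 4: `N_σ = N_F`, and the dichotomy. -/

set_option autoImplicit false
set_option linter.style.haveILetI false
set_option linter.unusedSectionVars false
set_option linter.unusedVariables false
set_option maxHeartbeats 800000

open Cfsg

namespace Cfsg.Agent.Lib.H10.BG144

open Cfsg.Agent.Lib.H16.BG
open Cfsg.Agent.Lib.H7.BG7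
open Cfsg.Agent.Lib.H7.BG10
open Cfsg.Agent.Lib.H19 (IsPiCard)
open scoped commutatorElement

universe u
variable {G : Type u} [Group G] [Finite G]

local notation:max "cj(" g ", " X ")" => Subgroup.map (MulEquiv.toMonoidHom (MulAut.conj g)) X

theorem card_fittingHallOf_coprime (N : Subgroup G) :
    (Nat.card (fittingHallOf N)).Coprime ((fittingHallOf N).relIndex N) := by
  have h1 : Nat.card (fittingHallOf N) = Nat.card (fittingHall N) :=
    Subgroup.card_map_of_injective N.subtype_injective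
  have h2 : (fittingHallOf N).relIndex N = (fittingHall N).index := by
    rw [Subgroup.relIndex]
    congr 1
    ext y
    rw [Subgroup.mem_subgroupOf]
    constructor
    · rintro ⟨z, hz, hzy⟩
      have : z = y := Subtype.ext hzy
      rwa [← this]
    · intro hy
      exact ⟨y, hy, rfl⟩
  rw [h1, h2]
  exact Cfsg.Agent.Lib.H7.fittingHall_coprime

/-- `M_F ≤ M_σ`. -/
theorem fittingHallOf_le_sigmaCore (hG : IsMinSimpleOddOrder G) {N : Subgroup G}
    (hN : IsCoatom N) : fittingHallOf N ≤ sigmaCore N := by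
  have hFN : fittingHallOf N ≤ N := Cfsg.Agent.Lib.H8.fittingHallOf_le N
  have hNF := Cfsg.Agent.Lib.H8.le_normalizer_fittingHallOf N
  have hnil := Cfsg.Agent.Lib.H8.fittingHallOf_isNilpotent N
  have hcop := card_fittingHallOf_coprime N
  show fittingHallOf N ≤ piCoreOf (sigma N) N
  apply le_piCoreOf hFN hNF
  intro q hq hqd
  haveI : Fact q.Prime := ⟨hq⟩
  set F := fittingHallOf N with hF
  have hQp : IsPGroup q (piCoreOf {q} F) := isPGroup_piCoreOf_singleton q F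
  have hQ1 : piCoreOf {q} F ≠ ⊥ := piCoreOf_singleton_ne_bot hnil hqd
  have hQF : piCoreOf {q} F ≤ F := piCoreOf_le _ _
  obtain ⟨Q', hQ', hle⟩ := SylIn.exists_ge hQp hQF
  have hQ'le : Q' ≤ piCoreOf {q} F :=
    le_piCoreOf_of_nilpotent hnil hQ'.le
      (isPiCard_of_isPGroup hq (Set.mem_singleton q) hQ'.isPGroup)
  have hQeq : Q' = piCoreOf {q} F := le_antisymm hQ'le hle
  rw [hQeq] at hQ'
  have hQN : SylIn q (piCoreOf {q} F) N := by
    refine ⟨hQF.trans hFN, hQp, ?_⟩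
    rw [← Subgroup.relIndex_mul_relIndex _ F N hQF hFN]
    intro hd
    rcases (Nat.Prime.dvd_mul hq).1 hd with h | h
    · exact hQ'.2.2 h
    · exact (Nat.Prime.coprime_iff_not_dvd hq).1
        (Nat.Coprime.coprime_dvd_left hqd hcop) h
  have hNQ : N ≤ Subgroup.normalizer ((piCoreOf {q} F : Subgroup G) : Set G) :=
    hNF.trans (normalizer_le_normalizer_piCoreOf {q} F)
  have hnorm := normalizer_eq_of_coatom hG hN hQN.le hQ1 hNQ
  exact Cfsg.Agent.Lib.H7.BG13.mem_sigma_of_sylIn hQN hQ1 (le_of_eq hnorm)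

/-- if `M_σ` is nilpotent then `M_σ = M_F`. -/
theorem sigmaCore_eq_fittingHallOf (hG : IsMinSimpleOddOrder G) {N : Subgroup G}
    (hN : IsCoatom N) (hnil : Group.IsNilpotent (sigmaCore N)) :
    sigmaCore N = fittingHallOf N := by
  apply le_antisymm _ (fittingHallOf_le_sigmaCore hG hN)
  have hU := Cfsg.Agent.Lib.H20.BGT.uniq3 hG
  have hσ := (Cfsg.Agent.Lib.H20.BGS.sigma_core_hall hG hU hN).1
  apply Cfsg.Agent.Lib.H8.le_fittingHallOf (Cfsg.Agent.Lib.H20.BGS.sigmaCore_le N) hnil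
    (Cfsg.Agent.Lib.H20.BGS.le_normalizer_sigmaCore N)
  apply Nat.coprime_of_dvd
  intro q hq h1 h2
  exact hσ.2.2 q hq (hσ.2.1 q hq h1) h2


/-- the dichotomy: either `C_G(x₁) ≤ M` for a prime order power `x₁` of `x`, or the configuration
`Cfg` occurs. -/
theorem dichotomy (hG : IsMinSimpleOddOrder G) {M : Subgroup G} (hM : IsCoatom M) {x : G}
    (hx : x ∈ sigmaCore M) (hx1 : x ≠ 1) :
    (Subgroup.centralizer ({x} : Set G) ≤ M ∧ ∀ g : G, x ∈ cj(g, M) → cj(g, M) = M) ∨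
      ∃ (N : Subgroup G) (x₁ : G) (p : ℕ), Cfg M N x₁ p ∧ x₁ ∈ Subgroup.zpowers x := by
  have ho : orderOf x ≠ 1 := fun h => hx1 (orderOf_eq_one_iff.1 h)
  obtain ⟨p, hp, hpx⟩ := Nat.exists_prime_and_dvd ho
  haveI : Fact p.Prime := ⟨hp⟩
  have hord : orderOf (x ^ (orderOf x / p)) = p :=
    orderOf_pow_orderOf_div (orderOf_pos x).ne' hpx
  have hx₁x : x ^ (orderOf x / p) ∈ Subgroup.zpowers x :=
    Subgroup.pow_mem _ (Subgroup.mem_zpowers x) _
  have hx₁ : x ^ (orderOf x / p) ∈ sigmaCore M := Subgroup.pow_mem _ hx _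
  by_cases hC : Subgroup.centralizer ({x ^ (orderOf x / p)} : Set G) ≤ M
  · left
    refine ⟨(Cfg.centralizer_le hx₁x).trans hC, ?_⟩
    intro g hg
    obtain ⟨c, hc, hceq⟩ := trans_prime hG hM hx₁ hord g ((Subgroup.zpowers_le.2 hg) hx₁x)
    rw [hceq, map_conj_eq_self_of_mem (hC hc)]
  · right
    obtain ⟨N, hN⟩ := exists_cfg hG hM hx₁ hord hC
    exact ⟨N, _, p, hN, hx₁x⟩

/-- **BG Theorem 14.4(a)** (statement S1374). -/
theorem thm_14_4_a (hG : IsMinSimpleOddOrder G) (M : Subgroup G) (hM : IsCoatom M) (x : G)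
    (hx : x ∈ sigmaCore M) (hx1 : x ≠ 1) :
    (Nat.card ↥(M ⊓ Subgroup.centralizer ({x} : Set G))).Coprime
        ((M ⊓ Subgroup.centralizer ({x} : Set G)).relIndex (Subgroup.centralizer ({x} : Set G))) ∧
      ∃ R : Subgroup G, Subgroup.centralizer ({x} : Set G) ≤ Subgroup.normalizer (R : Set G) ∧
        IsComplIn (M ⊓ Subgroup.centralizer ({x} : Set G)) R (Subgroup.centralizer ({x} : Set G)) ∧
        ∀ g : G, x ∈ M.map (MulAut.conj g).toMonoidHom →
          ∃! r : G, r ∈ R ∧ M.map (MulAut.conj r).toMonoidHom =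
            M.map (MulAut.conj g).toMonoidHom := by
  rcases dichotomy hG hM hx hx1 with ⟨hC, hall⟩ | ⟨N, x₁, p, h, hx₁x⟩
  · refine ⟨?_, ⊥, ?_, ?_, ?_⟩
    · have : (M ⊓ Subgroup.centralizer ({x} : Set G)).relIndex
          (Subgroup.centralizer ({x} : Set G)) = 1 :=
        Subgroup.relIndex_eq_one.2 (le_inf hC le_rfl)
      rw [this]; exact Nat.coprime_one_right _
    · intro c _
      rw [Subgroup.mem_normalizer_iff]
      intro y
      simp [Subgroup.mem_bot]
    · refine ⟨inf_le_right, bot_le, inf_bot_eq _, ?_⟩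
      intro m hm
      exact ⟨m, ⟨hC hm, hm⟩, 1, Subgroup.one_mem _, (mul_one m).symm⟩
    · intro g hg
      refine ⟨1, ⟨Subgroup.one_mem _, ?_⟩, ?_⟩
      · rw [hall g hg]; exact Cfsg.Agent.Lib.H10.map_conj_one M
      · rintro r ⟨hr, -⟩
        exact Subgroup.mem_bot.1 hr
  · have hcompl := Cfg.compl_cent h hx hx₁x
    have hU := Cfsg.Agent.Lib.H20.BGT.uniq3 hG
    have hσ := (Cfsg.Agent.Lib.H20.BGS.sigma_core_hall hG hU h.hN).1
    have hCN := Cfg.centralizer_le_N h hx₁x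
    refine ⟨?_, sigmaCore N ⊓ Subgroup.centralizer ({x} : Set G), ?_, hcompl, ?_⟩
    · have h1 := Cfsg.Agent.Lib.H7.isComplIn_card_mul hcompl
      have h2 := SylIn.card_mul_relIndex hcompl.1
      have h3 : (M ⊓ Subgroup.centralizer ({x} : Set G)).relIndex
          (Subgroup.centralizer ({x} : Set G)) =
          Nat.card ↥(sigmaCore N ⊓ Subgroup.centralizer ({x} : Set G)) := by
        apply Nat.eq_of_mul_eq_mul_left (Nat.card_pos (α := ↥(M ⊓ Subgroup.centralizer ({x} : Set G))))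
        rw [h1, h2]
      rw [h3]
      apply Nat.coprime_of_dvd
      intro q hq hq1 hq2
      have h4 : q ∣ Nat.card ↥(M ⊓ N) :=
        hq1.trans (Subgroup.card_dvd_of_le (inf_le_inf_left M hCN))
      have h5 : q ∣ Nat.card ↥(sigmaCore N) := hq2.trans (Subgroup.card_dvd_of_le inf_le_left)
      rw [Cfsg.Agent.Lib.H8.BG12.compl_card_eq_relIndex h.compl] at h4
      exact hσ.2.2 q hq (hσ.2.1 q hq h5) h4
    · exact Cfsg.Agent.Lib.H10.FrobCyc.le_normalizer_inf'' (hCN.trans (Cfg.le_normalizer h))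
        Subgroup.le_normalizer
    · intro g hg
      obtain ⟨r, hr, hreq⟩ := Cfg.regular h hx hx₁x hg
      refine ⟨r, ⟨hr, hreq.symm⟩, ?_⟩
      rintro r' ⟨hr', hr'eq⟩
      exact Cfg.eq_of_map_conj_eq hG h hr'.1 hr.1 (hr'eq.trans hreq)


/-- powers of `x t` modulo a subgroup normalized by `x`. -/
theorem exists_pow_mul_eq {S : Subgroup G} {x t : G} (ht : t ∈ S)
    (hxS : x ∈ Subgroup.normalizer (S : Set G)) (k : ℕ) : ∃ t' ∈ S, (x * t) ^ k = x ^ k * t' := by
  induction k with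
  | zero => exact ⟨1, S.one_mem, by simp⟩
  | succ k ih =>
    obtain ⟨t', ht', he⟩ := ih
    have h1 : x⁻¹ * t' * x ∈ S := by
      have := (Subgroup.mem_normalizer_iff.1 (Subgroup.inv_mem _ hxS) t').1 ht'
      rwa [inv_inv] at this
    refine ⟨x⁻¹ * t' * x * t, S.mul_mem h1 ht, ?_⟩
    rw [pow_succ, he, pow_succ]; group

/-- **BG Theorem 14.4(c)** (statement S1375). -/
theorem thm_14_4_b (hG : IsMinSimpleOddOrder G) (M : Subgroup G) (hM : IsCoatom M) (x : G)
    (hx : x ∈ sigmaCore M) (hx1 : x ≠ 1) (hxM : ¬ Subgroup.centralizer ({x} : Set G) ≤ M) :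
    ∃ N : Subgroup G, (IsCoatom N ∧ Subgroup.centralizer ({x} : Set G) ≤ N) ∧
      (∀ L : Subgroup G, IsCoatom L → Subgroup.centralizer ({x} : Set G) ≤ L → L = N) ∧
        sigmaCore N = fittingHallOf N ∧
        Subgroup.centralizer ({x} : Set G) ≤ Subgroup.normalizer
          ((sigmaCore N ⊓ Subgroup.centralizer ({x} : Set G) : Subgroup G) : Set G) ∧
        IsComplIn (M ⊓ Subgroup.centralizer ({x} : Set G))
          (sigmaCore N ⊓ Subgroup.centralizer ({x} : Set G)) (Subgroup.centralizer ({x} : Set G)) ∧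
        IsComplIn (M ⊓ N) (sigmaCore N) N ∧
        ∀ K' U' : Subgroup G, IsSigmaDecomposition N K' U' →
          U' ≠ ⊥ ∧ x ∈ sigmaA N U' ∧ x ∉ sigmaCore N := by
  rcases dichotomy hG hM hx hx1 with ⟨hC, -⟩ | ⟨N, x₁, p, h, hx₁x⟩
  · exact absurd hC hxM
  have hN := h.hN
  have hCN := Cfg.centralizer_le_N h hx₁x
  have hxN : x ∈ N := Cfg.mem_N h hx₁x
  have hxMm : x ∈ M := Cfsg.Agent.Lib.H20.BGS.sigmaCore_le M hx
  have hxσ : x ∉ sigmaCore N := by
    intro hh
    have : x ∈ sigmaCore N ⊓ M := ⟨hh, hxMm⟩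
    rw [h.disj, Subgroup.mem_bot] at this
    exact hx1 this
  have hR := Cfg.inf_centralizer_ne_bot h hx hx₁x hxM
  obtain ⟨r, hr1⟩ := (Subgroup.ne_bot_iff_exists_ne_one.1 hR)
  have hrx : (r : G) * x = x * r := Subgroup.mem_centralizer_singleton_iff.1 r.2.2
  have hhat : x ∈ sigmaHat N :=
    ⟨hxN, (r : G), r.2.1, fun hh => hr1 (Subtype.ext hh), hrx.symm⟩
  refine ⟨N, ⟨hN, hCN⟩, fun L hL hCL => Cfg.unique hG h hx hx₁x hxM hL hCL,
    sigmaCore_eq_fittingHallOf hG hN h.nil,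
    Cfsg.Agent.Lib.H10.FrobCyc.le_normalizer_inf'' (hCN.trans (Cfg.le_normalizer h))
      Subgroup.le_normalizer,
    Cfg.compl_cent h hx hx₁x, h.compl, ?_⟩
  intro K' U' hKU
  have hE' := Cfsg.Agent.Lib.H20.BGZ.isComplIn_sup hG hN hKU
  obtain ⟨e, he, s, hs, hxes⟩ := hE'.2.2.2 x hxN
  have heU : e ∈ U' := by
    -- `e = x s⁻¹` has order dividing that of `x`
    have hxn : x ∈ Subgroup.normalizer ((sigmaCore N : Subgroup G) : Set G) :=
      Cfg.le_normalizer h hxN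
    have hexs : e = x * s⁻¹ := by rw [hxes]; group
    obtain ⟨t', ht', hpow⟩ := exists_pow_mul_eq (Subgroup.inv_mem _ hs) hxn (orderOf x)
    rw [← hexs, pow_orderOf_eq_one, one_mul] at hpow
    have hpe : e ^ orderOf x ∈ (K' ⊔ U') ⊓ sigmaCore N :=
      ⟨Subgroup.pow_mem _ he _, by rw [hpow]; exact ht'⟩
    rw [hE'.2.2.1, Subgroup.mem_bot] at hpe
    have hdvd : orderOf e ∣ orderOf x := orderOf_dvd_of_pow_eq_one hpe
    have hle : Subgroup.zpowers e ≤ U' := by
      apply Cfsg.Agent.Lib.H20.BGZ.le_U_of_not_kappa hG hN hKU (Subgroup.zpowers_le.2 he)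
      intro q hq hqd
      rw [Nat.card_zpowers] at hqd
      exact Cfsg.Agent.Lib.H20.BGZ.not_kappa_of_tau23 hG hN hKU
        (Or.inl (Cfg.mem_tau2_of_dvd hG h hx hx₁x hxM hq (hqd.trans hdvd)))
    exact hle (Subgroup.mem_zpowers e)
  have hxsup : x ∈ U' ⊔ sigmaCore N := by
    rw [hxes]; exact Subgroup.mul_mem_sup heU hs
  refine ⟨?_, ⟨hhat, hxsup⟩, hxσ⟩
  intro hb
  rw [hb, bot_sup_eq] at hxsup
  exact hxσ hxsup

end Cfsg.Agent.Lib.H10.BG144
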