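import Mathlib
import Cfsg.Agent.Lib.H10.BG144d
import Cfsg.Agent.Lib.H16.BG134b
import Cfsg.Agent.Lib.H16.BG11a

/-! # BG Theorem 14.4 (helper10), part 5: `π(M) ∩ σ(N) ⊆ β(N)`, and fusion of the subgroups `N`
(clause (b) of S1436). -/

set_option autoImplicit false
set_option linter.style.haveILetI false
set_option linter.unusedSectionVars false
set_option linter.unusedVariables false
set_option maxHeartbeats 800000

open Cfsg

namespace Cfsg.Agent.Lib.H10.BG144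

open Cfsg.Agent.Lib.H16.BG
open Cfsg.Agent.Lib.H7.BG7
open Cfsg.Agent.Lib.H7.BG10
open Cfsg.Agent.Lib.H20.BGS
open Cfsg.Agent.Lib.H19 (IsPiCard)
open scoped commutatorElement Pointwise

universe u
variable {G : Type u} [Group G] [Finite G]

local notation:max "cj(" g ", " X ")" => Subgroup.map (MulEquiv.toMonoidHom (MulAut.conj g)) X

/-- a complement of `N_σ` in `N` is a Hall `σ(N)'`-subgroup of `N`. -/
theorem isPiHallOf_compl (hG : IsMinSimpleOddOrder G) {N E : Subgroup G} (hN : IsCoatom N)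
    (hE : IsComplIn E (sigmaCore N) N) : IsPiHallOf (sigma N)ᶜ E N := by
  have hU := Cfsg.Agent.Lib.H20.BGT.uniq3 hG
  have hσ := (sigma_core_hall hG hU hN).1
  have hcard := Cfsg.Agent.Lib.H7.isComplIn_card_mul hE
  have hrel := Cfsg.Agent.Lib.H8.BG12.compl_card_eq_relIndex hE
  have hm : IsPiCard (sigma N)ᶜ (Nat.card E) := by
    intro p hp hd hpσ
    rw [hrel] at hd
    exact hσ.2.2 p hp hpσ hd
  have hn : IsPiCard (sigma N)ᶜᶜ (Nat.card ↥(sigmaCore N)) := by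
    rw [compl_compl]; exact hσ.2.1
  exact (Cfsg.Agent.Lib.H19.isPiHallOf_iff_card hcard.symm hm hn).2 ⟨hE.1, rfl⟩

namespace Cfg

variable {M N : Subgroup G} {x₁ x : G} {p : ℕ}

/-- **BG 14.4 (d)**: a prime of `σ(N)` dividing `|M|` lies in `β(N)`. -/
theorem mem_beta_of_dvd (hG : IsMinSimpleOddOrder G) (h : Cfg M N x₁ p) {t : ℕ} (ht : t.Prime)
    (htM : t ∣ Nat.card M) (htσ : t ∈ sigma N) : t ∈ beta N := by
  haveI : Fact p.Prime := ⟨h.tau2.1⟩
  have hpσN : p ∉ sigma N := h.tau2.2.1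
  have hpσM : p ∈ sigma M :=
    mem_sigma_of_mem_sigmaCore hG h.hM h.hx₁ h.tau2.1 (by rw [h.ord])
  obtain ⟨A, hAE, hAe, hAc⟩ := h.hA
  have hAp : IsPGroup p A := IsPGroup.of_card hAc
  obtain ⟨S, hS, hAS⟩ := SylIn.exists_ge hAp hAE
  have hHall := isPiHallOf_compl hG h.hN h.compl
  have hSN : SylIn p S N := SylIn.of_hall hHall hpσN hS
  have hncyc : ¬ IsCyclic S := by
    intro hc
    haveI := hc
    have hAc' : IsCyclic A :=
      isCyclic_of_injective (Subgroup.inclusion hAS) (Subgroup.inclusion_injective hAS)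
    exact Cfsg.Agent.Lib.H16.BG.not_isCyclic_of_elemAb h.tau2.1 hAe (le_of_eq hAc.symm) hAc'
  exact Cfsg.Agent.Lib.H16.BG134.mem_beta_of_mem_sigma_of_dvd hG h.hM h.hN h.nconj hpσM hpσN hSN
    (hS.le.trans inf_le_left) hncyc ht htM htσ

end Cfg

/-- **clause (b) of S1436**: `G`-conjugate subgroups `N ⊇ C_G(x)`, `N' ⊇ C_G(y)` for
`x, y ∈ M_σ` with `C_G(x), C_G(y) ≰ M` are `M`-conjugate. -/
theorem conj_in_M (hG : IsMinSimpleOddOrder G) {M : Subgroup G} (hM : IsCoatom M) {x : G}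
    (hx : x ∈ sigmaCore M) (hx1 : x ≠ 1) (hxM : ¬ Subgroup.centralizer ({x} : Set G) ≤ M)
    {N : Subgroup G} (hN : IsCoatom N) (hxN : Subgroup.centralizer ({x} : Set G) ≤ N)
    {y : G} {N' : Subgroup G} {g : G} (hy : y ∈ sigmaCore M) (hy1 : y ≠ 1)
    (hyM : ¬ Subgroup.centralizer ({y} : Set G) ≤ M) (hN' : IsCoatom N')
    (hyN' : Subgroup.centralizer ({y} : Set G) ≤ N') (hg : cj(g, N') = N) :
    ∃ m ∈ M, cj(m, N') = N := by
  -- the two configurations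
  rcases dichotomy hG hM hx hx1 with ⟨hC, -⟩ | ⟨N₀, x₁, p, h, hx₁x⟩
  · exact absurd hC hxM
  rcases dichotomy hG hM hy hy1 with ⟨hC, -⟩ | ⟨N₀', y₁, p', h', hy₁y⟩
  · exact absurd hC hyM
  have hNN₀ : N = N₀ := Cfg.unique hG h hx hx₁x hxM hN hxN
  have hNN₀' : N' = N₀' := Cfg.unique hG h' hy hy₁y hyM hN' hyN'
  subst hNN₀ hNN₀'
  haveI : Group.IsSolvable ↥N := solvable_of_coatom hG hN
  haveI : Fact p'.Prime := ⟨h'.tau2.1⟩
  have hHall := isPiHallOf_compl hG hN h.compl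
  -- `z = g y₁ g⁻¹ ∈ N`
  have hy₁N' : y₁ ∈ N' := h'.hCN (Subgroup.mem_centralizer_singleton_iff.2 rfl)
  set z := g * y₁ * g⁻¹ with hz
  have hzN : z ∈ N := by
    rw [← hg, Cfsg.Agent.Lib.H10.mem_map_conj]
    have : g⁻¹ * z * g = y₁ := by rw [hz]; group
    rw [this]; exact hy₁N'
  have hzo : orderOf z = p' := by
    have h1 := MulEquiv.orderOf_eq (MulAut.conj g) y₁
    rw [MulAut.conj_apply] at h1
    rw [hz, h1, h'.ord]
  have hp'σ : p' ∉ sigma N := by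
    rw [← hg, Cfsg.Agent.Lib.H16.BG.sigma_cj]
    exact h'.tau2.2.1
  have hπ : IsPiCard (sigma N)ᶜ (Nat.card (Subgroup.zpowers z)) := by
    intro q hq hd
    rw [Nat.card_zpowers, hzo] at hd
    rw [(Nat.prime_dvd_prime_iff_eq hq h'.tau2.1).1 hd]
    exact hp'σ
  obtain ⟨H₁, hH₁, hzH₁⟩ :=
    Cfsg.Agent.Lib.H19.exists_isPiHallOf_ge (Subgroup.zpowers_le.2 hzN) hπ
  obtain ⟨n, hn, hconj⟩ := Cfsg.Agent.Lib.H19.isPiHallOf_exists_conj hH₁ hHall
  have hnz : n * z * n⁻¹ ∈ M := by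
    have : n * z * n⁻¹ ∈ M ⊓ N := by
      rw [← hconj]
      exact ⟨z, hzH₁ (Subgroup.mem_zpowers z), by simp [MulAut.conj_apply]⟩
    exact this.1
  -- `y₁ ∈ cj((n g)⁻¹, M)`
  have hmem : y₁ ∈ cj((n * g)⁻¹, M) := by
    rw [Cfsg.Agent.Lib.H10.mem_map_conj]
    have : ((n * g)⁻¹)⁻¹ * y₁ * (n * g)⁻¹ = n * z * n⁻¹ := by rw [hz]; group
    rw [this]; exact hnz
  obtain ⟨c, hc, hceq⟩ := h'.trans _ hmem
  have hM1 : M ≠ ⊥ := by
    intro hb
    apply hx1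
    have := Cfsg.Agent.Lib.H20.BGS.sigmaCore_le M hx
    rwa [hb, Subgroup.mem_bot] at this
  have hNM : Subgroup.normalizer (M : Set G) = M :=
    normalizer_eq_of_coatom hG hM le_rfl hM1 Subgroup.le_normalizer
  have h1 : cj(c⁻¹ * (n * g)⁻¹, M) = M := by
    rw [← Cfsg.Agent.Lib.H10.map_conj_map_conj, hceq, Cfsg.Agent.Lib.H10.map_conj_map_conj,
      inv_mul_cancel, Cfsg.Agent.Lib.H10.map_conj_one]
  have h2 : c⁻¹ * (n * g)⁻¹ ∈ M := by
    rw [← hNM]; exact Subgroup.mem_normalizer_iff_map_conj_eq.2 h1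
  refine ⟨n * g * c, ?_, ?_⟩
  · have : n * g * c = (c⁻¹ * (n * g)⁻¹)⁻¹ := by group
    rw [this]; exact M.inv_mem h2
  · have hcN' : c ∈ N' := h'.hCN hc
    have e1 : cj(c, N') = N' := map_conj_eq_self_of_mem hcN'
    have e2 : cj(n, N) = N := map_conj_eq_self_of_mem hn
    rw [← Cfsg.Agent.Lib.H10.map_conj_map_conj, e1, ← Cfsg.Agent.Lib.H10.map_conj_map_conj, hg, e2]

end Cfsg.Agent.Lib.H10.BG144
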