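import Mathlib
import Cfsg.Agent.Lib.H7.FrobNil
import Cfsg.Agent.Lib.H1.CoprimeAction
import Cfsg.Agent.Lib.H16.BGa
import Cfsg.Agent.Lib.H10.BG144d

/-! # BG Theorem 15.2 (helper10), part 1: nilpotent quotients from fixed-point-free action. -/

set_option autoImplicit false
set_option linter.style.haveILetI false
set_option linter.unusedSectionVars false
set_option linter.unusedVariables false
set_option maxHeartbeats 800000

open Cfsg

namespace Cfsg.Agent.Lib.H10.BG152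

open Cfsg.Agent.Lib.H16.BG
open Cfsg.Agent.Lib.H7.BG7
open Cfsg.Agent.Lib.H7.BG10
open Cfsg.Agent.Lib.H19 (IsPiCard)
open Cfsg.Agent.Lib.H1 (CoprimeAction)
open scoped commutatorElement

universe u
variable {G : Type u} [Group G]

/-- the elements normalizing `N` and centralizing `h` modulo `N`. -/
def stabMod (N : Subgroup G) (h : G) : Subgroup G where
  carrier := {a | a ∈ Subgroup.normalizer (N : Set G) ∧ a * h * a⁻¹ * h⁻¹ ∈ N}
  one_mem' := by
    refine ⟨Subgroup.one_mem _, ?_⟩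
    simp
  mul_mem' := by
    rintro a b ⟨ha, ha'⟩ ⟨hb, hb'⟩
    refine ⟨Subgroup.mul_mem _ ha hb, ?_⟩
    have h1 : a * (b * h * b⁻¹ * h⁻¹) * a⁻¹ ∈ N := (Subgroup.mem_normalizer_iff.mp ha _).mp hb'
    have e : a * b * h * (a * b)⁻¹ * h⁻¹ = (a * (b * h * b⁻¹ * h⁻¹) * a⁻¹) * (a * h * a⁻¹ * h⁻¹) := by
      group
    rw [e]
    exact N.mul_mem h1 ha'
  inv_mem' := by
    rintro a ⟨ha, ha'⟩
    refine ⟨Subgroup.inv_mem _ ha, ?_⟩
    have h1 : a⁻¹ * (a * h * a⁻¹ * h⁻¹)⁻¹ * a⁻¹⁻¹ ∈ N :=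
      (Subgroup.mem_normalizer_iff.mp (Subgroup.inv_mem _ ha) _).mp (N.inv_mem ha')
    have e : a⁻¹ * h * a⁻¹⁻¹ * h⁻¹ = a⁻¹ * (a * h * a⁻¹ * h⁻¹)⁻¹ * a⁻¹⁻¹ := by group
    rw [e]
    exact h1

theorem mem_stabMod {N : Subgroup G} {h a : G} :
    a ∈ stabMod N h ↔ a ∈ Subgroup.normalizer (N : Set G) ∧ a * h * a⁻¹ * h⁻¹ ∈ N := Iff.rfl

variable [Finite G]

/-- coprime fixed points modulo `N`: if `x` has order coprime to `|H|`, normalizes `H` and `N ⊴ H`,
and `x` centralizes `h ∈ H` modulo `N`, then `h ∈ C_H(x) N`. -/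
theorem exists_fixed_of_comm_mod {H N : Subgroup G} (hNH : N ≤ H)
    (hHN : H ≤ Subgroup.normalizer (N : Set G)) {x : G} (hxH : x ∈ Subgroup.normalizer (H : Set G))
    (hxN : x ∈ Subgroup.normalizer (N : Set G))
    (hcop : (orderOf x).Coprime (Nat.card H)) {h : G} (hh : h ∈ H)
    (hc : x * h * x⁻¹ * h⁻¹ ∈ N) :
    ∃ c ∈ H ⊓ Subgroup.centralizer ({x} : Set G), h⁻¹ * c ∈ N := by
  have hA : CoprimeAction (Subgroup.zpowers x) H := by
    refine ⟨Subgroup.zpowers_le.mpr hxH, ?_, Or.inl ?_⟩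
    · rw [Nat.card_zpowers]; exact hcop
    · infer_instance
  have hle : Subgroup.zpowers x ≤ stabMod N h := Subgroup.zpowers_le.mpr ⟨hxN, hc⟩
  obtain ⟨c, hc1, hc2⟩ := Cfsg.Agent.Lib.H1.coprime_centralizer_quotient hA hNH hHN
    (Subgroup.zpowers_le.mpr hxN) hh (fun a ha => (hle ha).2)
  refine ⟨c, Subgroup.mem_inf.mpr ⟨hc1.1, ?_⟩, hc2⟩
  rw [Subgroup.mem_centralizer_singleton_iff]
  exact (Subgroup.mem_centralizer_iff.mp hc1.2 x (Subgroup.mem_zpowers x)).symm

/-- **Thompson in a quotient**: if `x ∈ M` of prime order `r` coprime to `|H|` normalizes `H ≥ N`,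
`N ⊴ M`, and `C_H(x) ≤ N`, then `H/N` is nilpotent. -/
theorem isNilpotent_map_mk_of_fpf {M H N : Subgroup G} (hHM : H ≤ M) (hNH : N ≤ H)
    [hn : (N.subgroupOf M).Normal]
    {x : G} (hxM : x ∈ M) (hxH : x ∈ Subgroup.normalizer (H : Set G)) {r : ℕ} (hr : r.Prime)
    (hxr : x ^ r = 1) (hcop : (Nat.card H).Coprime r)
    (hfix : H ⊓ Subgroup.centralizer ({x} : Set G) ≤ N) :
    Group.IsNilpotent ↥((H.subgroupOf M).map (QuotientGroup.mk' (N.subgroupOf M))) := by
  have hNM : N ≤ M := hNH.trans hHM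
  have hMN : M ≤ Subgroup.normalizer (N : Set G) :=
    (Subgroup.normal_subgroupOf_iff_le_normalizer hNM).1 hn
  set π := QuotientGroup.mk' (N.subgroupOf M) with hπ
  set xm : ↥M := ⟨x, hxM⟩ with hxm
  have hord : (orderOf x).Coprime (Nat.card H) :=
    (Nat.Coprime.coprime_dvd_right (orderOf_dvd_of_pow_eq_one hxr) hcop).symm
  refine Cfsg.Agent.Lib.H7.FrobNil.isNilpotent_of_fpf (x := π xm) hr ?_ ?_ ?_
  · apply Subgroup.le_normalizer_map
    refine Subgroup.mem_map_of_mem _ ?_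
    rw [Subgroup.mem_normalizer_iff]
    intro y
    rw [Subgroup.mem_subgroupOf, Subgroup.mem_subgroupOf]
    exact Subgroup.mem_normalizer_iff.mp hxH y
  · rw [← map_pow]
    have : xm ^ r = 1 := Subtype.ext (by simpa using hxr)
    rw [this, map_one]
  · rintro _ ⟨y, hy, rfl⟩ hcomm
    have hy : (y : G) ∈ H := Subgroup.mem_subgroupOf.mp hy
    have h1 : π (xm * y * xm⁻¹ * y⁻¹) = 1 := by
      rw [map_mul, map_mul, map_mul, map_inv, map_inv, hcomm]
      group
    have h2 : xm * y * xm⁻¹ * y⁻¹ ∈ N.subgroupOf M := by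
      rw [← QuotientGroup.ker_mk' (N.subgroupOf M)]
      exact h1
    rw [Subgroup.mem_subgroupOf] at h2
    have h3 : x * (y : G) * x⁻¹ * (y : G)⁻¹ ∈ N := by simpa using h2
    obtain ⟨c, hc1, hc2⟩ := exists_fixed_of_comm_mod hNH (hHM.trans hMN) hxH (hMN hxM) hord hy h3
    have hcN : c ∈ N := hfix hc1
    have hyN : (y : G) ∈ N := by
      have : (y : G) = c * ((y : G)⁻¹ * c)⁻¹ := by group
      rw [this]
      exact N.mul_mem hcN (N.inv_mem hc2)
    have : y ∈ N.subgroupOf M := by rw [Subgroup.mem_subgroupOf]; exact hyN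
    rw [← QuotientGroup.ker_mk' (N.subgroupOf M)] at this
    exact this

/-- a subgroup of `H` meeting `N` trivially embeds in `H/N`. -/
theorem isNilpotent_of_inf_eq_bot {M H N D : Subgroup G} (hHM : H ≤ M)
    [hn : (N.subgroupOf M).Normal]
    (hnil : Group.IsNilpotent ↥((H.subgroupOf M).map (QuotientGroup.mk' (N.subgroupOf M))))
    (hDH : D ≤ H) (hDN : D ⊓ N = ⊥) : Group.IsNilpotent ↥D := by
  set π := QuotientGroup.mk' (N.subgroupOf M) with hπ
  let f : ↥D →* ↥M ⧸ N.subgroupOf M := π.comp (Subgroup.inclusion (hDH.trans hHM))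
  have hinj : Function.Injective f := by
    rw [injective_iff_map_eq_one]
    intro d hd
    have h1 : Subgroup.inclusion (hDH.trans hHM) d ∈ N.subgroupOf M := by
      rw [← QuotientGroup.ker_mk' (N.subgroupOf M)]
      exact hd
    rw [Subgroup.mem_subgroupOf] at h1
    have h2 : (d : G) ∈ D ⊓ N := ⟨d.2, h1⟩
    rw [hDN, Subgroup.mem_bot] at h2
    exact Subtype.ext h2
  have hle : f.range ≤ (H.subgroupOf M).map π := by
    rintro _ ⟨d, rfl⟩
    exact Subgroup.mem_map_of_mem _ (Subgroup.mem_subgroupOf.mpr (hDH d.2))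
  haveI := isNilpotent_of_le hnil hle
  exact Group.nilpotent_of_mulEquiv (MonoidHom.ofInjective hinj).symm

/-- if `H / O_q(H)` is nilpotent then `O_q(H)` is a Sylow `q`-subgroup of `H`. -/
theorem not_dvd_relIndex_piCoreOf {M H : Subgroup G} (hHM : H ≤ M)
    (hMH : M ≤ Subgroup.normalizer (H : Set G)) {q : ℕ} [hq : Fact q.Prime]
    [hn : ((piCoreOf {q} H).subgroupOf M).Normal]
    (hnil : Group.IsNilpotent
      ↥((H.subgroupOf M).map (QuotientGroup.mk' ((piCoreOf {q} H).subgroupOf M)))) :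
    ¬ q ∣ (piCoreOf {q} H).relIndex H := by
  set Q := piCoreOf {q} H with hQ
  have hQH : Q ≤ H := piCoreOf_le _ _
  have hQp : IsPGroup q Q := isPGroup_piCoreOf_singleton q H
  set π := QuotientGroup.mk' (Q.subgroupOf M) with hπ
  have hπs : Function.Surjective π := QuotientGroup.mk'_surjective _
  set Hm := H.subgroupOf M with hHm
  set Hb := Hm.map π with hHb
  have hker : π.ker = Q.subgroupOf M := QuotientGroup.ker_mk' _
  have hkerle : π.ker ≤ Hm := by
    rw [hker]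
    intro y hy
    exact Subgroup.mem_subgroupOf.mpr (hQH (Subgroup.mem_subgroupOf.mp hy))
  -- cardinality of `Hb`
  have hcard : Nat.card Hb = Q.relIndex H := by
    have h1 := Cfsg.Agent.Lib.H8.card_map_mul_card_ker_inf π Hm
    rw [inf_eq_left.mpr hkerle, hker] at h1
    have h2 : Nat.card (Q.subgroupOf M) = Nat.card Q :=
      Nat.card_congr (Subgroup.subgroupOfEquivOfLe (hQH.trans hHM)).toEquiv
    have h3 : Nat.card Hm = Nat.card H :=
      Nat.card_congr (Subgroup.subgroupOfEquivOfLe hHM).toEquiv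
    have h4 := SylIn.card_mul_relIndex hQH
    rw [h2, h3] at h1
    have h5 : Nat.card Hb * Nat.card Q = Q.relIndex H * Nat.card Q := by
      rw [h1, mul_comm, h4]
    exact Nat.eq_of_mul_eq_mul_right Nat.card_pos h5
  intro hd
  rw [← hcard] at hd
  -- the Sylow `q`-subgroup of `Hb`
  set Pb := piCoreOf {q} Hb with hPb
  have hPb1 : Pb ≠ ⊥ := piCoreOf_singleton_ne_bot hnil hd
  have hPbp : IsPGroup q Pb := isPGroup_piCoreOf_singleton q Hb
  have hPbH : Pb ≤ Hb := piCoreOf_le _ _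
  haveI hHmn : Hm.Normal := (Subgroup.normal_subgroupOf_iff_le_normalizer hHM).2 hMH
  haveI hHbn : Hb.Normal := Subgroup.Normal.map hHmn π hπs
  haveI hPbn : Pb.Normal := by
    rw [← Subgroup.normalizer_eq_top_iff, eq_top_iff]
    have h1 : Subgroup.normalizer (Hb : Set (↥M ⧸ Q.subgroupOf M)) = ⊤ :=
      Subgroup.normalizer_eq_top_iff.mpr hHbn
    rw [← h1]
    exact normalizer_le_normalizer_piCoreOf {q} Hb
  set Pm := Pb.comap π with hPm
  haveI hPmn : Pm.Normal := Subgroup.Normal.comap hPbn π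
  have hPmp : IsPGroup q Pm := by
    apply IsPGroup.comap_of_ker_isPGroup hPbp
    rw [hker]
    exact hQp.comap_of_injective _ (Subgroup.subtype_injective _)
  have hPmH : Pm ≤ Hm := by
    intro y hy
    have h1 : π y ∈ Hb := hPbH hy
    obtain ⟨z, hz, hzy⟩ := h1
    have h2 : z⁻¹ * y ∈ π.ker := by
      rw [MonoidHom.mem_ker, map_mul, map_inv, hzy, inv_mul_cancel]
    have h3 : y = z * (z⁻¹ * y) := by group
    rw [h3]
    exact Hm.mul_mem hz (hkerle h2)
  set P := Pm.map M.subtype with hP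
  have hPp : IsPGroup q P := hPmp.map _
  have hPH : P ≤ H := by
    rintro _ ⟨y, hy, rfl⟩
    exact Subgroup.mem_subgroupOf.mp (hPmH hy)
  have hMP : M ≤ Subgroup.normalizer (P : Set G) := by
    have h1 := Subgroup.le_normalizer_map M.subtype (H := Pm)
    rw [Subgroup.normalizer_eq_top_iff.mpr hPmn, ← MonoidHom.range_eq_map, Subgroup.range_subtype] at h1
    exact h1
  have hPQ : P ≤ Q :=
    le_piCoreOf hPH (hHM.trans hMP) (isPiCard_of_isPGroup hq.out (Set.mem_singleton q) hPp)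
  apply hPb1
  rw [eq_bot_iff]
  intro y hy
  obtain ⟨z, rfl⟩ := hπs y
  have hz : z ∈ Pm := hy
  have hzQ : (z : G) ∈ Q := hPQ ⟨z, hz, rfl⟩
  have : z ∈ π.ker := by rw [hker]; exact Subgroup.mem_subgroupOf.mpr hzQ
  exact this

end Cfsg.Agent.Lib.H10.BG152
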