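import Mathlib
import Cfsg.Agent.Lib.H10.BG152a
import Cfsg.Agent.Lib.H8.BG11r
import Cfsg.Agent.Lib.H10.BG36f

/-! # BG Theorem 15.2 (helper10), part 2: the abstract type `P1` configuration,
`K* ≤ O_q(H)`, `O_q(H)` Sylow, complements nilpotent. -/

set_option autoImplicit false
set_option linter.style.haveILetI false
set_option linter.unusedSectionVars false
set_option linter.unusedVariables false
set_option maxHeartbeats 800000

open Cfsg

namespace Cfsg.Agent.Lib.H10.BG152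

open Cfsg.Agent.Lib.H16.BG
open Cfsg.Agent.Lib.H7.BG7
open Cfsg.Agent.Lib.H7.BG10
open Cfsg.Agent.Lib.H19 (IsPiCard)
open Cfsg.Agent.Lib.H1 (CoprimeAction)
open scoped commutatorElement

universe u
variable {G : Type u} [Group G] [Finite G]

/-- complements from cardinalities. -/
theorem isComplIn_of_card {A B M : Subgroup G} (hA : A ≤ M) (hB : B ≤ M) (hAB : A ⊓ B = ⊥)
    (hcard : Nat.card A * Nat.card B = Nat.card M) : IsComplIn A B M := by
  refine ⟨hA, hB, hAB, ?_⟩
  let f : A × B → M := fun x => ⟨(x.1 : G) * (x.2 : G), mul_mem (hA x.1.2) (hB x.2.2)⟩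
  have hf : Function.Injective f := by
    rintro ⟨⟨a, ha⟩, ⟨b, hb⟩⟩ ⟨⟨a', ha'⟩, ⟨b', hb'⟩⟩ he
    have he' : a * b = a' * b' := congrArg Subtype.val he
    have h1 : a'⁻¹ * a = b' * b⁻¹ := by
      calc a'⁻¹ * a = a'⁻¹ * (a * b) * b⁻¹ := by group
        _ = b' * b⁻¹ := by rw [he']; group
    have h2 : a'⁻¹ * a ∈ A ⊓ B :=
      Subgroup.mem_inf.2 ⟨mul_mem (inv_mem ha') ha, h1 ▸ mul_mem hb' (inv_mem hb)⟩
    rw [hAB, Subgroup.mem_bot] at h2
    have h3 : a = a' := by
      calc a = a' * (a'⁻¹ * a) := by group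
        _ = a' := by rw [h2, mul_one]
    subst h3
    have h4 : b = b' := mul_left_cancel he'
    subst h4
    rfl
  have hb := hf.bijective_of_nat_card_le (by rw [Nat.card_prod, hcard])
  intro m hm
  obtain ⟨⟨a, b⟩, hab⟩ := hb.2 ⟨m, hm⟩
  exact ⟨a, a.2, b, b.2, (congrArg Subtype.val hab).symm⟩

/-- abstract type `P1` configuration: `M = H ⋊ K` of odd order, `K` abelian acting coprimely and
with prime action on `H = [H, K]`, `|C_H(K)| = q` prime, `H` not nilpotent. -/
structure P1 (M H K : Subgroup G) (q : ℕ) : Prop where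
  HM : H ≤ M
  KM : K ≤ M
  MH : M ≤ Subgroup.normalizer (H : Set G)
  mul : ∀ m ∈ M, ∃ h ∈ H, ∃ k ∈ K, m = h * k
  cop : (Nat.card K).Coprime (Nat.card H)
  solv : Group.IsSolvable ↥M
  odd : Odd (Nat.card ↥M)
  K1 : K ≠ ⊥
  ab : ∀ a ∈ K, ∀ b ∈ K, a * b = b * a
  prim : ∀ k ∈ K, k ≠ 1 →
    H ⊓ Subgroup.centralizer ({k} : Set G) = H ⊓ Subgroup.centralizer (K : Set G)
  card : Nat.card ↥(H ⊓ Subgroup.centralizer (K : Set G)) = q
  qp : q.Prime
  comm : ⁅H, K⁆ = H
  nn : ¬ Group.IsNilpotent ↥H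

namespace P1

variable {M H K : Subgroup G} {q : ℕ}

theorem KH (c : P1 M H K q) : K ≤ Subgroup.normalizer (H : Set G) := c.KM.trans c.MH

theorem solvH (c : P1 M H K q) : Group.IsSolvable ↥H := by
  haveI := c.solv
  exact Group.isSolvable_of_isSolvable_injective (Subgroup.inclusion_injective c.HM)

theorem coprimeAction (c : P1 M H K q) : CoprimeAction K H :=
  ⟨c.KH, c.cop, Or.inr c.solvH⟩

/-- an element of prime order in `K`. -/
theorem exists_prime_elt (c : P1 M H K q) :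
    ∃ k ∈ K, ∃ r : ℕ, r.Prime ∧ orderOf k = r ∧ k ≠ 1 := by
  have h1 : Nat.card K ≠ 1 := by
    intro h
    exact c.K1 (Subgroup.card_eq_one.mp h)
  obtain ⟨r, hr, hrd⟩ := Nat.exists_prime_and_dvd h1
  haveI : Fact r.Prime := ⟨hr⟩
  obtain ⟨x, hx⟩ := exists_prime_orderOf_dvd_card' r hrd
  refine ⟨x, x.2, r, hr, ?_, ?_⟩
  · rw [← hx, Subgroup.orderOf_coe]
  · intro h
    have : x = 1 := Subtype.ext h
    rw [this, orderOf_one] at hx
    exact hr.one_lt.ne hx

theorem fix_eq (c : P1 M H K q) {k : G} (hk : k ∈ K) (hk1 : k ≠ 1) :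
    H ⊓ Subgroup.centralizer ((Subgroup.zpowers k : Subgroup G) : Set G) =
      H ⊓ Subgroup.centralizer (K : Set G) := by
  rw [Cfsg.Agent.Lib.H10.BG36.centralizer_zpowers]
  exact c.prim k hk hk1

theorem zpowers_le (c : P1 M H K q) {k : G} (hk : k ∈ K) : Subgroup.zpowers k ≤ K :=
  Subgroup.zpowers_le.mpr hk

theorem K_le_normalizer_zpowers (c : P1 M H K q) {k : G} (hk : k ∈ K) :
    K ≤ Subgroup.normalizer ((Subgroup.zpowers k : Subgroup G) : Set G) := by
  refine le_trans ?_ (Subgroup.centralizer_le_normalizer _)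
  intro a ha
  rw [Cfsg.Agent.Lib.H10.BG36.centralizer_zpowers, Subgroup.mem_centralizer_singleton_iff]
  exact c.ab a ha k hk

/-- `[H, ⟨k⟩] = H` for every non-identity `k ∈ K`. -/
theorem commutator_zpowers_eq (c : P1 M H K q) {k : G} (hk : k ∈ K) (hk1 : k ≠ 1) :
    ⁅H, Subgroup.zpowers k⁆ = H := by
  set A := Subgroup.zpowers k with hA
  have hAK : A ≤ K := c.zpowers_le hk
  have hcA : CoprimeAction A H :=
    ⟨hAK.trans c.KH, Nat.Coprime.coprime_dvd_left (Subgroup.card_dvd_of_le hAK) c.cop,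
      Or.inr c.solvH⟩
  have h1 := Cfsg.Agent.Lib.H1.coprime_commutator_sup_centralizer hcA
  rw [c.fix_eq hk hk1] at h1
  set N := ⁅H, A⁆ with hN
  have hNH : N ≤ H := hcA.commutator_le
  have hHN : H ≤ Subgroup.normalizer (N : Set G) := Subgroup.normalizer_commutator_ge_left H A
  have hKN : K ≤ Subgroup.normalizer (N : Set G) :=
    Cfsg.Agent.Lib.H10.BG36.le_normalizer_commutator c.KH (c.K_le_normalizer_zpowers hk)
  apply le_antisymm hNH
  have h2 : ⁅H, K⁆ ≤ N := by
    rw [Subgroup.commutator_le]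
    intro h hh k' hk'
    have hh' : h ∈ N ⊔ (H ⊓ Subgroup.centralizer (K : Set G)) := by rw [h1]; exact hh
    obtain ⟨n, hn, z, hz, rfl⟩ :=
      Cfsg.Agent.Lib.H1.mem_sup_of_le_normalizer (inf_le_left.trans hHN) hh'
    have hzk : z * k' = k' * z := (Subgroup.mem_centralizer_iff.mp hz.2 k' hk').symm
    have e : ⁅n * z, k'⁆ = n * (k' * n⁻¹ * k'⁻¹) := by
      rw [commutatorElement_def]
      calc n * z * k' * (n * z)⁻¹ * k'⁻¹ = n * (z * k') * z⁻¹ * n⁻¹ * k'⁻¹ := by group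
        _ = n * (k' * z) * z⁻¹ * n⁻¹ * k'⁻¹ := by rw [hzk]
        _ = n * (k' * n⁻¹ * k'⁻¹) := by group
    rw [e]
    exact N.mul_mem hn ((Subgroup.mem_normalizer_iff.mp (hKN hk') _).mp (N.inv_mem hn))
  rw [c.comm] at h2
  exact h2

/-- `K* ≤ F(H)` (BG 3.7). -/
theorem star_le_fittingOf (c : P1 M H K q) :
    H ⊓ Subgroup.centralizer (K : Set G) ≤ fittingOf H := by
  set Ks := H ⊓ Subgroup.centralizer (K : Set G) with hKs
  obtain ⟨k, hk, r, hr, hkr, hk1⟩ := c.exists_prime_elt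
  haveI : Fact q.Prime := ⟨c.qp⟩
  by_contra hcon
  have hbot : fittingOf H ⊓ Ks = ⊥ := by
    by_contra hne
    apply hcon
    have h1 : (fittingOf H ⊓ Ks).subgroupOf Ks = ⊤ := by
      have hp : (Nat.card ↥Ks).Prime := by rw [c.card]; exact c.qp
      haveI : Fact (Nat.card ↥Ks).Prime := ⟨hp⟩
      rcases Subgroup.eq_bot_or_eq_top_of_prime_card ((fittingOf H ⊓ Ks).subgroupOf Ks) with h | h
      · exfalso
        apply hne
        rw [Subgroup.subgroupOf_eq_bot] at h
        rw [disjoint_iff, inf_assoc, inf_idem] at h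
        exact h
      · exact h
    rw [Subgroup.subgroupOf_eq_top] at h1
    exact h1.trans inf_le_left
  have hfix : fittingOf H ⊓ Subgroup.centralizer ({k} : Set G) ≤ ⊥ := by
    rw [← hbot]
    intro y hy
    refine ⟨hy.1, ?_⟩
    have : y ∈ H ⊓ Subgroup.centralizer ({k} : Set G) := ⟨fittingOf_le H hy.1, hy.2⟩
    rw [c.prim k hk hk1] at this
    exact this
  have hrH : ¬ r ∣ Nat.card ↥H := by
    intro hd
    have h1 : r ∣ Nat.card K := by
      rw [← hkr]
      exact (orderOf_dvd_natCard (⟨k, hk⟩ : K)) |> fun h => by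
        rwa [← Subgroup.orderOf_coe] at h
    have := Nat.dvd_gcd h1 hd
    rw [c.cop.gcd_eq_one] at this
    exact hr.one_lt.ne' (Nat.dvd_one.mp this)
  have hmain := Cfsg.Agent.Lib.H8.BG11.commutator_zpowers_le_fittingOf_mod (M := M) (C := H)
    (Z := ⊥) c.solv c.odd c.HM c.MH bot_le
    (by rw [Subgroup.coe_bot, Subgroup.centralizer_eq_top_iff_subset.mpr (by simp)]; exact le_top)
    (by
      intro m _
      rw [Subgroup.mem_normalizer_iff]
      intro y
      simp only [Subgroup.mem_bot]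
      constructor
      · intro hy; rw [hy]; group
      · intro hy
        have : y = m⁻¹ * (m * y * m⁻¹) * m := by group
        rw [this, hy]; group)
    (c.KM hk) hr hkr hrH hfix
  rw [c.commutator_zpowers_eq hk hk1] at hmain
  apply c.nn
  have heq : fittingOf H = H := le_antisymm (fittingOf_le H) hmain
  have := fittingOf_isNilpotent H
  rw [heq] at this
  exact this

theorem isPiCard_star (c : P1 M H K q) :
    IsPiCard ({q} : Set ℕ) (Nat.card ↥(H ⊓ Subgroup.centralizer (K : Set G))) := by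
  rw [c.card]
  intro p hp hd
  exact (Nat.prime_dvd_prime_iff_eq hp c.qp).1 hd

/-- `K* ≤ Q = O_q(H)`. -/
theorem star_le_Q (c : P1 M H K q) :
    H ⊓ Subgroup.centralizer (K : Set G) ≤ piCoreOf {q} H :=
  (le_piCoreOf_of_nilpotent (fittingOf_isNilpotent H) c.star_le_fittingOf c.isPiCard_star).trans
    (piCoreOf_le_piCoreOf_of_normal {q} (fittingOf_le H) (le_normalizer_fittingOf H))

theorem Q_le (c : P1 M H K q) : piCoreOf {q} H ≤ H := piCoreOf_le _ _

theorem M_le_normalizer_Q (c : P1 M H K q) :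
    M ≤ Subgroup.normalizer ((piCoreOf {q} H : Subgroup G) : Set G) :=
  c.MH.trans (normalizer_le_normalizer_piCoreOf {q} H)

theorem Q_normal (c : P1 M H K q) : ((piCoreOf {q} H).subgroupOf M).Normal :=
  (Subgroup.normal_subgroupOf_iff_le_normalizer (c.Q_le.trans c.HM)).2 c.M_le_normalizer_Q

theorem isPGroup_Q (c : P1 M H K q) : IsPGroup q (piCoreOf {q} H) := by
  haveI : Fact q.Prime := ⟨c.qp⟩
  exact isPGroup_piCoreOf_singleton q H

/-- `H / Q` is nilpotent (Thompson). -/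
theorem quot_nil (c : P1 M H K q) :
    haveI := c.Q_normal
    Group.IsNilpotent
      ↥((H.subgroupOf M).map (QuotientGroup.mk' ((piCoreOf {q} H).subgroupOf M))) := by
  haveI := c.Q_normal
  obtain ⟨k, hk, r, hr, hkr, hk1⟩ := c.exists_prime_elt
  have hrH : (Nat.card ↥H).Coprime r := by
    have h1 : r ∣ Nat.card K := by
      rw [← hkr]
      have := orderOf_dvd_natCard (⟨k, hk⟩ : K)
      rwa [← Subgroup.orderOf_coe] at this
    exact (Nat.Coprime.coprime_dvd_left h1 c.cop).symm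
  apply isNilpotent_map_mk_of_fpf c.HM c.Q_le (c.KM hk) (c.KH hk) hr (hkr ▸ pow_orderOf_eq_one k) hrH
  rw [c.prim k hk hk1]
  exact c.star_le_Q

/-- `Q` is a Sylow `q`-subgroup of `H`. -/
theorem Q_sylow (c : P1 M H K q) : ¬ q ∣ (piCoreOf {q} H).relIndex H := by
  haveI : Fact q.Prime := ⟨c.qp⟩
  haveI := c.Q_normal
  exact not_dvd_relIndex_piCoreOf c.HM c.MH c.quot_nil

/-- every complement of `Q` in `H` is nilpotent. -/
theorem compl_nil (c : P1 M H K q) {D : Subgroup G} (hD : IsComplIn (piCoreOf {q} H) D H) :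
    Group.IsNilpotent ↥D := by
  haveI := c.Q_normal
  refine isNilpotent_of_inf_eq_bot c.HM c.quot_nil hD.2.1 ?_
  rw [inf_comm]
  exact hD.2.2.1

/-- a `K`-invariant complement of `Q` in `H`. -/
theorem exists_inv_compl (c : P1 M H K q) :
    ∃ D : Subgroup G, IsComplIn (piCoreOf {q} H) D H ∧ K ≤ Subgroup.normalizer (D : Set G) := by
  haveI := c.solvH
  obtain ⟨D, hD, hKD⟩ := Cfsg.Agent.Lib.H19.coprime_exists_invariant_hall c.coprimeAction
    ({q}ᶜ : Set ℕ)
  refine ⟨D, ?_, hKD⟩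
  set Q := piCoreOf {q} H with hQ
  have h1 := SylIn.card_mul_relIndex c.Q_le
  have hm : IsPiCard ({q}ᶜ : Set ℕ) (Q.relIndex H) := by
    intro p hp hd hpq
    rw [Set.mem_singleton_iff] at hpq
    rw [hpq] at hd
    exact c.Q_sylow hd
  have hn : IsPiCard (({q}ᶜ : Set ℕ)ᶜ) (Nat.card Q) := by
    rw [compl_compl]
    exact isPiCard_of_isPGroup c.qp (Set.mem_singleton q) c.isPGroup_Q
  have h2 := (Cfsg.Agent.Lib.H19.isPiHallOf_iff_card (H := D)
    (show Nat.card H = Q.relIndex H * Nat.card Q by rw [mul_comm]; exact h1.symm) hm hn).1 hD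
  have hcop : (Nat.card Q).Coprime (Nat.card D) := by
    rw [h2.2]
    exact (Cfsg.Agent.Lib.H19.coprime_of_isPiCard hm hn).symm
  refine isComplIn_of_card c.Q_le h2.1 (Subgroup.disjoint_of_coprime_natCard hcop).eq_bot ?_
  rw [h2.2]
  exact h1

end P1

end Cfsg.Agent.Lib.H10.BG152
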