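import Mathlib
import Cfsg.Agent.Lib.H10.BG152b
import Cfsg.Agent.Lib.H7.TypeP
import Cfsg.Agent.Lib.H8.FrobFormula2

/-! # BG Theorem 15.2 (helper10), part 3: the Frobenius fixed-point formula for `D K` on `Q`. -/

set_option autoImplicit false
set_option linter.style.haveILetI false
set_option linter.unusedSectionVars false
set_option linter.unusedVariables false
set_option maxHeartbeats 800000

open Cfsg

namespace Cfsg.Agent.Lib.H10.BG152

open Cfsg.Agent.Lib.H16.BG
open Cfsg.Agent.Lib.H7.BG7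
open Cfsg.Agent.Lib.H7.BG10
open Cfsg.Agent.Lib.H19 (IsPiCard)
open Cfsg.Agent.Lib.H1 (CoprimeAction)
open Cfsg.Agent.Lib.H8 (FrobAct FrobFormula)
open scoped commutatorElement

universe u
variable {G : Type u} [Group G] [Finite G]

/-- a `P1` configuration together with a `K`-invariant complement `D` of `Q = O_q(H)` in `H`. -/
structure P1D (M H K : Subgroup G) (q : ℕ) (D : Subgroup G) : Prop extends P1 M H K q where
  compl : IsComplIn (piCoreOf {q} H) D H
  KD : K ≤ Subgroup.normalizer (D : Set G)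

theorem P1.exists_P1D {M H K : Subgroup G} {q : ℕ} (c : P1 M H K q) :
    ∃ D, P1D M H K q D := by
  obtain ⟨D, h1, h2⟩ := c.exists_inv_compl
  exact ⟨D, ⟨c, h1, h2⟩⟩

namespace P1D

variable {M H K D : Subgroup G} {q : ℕ}

theorem DH (d : P1D M H K q D) : D ≤ H := d.compl.2.1

theorem Q_inf_D (d : P1D M H K q D) : piCoreOf {q} H ⊓ D = ⊥ := d.compl.2.2.1

theorem card_mul (d : P1D M H K q D) :
    Nat.card (piCoreOf {q} H) * Nat.card D = Nat.card H :=
  Cfsg.Agent.Lib.H7.isComplIn_card_mul d.compl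

theorem card_D (d : P1D M H K q D) : Nat.card D = (piCoreOf {q} H).relIndex H := by
  have h1 := d.card_mul
  have h2 := SylIn.card_mul_relIndex d.toP1.Q_le
  rw [← h2] at h1
  exact Nat.eq_of_mul_eq_mul_left Nat.card_pos h1

theorem coprime_D (d : P1D M H K q D) : (Nat.card D).Coprime q := by
  rw [d.card_D]
  exact ((Nat.Prime.coprime_iff_not_dvd d.qp).2 d.toP1.Q_sylow).symm

theorem nilD (d : P1D M H K q D) : Group.IsNilpotent ↥D := d.toP1.compl_nil d.compl

/-- if `D` centralizes `Q` then `H` is nilpotent. -/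
theorem not_Q_le_centralizer (d : P1D M H K q D) :
    ¬ piCoreOf {q} H ≤ Subgroup.centralizer (D : Set G) := by
  intro hQD
  apply d.nn
  haveI : Fact q.Prime := ⟨d.qp⟩
  set Q := piCoreOf {q} H with hQ
  have hQF : Q ≤ fittingOf H := piCoreOf_singleton_le_fittingOf q H
  have hHD : H ≤ Subgroup.normalizer (D : Set G) := by
    intro h hh
    obtain ⟨a, ha, b, hb, rfl⟩ := d.compl.2.2.2 h hh
    exact Subgroup.mul_mem _
      (Subgroup.centralizer_le_normalizer _ (hQD ha))
      (Subgroup.le_normalizer hb)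
  have hDF : D ≤ fittingOf H := le_fittingOf d.DH hHD d.nilD
  have hle : H ≤ fittingOf H := by
    intro h hh
    obtain ⟨a, ha, b, hb, rfl⟩ := d.compl.2.2.2 h hh
    exact Subgroup.mul_mem _ (hQF ha) (hDF hb)
  have heq : fittingOf H = H := le_antisymm (fittingOf_le H) hle
  have := fittingOf_isNilpotent H
  rw [heq] at this
  exact this

theorem D_ne_bot (d : P1D M H K q D) : D ≠ ⊥ := by
  intro h
  apply d.not_Q_le_centralizer
  rw [h]
  intro x _
  rw [Subgroup.mem_centralizer_iff]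
  intro y hy
  rw [Subgroup.coe_bot, Set.mem_singleton_iff] at hy
  rw [hy, one_mul, mul_one]

/-- `K` acts fixed-point-freely on `D`. -/
theorem fpf (d : P1D M H K q D) {e : G} (he : e ∈ K) (he1 : e ≠ 1) {u : G} (hu : u ∈ D)
    (hc : e * u = u * e) : u = 1 := by
  have h1 : u ∈ H ⊓ Subgroup.centralizer ({e} : Set G) :=
    ⟨d.DH hu, Subgroup.mem_centralizer_singleton_iff.mpr hc.symm⟩
  rw [d.prim e he he1] at h1
  have h2 : u ∈ piCoreOf {q} H ⊓ D := ⟨d.toP1.star_le_Q h1, hu⟩
  rw [d.Q_inf_D, Subgroup.mem_bot] at h2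
  exact h2

/-- the Frobenius-type action of `D K'` on a `D K'`-invariant subgroup of `Q`. -/
theorem frobAct (d : P1D M H K q D) {K' W : Subgroup G} (hK'K : K' ≤ K) (hK'1 : K' ≠ ⊥)
    (hWQ : W ≤ piCoreOf {q} H) (hWn : D ⊔ K' ≤ Subgroup.normalizer (W : Set G)) :
    FrobAct D K' W := by
  haveI : Fact q.Prime := ⟨d.qp⟩
  have hWp : IsPGroup q W := d.toP1.isPGroup_Q.to_le hWQ
  have hK'D : K' ≤ Subgroup.normalizer (D : Set G) := hK'K.trans d.KD
  have hcopDK : (Nat.card ↥(D ⊔ K')).Coprime q := by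
    have h1 : Nat.card ↥(K' ⊔ D) ∣ Nat.card K' * Nat.card D :=
      Cfsg.Agent.Lib.H19.card_sup_dvd_mul_of_le_normalizer hK'D
    rw [sup_comm] at h1
    have h2 : (Nat.card K').Coprime q := by
      have h3 : (Nat.card K').Coprime (Nat.card (piCoreOf {q} H)) :=
        Nat.Coprime.coprime_dvd_left (Subgroup.card_dvd_of_le hK'K)
          (Nat.Coprime.coprime_dvd_right (Subgroup.card_dvd_of_le d.toP1.Q_le) d.cop)
      have hQ1 : piCoreOf {q} H ≠ ⊥ := by
        intro h
        apply d.not_Q_le_centralizer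
        rw [h]; exact bot_le
      have h4 : q ∣ Nat.card (piCoreOf {q} H) := by
        obtain ⟨n, hn⟩ := IsPGroup.iff_card.mp d.toP1.isPGroup_Q
        rcases Nat.eq_zero_or_pos n with h0 | h0
        · exfalso
          rw [h0, pow_zero] at hn
          exact hQ1 (Subgroup.card_eq_one.mp hn)
        · rw [hn]; exact dvd_pow_self q h0.ne'
      exact Nat.Coprime.coprime_dvd_right h4 h3
    exact Nat.Coprime.coprime_dvd_left h1 (Nat.Coprime.mul_left h2 d.coprime_D)
  have hcop : (Nat.card W).Coprime (Nat.card ↥(D ⊔ K')) := by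
    obtain ⟨n, hn⟩ := IsPGroup.iff_card.mp hWp
    rw [hn]
    exact (Nat.Coprime.pow_right n hcopDK).symm
  refine ⟨d.D_ne_bot, hK'1, ?_, ?_, ?_, ?_, ?_, ?_, hcop⟩
  · have : (Nat.card D).Coprime (Nat.card K') :=
      Nat.Coprime.coprime_dvd_left (Subgroup.card_dvd_of_le d.DH)
        (Nat.Coprime.coprime_dvd_right (Subgroup.card_dvd_of_le hK'K) d.cop.symm)
    exact (Subgroup.disjoint_of_coprime_natCard this).eq_bot
  · intro e he u hu
    exact (Subgroup.mem_normalizer_iff.mp (hK'D he) u).mp hu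
  · intro e he he1 u hu hc
    exact d.fpf (hK'K he) he1 hu hc
  · intro x hx h hh
    exact (Subgroup.mem_normalizer_iff.mp (hWn hx) h).mp hh
  · exact (Subgroup.disjoint_of_coprime_natCard hcop).eq_bot
  · haveI := hWp.isNilpotent
    infer_instance

/-- prime action for subgroups. -/
theorem fix_sub (d : P1D M H K q D) {K' : Subgroup G} (hK'K : K' ≤ K) (hK'1 : K' ≠ ⊥) :
    H ⊓ Subgroup.centralizer (K' : Set G) = H ⊓ Subgroup.centralizer (K : Set G) := by
  apply le_antisymm
  · obtain ⟨k, hk1⟩ := (Subgroup.ne_bot_iff_exists_ne_one.mp hK'1)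
    have hk' : (k : G) ∈ K' := k.2
    have hk1' : (k : G) ≠ 1 := fun h => hk1 (Subtype.ext h)
    rw [← d.prim k (hK'K hk') hk1']
    refine inf_le_inf_left _ (Subgroup.centralizer_le ?_)
    intro y hy
    rw [Set.mem_singleton_iff] at hy
    rw [hy]; exact hk'
  · exact inf_le_inf_left _ (Subgroup.centralizer_le (by exact_mod_cast hK'K))

theorem DK_le_normalizer_Q (d : P1D M H K q D) {K' : Subgroup G} (hK'K : K' ≤ K) :
    D ⊔ K' ≤ Subgroup.normalizer ((piCoreOf {q} H : Subgroup G) : Set G) :=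
  sup_le ((d.DH.trans d.HM).trans d.toP1.M_le_normalizer_Q)
    ((hK'K.trans d.KM).trans d.toP1.M_le_normalizer_Q)

/-- the fixed point formula for a `D K'`-invariant subgroup `W` of `Q`. -/
theorem formula (d : P1D M H K q D) {K' W : Subgroup G} (hK'K : K' ≤ K) (hK'1 : K' ≠ ⊥)
    (hWQ : W ≤ piCoreOf {q} H) (hWn : D ⊔ K' ≤ Subgroup.normalizer (W : Set G)) :
    Nat.card ↥(W ⊓ (Subgroup.centralizer (D : Set G) ⊓ (H ⊓ Subgroup.centralizer (K : Set G)))) ^
        Nat.card K' * Nat.card W =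
      Nat.card ↥(W ⊓ (H ⊓ Subgroup.centralizer (K : Set G))) ^ Nat.card K' *
        Nat.card ↥(W ⊓ Subgroup.centralizer (D : Set G)) := by
  have hf := Cfsg.Agent.Lib.H8.frobFormula D K' W (d.frobAct hK'K hK'1 hWQ hWn)
  unfold FrobFormula at hf
  have hWH : W ≤ H := hWQ.trans d.toP1.Q_le
  have e1 : W ⊓ Subgroup.centralizer ((D ⊔ K' : Subgroup G) : Set G) =
      W ⊓ (Subgroup.centralizer (D : Set G) ⊓ (H ⊓ Subgroup.centralizer (K : Set G))) := by
    ext x
    simp only [Subgroup.mem_inf, Cfsg.Agent.Lib.H8.mem_centralizer_sup]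
    constructor
    · rintro ⟨hx, h1, h2⟩
      have : x ∈ H ⊓ Subgroup.centralizer (K' : Set G) := ⟨hWH hx, h2⟩
      rw [d.fix_sub hK'K hK'1] at this
      exact ⟨hx, h1, this.1, this.2⟩
    · rintro ⟨hx, h1, h2, h3⟩
      have : x ∈ H ⊓ Subgroup.centralizer (K : Set G) := ⟨h2, h3⟩
      rw [← d.fix_sub hK'K hK'1] at this
      exact ⟨hx, h1, this.2⟩
  have e2 : W ⊓ Subgroup.centralizer (K' : Set G) =
      W ⊓ (H ⊓ Subgroup.centralizer (K : Set G)) := by
    rw [← d.fix_sub hK'K hK'1, ← inf_assoc, inf_eq_left.mpr hWH]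
  rw [e1, e2] at hf
  exact hf

end P1D

end Cfsg.Agent.Lib.H10.BG152
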