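import Mathlib
import Cfsg.Agent.Lib.H10.BG152c
import Cfsg.Agent.Lib.H1.PGroupBasic
import Cfsg.Agent.Lib.H7.CharMap

/-! # BG Theorem 15.2 (helper10), part 4: `|K|` prime, `|Q : Q₀| = q ^ p`, `Φ(Q) ≤ Q₀ ⊴ M`,
`Q / Q₀` chief. -/

set_option autoImplicit false
set_option linter.style.haveILetI false
set_option linter.unusedSectionVars false
set_option linter.unusedVariables false
set_option maxHeartbeats 800000

open Cfsg

namespace Cfsg.Agent.Lib.H10.BG152

open Cfsg.Agent.Lib.H16.BG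
open Cfsg.Agent.Lib.H7.BG7
open Cfsg.Agent.Lib.H7.BG10
open Cfsg.Agent.Lib.H19 (IsPiCard)
open Cfsg.Agent.Lib.H1 (CoprimeAction)
open Cfsg.Agent.Lib.H8 (FrobAct FrobFormula)
open scoped commutatorElement

universe u
variable {G : Type u} [Group G] [Finite G]

/-- a subgroup of prime order meeting `B` nontrivially lies in `B`. -/
theorem le_of_prime_card_of_inf_ne_bot {A B : Subgroup G} (hA : (Nat.card A).Prime)
    (h : A ⊓ B ≠ ⊥) : A ≤ B := by
  haveI : Fact (Nat.card ↥A).Prime := ⟨hA⟩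
  rcases Subgroup.eq_bot_or_eq_top_of_prime_card ((A ⊓ B).subgroupOf A) with h1 | h1
  · exfalso
    apply h
    rw [Subgroup.subgroupOf_eq_bot, disjoint_iff, inf_comm, ← inf_assoc, inf_idem] at h1
    exact h1
  · rw [Subgroup.subgroupOf_eq_top] at h1
    exact h1.trans inf_le_right

theorem frattini_map_equiv {Y Y' : Type u} [Group Y] [Group Y'] (e : Y ≃* Y') :
    (frattini Y).map e.toMonoidHom = frattini Y' := by
  apply le_antisymm
  · rw [Subgroup.map_le_iff_le_comap]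
    exact frattini_le_comap_frattini_of_surjective e.surjective
  · have h1 : frattini Y' ≤ (frattini Y).comap e.symm.toMonoidHom :=
      frattini_le_comap_frattini_of_surjective e.symm.surjective
    have h2 := Subgroup.map_equiv_eq_comap_symm e (frattini Y)
    rw [show (e : Y →* Y') = e.toMonoidHom from rfl,
      show (e.symm : Y' →* Y) = e.symm.toMonoidHom from rfl] at h2
    rw [h2]
    exact h1

/-- `Φ(Q)` as a subgroup of the ambient group. -/
def frat (Q : Subgroup G) : Subgroup G := (frattini ↥Q).map Q.subtype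

theorem frat_le (Q : Subgroup G) : frat Q ≤ Q := Subgroup.map_subtype_le _

theorem normalizer_le_normalizer_frat (Q : Subgroup G) :
    Subgroup.normalizer (Q : Set G) ≤ Subgroup.normalizer ((frat Q : Subgroup G) : Set G) :=
  Cfsg.Agent.Lib.H7.normalizer_le_normalizer_charMap (fun Y _ => frattini Y)
    (fun Y Y' _ _ e => frattini_map_equiv e) Q

theorem pow_mem_frat {p : ℕ} [Fact p.Prime] {Q : Subgroup G} (hQ : IsPGroup p Q) {a : G}
    (ha : a ∈ Q) : a ^ p ∈ frat Q :=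
  ⟨⟨a, ha⟩ ^ p, Cfsg.Agent.Lib.H1.isPGroup_pow_mem_frattini hQ ⟨a, ha⟩, rfl⟩

theorem comm_mem_frat {p : ℕ} [Fact p.Prime] {Q : Subgroup G} (hQ : IsPGroup p Q) {a b : G}
    (ha : a ∈ Q) (hb : b ∈ Q) : a * b * a⁻¹ * b⁻¹ ∈ frat Q := by
  refine ⟨⁅(⟨a, ha⟩ : Q), ⟨b, hb⟩⁆, Cfsg.Agent.Lib.H1.isPGroup_commutator_le_frattini hQ
    (Subgroup.commutator_mem_commutator (Subgroup.mem_top _) (Subgroup.mem_top _)), ?_⟩
  rw [commutatorElement_def]
  rfl

/-- nongenerating property of `Φ(Q)` in ambient form. -/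
theorem eq_of_frat_sup_eq {Q Q₀ : Subgroup G} (hQ₀ : Q₀ ≤ Q) (h : frat Q ⊔ Q₀ = Q) : Q₀ = Q := by
  have h1 : Q₀.subgroupOf Q ⊔ frattini ↥Q = ⊤ := by
    apply Subgroup.map_injective Q.subtype_injective
    rw [Subgroup.map_sup, Subgroup.subgroupOf_map_subtype, inf_eq_left.mpr hQ₀, sup_comm,
      ← MonoidHom.range_eq_map, Subgroup.range_subtype]
    exact h
  have h2 := frattini_nongenerating h1
  rw [Subgroup.subgroupOf_eq_top] at h2
  exact le_antisymm hQ₀ h2

namespace P1D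

variable {M H K D : Subgroup G} {q : ℕ}

theorem card_star_prime (d : P1D M H K q D) :
    (Nat.card ↥(H ⊓ Subgroup.centralizer (K : Set G))).Prime := by
  rw [d.card]; exact d.qp

theorem K_ne_bot_self (d : P1D M H K q D) : K ≤ K ∧ K ≠ ⊥ := ⟨le_rfl, d.K1⟩

/-- `K* ∩ C_Q(D) = 1`. -/
theorem star_inf_Q0 (d : P1D M H K q D) :
    (H ⊓ Subgroup.centralizer (K : Set G)) ⊓
      (piCoreOf {q} H ⊓ Subgroup.centralizer (D : Set G)) = ⊥ := by
  set Ks := H ⊓ Subgroup.centralizer (K : Set G) with hKs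
  set Q := piCoreOf {q} H with hQ
  by_contra hne
  have hle : Ks ≤ Q ⊓ Subgroup.centralizer (D : Set G) :=
    le_of_prime_card_of_inf_ne_bot d.card_star_prime hne
  have hKsQ : Ks ≤ Q := d.toP1.star_le_Q
  have hf := d.formula le_rfl d.K1 (le_refl Q) (d.DK_le_normalizer_Q le_rfl)
  have e1 : Q ⊓ (Subgroup.centralizer (D : Set G) ⊓ Ks) = Ks := by
    apply le_antisymm
    · exact inf_le_right.trans inf_le_right
    · exact le_inf hKsQ (le_inf (hle.trans inf_le_right) le_rfl)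
  have e2 : Q ⊓ Ks = Ks := inf_eq_right.mpr hKsQ
  rw [e1, e2] at hf
  have hpos : 0 < Nat.card ↥Ks ^ Nat.card K := pow_pos Nat.card_pos _
  have h3 : Nat.card Q = Nat.card ↥(Q ⊓ Subgroup.centralizer (D : Set G)) :=
    Nat.eq_of_mul_eq_mul_left hpos hf
  have h4 : Q ⊓ Subgroup.centralizer (D : Set G) = Q :=
    Subgroup.eq_of_le_of_card_ge inf_le_left (le_of_eq h3)
  exact d.not_Q_le_centralizer (inf_eq_left.mp h4)

/-- the counting formula: `|W| = |W ∩ K*| ^ |K'| · |C_W(D)|`. -/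
theorem card_eq (d : P1D M H K q D) {K' W : Subgroup G} (hK'K : K' ≤ K) (hK'1 : K' ≠ ⊥)
    (hWQ : W ≤ piCoreOf {q} H) (hWn : D ⊔ K' ≤ Subgroup.normalizer (W : Set G)) :
    Nat.card W = Nat.card ↥(W ⊓ (H ⊓ Subgroup.centralizer (K : Set G))) ^ Nat.card K' *
        Nat.card ↥(W ⊓ Subgroup.centralizer (D : Set G)) := by
  have hf := d.formula hK'K hK'1 hWQ hWn
  have e1 : W ⊓ (Subgroup.centralizer (D : Set G) ⊓ (H ⊓ Subgroup.centralizer (K : Set G))) =
      ⊥ := by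
    rw [eq_bot_iff, ← d.star_inf_Q0]
    intro x hx
    exact ⟨hx.2.2, hWQ hx.1, hx.2.1⟩
  rw [e1, Subgroup.card_bot, one_pow, one_mul] at hf
  exact hf

/-- `|Q| = q ^ |K'| · |Q₀|` for every nontrivial `K' ≤ K`. -/
theorem card_Q (d : P1D M H K q D) {K' : Subgroup G} (hK'K : K' ≤ K) (hK'1 : K' ≠ ⊥) :
    Nat.card (piCoreOf {q} H) =
      q ^ Nat.card K' * Nat.card ↥(piCoreOf {q} H ⊓ Subgroup.centralizer (D : Set G)) := by
  have h := d.card_eq hK'K hK'1 le_rfl (d.DK_le_normalizer_Q hK'K)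
  rw [inf_eq_right.mpr d.toP1.star_le_Q, d.card] at h
  exact h

/-- `K` has prime order. -/
theorem card_K_prime (d : P1D M H K q D) : (Nat.card K).Prime := by
  obtain ⟨k, hk, r, hr, hkr, hk1⟩ := d.toP1.exists_prime_elt
  have hle : Subgroup.zpowers k ≤ K := Subgroup.zpowers_le.mpr hk
  have hne : Subgroup.zpowers k ≠ ⊥ := by
    rw [Ne, Subgroup.zpowers_eq_bot]; exact hk1
  have h1 := d.card_Q hle hne
  have h2 := d.card_Q le_rfl d.K1
  rw [h2, Nat.card_zpowers, hkr] at h1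
  have h3 : q ^ Nat.card K = q ^ r :=
    Nat.eq_of_mul_eq_mul_right Nat.card_pos h1
  have h4 : Nat.card K = r := Nat.pow_right_injective d.qp.two_le h3
  rw [h4]; exact hr

theorem Q0_lt (d : P1D M H K q D) :
    piCoreOf {q} H ⊓ Subgroup.centralizer (D : Set G) < piCoreOf {q} H := by
  refine lt_of_le_of_ne inf_le_left ?_
  intro h
  exact d.not_Q_le_centralizer (inf_eq_left.mp h)

theorem DK_le_normalizer_Q0 (d : P1D M H K q D) :
    D ⊔ K ≤ Subgroup.normalizer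
      ((piCoreOf {q} H ⊓ Subgroup.centralizer (D : Set G) : Subgroup G) : Set G) := by
  have h1 := d.DK_le_normalizer_Q (K' := K) le_rfl
  have h2 : D ⊔ K ≤ Subgroup.normalizer (D : Set G) := sup_le Subgroup.le_normalizer d.KD
  exact Cfsg.Agent.Lib.H10.BG36.le_normalizer_inf h1
    (Cfsg.Agent.Lib.H10.BG36.le_normalizer_centralizer h2)

/-- a `D K`-invariant subgroup between `Q₀` and `Q` is `Q₀` or `Q`. -/
theorem dichotomy (d : P1D M H K q D) {W : Subgroup G} (hWQ : W ≤ piCoreOf {q} H)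
    (hWn : D ⊔ K ≤ Subgroup.normalizer (W : Set G))
    (hQ₀W : piCoreOf {q} H ⊓ Subgroup.centralizer (D : Set G) ≤ W) :
    W = piCoreOf {q} H ⊓ Subgroup.centralizer (D : Set G) ∨ W = piCoreOf {q} H := by
  set Q := piCoreOf {q} H with hQ
  set Ks := H ⊓ Subgroup.centralizer (K : Set G) with hKs
  have h := d.card_eq le_rfl d.K1 hWQ hWn
  have e1 : W ⊓ Subgroup.centralizer (D : Set G) = Q ⊓ Subgroup.centralizer (D : Set G) := by
    apply le_antisymm
    · exact inf_le_inf_right _ hWQ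
    · exact le_inf hQ₀W inf_le_right
  rw [e1] at h
  by_cases hb : W ⊓ Ks = ⊥
  · left
    rw [hb, Subgroup.card_bot, one_pow, one_mul] at h
    exact (Subgroup.eq_of_le_of_card_ge hQ₀W (le_of_eq h)).symm
  · right
    have hle : Ks ≤ W := by
      rw [inf_comm] at hb
      exact le_of_prime_card_of_inf_ne_bot d.card_star_prime hb
    rw [inf_eq_right.mpr hle, d.card, ← d.card_Q le_rfl d.K1] at h
    exact Subgroup.eq_of_le_of_card_ge hWQ (le_of_eq h.symm)

/-- `Φ(Q) ≤ Q₀`. -/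
theorem frat_le_Q0 (d : P1D M H K q D) :
    frat (piCoreOf {q} H) ≤ piCoreOf {q} H ⊓ Subgroup.centralizer (D : Set G) := by
  set Q := piCoreOf {q} H with hQ
  set Q₀ := Q ⊓ Subgroup.centralizer (D : Set G) with hQ₀
  have hWn : D ⊔ K ≤ Subgroup.normalizer ((frat Q ⊔ Q₀ : Subgroup G) : Set G) :=
    Cfsg.Agent.Lib.H10.BG36.le_normalizer_sup'
      ((d.DK_le_normalizer_Q le_rfl).trans (normalizer_le_normalizer_frat Q))
      d.DK_le_normalizer_Q0
  rcases d.dichotomy (sup_le (frat_le Q) inf_le_left) hWn le_sup_right with h | h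
  · exact le_sup_left.trans (le_of_eq h)
  · exfalso
    have := eq_of_frat_sup_eq (inf_le_left : Q₀ ≤ Q) h
    exact (ne_of_lt d.Q0_lt) this

theorem pow_mem_Q0 (d : P1D M H K q D) {a : G} (ha : a ∈ piCoreOf {q} H) :
    a ^ q ∈ piCoreOf {q} H ⊓ Subgroup.centralizer (D : Set G) := by
  haveI : Fact q.Prime := ⟨d.qp⟩
  exact d.frat_le_Q0 (pow_mem_frat d.toP1.isPGroup_Q ha)

theorem comm_mem_Q0 (d : P1D M H K q D) {a b : G} (ha : a ∈ piCoreOf {q} H)
    (hb : b ∈ piCoreOf {q} H) :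
    a * b * a⁻¹ * b⁻¹ ∈ piCoreOf {q} H ⊓ Subgroup.centralizer (D : Set G) := by
  haveI : Fact q.Prime := ⟨d.qp⟩
  exact d.frat_le_Q0 (comm_mem_frat d.toP1.isPGroup_Q ha hb)

/-- `Q₀ ⊴ M`. -/
theorem M_le_normalizer_Q0 (d : P1D M H K q D) :
    M ≤ Subgroup.normalizer
      ((piCoreOf {q} H ⊓ Subgroup.centralizer (D : Set G) : Subgroup G) : Set G) := by
  set Q := piCoreOf {q} H with hQ
  set Q₀ := Q ⊓ Subgroup.centralizer (D : Set G) with hQ₀
  have hQn : Q ≤ Subgroup.normalizer (Q₀ : Set G) := by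
    apply Cfsg.Agent.Lib.H8.le_normalizer_of_conj_mem
    intro a ha b hb
    have h1 := d.comm_mem_Q0 ha (inf_le_left (a := Q) hb)
    have : a * b * a⁻¹ = (a * b * a⁻¹ * b⁻¹) * b := by group
    rw [this]
    exact Q₀.mul_mem h1 hb
  have hDK := d.DK_le_normalizer_Q0
  intro m hm
  obtain ⟨h, hh, k, hk, rfl⟩ := d.mul m hm
  obtain ⟨a, ha, b, hb, rfl⟩ := d.compl.2.2.2 h hh
  exact Subgroup.mul_mem _ (Subgroup.mul_mem _ (hQn ha) (hDK (Subgroup.mem_sup_left hb)))
    (hDK (Subgroup.mem_sup_right hk))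

/-- `Q / Q₀` is a chief factor of `M`. -/
theorem chief (d : P1D M H K q D) {N : Subgroup G}
    (h1 : piCoreOf {q} H ⊓ Subgroup.centralizer (D : Set G) < N) (h2 : N < piCoreOf {q} H) :
    ¬ M ≤ Subgroup.normalizer (N : Set G) := by
  intro hMN
  have hDK : D ⊔ K ≤ M := sup_le (d.DH.trans d.HM) d.KM
  rcases d.dichotomy h2.le (hDK.trans hMN) h1.le with h | h
  · exact (ne_of_lt h1) h.symm
  · exact (ne_of_lt h2) h

end P1D

end Cfsg.Agent.Lib.H10.BG152
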