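import Mathlib
import Cfsg.Agent.Lib.H10.BG152d

/-! # BG Theorem 15.2 (helper10), part 5: arbitrary complements and the abstract main theorem. -/

set_option autoImplicit false
set_option linter.style.haveILetI false
set_option linter.unusedSectionVars false
set_option linter.unusedVariables false
set_option maxHeartbeats 800000

open Cfsg

namespace Cfsg.Agent.Lib.H10.BG152

open Cfsg.Agent.Lib.H16.BG
open Cfsg.Agent.Lib.H7.BG7
open Cfsg.Agent.Lib.H7.BG10
open Cfsg.Agent.Lib.H19 (IsPiCard)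
open Cfsg.Agent.Lib.H1 (CoprimeAction)
open scoped commutatorElement Pointwise

universe u
variable {G : Type u} [Group G] [Finite G]

theorem mem_conj_smul {D : Subgroup G} {g y : G} : y ∈ MulAut.conj g • D ↔ g⁻¹ * y * g ∈ D := by
  rw [Subgroup.mem_pointwise_smul_iff_inv_smul_mem, ← map_inv, MulAut.smul_def, MulAut.conj_apply,
    inv_inv]

namespace P1

variable {M H K : Subgroup G} {q : ℕ}

theorem isPiHallOf_iff (c : P1 M H K q) {D' : Subgroup G} :
    IsPiHallOf ({q}ᶜ : Set ℕ) D' H ↔ D' ≤ H ∧ Nat.card D' = (piCoreOf {q} H).relIndex H := by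
  set Q := piCoreOf {q} H with hQ
  have h1 := SylIn.card_mul_relIndex c.Q_le
  have hm : IsPiCard ({q}ᶜ : Set ℕ) (Q.relIndex H) := by
    intro p hp hd hpq
    rw [Set.mem_singleton_iff] at hpq
    rw [hpq] at hd
    exact c.Q_sylow hd
  have hn : IsPiCard (({q}ᶜ : Set ℕ)ᶜ) (Nat.card Q) := by
    rw [compl_compl]
    exact isPiCard_of_isPGroup c.qp (Set.mem_singleton q) c.isPGroup_Q
  exact Cfsg.Agent.Lib.H19.isPiHallOf_iff_card (H := D')
    (show Nat.card H = Q.relIndex H * Nat.card Q by rw [mul_comm]; exact h1.symm) hm hn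

theorem isPiHallOf_of_compl (c : P1 M H K q) {D' : Subgroup G}
    (hD' : IsComplIn (piCoreOf {q} H) D' H) : IsPiHallOf ({q}ᶜ : Set ℕ) D' H := by
  rw [c.isPiHallOf_iff]
  refine ⟨hD'.2.1, ?_⟩
  have h1 := Cfsg.Agent.Lib.H7.isComplIn_card_mul hD'
  have h2 := SylIn.card_mul_relIndex c.Q_le
  rw [← h2] at h1
  exact Nat.eq_of_mul_eq_mul_left Nat.card_pos h1

end P1

namespace P1D

variable {M H K D : Subgroup G} {q : ℕ}

/-- `C_Q(D')` does not depend on the complement `D'`. -/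
theorem Q0_eq (d : P1D M H K q D) {D' : Subgroup G} (hD' : IsComplIn (piCoreOf {q} H) D' H) :
    piCoreOf {q} H ⊓ Subgroup.centralizer (D' : Set G) =
      piCoreOf {q} H ⊓ Subgroup.centralizer (D : Set G) := by
  set Q := piCoreOf {q} H with hQ
  set Q₀ := Q ⊓ Subgroup.centralizer (D : Set G) with hQ₀
  haveI := d.toP1.solvH
  obtain ⟨g, hg, hgD⟩ := Cfsg.Agent.Lib.H19.isPiHallOf_exists_conj
    (d.toP1.isPiHallOf_of_compl d.compl) (d.toP1.isPiHallOf_of_compl hD')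
  obtain ⟨a, ha, b, hb, rfl⟩ := d.compl.2.2.2 g hg
  have hD'eq : MulAut.conj a • D = D' := by
    rw [map_mul, mul_smul, Subgroup.conj_smul_eq_self_of_mem hb] at hgD
    exact hgD
  have hmem : ∀ y, y ∈ D' ↔ a⁻¹ * y * a ∈ D := by
    intro y
    rw [← hD'eq, mem_conj_smul]
  have haN : a ∈ Subgroup.normalizer (Q₀ : Set G) :=
    d.M_le_normalizer_Q0 (d.HM (d.toP1.Q_le ha))
  have haN' : a⁻¹ ∈ Subgroup.normalizer (Q₀ : Set G) := Subgroup.inv_mem _ haN
  ext x
  constructor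
  · intro hx
    obtain ⟨hxQ, hxc⟩ := Subgroup.mem_inf.mp hx
    have h1 : a⁻¹ * x * a ∈ Q₀ := by
      refine Subgroup.mem_inf.mpr ⟨Q.mul_mem (Q.mul_mem (Q.inv_mem ha) hxQ) ha, ?_⟩
      rw [Subgroup.mem_centralizer_iff]
      intro y hy
      have hy' : a * y * a⁻¹ ∈ D' := by
        rw [hmem]
        have : a⁻¹ * (a * y * a⁻¹) * a = y := by group
        rw [this]; exact hy
      have h2 := Subgroup.mem_centralizer_iff.mp hxc _ hy'
      calc y * (a⁻¹ * x * a) = a⁻¹ * ((a * y * a⁻¹) * x) * a := by group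
        _ = a⁻¹ * (x * (a * y * a⁻¹)) * a := by rw [h2]
        _ = a⁻¹ * x * a * y := by group
    have h3 := (Subgroup.mem_normalizer_iff.mp haN _).mp h1
    have : a * (a⁻¹ * x * a) * a⁻¹ = x := by group
    rwa [this] at h3
  · intro hx
    have h1 : a⁻¹ * x * a⁻¹⁻¹ ∈ Q₀ := (Subgroup.mem_normalizer_iff.mp haN' _).mp hx
    rw [inv_inv] at h1
    refine Subgroup.mem_inf.mpr ⟨(Subgroup.mem_inf.mp hx).1, ?_⟩
    rw [Subgroup.mem_centralizer_iff]
    intro y hy
    have hy' := (hmem y).mp hy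
    have h2 := Subgroup.mem_centralizer_iff.mp (Subgroup.mem_inf.mp h1).2 _ hy'
    calc y * x = a * ((a⁻¹ * y * a) * (a⁻¹ * x * a)) * a⁻¹ := by group
      _ = a * ((a⁻¹ * x * a) * (a⁻¹ * y * a)) * a⁻¹ := by rw [h2]
      _ = x * y := by group

end P1D

/-- **abstract BG 15.2 (c),(d),(e)** for a type `P1` configuration. -/
theorem P1.main {M H K : Subgroup G} {q : ℕ} (c : P1 M H K q) :
    (Nat.card K).Prime ∧ ¬ q ∣ (piCoreOf {q} H).relIndex H ∧
      H ⊓ Subgroup.centralizer (K : Set G) ≤ piCoreOf {q} H ∧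
      ∀ D : Subgroup G, IsComplIn (piCoreOf {q} H) D H →
        Group.IsNilpotent D ∧
        M ≤ Subgroup.normalizer
          ((piCoreOf {q} H ⊓ Subgroup.centralizer (D : Set G) : Subgroup G) : Set G) ∧
        piCoreOf {q} H ⊓ Subgroup.centralizer (D : Set G) < piCoreOf {q} H ∧
        Nat.card (piCoreOf {q} H) =
          Nat.card ↥(piCoreOf {q} H ⊓ Subgroup.centralizer (D : Set G)) * q ^ Nat.card K ∧
        (∀ a ∈ piCoreOf {q} H, ∀ b ∈ piCoreOf {q} H,
          a ^ q ∈ piCoreOf {q} H ⊓ Subgroup.centralizer (D : Set G) ∧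
          a * b * a⁻¹ * b⁻¹ ∈ piCoreOf {q} H ⊓ Subgroup.centralizer (D : Set G)) ∧
        ∀ N : Subgroup G, piCoreOf {q} H ⊓ Subgroup.centralizer (D : Set G) < N →
          N < piCoreOf {q} H → ¬ M ≤ Subgroup.normalizer (N : Set G) := by
  obtain ⟨D₁, d⟩ := c.exists_P1D
  refine ⟨d.card_K_prime, c.Q_sylow, c.star_le_Q, ?_⟩
  intro D hD
  rw [d.Q0_eq hD]
  refine ⟨c.compl_nil hD, d.M_le_normalizer_Q0, d.Q0_lt, ?_, ?_, ?_⟩
  · rw [mul_comm]; exact d.card_Q le_rfl d.K1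
  · intro a ha b hb
    exact ⟨d.pow_mem_Q0 ha, d.comm_mem_Q0 ha hb⟩
  · intro N h1 h2
    exact d.chief h1 h2

end Cfsg.Agent.Lib.H10.BG152
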