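import Mathlib
import Cfsg.Agent.Lib.H10.BG152e
import Cfsg.Agent.Lib.H20.BGZ1
import Cfsg.Agent.Lib.H16.GL2Odd
import Cfsg.Agent.S1426
import Cfsg.Agent.S1429
import Cfsg.Agent.S1430
import Cfsg.Agent.S1431

/-! # BG Theorem 15.2 (helper10), part 6: a maximal subgroup with `M_F ≠ M_σ` is an abstract `P1`
configuration (given that `|K*|` is prime). -/

set_option autoImplicit false
set_option linter.style.haveILetI false
set_option linter.unusedSectionVars false
set_option linter.unusedVariables false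
set_option maxHeartbeats 800000

open Cfsg

namespace Cfsg.Agent.Lib.H10.BG152

open Cfsg.Agent.Lib.H16.BG
open Cfsg.Agent.Lib.H7.BG7
open Cfsg.Agent.Lib.H7.BG10
open Cfsg.Agent.Lib.H20.BGS
open Cfsg.Agent.Lib.H19 (IsPiCard)
open Cfsg.Agent.Lib.H1 (CoprimeAction)
open scoped commutatorElement Pointwise

universe u
variable {G : Type u} [Group G] [Finite G]

/-- the black box: the frozen statement S1373 (`K ≠ 1`, `U = 1` ⟹ `|K*|` prime). -/
def Hyp1373 (G : Type u) [Group G] : Prop :=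
  ∀ (M : Subgroup G), IsCoatom M → ∀ (K U : Subgroup G), IsSigmaDecomposition M K U → K ≠ ⊥ →
    U = ⊥ → (Nat.card ↥(sigmaCore M ⊓ Subgroup.centralizer (K : Set G))).Prime

theorem not_nilpotent_of_ne (hG : IsMinSimpleOddOrder G) {M : Subgroup G} (hM : IsCoatom M)
    (hne : fittingHallOf M ≠ sigmaCore M) : ¬ Group.IsNilpotent ↥(sigmaCore M) := fun h =>
  hne (Cfsg.Agent.Lib.H10.BG144.sigmaCore_eq_fittingHallOf hG hM h).symm

/-- if `M_σ` is not nilpotent, every prime divisor of `|M|` lies in `σ(M) ∪ κ(M)`. -/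
theorem mem_sigma_or_kappa (hG : IsMinSimpleOddOrder G) {M : Subgroup G} (hM : IsCoatom M)
    (hnn : ¬ Group.IsNilpotent ↥(sigmaCore M)) {p : ℕ} (hp : p.Prime) (hpM : p ∣ Nat.card M) :
    p ∈ sigma M ∨ p ∈ kappa M := by
  by_contra hcon
  rw [not_or] at hcon
  haveI : Fact p.Prime := ⟨hp⟩
  have hP1 : ¬ (∀ q : ℕ, q.Prime → q ∣ Nat.card M → q ∉ sigma M → q ∈ kappa M) :=
    fun h => hcon.2 (h p hp hpM hcon.1)
  obtain ⟨S⟩ : Nonempty (Sylow p M) := inferInstance
  have := Cfsg.Agent.S1429.result hG M hM hP1 p hpM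
    (by rintro (h | h); exact hcon.1 h; exact hcon.2 h) S
  exact hnn this.2.2

theorem U_eq_bot (hG : IsMinSimpleOddOrder G) {M K U : Subgroup G} (hM : IsCoatom M)
    (hKU : IsSigmaDecomposition M K U) (hnn : ¬ Group.IsNilpotent ↥(sigmaCore M)) : U = ⊥ := by
  by_contra hU
  have h1 : Nat.card U ≠ 1 := fun h => hU (Subgroup.card_eq_one.mp h)
  obtain ⟨p, hp, hpd⟩ := Nat.exists_prime_and_dvd h1
  have hpM : p ∣ Nat.card M := hpd.trans (Subgroup.card_dvd_of_le hKU.compl.1)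
  have hpKU : p ∣ Nat.card ↥(K ⊔ U : Subgroup G) :=
    hpd.trans (Subgroup.card_dvd_of_le le_sup_right)
  rcases mem_sigma_or_kappa hG hM hnn hp hpM with h | h
  · exact Cfsg.Agent.Lib.H20.BGZ.not_sigma_of_dvd_card_sup hG hM hKU hp hpKU h
  · exact (Cfsg.Agent.Lib.H20.BGZ.isPiHallOf_U hG hM hKU).2.1 p hp hpd h

theorem isComplIn_K (hG : IsMinSimpleOddOrder G) {M K U : Subgroup G} (hM : IsCoatom M)
    (hKU : IsSigmaDecomposition M K U) (hU : U = ⊥) : IsComplIn K (sigmaCore M) M := by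
  have := Cfsg.Agent.Lib.H20.BGZ.isComplIn_sup hG hM hKU
  rwa [hU, sup_bot_eq] at this

theorem K_ne_bot (hG : IsMinSimpleOddOrder G) {M K U : Subgroup G} (hM : IsCoatom M)
    (hKU : IsSigmaDecomposition M K U) (hU : U = ⊥) : K ≠ ⊥ := by
  intro hK
  have hc := isComplIn_K hG hM hKU hU
  have hU3 := Cfsg.Agent.Lib.H20.BGT.uniq3 hG
  have h1 : sigmaCore M ≤ ⁅M, M⁆ := sigmaCore_le_commutator hG hU3 hM
  haveI := solvable_of_coatom hG hM
  have hM1 : M ≠ ⊥ := by
    intro h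
    have := hM.1
    rw [h] at hM
    -- `⊥` is a coatom only if `G` has prime order; use simplicity instead
    exact Cfsg.Agent.Lib.H8.BG12.sigmaCore_ne_bot hG hU3 hM
      (le_bot_iff.mp (by rw [← h]; exact Cfsg.Agent.Lib.H20.BGS.sigmaCore_le M))
  have h2 : ⁅M, M⁆ < M := Cfsg.Agent.Lib.H16.GL2Odd.commutator_lt_of_isSolvable M hM1
  have h3 : M ≤ sigmaCore M := by
    intro m hm
    obtain ⟨a, ha, b, hb, rfl⟩ := hc.2.2.2 m hm
    rw [hK, Subgroup.mem_bot] at ha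
    rw [ha, one_mul]; exact hb
  exact (lt_irrefl _) (lt_of_le_of_lt (h3.trans h1) h2)

/-- **the type `P1` configuration** of a maximal subgroup with `M_F ≠ M_σ`. -/
theorem p1_of_ne (hG : IsMinSimpleOddOrder G) {M K U : Subgroup G} (hM : IsCoatom M)
    (hKU : IsSigmaDecomposition M K U) (hne : fittingHallOf M ≠ sigmaCore M)
    (hq : (Nat.card ↥(sigmaCore M ⊓ Subgroup.centralizer (K : Set G))).Prime) :
    P1 M (sigmaCore M) K (Nat.card ↥(sigmaCore M ⊓ Subgroup.centralizer (K : Set G))) := by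
  have hnn := not_nilpotent_of_ne hG hM hne
  have hU := U_eq_bot hG hM hKU hnn
  have hK1 := K_ne_bot hG hM hKU hU
  have hc := isComplIn_K hG hM hKU hU
  have hU3 := Cfsg.Agent.Lib.H20.BGT.uniq3 hG
  have hσ := (sigma_core_hall hG hU3 hM).1
  have hMH : M ≤ Subgroup.normalizer ((sigmaCore M : Subgroup G) : Set G) :=
    Cfsg.Agent.Lib.H20.BGS.le_normalizer_sigmaCore M
  refine ⟨Cfsg.Agent.Lib.H20.BGS.sigmaCore_le M, hKU.hall.1, hMH, ?_, ?_, solvable_of_coatom hG hM,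
    odd_card_subgroup hG M, hK1, ?_, (Cfsg.Agent.S1430.result hG M hM K hKU.hall hK1).1, rfl, hq,
    (Cfsg.Agent.S1426.result hG M hM K hc).2.1, hnn⟩
  · intro m hm
    obtain ⟨a, ha, b, hb, rfl⟩ := hc.2.2.2 m hm
    refine ⟨a * b * a⁻¹, ?_, a, ha, by group⟩
    exact (Subgroup.mem_normalizer_iff.mp (hMH (hKU.hall.1 ha)) b).mp hb
  · apply Nat.coprime_of_dvd
    intro p hp h1 h2
    exact (hKU.hall.2.1 p hp h1).2.2.1 (hσ.2.1 p hp h2)
  · intro a ha b hb
    haveI := hKU.cyclic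
    letI := IsCyclic.commGroup (α := ↥K)
    exact congrArg Subtype.val (mul_comm (⟨a, ha⟩ : K) ⟨b, hb⟩)

end Cfsg.Agent.Lib.H10.BG152
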