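import Mathlib
import Cfsg.Agent.Lib.H10.BG152f
import Cfsg.Agent.Lib.H10.BG36h
import Cfsg.Agent.S1414

/-! # BG Theorem 15.2 (helper10), part 7: `q ∈ β(M)`, `M_σ = M'`, and the conclusion of S1437
modulo `Hyp1373`. -/

set_option autoImplicit false
set_option linter.style.haveILetI false
set_option linter.unusedSectionVars false
set_option linter.unusedVariables false
set_option maxHeartbeats 800000

open Cfsg

namespace Cfsg.Agent.Lib.H10.BG152

open Cfsg.Agent.Lib.H16.BG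
open Cfsg.Agent.Lib.H7.BG7
open Cfsg.Agent.Lib.H7.BG10
open Cfsg.Agent.Lib.H20.BGS
open Cfsg.Agent.Lib.H19 (IsPiCard)
open Cfsg.Agent.Lib.H1 (CoprimeAction)
open scoped commutatorElement Pointwise

universe u
variable {G : Type u} [Group G] [Finite G]

namespace P1

variable {M H K : Subgroup G} {q : ℕ}

theorem sylIn_Q (c : P1 M H K q) : SylIn q (piCoreOf {q} H) H :=
  ⟨c.Q_le, c.isPGroup_Q, c.Q_sylow⟩

/-- a complement of `Q` in `H` is not normal in `H`. -/
theorem not_normal_compl (c : P1 M H K q) {D' : Subgroup G}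
    (hD' : IsComplIn (piCoreOf {q} H) D' H) : ¬ H ≤ Subgroup.normalizer (D' : Set G) := by
  intro hn
  have h1 := (c.main.2.2.2 D' hD').2.2.1
  have h2 : piCoreOf {q} H ≤ Subgroup.centralizer (D' : Set G) :=
    le_centralizer_of_inf_eq_bot (c.Q_le.trans hn)
      ((hD'.2.1.trans c.HM).trans c.M_le_normalizer_Q) hD'.2.2.1
  exact (ne_of_lt h1) (inf_eq_left.mpr h2)

/-- `H` has no normal `q`-complement. -/
theorem not_hasNormalPComplement (c : P1 M H K q) : ¬ HasNormalPComplement q ↥H := by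
  rintro ⟨P, N, hNn, hc⟩
  haveI : Fact q.Prime := ⟨c.qp⟩
  set Q := piCoreOf {q} H with hQ
  set D' := N.map H.subtype with hD'
  have hcard : Nat.card N * Nat.card P = Nat.card ↥H := hc.card_mul_card
  have hP : Nat.card P = Nat.card Q := by
    rw [Sylow.card_eq_multiplicity, c.sylIn_Q.card_eq]
  have hN : Nat.card D' = Nat.card N := Subgroup.card_map_of_injective H.subtype_injective
  have h2 := SylIn.card_mul_relIndex c.Q_le
  have hD'c : Nat.card D' = Q.relIndex H := by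
    rw [hN]
    rw [hP, ← h2, mul_comm] at hcard
    exact Nat.eq_of_mul_eq_mul_left Nat.card_pos hcard
  have hcop : (Nat.card Q).Coprime (Nat.card D') := by
    obtain ⟨n, hn⟩ := IsPGroup.iff_card.mp c.isPGroup_Q
    rw [hn, hD'c]
    exact Nat.Coprime.pow_left n ((Nat.Prime.coprime_iff_not_dvd c.qp).2 c.Q_sylow)
  have hcompl : IsComplIn Q D' H := by
    refine isComplIn_of_card c.Q_le (Subgroup.map_subtype_le _)
      (Subgroup.disjoint_of_coprime_natCard hcop).eq_bot ?_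
    rw [hD'c]; exact h2
  exact c.not_normal_compl hcompl (Cfsg.Agent.Lib.H10.BG36.le_normalizer_map_subtype N)

end P1

/-- `M_σ = M'` when `M = K M_σ` with `K` abelian. -/
theorem sigmaCore_eq_commutator (hG : IsMinSimpleOddOrder G) {M K U : Subgroup G} (hM : IsCoatom M)
    (hKU : IsSigmaDecomposition M K U) (hU : U = ⊥) : sigmaCore M = ⁅M, M⁆ := by
  have hc := isComplIn_K hG hM hKU hU
  have hU3 := Cfsg.Agent.Lib.H20.BGT.uniq3 hG
  have h1 : sigmaCore M ≤ ⁅M, M⁆ := sigmaCore_le_commutator hG hU3 hM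
  apply le_antisymm h1
  intro x hx
  have hxM : x ∈ M := Subgroup.commutator_le_self M hx
  obtain ⟨a, ha, b, hb, rfl⟩ := hc.2.2.2 x hxM
  have ha' : a ∈ ⁅M, M⁆ ⊓ K := by
    refine ⟨?_, ha⟩
    have : a = (a * b) * b⁻¹ := by group
    rw [this]
    exact Subgroup.mul_mem _ hx (Subgroup.inv_mem _ (h1 hb))
  have h2 := Cfsg.Agent.Lib.H8.BG12.commutator_inf_compl_le hc ha'
  have h3 : ⁅K, K⁆ = ⊥ := by
    rw [Subgroup.commutator_eq_bot_iff_le_centralizer]
    intro y hy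
    rw [Subgroup.mem_centralizer_iff]
    intro z hz
    haveI := hKU.cyclic
    letI := IsCyclic.commGroup (α := ↥K)
    exact congrArg Subtype.val (mul_comm (⟨z, hz⟩ : K) ⟨y, hy⟩)
  rw [h3, Subgroup.mem_bot] at h2
  rw [h2, one_mul]; exact hb

/-- `q = |K*| ∈ β(M)`. -/
theorem card_star_mem_beta (hG : IsMinSimpleOddOrder G) {M K U : Subgroup G} (hM : IsCoatom M)
    (hKU : IsSigmaDecomposition M K U) (hne : fittingHallOf M ≠ sigmaCore M)
    (hq : (Nat.card ↥(sigmaCore M ⊓ Subgroup.centralizer (K : Set G))).Prime) :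
    Nat.card ↥(sigmaCore M ⊓ Subgroup.centralizer (K : Set G)) ∈ beta M := by
  have c := p1_of_ne hG hM hKU hne hq
  by_contra hβ
  have hd : Nat.card ↥(sigmaCore M ⊓ Subgroup.centralizer (K : Set G)) ∣ Nat.card M :=
    Subgroup.card_dvd_of_le (inf_le_left.trans c.HM)
  exact c.not_hasNormalPComplement ((Cfsg.Agent.S1414.result hG M hM).2.2.2.2 _ hq hd hβ).2.1

/-- `Q = O_q(M_σ) ≤ M_F`. -/
theorem Q_le_fittingHallOf (hG : IsMinSimpleOddOrder G) {M K U : Subgroup G} (hM : IsCoatom M)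
    (hKU : IsSigmaDecomposition M K U) (hne : fittingHallOf M ≠ sigmaCore M)
    (hq : (Nat.card ↥(sigmaCore M ⊓ Subgroup.centralizer (K : Set G))).Prime) :
    piCoreOf {Nat.card ↥(sigmaCore M ⊓ Subgroup.centralizer (K : Set G))} (sigmaCore M) ≤
      fittingHallOf M := by
  have c := p1_of_ne hG hM hKU hne hq
  set q := Nat.card ↥(sigmaCore M ⊓ Subgroup.centralizer (K : Set G)) with hqdef
  haveI : Fact q.Prime := ⟨hq⟩
  set Q := piCoreOf {q} (sigmaCore M) with hQ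
  have hU3 := Cfsg.Agent.Lib.H20.BGT.uniq3 hG
  have hσ := (sigma_core_hall hG hU3 hM).1
  have hQp : IsPGroup q Q := c.isPGroup_Q
  have hQ1 : Q ≠ ⊥ := by
    intro h
    have h1 : sigmaCore M ⊓ Subgroup.centralizer (K : Set G) ≤ Q := c.star_le_Q
    rw [h, le_bot_iff] at h1
    have : q = 1 := by rw [hqdef, h1, Subgroup.card_bot]
    exact hq.one_lt.ne' this
  have hqσ : q ∈ sigma M := by
    apply hσ.2.1 q hq
    obtain ⟨n, hn⟩ := IsPGroup.iff_card.mp hQp
    rcases Nat.eq_zero_or_pos n with h0 | h0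
    · exfalso
      rw [h0, pow_zero] at hn
      exact hQ1 (Subgroup.card_eq_one.mp hn)
    · exact (dvd_pow_self q h0.ne').trans (hn ▸ Subgroup.card_dvd_of_le c.Q_le)
  apply Cfsg.Agent.Lib.H8.le_fittingHallOf (c.Q_le.trans c.HM) hQp.isNilpotent c.M_le_normalizer_Q
  obtain ⟨n, hn⟩ := IsPGroup.iff_card.mp hQp
  rw [hn]
  apply Nat.Coprime.pow_left
  rw [Nat.Prime.coprime_iff_not_dvd hq, ← Subgroup.relIndex_mul_relIndex _ _ _ c.Q_le c.HM]
  intro hd
  rcases (Nat.Prime.dvd_mul hq).1 hd with h | h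
  · exact c.Q_sylow h
  · exact hσ.2.2 q hq hqσ h

/-- **BG Theorem 15.2 (c), (d), (e)** = the conclusion of S1437, modulo `Hyp1373`. -/
theorem s1437_of_hyp (hG : IsMinSimpleOddOrder G) (h73 : Hyp1373 G) (M : Subgroup G)
    (hM : IsCoatom M) (K U : Subgroup G) (hKU : IsSigmaDecomposition M K U)
    (hne : fittingHallOf M ≠ sigmaCore M) :
    U = ⊥ ∧ Cfsg.sigmaCore M = ⁅M, M⁆ ∧ (Nat.card K).Prime ∧ (Nat.card ↥(Cfsg.sigmaCore M ⊓ Subgroup.centralizer (K : Set G))).Prime ∧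
      Nat.card ↥(Cfsg.sigmaCore M ⊓ Subgroup.centralizer (K : Set G)) ∣ Nat.card (Cfsg.fittingHallOf M) ∧ Nat.card ↥(Cfsg.sigmaCore M ⊓ Subgroup.centralizer (K : Set G)) ∈ Cfsg.beta M ∧
      ∃ Q : Subgroup G, Q ≤ Cfsg.fittingHallOf M ∧ M ≤ Subgroup.normalizer (Q : Set G) ∧ IsPGroup (Nat.card ↥(Cfsg.sigmaCore M ⊓ Subgroup.centralizer (K : Set G))) Q ∧
        ¬ Nat.card ↥(Cfsg.sigmaCore M ⊓ Subgroup.centralizer (K : Set G)) ∣ Q.relIndex (Cfsg.sigmaCore M) ∧
        ∀ D : Subgroup G, Cfsg.IsComplIn Q D (Cfsg.sigmaCore M) →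
          Group.IsNilpotent D ∧ M ≤ Subgroup.normalizer ((Q ⊓ Subgroup.centralizer (D : Set G) : Subgroup G) : Set G) ∧
          Q ⊓ Subgroup.centralizer (D : Set G) < Q ∧
          Nat.card Q = Nat.card ↥(Q ⊓ Subgroup.centralizer (D : Set G)) * Nat.card ↥(Cfsg.sigmaCore M ⊓ Subgroup.centralizer (K : Set G)) ^ Nat.card K ∧
          (∀ a ∈ Q, ∀ b ∈ Q, a ^ Nat.card ↥(Cfsg.sigmaCore M ⊓ Subgroup.centralizer (K : Set G)) ∈ Q ⊓ Subgroup.centralizer (D : Set G) ∧
            a * b * a⁻¹ * b⁻¹ ∈ Q ⊓ Subgroup.centralizer (D : Set G)) ∧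
          ∀ N : Subgroup G, Q ⊓ Subgroup.centralizer (D : Set G) < N → N < Q → ¬ M ≤ Subgroup.normalizer (N : Set G) := by
  have hnn := not_nilpotent_of_ne hG hM hne
  have hU := U_eq_bot hG hM hKU hnn
  have hK1 := K_ne_bot hG hM hKU hU
  have hq := h73 M hM K U hKU hK1 hU
  have c := p1_of_ne hG hM hKU hne hq
  have hQF := Q_le_fittingHallOf hG hM hKU hne hq
  obtain ⟨m1, m2, m3, m4⟩ := c.main
  refine ⟨hU, sigmaCore_eq_commutator hG hM hKU hU, m1, hq,
    Subgroup.card_dvd_of_le (m3.trans hQF), card_star_mem_beta hG hM hKU hne hq,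
    piCoreOf {Nat.card ↥(sigmaCore M ⊓ Subgroup.centralizer (K : Set G))} (sigmaCore M), hQF,
    c.M_le_normalizer_Q, c.isPGroup_Q, m2, m4⟩

end Cfsg.Agent.Lib.H10.BG152
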