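import Mathlib
import Cfsg.Agent.Lib.H10.BG152g
import Cfsg.Agent.Lib.H20.BGY1

/-! # BG Theorem 15.2 (helper10), part 8: `C_M(H) ≤ H`, `F(M) ≤ H` in a `P1` configuration. -/

set_option autoImplicit false
set_option linter.style.haveILetI false
set_option linter.unusedSectionVars false
set_option linter.unusedVariables false
set_option maxHeartbeats 800000

open Cfsg

namespace Cfsg.Agent.Lib.H10.BG152

open Cfsg.Agent.Lib.H16.BG
open Cfsg.Agent.Lib.H7.BG7
open Cfsg.Agent.Lib.H7.BG10
open Cfsg.Agent.Lib.H19 (IsPiCard)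
open Cfsg.Agent.Lib.H1 (CoprimeAction)
open scoped commutatorElement Pointwise

universe u
variable {G : Type u} [Group G] [Finite G]

namespace P1

variable {M H K : Subgroup G} {q : ℕ}

theorem H_inf_K (c : P1 M H K q) : H ⊓ K = ⊥ :=
  (Subgroup.disjoint_of_coprime_natCard c.cop.symm).eq_bot

theorem isComplIn_HK (c : P1 M H K q) : IsComplIn H K M := ⟨c.HM, c.KM, c.H_inf_K, c.mul⟩

theorem card_M (c : P1 M H K q) : Nat.card H * Nat.card K = Nat.card M :=
  Cfsg.Agent.Lib.H7.isComplIn_card_mul c.isComplIn_HK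

theorem relIndex_H (c : P1 M H K q) : H.relIndex M = Nat.card K := by
  have h1 := SylIn.card_mul_relIndex c.HM
  have h2 := c.card_M
  rw [← h1] at h2
  exact (Nat.eq_of_mul_eq_mul_left Nat.card_pos h2).symm

/-- `H` is a Hall subgroup of `M` for the set of its prime divisors. -/
theorem isPiHallOf_H (c : P1 M H K q) : IsPiHallOf {p | p ∣ Nat.card H} H M := by
  refine ⟨c.HM, fun p _ hd => hd, ?_⟩
  intro p hp hpH hd
  rw [c.relIndex_H] at hd
  have := Nat.dvd_gcd hd hpH
  rw [c.cop.gcd_eq_one] at this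
  exact hp.one_lt.ne' (Nat.dvd_one.mp this)

/-- no non-identity element of `K` centralizes `H`. -/
theorem not_le_centralizer (c : P1 M H K q) {k : G} (hk : k ∈ K) (hk1 : k ≠ 1) :
    ¬ H ≤ Subgroup.centralizer ({k} : Set G) := by
  intro hle
  apply c.nn
  have h1 : H ⊓ Subgroup.centralizer ({k} : Set G) = H := inf_eq_left.mpr hle
  rw [c.prim k hk hk1] at h1
  have h2 : Nat.card H = q := by rw [← c.card, h1]
  haveI : Fact q.Prime := ⟨c.qp⟩
  haveI : IsCyclic ↥H := isCyclic_of_prime_card h2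
  letI := IsCyclic.commGroup (α := ↥H)
  infer_instance

/-- `C_M(H) ≤ H`. -/
theorem centralizer_le (c : P1 M H K q) : M ⊓ Subgroup.centralizer (H : Set G) ≤ H := by
  rintro m ⟨hmM, hmc⟩
  obtain ⟨h, hh, k, hk, rfl⟩ := c.mul m hmM
  by_cases hk1 : k = 1
  · rw [hk1, mul_one]; exact hh
  exfalso
  -- `h` commutes with `k`
  have hcomm : ∀ x ∈ H, k * x * k⁻¹ = h⁻¹ * x * h := by
    intro x hx
    have h1 := Subgroup.mem_centralizer_iff.mp hmc x hx
    calc k * x * k⁻¹ = h⁻¹ * ((h * k) * x) * k⁻¹ := by group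
      _ = h⁻¹ * (x * (h * k)) * k⁻¹ := by rw [h1]
      _ = h⁻¹ * x * h := by group
  have hhk : h * k = k * h := by
    have h1 := hcomm h hh
    have h2 : h⁻¹ * h * h = h := by group
    rw [h2] at h1
    calc h * k = (k * h * k⁻¹) * k := by rw [h1]
      _ = k * h := by group
  -- `k ^ |H|` centralizes `H`
  set n := Nat.card H with hn
  have hpow : (h * k) ^ n = k ^ n := by
    rw [(Commute.mul_pow hhk n : (h * k) ^ n = h ^ n * k ^ n)]
    have : h ^ n = 1 := by
      have := pow_card_eq_one' (G := ↥H) (x := ⟨h, hh⟩)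
      exact congrArg Subtype.val this
    rw [this, one_mul]
  have hkn : k ^ n ∈ Subgroup.centralizer (H : Set G) := by
    rw [← hpow]; exact Subgroup.pow_mem _ hmc n
  have hkn1 : k ^ n ≠ 1 := by
    intro h1
    have h2 : orderOf k ∣ n := orderOf_dvd_of_pow_eq_one h1
    have h3 : orderOf k ∣ Nat.card K := by
      have := orderOf_dvd_natCard (⟨k, hk⟩ : K)
      rwa [← Subgroup.orderOf_coe] at this
    have h4 := Nat.dvd_gcd h3 h2
    rw [c.cop.gcd_eq_one, Nat.dvd_one, orderOf_eq_one_iff] at h4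
    exact hk1 h4
  apply c.not_le_centralizer (K.pow_mem hk n) hkn1
  intro x hx
  rw [Subgroup.mem_centralizer_singleton_iff]
  exact (Subgroup.mem_centralizer_iff.mp hkn x hx)

/-- `F(M) ≤ H`. -/
theorem fittingOf_le_H (c : P1 M H K q) : fittingOf M ≤ H := by
  set F := fittingOf M with hF
  have hFn : Group.IsNilpotent ↥F := fittingOf_isNilpotent M
  set π : Set ℕ := {p | p ∣ Nat.card H} with hπ
  have hFM : F ≤ M := fittingOf_le M
  have hMF : M ≤ Subgroup.normalizer (F : Set G) := le_normalizer_fittingOf M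
  have h1 : piCoreOf π F ≤ H :=
    Cfsg.Agent.Lib.H20.BGY.le_of_normal_hall c.isPiHallOf_H c.MH ((piCoreOf_le _ _).trans hFM)
      (piCoreOf_isPiCard _ _)
  have h2 : piCoreOf πᶜ F = ⊥ := by
    set T := piCoreOf πᶜ F with hT
    have hTM : T ≤ M := (piCoreOf_le _ _).trans hFM
    have hMT : M ≤ Subgroup.normalizer (T : Set G) :=
      hMF.trans (normalizer_le_normalizer_piCoreOf _ F)
    have hTH : T ⊓ H = ⊥ :=
      eq_bot_of_isPiCard_of_disjoint (π := πᶜ) (σ := π) disjoint_compl_left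
        (isPiCard_of_le inf_le_left (piCoreOf_isPiCard _ _))
        (isPiCard_of_le inf_le_right (fun p _ hd => hd))
    have h3 : T ≤ Subgroup.centralizer (H : Set G) :=
      le_centralizer_of_inf_eq_bot (hTM.trans c.MH) (c.HM.trans hMT) hTH
    have h4 : T ≤ H := (le_inf hTM h3).trans c.centralizer_le
    rw [← hTH]
    exact le_antisymm (le_inf le_rfl h4) inf_le_left
  have h3 := piCoreOf_sup_compl hFn π
  rw [h2, sup_bot_eq] at h3
  rw [← h3]
  exact h1

end P1

end Cfsg.Agent.Lib.H10.BG152
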