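import Mathlib
import Cfsg.Agent.Lib.H10.BG152h
import Cfsg.Agent.Lib.H16.BGn

/-! # BG Theorem 15.2 (helper10), part 9: `F(M)` is a TI-subgroup when `M_F ≠ M_σ`;
the conclusion of S1357 modulo `Hyp1373`. -/

set_option autoImplicit false
set_option linter.style.haveILetI false
set_option linter.unusedSectionVars false
set_option linter.unusedVariables false
set_option maxHeartbeats 800000

open Cfsg

namespace Cfsg.Agent.Lib.H10.BG152

open Cfsg.Agent.Lib.H16.BG
open Cfsg.Agent.Lib.H7.BG7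
open Cfsg.Agent.Lib.H7.BG10
open Cfsg.Agent.Lib.H20.BGS
open Cfsg.Agent.Lib.H19 (IsPiCard)
open Cfsg.Agent.Lib.H1 (CoprimeAction)
open scoped commutatorElement Pointwise

universe u
variable {G : Type u} [Group G] [Finite G]

/-- an element of prime order `r ≠ q` of the nilpotent group `F` centralizes every `q`-subgroup
of `F`. -/
theorem le_centralizer_of_nilpotent_of_ne {F Q : Subgroup G} (hF : Group.IsNilpotent ↥F)
    {q r : ℕ} (hq : q.Prime) (hr : r.Prime) (hrq : r ≠ q) (hQF : Q ≤ F) (hQ : IsPGroup q Q)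
    {y : G} (hy : y ∈ F) (hyo : orderOf y = r) : Q ≤ Subgroup.centralizer ({y} : Set G) := by
  have h1 : Subgroup.zpowers y ≤ piCoreOf {r} F := by
    apply le_piCoreOf_of_nilpotent hF (Subgroup.zpowers_le.mpr hy)
    rw [Nat.card_zpowers, hyo]
    intro p hp hd
    exact (Nat.prime_dvd_prime_iff_eq hp hr).1 hd
  have h2 : Q ≤ piCoreOf {q} F :=
    le_piCoreOf_of_nilpotent hF hQF (isPiCard_of_isPGroup hq (Set.mem_singleton q) hQ)
  have hd : Disjoint ({r} : Set ℕ) {q} := by
    rw [Set.disjoint_singleton]; exact hrq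
  have h3 := piCoreOf_le_centralizer_piCoreOf hd F
  intro x hx
  rw [Subgroup.mem_centralizer_singleton_iff]
  have := Subgroup.mem_centralizer_iff.mp (h3 (h1 (Subgroup.mem_zpowers y))) x (h2 hx)
  exact this

/-- `F(M)` is a TI-subgroup of `G`. -/
theorem fittingOf_TI (hG : IsMinSimpleOddOrder G) {M K U : Subgroup G} (hM : IsCoatom M)
    (hKU : IsSigmaDecomposition M K U) (hne : fittingHallOf M ≠ sigmaCore M)
    (hq : (Nat.card ↥(sigmaCore M ⊓ Subgroup.centralizer (K : Set G))).Prime) :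
    IsTISubset (fittingOf M : Set G) := by
  have c := p1_of_ne hG hM hKU hne hq
  have hnn := not_nilpotent_of_ne hG hM hne
  have hU := U_eq_bot hG hM hKU hnn
  have hK1 := K_ne_bot hG hM hKU hU
  have hcK := isComplIn_K hG hM hKU hU
  have hβ := card_star_mem_beta hG hM hKU hne hq
  set q := Nat.card ↥(sigmaCore M ⊓ Subgroup.centralizer (K : Set G)) with hqdef
  haveI : Fact q.Prime := ⟨hq⟩
  set H := sigmaCore M with hH
  set Q := piCoreOf {q} H with hQ
  set F := fittingOf M with hF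
  have hFn : Group.IsNilpotent ↥F := fittingOf_isNilpotent M
  have hFH : F ≤ H := c.fittingOf_le_H
  have hQp : IsPGroup q Q := c.isPGroup_Q
  have hQF : Q ≤ F := le_fittingOf_of_isPGroup (c.Q_le.trans c.HM) c.M_le_normalizer_Q hQp
  -- `Q` lies in a unique maximal subgroup
  have hQu : ∀ L : Subgroup G, IsCoatom L → Q ≤ L → L = M := by
    obtain ⟨S, hS⟩ := c.sylIn_Q.exists_sylow
    have h1 := ((Cfsg.Agent.S1431.result hG M hM K hKU.hall hK1).2.2.1 q hq (dvd_refl _) S).1
    rw [hS] at h1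
    obtain ⟨L₀, hL₀, hQL₀, hu⟩ := inUniqueMaximal_iff.mp h1
    intro L hL hQL
    rw [hu L hL hQL, hu M hM (c.Q_le.trans c.HM)]
  intro g hg x hx hgx
  by_contra hx1
  have hgM : g ∉ M := fun h => hg (le_normalizer_fittingOf M h)
  have hginvM : g⁻¹ ∉ M := fun h => hgM (by simpa using M.inv_mem h)
  -- pass to prime order
  have hox : orderOf x ≠ 1 := fun h => hx1 (orderOf_eq_one_iff.mp h)
  obtain ⟨r, hr, hrd⟩ := Nat.exists_prime_and_dvd hox
  set y := x ^ (orderOf x / r) with hy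
  have hyo : orderOf y = r := orderOf_pow_orderOf_div (orderOf_pos x).ne' hrd
  have hyF : y ∈ F := Subgroup.pow_mem _ hx _
  have hy'F : g * y * g⁻¹ ∈ F := by
    have h : g * y * g⁻¹ = (g * x * g⁻¹) ^ (orderOf x / r) := by rw [conj_pow]
    rw [h]; exact Subgroup.pow_mem _ hgx _
  have hy'o : orderOf (g * y * g⁻¹) = r := by
    have h := MulEquiv.orderOf_eq (MulAut.conj g) y
    rw [MulAut.conj_apply] at h
    rw [h, hyo]
  -- `r ∉ β(M)`
  have hrβ : r ∉ beta M := by
    apply ((Cfsg.Agent.S1426.result hG M hM K hcK).2.2 g⁻¹ hginvM).2.1 r hr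
    have hmem : y ∈ sigmaCore M ⊓ M.map (MulAut.conj g⁻¹).toMonoidHom := by
      refine ⟨hFH hyF, g * y * g⁻¹, c.HM (hFH hy'F), ?_⟩
      simp only [MulEquiv.coe_toMonoidHom, MulAut.conj_apply, inv_inv]
      group
    have := Subgroup.card_dvd_of_le (Subgroup.zpowers_le.mpr hmem)
    rwa [Nat.card_zpowers, hyo] at this
  have hrq : r ≠ q := fun h => hrβ (h ▸ hβ)
  have h1 : Q ≤ Subgroup.centralizer ({y} : Set G) :=
    le_centralizer_of_nilpotent_of_ne hFn hq hr hrq hQF hQp hyF hyo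
  have h2 : Q ≤ Subgroup.centralizer ({g * y * g⁻¹} : Set G) :=
    le_centralizer_of_nilpotent_of_ne hFn hq hr hrq hQF hQp hy'F hy'o
  have hy1 : y ≠ 1 := by
    intro h
    rw [h, orderOf_one] at hyo
    exact hr.one_lt.ne hyo
  obtain ⟨L, hL, hCL⟩ := exists_coatom_ge (centralizer_singleton_ne_top hG hy1)
  have hLM : L = M := hQu L hL (h1.trans hCL)
  -- `g⁻¹ Q g ≤ C(y) ≤ L`
  have h3 : Q ≤ L.map (MulAut.conj g).toMonoidHom := by
    intro z hz
    refine ⟨g⁻¹ * z * g, hCL ?_, by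
      simp only [MulEquiv.coe_toMonoidHom, MulAut.conj_apply]; group⟩
    rw [Subgroup.mem_centralizer_singleton_iff]
    have := Subgroup.mem_centralizer_singleton_iff.mp (h2 hz)
    calc g⁻¹ * z * g * y = g⁻¹ * (z * (g * y * g⁻¹)) * g := by group
      _ = g⁻¹ * ((g * y * g⁻¹) * z) * g := by rw [this]
      _ = y * (g⁻¹ * z * g) := by group
  have h4 := hQu _ (isCoatom_map_conj hL g) h3
  rw [hLM] at h4
  apply hgM
  have h5 : g ∈ Subgroup.normalizer (M : Set G) := by
    rw [Subgroup.mem_normalizer_iff_map_conj_eq]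
    exact h4
  have hM1 : M ≠ ⊥ := by
    intro h
    exact c.K1 (le_bot_iff.mp (h ▸ c.KM))
  rwa [normalizer_eq_of_coatom hG hM le_rfl hM1 Subgroup.le_normalizer] at h5

/-- **BG Theorem 15.2 (c)** = the conclusion of S1357, modulo `Hyp1373`. -/
theorem s1357_of_hyp (hG : IsMinSimpleOddOrder G) (h73 : Hyp1373 G) (M : Subgroup G)
    (hM : IsCoatom M) (K U : Subgroup G) (hKU : IsSigmaDecomposition M K U)
    (hne : fittingHallOf M ≠ sigmaCore M) :
    U = ⊥ ∧ IsTISubset (fittingOf M : Set G) ∧ (Nat.card K).Prime := by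
  have hnn := not_nilpotent_of_ne hG hM hne
  have hU := U_eq_bot hG hM hKU hnn
  have hK1 := K_ne_bot hG hM hKU hU
  have hq := h73 M hM K U hKU hK1 hU
  exact ⟨hU, fittingOf_TI hG hM hKU hne hq, (p1_of_ne hG hM hKU hne hq).main.1⟩

end Cfsg.Agent.Lib.H10.BG152
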