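import Mathlib
import Cfsg.Agent.Lib.H10.BG152i
import Cfsg.Agent.Lib.H20.BGY1
import Cfsg.Agent.Lib.H8.BG12k
import Cfsg.Agent.S1351
import Cfsg.Agent.S1420

/-! # BG Theorem 15.2 (helper10), part 10: existence of a standard factorisation, and the
conclusion of S1355 (BG 15.2(a)) modulo `Hyp1373`. -/

set_option autoImplicit false
set_option linter.style.haveILetI false
set_option linter.unusedSectionVars false
set_option linter.unusedVariables false
set_option maxHeartbeats 800000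

open Cfsg

namespace Cfsg.Agent.Lib.H10.BG152

open Cfsg.Agent.Lib.H16.BG
open Cfsg.Agent.Lib.H7.BG7
open Cfsg.Agent.Lib.H7.BG10
open Cfsg.Agent.Lib.H20.BGS
open Cfsg.Agent.Lib.H19 (IsPiCard)
open Cfsg.Agent.Lib.H1 (CoprimeAction)
open scoped commutatorElement Pointwise

universe u
variable {G : Type u} [Group G] [Finite G]

/-- every maximal subgroup has a standard factorisation `M = K U M_σ`. -/
theorem exists_isSigmaDecomposition (hG : IsMinSimpleOddOrder G) {M : Subgroup G}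
    (hM : IsCoatom M) : ∃ K U : Subgroup G, IsSigmaDecomposition M K U := by
  obtain ⟨⟨K, hK⟩, hcyc⟩ := Cfsg.Agent.S1351.result hG M hM
  have hKc := hcyc K hK
  have hκ := Cfsg.Agent.Lib.H7.BG13t.kappa_subset_tau1 hG hM hKc hK
  obtain ⟨N, hN, -, hnorm⟩ := Cfsg.Agent.Lib.H20.BGY.exists_normal_hall_kappa_compl hG hM hκ
  obtain ⟨U, hU⟩ := Cfsg.Agent.Lib.H20.BGY.exists_isSigmaDecomposition hG hM hKc hK hN hnorm
  exact ⟨K, U, hU⟩

section quot

variable {X : Type*} [Group X]

/-- monotonicity of "the image in the quotient is nilpotent". -/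
theorem isNilpotent_map_mk_mono {N₁ N₂ : Subgroup X} [N₁.Normal] [N₂.Normal] (h : N₁ ≤ N₂)
    {A B : Subgroup X} (hAB : A ≤ B ⊔ N₂)
    (hn : Group.IsNilpotent ↥(B.map (QuotientGroup.mk' N₁))) :
    Group.IsNilpotent ↥(A.map (QuotientGroup.mk' N₂)) := by
  let φ : X ⧸ N₁ →* X ⧸ N₂ := QuotientGroup.map N₁ N₂ (MonoidHom.id X) (by
    intro x hx
    exact h hx)
  have hφ : φ.comp (QuotientGroup.mk' N₁) = QuotientGroup.mk' N₂ := by
    ext x
    rfl
  have h1 : (B.map (QuotientGroup.mk' N₁)).map φ = B.map (QuotientGroup.mk' N₂) := by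
    rw [Subgroup.map_map, hφ]
  have h2 : Group.IsNilpotent ↥((B.map (QuotientGroup.mk' N₁)).map φ) :=
    Group.nilpotent_of_surjective (φ.subgroupMap (B.map (QuotientGroup.mk' N₁)))
      (φ.subgroupMap_surjective _)
  rw [h1] at h2
  have h3 : A.map (QuotientGroup.mk' N₂) ≤ B.map (QuotientGroup.mk' N₂) := by
    rintro _ ⟨a, ha, rfl⟩
    obtain ⟨b, hb, n, hn', rfl⟩ := Subgroup.mem_sup_of_normal_right.mp (hAB ha)
    refine ⟨b, hb, ?_⟩
    rw [map_mul]
    have : (QuotientGroup.mk' N₂) n = 1 := (QuotientGroup.eq_one_iff n).mpr hn'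
    rw [this, mul_one]
  haveI := h2
  exact Subgroup.isNilpotent_of_ker_le_center (Subgroup.inclusion h3)
    (by
      rw [(MonoidHom.ker_eq_bot_iff _).mpr (Subgroup.inclusion_injective h3)]
      exact bot_le)

/-- the image of a commutative subgroup is nilpotent. -/
theorem isNilpotent_map_of_comm {Y : Type*} [Group Y] (f : X →* Y) {B : Subgroup X}
    (hB : ∀ a ∈ B, ∀ b ∈ B, a * b = b * a) : Group.IsNilpotent ↥(B.map f) := by
  have hc : ∀ a b : ↥(B.map f), a * b = b * a := by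
    rintro ⟨_, a, ha, rfl⟩ ⟨_, b, hb, rfl⟩
    apply Subtype.ext
    show f a * f b = f b * f a
    rw [← map_mul, ← map_mul, hB a ha b hb]
  letI : CommGroup ↥(B.map f) := { (inferInstance : Group ↥(B.map f)) with mul_comm := hc }
  exact CommGroup.isNilpotent

end quot

theorem mem_fittingHall_iff {M : Subgroup G} (x : ↥M) :
    x ∈ fittingHall ↥M ↔ (x : G) ∈ fittingHallOf M := by
  constructor
  · intro hx
    exact ⟨x, hx, rfl⟩
  · rintro ⟨y, hy, hyx⟩
    have : y = x := Subtype.ext hyx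
    rwa [← this]

theorem mem_commutator_iff {M : Subgroup G} (x : ↥M) :
    x ∈ commutator ↥M ↔ (x : G) ∈ ⁅M, M⁆ := by
  have h2 : (commutator ↥M).map M.subtype = ⁅M, M⁆ := by
    rw [commutator_def, Subgroup.map_commutator, ← MonoidHom.range_eq_map, Subgroup.range_subtype]
  rw [← h2]
  constructor
  · intro hx
    exact ⟨x, hx, rfl⟩
  · rintro ⟨y, hy, hyx⟩
    have : y = x := Subtype.ext hyx
    rwa [← this]

/-- **BG Theorem 15.2 (a)** = the conclusion of S1355, modulo `Hyp1373`. -/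
theorem s1355_of_hyp (hG : IsMinSimpleOddOrder G) (h73 : Hyp1373 G) (M : Subgroup G)
    (hM : IsCoatom M) :
    fittingHallOf M ≠ ⊥ ∧ fittingHallOf M ≤ sigmaCore M ∧ sigmaCore M ≤ ⁅M, M⁆ ∧ ⁅M, M⁆ < M ∧
      Group.IsNilpotent ↥((commutator ↥M).map (QuotientGroup.mk' (fittingHall ↥M))) := by
  have hU3 := Cfsg.Agent.Lib.H20.BGT.uniq3 hG
  have hσ1 : sigmaCore M ≠ ⊥ := Cfsg.Agent.Lib.H8.BG12.sigmaCore_ne_bot' hG hM
  have hσM : sigmaCore M ≤ M := Cfsg.Agent.Lib.H20.BGS.sigmaCore_le M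
  have hM1 : M ≠ ⊥ := fun h => hσ1 (le_bot_iff.mp (h ▸ hσM))
  haveI : Group.IsSolvable ↥M := solvable_of_coatom hG hM
  have h2 := Cfsg.Agent.Lib.H10.BG144.fittingHallOf_le_sigmaCore hG hM
  have h3 : sigmaCore M ≤ ⁅M, M⁆ := sigmaCore_le_commutator hG hU3 hM
  have h4 : ⁅M, M⁆ < M := Cfsg.Agent.Lib.H16.GL2Odd.commutator_lt_of_isSolvable M hM1
  obtain ⟨K, U, hKU⟩ := exists_isSigmaDecomposition hG hM
  by_cases hnil : Group.IsNilpotent ↥(sigmaCore M)
  · -- `M_F = M_σ`
    have heq := Cfsg.Agent.Lib.H10.BG144.sigmaCore_eq_fittingHallOf hG hM hnil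
    refine ⟨heq ▸ hσ1, h2, h3, h4, ?_⟩
    obtain ⟨E, hE, -⟩ := Cfsg.Agent.Lib.H19.BG13.exists_compl_ge hG hM (bot_le : (⊥ : Subgroup G) ≤ M)
      (by
        intro q hq hd
        rw [Subgroup.card_bot] at hd
        exact absurd (Nat.dvd_one.mp hd) hq.one_lt.ne')
    have hE' := (Cfsg.Agent.S1420.result hG M hM E hE).2.1
    have hci := Cfsg.Agent.Lib.H8.BG12.commutator_inf_compl_le hE
    set B : Subgroup ↥M := (⁅E, E⁆).subgroupOf M with hB
    have hBc : ∀ a ∈ B, ∀ b ∈ B, a * b = b * a := by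
      intro a ha b hb
      apply Subtype.ext
      have h9 := hE'.is_comm.comm ⟨(a : G), ha⟩ ⟨(b : G), hb⟩
      have h10 : (a : G) * (b : G) = (b : G) * (a : G) := congrArg Subtype.val h9
      exact h10
    have hn := isNilpotent_map_of_comm (QuotientGroup.mk' (fittingHall ↥M)) hBc
    apply isNilpotent_map_mk_mono (le_refl _) _ hn
    intro x hx
    have hxM' : (x : G) ∈ ⁅M, M⁆ := (mem_commutator_iff x).mp hx
    obtain ⟨e, he, s, hs, hes⟩ := hE.2.2.2 (x : G) x.2
    have heM : e ∈ M := hE.1 he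
    have hsM : s ∈ M := hσM hs
    have he' : e ∈ ⁅E, E⁆ := by
      apply hci
      refine ⟨?_, he⟩
      have : e = (x : G) * s⁻¹ := by rw [hes]; group
      rw [this]
      exact Subgroup.mul_mem _ hxM' (Subgroup.inv_mem _ (h3 hs))
    have : x = (⟨e, heM⟩ : ↥M) * ⟨s, hsM⟩ := Subtype.ext hes
    rw [this]
    apply Subgroup.mul_mem_sup
    · exact he'
    · rw [mem_fittingHall_iff]
      show s ∈ fittingHallOf M
      rw [← heq]
      exact hs
  · -- type `P1`
    have hne : fittingHallOf M ≠ sigmaCore M := by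
      intro h
      apply hnil
      rw [← h]
      exact Cfsg.Agent.Lib.H8.fittingHallOf_isNilpotent M
    have hU := U_eq_bot hG hM hKU hnil
    have hK1 := K_ne_bot hG hM hKU hU
    have hq := h73 M hM K U hKU hK1 hU
    have c := p1_of_ne hG hM hKU hne hq
    have hQF := Q_le_fittingHallOf hG hM hKU hne hq
    have hcomm := sigmaCore_eq_commutator hG hM hKU hU
    set q := Nat.card ↥(sigmaCore M ⊓ Subgroup.centralizer (K : Set G)) with hqdef
    haveI : Fact q.Prime := ⟨hq⟩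
    have hsQ : sigmaCore M ⊓ Subgroup.centralizer (K : Set G) ≤ piCoreOf {q} (sigmaCore M) :=
      c.star_le_Q
    have hF1 : fittingHallOf M ≠ ⊥ := by
      intro h
      have h5 : sigmaCore M ⊓ Subgroup.centralizer (K : Set G) = ⊥ :=
        le_bot_iff.mp (h ▸ hsQ.trans hQF)
      have h6 : q = 1 := by
        rw [hqdef, h5]
        exact Subgroup.card_bot
      exact hq.one_lt.ne' h6
    refine ⟨hF1, h2, h3, h4, ?_⟩
    haveI := c.Q_normal
    have hn := c.quot_nil
    have hle : (piCoreOf {q} (sigmaCore M)).subgroupOf M ≤ fittingHall ↥M := by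
      intro x hx
      rw [mem_fittingHall_iff]
      exact hQF hx
    apply isNilpotent_map_mk_mono hle _ hn
    intro x hx
    apply Subgroup.mem_sup_left
    show (x : G) ∈ sigmaCore M
    rw [hcomm]
    exact (mem_commutator_iff x).mp hx

end Cfsg.Agent.Lib.H10.BG152
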