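import Mathlib
import Cfsg.Agent.Lib.H10.BG152j

/-! # BG Theorem 15.2 (helper10), part 11: general lemmas for 15.2(b): commutators of a
semidirect product, products of commuting nilpotent subgroups, `F(M) ≤ C_M(M_F) M_F`. -/

set_option autoImplicit false
set_option linter.style.haveILetI false
set_option linter.unusedSectionVars false
set_option linter.unusedVariables false
set_option maxHeartbeats 800000

open Cfsg

namespace Cfsg.Agent.Lib.H10.BG152

open Cfsg.Agent.Lib.H16.BG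
open Cfsg.Agent.Lib.H7.BG7
open Cfsg.Agent.Lib.H7.BG10
open Cfsg.Agent.Lib.H19 (IsPiCard)
open Cfsg.Agent.Lib.H1 (CoprimeAction)
open scoped commutatorElement Pointwise

universe u
variable {G : Type u} [Group G]

/-- `(SA)' ≤ S A'` when `A` normalizes `S`. -/
theorem commutator_sup_le {S A : Subgroup G} (hAS : A ≤ Subgroup.normalizer (S : Set G)) :
    ⁅S ⊔ A, S ⊔ A⁆ ≤ S ⊔ ⁅A, A⁆ := by
  rw [Subgroup.commutator_le]
  intro g₁ hg₁ g₂ hg₂
  obtain ⟨s₁, hs₁, a₁, ha₁, rfl⟩ := Cfsg.Agent.Lib.H1.mem_sup_of_le_normalizer hAS hg₁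
  obtain ⟨s₂, hs₂, a₂, ha₂, rfl⟩ := Cfsg.Agent.Lib.H1.mem_sup_of_le_normalizer hAS hg₂
  have hconj : ∀ a ∈ A, ∀ s ∈ S, a * s * a⁻¹ ∈ S := fun a ha s hs =>
    (Subgroup.mem_normalizer_iff.mp (hAS ha) s).mp hs
  have key : ⁅s₁ * a₁, s₂ * a₂⁆ =
      s₁ * (a₁ * s₂ * a₁⁻¹) * ((a₁ * a₂ * a₁⁻¹) * s₁⁻¹ * (a₁ * a₂ * a₁⁻¹)⁻¹) *
        (⁅a₁, a₂⁆ * s₂⁻¹ * ⁅a₁, a₂⁆⁻¹) * ⁅a₁, a₂⁆ := by
    simp only [commutatorElement_def]
    group
  rw [key]
  have hc : ⁅a₁, a₂⁆ ∈ ⁅A, A⁆ := Subgroup.commutator_mem_commutator ha₁ ha₂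
  have hcA : ⁅a₁, a₂⁆ ∈ A := Subgroup.commutator_le_self A hc
  apply Subgroup.mul_mem_sup _ hc
  apply Subgroup.mul_mem
  · apply Subgroup.mul_mem
    · exact Subgroup.mul_mem _ hs₁ (hconj a₁ ha₁ s₂ hs₂)
    · exact hconj _ (A.mul_mem (A.mul_mem ha₁ ha₂) (A.inv_mem ha₁)) _ (S.inv_mem hs₁)
  · exact hconj _ hcA _ (S.inv_mem hs₂)

/-- the product of two elementwise commuting nilpotent subgroups is nilpotent. -/
theorem isNilpotent_sup_of_commute {A B : Subgroup G} (hA : Group.IsNilpotent ↥A)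
    (hB : Group.IsNilpotent ↥B) (h : ∀ a ∈ A, ∀ b ∈ B, a * b = b * a) :
    Group.IsNilpotent ↥(A ⊔ B) := by
  have hcomm : ∀ (m : ↥A) (n : ↥B), Commute (A.subtype m) (B.subtype n) :=
    fun a b => h a.1 a.2 b.1 b.2
  let f : ↥A × ↥B →* G := MonoidHom.noncommCoprod A.subtype B.subtype hcomm
  have hr : f.range = A ⊔ B := by
    show (MonoidHom.noncommCoprod A.subtype B.subtype hcomm).range = A ⊔ B
    rw [MonoidHom.noncommCoprod_range, Subgroup.range_subtype, Subgroup.range_subtype]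
  have h1 : Group.IsNilpotent ↥f.range :=
    Group.nilpotent_of_surjective f.rangeRestrict f.rangeRestrict_surjective
  rwa [hr] at h1

variable [Finite G]

/-- a solvable group whose `π`-subgroups are nilpotent and central and whose `π'`-subgroups are
nilpotent is nilpotent. -/
theorem isNilpotent_of_hall_split {C : Subgroup G} [Group.IsSolvable ↥C] (π : Set ℕ)
    (h1 : ∀ Z : Subgroup G, Z ≤ C → IsPiCard π (Nat.card Z) →
      Group.IsNilpotent ↥Z ∧ ∀ z ∈ Z, ∀ c ∈ C, z * c = c * z)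
    (h2 : ∀ Y : Subgroup G, Y ≤ C → IsPiCard πᶜ (Nat.card Y) → Group.IsNilpotent ↥Y) :
    Group.IsNilpotent ↥C := by
  have hbot : ∀ σ : Set ℕ, IsPiCard σ (Nat.card (⊥ : Subgroup G)) := by
    intro σ p hp hd
    rw [Subgroup.card_bot] at hd
    exact absurd (Nat.dvd_one.mp hd) hp.one_lt.ne'
  obtain ⟨Z, hZ, -⟩ := Cfsg.Agent.Lib.H19.exists_isPiHallOf_ge (bot_le : (⊥ : Subgroup G) ≤ C)
    (hbot π)
  obtain ⟨Y, hY, -⟩ := Cfsg.Agent.Lib.H19.exists_isPiHallOf_ge (bot_le : (⊥ : Subgroup G) ≤ C)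
    (hbot πᶜ)
  have hsup : Y ⊔ Z = C := Cfsg.Agent.Lib.H20.BGY.sup_eq_of_hall_compl hY hZ
  obtain ⟨hZn, hZc⟩ := h1 Z hZ.1 hZ.2.1
  have hYn := h2 Y hY.1 hY.2.1
  have := isNilpotent_sup_of_commute hYn hZn (fun y hy z hz => (hZc z hz y (hY.1 hy)).symm)
  rwa [hsup] at this

/-- `F(M) ≤ C_M(M_F) M_F`. -/
theorem fittingOf_le_sup (M : Subgroup G) :
    fittingOf M ≤ (M ⊓ Subgroup.centralizer (fittingHallOf M : Set G)) ⊔ fittingHallOf M := by
  set F := fittingOf M with hF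
  set A := fittingHallOf M with hA
  have hFn : Group.IsNilpotent ↥F := fittingOf_isNilpotent M
  have hFM : F ≤ M := fittingOf_le M
  have hAM : A ≤ M := Cfsg.Agent.Lib.H8.fittingHallOf_le M
  have hAn := Cfsg.Agent.Lib.H8.fittingHallOf_isNilpotent M
  have hAnorm := Cfsg.Agent.Lib.H8.le_normalizer_fittingHallOf M
  have hAF : A ≤ F := le_fittingOf hAM hAnorm hAn
  have hcop := Cfsg.Agent.Lib.H10.BG144.card_fittingHallOf_coprime M
  set π : Set ℕ := {p | p ∣ Nat.card A} with hπ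
  have hAπ : IsPiCard π (Nat.card A) := fun p hp hd => hd
  have hHall : IsPiHallOf π A M := by
    refine ⟨hAM, hAπ, ?_⟩
    intro p hp hpπ hd
    have := Nat.Coprime.eq_one_of_dvd (Nat.Coprime.coprime_dvd_left hpπ hcop) hd
    exact hp.one_lt.ne' this
  have h1 : piCoreOf π F ≤ A := by
    apply Cfsg.Agent.Lib.H20.BGY.le_of_normal_hall hHall hAnorm ((piCoreOf_le _ _).trans hFM)
    exact piCoreOf_isPiCard _ _
  have h2 : A ≤ piCoreOf π F := le_piCoreOf_of_nilpotent hFn hAF hAπ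
  have h3 : piCoreOf πᶜ F ≤ Subgroup.centralizer ((piCoreOf π F : Subgroup G) : Set G) :=
    piCoreOf_le_centralizer_piCoreOf (disjoint_compl_left) F
  rw [← piCoreOf_sup_compl hFn π]
  apply sup_le
  · exact h1.trans le_sup_right
  · apply le_trans _ le_sup_left
    apply le_inf ((piCoreOf_le _ _).trans hFM)
    exact h3.trans (Subgroup.centralizer_le (by exact_mod_cast h2))

end Cfsg.Agent.Lib.H10.BG152
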