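import Mathlib
import Cfsg.Agent.Lib.H10.BG152k
import Cfsg.Agent.Lib.H7.FrobNil3

/-! # BG Theorem 15.2 (helper10), part 12: the type `P1` half of 15.2(b):
`H' ≤ F(M)`, `C_M(Q) ≤ H`, `C_M(Q)` nilpotent. -/

set_option autoImplicit false
set_option linter.style.haveILetI false
set_option linter.unusedSectionVars false
set_option linter.unusedVariables false
set_option maxHeartbeats 800000

open Cfsg

namespace Cfsg.Agent.Lib.H10.BG152

open Cfsg.Agent.Lib.H16.BG
open Cfsg.Agent.Lib.H7.BG7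
open Cfsg.Agent.Lib.H7.BG10
open Cfsg.Agent.Lib.H19 (IsPiCard)
open Cfsg.Agent.Lib.H1 (CoprimeAction)
open scoped commutatorElement Pointwise

universe u
variable {G : Type u} [Group G] [Finite G]

namespace P1D

variable {M H K D : Subgroup G} {q : ℕ}

/-- `D'` centralizes `Q`. -/
theorem commutator_D_le_centralizer (d : P1D M H K q D) :
    ⁅D, D⁆ ≤ Subgroup.centralizer ((piCoreOf {q} H : Subgroup G) : Set G) := by
  haveI : Fact q.Prime := ⟨d.qp⟩
  have c := d.toP1
  obtain ⟨k, hk, r, hr, hkr, hk1⟩ := c.exists_prime_elt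
  set Q := piCoreOf {q} H with hQ
  have hQp : IsPGroup q Q := c.isPGroup_Q
  have hDQ : D ≤ Subgroup.normalizer (Q : Set G) := (d.DH.trans c.HM).trans c.M_le_normalizer_Q
  have hkQ : k ∈ Subgroup.normalizer (Q : Set G) := c.M_le_normalizer_Q (c.KM hk)
  have hkD : k ∈ Subgroup.normalizer (D : Set G) := d.KD hk
  have hfpf : ∀ j, 0 < j → j < r → ∀ u ∈ D, k ^ j * u = u * k ^ j → u = 1 := by
    intro j hj0 hjr u hu hc
    have hkj : k ^ j ≠ 1 := by
      intro h
      have := orderOf_dvd_of_pow_eq_one h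
      rw [hkr] at this
      exact absurd (Nat.le_of_dvd hj0 this) (by omega)
    exact d.fpf (K.pow_mem hk j) hkj hu hc
  have hrK : r ∣ Nat.card K := by
    rw [← hkr]
    have := orderOf_dvd_natCard (⟨k, hk⟩ : K)
    rwa [← Subgroup.orderOf_coe] at this
  have hqH : q ∣ Nat.card H := by
    rw [← c.card]
    exact Subgroup.card_dvd_of_le inf_le_left
  have hcop : ¬ q ∣ Nat.card ↥(D ⊔ Subgroup.zpowers k) := by
    intro hd
    have hzD : Subgroup.zpowers k ≤ Subgroup.normalizer (D : Set G) :=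
      Subgroup.zpowers_le.mpr hkD
    have h1 : Nat.card (Subgroup.zpowers k ⊔ D : Subgroup G) ∣
        Nat.card (Subgroup.zpowers k) * Nat.card D :=
      Cfsg.Agent.Lib.H19.card_sup_dvd_mul_of_le_normalizer hzD
    rw [sup_comm, Nat.card_zpowers, hkr] at h1
    rcases (Nat.Prime.dvd_mul d.qp).1 (hd.trans h1) with h | h
    · have h2 := Nat.dvd_gcd (h.trans hrK) hqH
      rw [c.cop.gcd_eq_one] at h2
      exact d.qp.one_lt.ne' (Nat.dvd_one.mp h2)
    · have h2 := Nat.dvd_gcd h (dvd_refl q)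
      rw [d.coprime_D.gcd_eq_one] at h2
      exact d.qp.one_lt.ne' (Nat.dvd_one.mp h2)
  have hcyc : IsCyclic ↥(Q ⊓ Subgroup.centralizer ({k} : Set G)) := by
    have hle : Q ⊓ Subgroup.centralizer ({k} : Set G) ≤
        H ⊓ Subgroup.centralizer (K : Set G) := by
      rw [← c.prim k hk hk1]
      exact inf_le_inf_right _ c.Q_le
    haveI : IsCyclic ↥(H ⊓ Subgroup.centralizer (K : Set G)) := isCyclic_of_prime_card c.card
    exact isCyclic_of_injective (Subgroup.inclusion hle) (Subgroup.inclusion_injective hle)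
  exact Cfsg.Agent.Lib.H7.FrobNil.commutator_le_centralizer_of_isCyclic (q := q) hr hQp hkr hkD
    hDQ hkQ hfpf hcop hcyc

theorem H_le_sup (d : P1D M H K q D) : H ≤ piCoreOf {q} H ⊔ D := by
  intro h hh
  obtain ⟨a, ha, b, hb, rfl⟩ := d.compl.2.2.2 h hh
  exact Subgroup.mul_mem_sup ha hb

/-- `H' ≤ Q D'`. -/
theorem commutator_H_le (d : P1D M H K q D) : ⁅H, H⁆ ≤ piCoreOf {q} H ⊔ ⁅D, D⁆ := by
  have hDQ : D ≤ Subgroup.normalizer ((piCoreOf {q} H : Subgroup G) : Set G) :=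
    (d.DH.trans d.HM).trans d.toP1.M_le_normalizer_Q
  exact (Subgroup.commutator_mono d.H_le_sup d.H_le_sup).trans (commutator_sup_le hDQ)

/-- `Q D'` is nilpotent. -/
theorem nil_sup (d : P1D M H K q D) : Group.IsNilpotent ↥(piCoreOf {q} H ⊔ ⁅D, D⁆) := by
  haveI : Fact q.Prime := ⟨d.qp⟩
  have hQn : Group.IsNilpotent ↥(piCoreOf {q} H) := d.toP1.isPGroup_Q.isNilpotent
  have hDn : Group.IsNilpotent ↥⁅D, D⁆ :=
    Cfsg.Agent.Lib.H16.BG.isNilpotent_of_le d.nilD (Subgroup.commutator_le_self D)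
  apply isNilpotent_sup_of_commute hQn hDn
  intro a ha b hb
  exact (Subgroup.mem_centralizer_iff.mp (d.commutator_D_le_centralizer hb) a ha)

end P1D

namespace P1

variable {M H K : Subgroup G} {q : ℕ}

/-- `H' ≤ F(M)`. -/
theorem commutator_le_fittingOf (c : P1 M H K q) : ⁅H, H⁆ ≤ fittingOf M := by
  obtain ⟨D, d⟩ := c.exists_P1D
  apply le_fittingOf ((Subgroup.commutator_le_self H).trans c.HM)
    (Cfsg.Agent.Lib.H10.BG36.le_normalizer_commutator c.MH c.MH)
  exact Cfsg.Agent.Lib.H16.BG.isNilpotent_of_le d.nil_sup d.commutator_H_le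

theorem isPiHallOf_K (c : P1 M H K q) : IsPiHallOf {p | p ∣ Nat.card K} K M := by
  refine ⟨c.KM, fun p _ hd => hd, ?_⟩
  intro p hp hpK hd
  have h1 := SylIn.card_mul_relIndex c.KM
  have h2 := c.card_M
  have h3 : K.relIndex M = Nat.card H := by
    have : Nat.card K * K.relIndex M = Nat.card K * Nat.card H := by
      rw [h1, ← h2, mul_comm]
    exact Nat.eq_of_mul_eq_mul_left Nat.card_pos this
  rw [h3] at hd
  have h4 := Nat.dvd_gcd hpK hd
  rw [c.cop.gcd_eq_one] at h4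
  exact hp.one_lt.ne' (Nat.dvd_one.mp h4)

/-- a normal subgroup of `M` meeting `K` trivially lies in `H`. -/
theorem le_H_of_normal (c : P1 M H K q) {C : Subgroup G} (hCM : C ≤ M)
    (hMC : M ≤ Subgroup.normalizer (C : Set G)) (hCK : C ⊓ K = ⊥) : C ≤ H := by
  apply Cfsg.Agent.Lib.H20.BGY.le_of_normal_hall c.isPiHallOf_H c.MH hCM
  intro r hr hrC
  haveI : Fact r.Prime := ⟨hr⟩
  have hrM : r ∣ Nat.card M := hrC.trans (Subgroup.card_dvd_of_le hCM)
  rw [← c.card_M] at hrM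
  rcases (Nat.Prime.dvd_mul hr).1 hrM with h | h
  · exact h
  exfalso
  obtain ⟨R, hR⟩ := SylIn.exists_sylIn r K
  have hRM : SylIn r R M := SylIn.of_hall c.isPiHallOf_K h hR
  have hRC : SylIn r (R ⊓ C) C := hRM.inf_normal hCM hMC
  have h1 : R ⊓ C = ⊥ := by
    rw [eq_bot_iff, ← hCK]
    exact le_inf inf_le_right (inf_le_left.trans hR.le)
  rw [h1] at hRC
  exact hRC.ne_bot hrC rfl

/-- no non-identity element of `K` centralizes `Q`. -/
theorem not_Q_le_centralizer_singleton (c : P1 M H K q) {k : G} (hk : k ∈ K) (hk1 : k ≠ 1) :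
    ¬ piCoreOf {q} H ≤ Subgroup.centralizer ({k} : Set G) := by
  intro hle
  obtain ⟨D, d⟩ := c.exists_P1D
  obtain ⟨hKp, -, -, hD⟩ := c.main
  obtain ⟨-, -, -, hcard, -, -⟩ := hD D d.compl
  have h1 : piCoreOf {q} H ≤ H ⊓ Subgroup.centralizer (K : Set G) := by
    rw [← c.prim k hk hk1]
    exact le_inf c.Q_le hle
  have h2 := Nat.le_of_dvd Nat.card_pos (Subgroup.card_dvd_of_le h1)
  rw [c.card, hcard] at h2
  have h3 : q ^ 2 ≤ q ^ Nat.card K := Nat.pow_le_pow_right c.qp.pos hKp.two_le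
  have h4 : 0 < Nat.card ↥(piCoreOf {q} H ⊓ Subgroup.centralizer (D : Set G)) := Nat.card_pos
  have h5 : q ^ Nat.card K ≤
      Nat.card ↥(piCoreOf {q} H ⊓ Subgroup.centralizer (D : Set G)) * q ^ Nat.card K :=
    Nat.le_mul_of_pos_left _ h4
  have h6 : q < q ^ 2 := by
    have := c.qp.one_lt
    nlinarith
  omega

/-- `C_M(Q) ≤ H`. -/
theorem centralizer_Q_le (c : P1 M H K q) :
    M ⊓ Subgroup.centralizer ((piCoreOf {q} H : Subgroup G) : Set G) ≤ H := by
  apply c.le_H_of_normal inf_le_left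
  · exact Cfsg.Agent.Lib.H10.BG36.le_normalizer_inf Subgroup.le_normalizer
      (Cfsg.Agent.Lib.H10.BG36.le_normalizer_centralizer c.M_le_normalizer_Q)
  · rw [eq_bot_iff]
    rintro k ⟨⟨-, hkc⟩, hkK⟩
    rw [Subgroup.mem_bot]
    by_contra hk1
    apply c.not_Q_le_centralizer_singleton hkK hk1
    intro x hx
    rw [Subgroup.mem_centralizer_singleton_iff]
    exact (Subgroup.mem_centralizer_iff.mp hkc x hx)

theorem isPiHallOf_Q (c : P1 M H K q) : IsPiHallOf ({q} : Set ℕ) (piCoreOf {q} H) H := by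
  refine ⟨c.Q_le, isPiCard_of_isPGroup c.qp (Set.mem_singleton q) c.isPGroup_Q, ?_⟩
  intro p hp hpq hd
  rw [Set.mem_singleton_iff] at hpq
  rw [hpq] at hd
  exact c.Q_sylow hd

/-- every subgroup of `C_M(Q)` is nilpotent. -/
theorem nil_of_le_centralizer_Q (c : P1 M H K q) {C : Subgroup G}
    (hC : C ≤ M ⊓ Subgroup.centralizer ((piCoreOf {q} H : Subgroup G) : Set G)) :
    Group.IsNilpotent ↥C := by
  haveI : Fact q.Prime := ⟨c.qp⟩
  haveI := c.solv
  haveI := c.solvH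
  have hCH : C ≤ H := hC.trans c.centralizer_Q_le
  haveI : Group.IsSolvable ↥C :=
    Group.isSolvable_of_isSolvable_injective (Subgroup.inclusion_injective hCH)
  have hQn : Group.IsNilpotent ↥(piCoreOf {q} H) := c.isPGroup_Q.isNilpotent
  have hHQ : H ≤ Subgroup.normalizer ((piCoreOf {q} H : Subgroup G) : Set G) :=
    c.HM.trans c.M_le_normalizer_Q
  apply isNilpotent_of_hall_split ({q} : Set ℕ)
  · intro Z hZC hZ
    have hZQ : Z ≤ piCoreOf {q} H :=
      Cfsg.Agent.Lib.H20.BGY.le_of_normal_hall c.isPiHallOf_Q hHQ (hZC.trans hCH) hZ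
    refine ⟨Cfsg.Agent.Lib.H16.BG.isNilpotent_of_le hQn hZQ, ?_⟩
    intro z hz x hx
    exact (Subgroup.mem_centralizer_iff.mp (hC hx).2 z (hZQ hz))
  · intro Y hYC hY
    obtain ⟨D', hD', hYD'⟩ := Cfsg.Agent.Lib.H19.exists_isPiHallOf_ge (hYC.trans hCH) hY
    have h1 := c.isPiHallOf_iff.mp hD'
    have hcop : (Nat.card (piCoreOf {q} H)).Coprime (Nat.card D') := by
      obtain ⟨n, hn⟩ := IsPGroup.iff_card.mp c.isPGroup_Q
      rw [hn, h1.2]
      apply Nat.Coprime.pow_left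
      rw [Nat.Prime.coprime_iff_not_dvd c.qp]
      exact c.Q_sylow
    have hinf : piCoreOf {q} H ⊓ D' = ⊥ := by
      rw [← disjoint_iff]
      exact Subgroup.disjoint_of_coprime_natCard hcop
    have hcompl : IsComplIn (piCoreOf {q} H) D' H := by
      apply isComplIn_of_card c.Q_le h1.1 hinf
      rw [h1.2]
      exact SylIn.card_mul_relIndex c.Q_le
    exact Cfsg.Agent.Lib.H16.BG.isNilpotent_of_le (c.compl_nil hcompl) hYD'

end P1

end Cfsg.Agent.Lib.H10.BG152
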