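import Mathlib
import Cfsg.Agent.Lib.H10.BG152l
import Cfsg.Agent.Lib.H21.BGHallA
import Cfsg.Agent.S1365
import Cfsg.Agent.S1439

/-! # BG Theorem 15.2 (helper10), part 13: 15.2(b) (the conclusion of S1356) modulo `Hyp1373`. -/

set_option autoImplicit false
set_option linter.style.haveILetI false
set_option linter.unusedSectionVars false
set_option linter.unusedVariables false
set_option maxHeartbeats 800000

open Cfsg

namespace Cfsg.Agent.Lib.H10.BG152

open Cfsg.Agent.Lib.H16.BG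
open Cfsg.Agent.Lib.H7.BG7
open Cfsg.Agent.Lib.H7.BG10
open Cfsg.Agent.Lib.H19 (IsPiCard)
open Cfsg.Agent.Lib.H1 (CoprimeAction)
open scoped commutatorElement Pointwise

universe u
variable {G : Type u} [Group G] [Finite G]

/-- `κ(M) ≠ ∅` forces `K ≠ 1`. -/
theorem K_ne_bot_of_nonempty {M K : Subgroup G} (hK : IsPiHallOf (kappa M) K M)
    (hκ : (kappa M).Nonempty) : K ≠ ⊥ := by
  obtain ⟨p, hp⟩ := hκ
  intro h
  have h1 := SylIn.card_mul_relIndex hK.1
  rw [h, Subgroup.card_bot, one_mul] at h1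
  have h2 := hK.2.2 p hp.1 hp
  rw [h] at h2
  rw [h1] at h2
  exact h2 hp.2.1

/-- **BG 15.2 (b), last part**: if `κ(M) ≠ ∅` then `F(M) ≤ M'`. -/
theorem fittingOf_le_commutator (hG : IsMinSimpleOddOrder G) {M : Subgroup G} (hM : IsCoatom M)
    (hκ : (kappa M).Nonempty) : fittingOf M ≤ ⁅M, M⁆ := by
  obtain ⟨K, U, hKU⟩ := exists_isSigmaDecomposition hG hM
  have hK1 := K_ne_bot_of_nonempty hKU.hall hκ
  have hU3 := Cfsg.Agent.Lib.H20.BGT.uniq3 hG
  have hκτ := Cfsg.Agent.Lib.H7.BG13t.kappa_subset_tau1 hG hM hKU.cyclic hKU.hall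
  obtain ⟨N, hN, hcN, hnorm⟩ :=
    Cfsg.Agent.Lib.H20.BGY.exists_normal_hall_kappa_compl hG hM hκτ
  have hsup := Cfsg.Agent.Lib.H20.BGY.sup_sigmaCore_eq hG hM hKU hN hcN hnorm
  have hcomm := (Cfsg.Agent.S1365.result hG M hM K U hKU hK1).1
  obtain ⟨-, hτ2, hF⟩ := Cfsg.Agent.S1439.result hG M hM
  rw [hF, hcomm, hsup]
  apply sup_le
  · rw [← hsup]
    exact (fittingOf_le _).trans le_sup_right
  · apply Cfsg.Agent.Lib.H20.BGY.le_of_normal_hall hN hnorm
      ((piCoreOf_le _ _).trans (fittingOf_le M))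
    intro p hp hd hpκ
    have h1 := hτ2 p hp hd
    exact h1.2.2.2 (hκτ hpκ).2.2.2.2

/-- `M' ≤ M_σ E'`. -/
theorem commutator_le_sup_compl (hG : IsMinSimpleOddOrder G) {M E : Subgroup G}
    (hM : IsCoatom M) (hE : IsComplIn E (sigmaCore M) M) :
    ⁅M, M⁆ ≤ sigmaCore M ⊔ ⁅E, E⁆ := by
  have hU3 := Cfsg.Agent.Lib.H20.BGT.uniq3 hG
  have h3 : sigmaCore M ≤ ⁅M, M⁆ := sigmaCore_le_commutator hG hU3 hM
  have hci := Cfsg.Agent.Lib.H8.BG12.commutator_inf_compl_le hE
  intro x hx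
  have hxM : x ∈ M := Subgroup.commutator_le_self M hx
  obtain ⟨e, he, s, hs, hes⟩ := hE.2.2.2 x hxM
  have he' : e ∈ ⁅E, E⁆ := by
    apply hci
    refine ⟨?_, he⟩
    have : e = x * s⁻¹ := by rw [hes]; group
    rw [this]
    exact Subgroup.mul_mem _ hx (Subgroup.inv_mem _ (h3 hs))
  -- `x = e s = (e s e⁻¹) e`
  have : x = (e * s * e⁻¹) * e := by rw [hes]; group
  rw [this]
  apply Subgroup.mul_mem_sup _ he'
  have hn := Cfsg.Agent.Lib.H20.BGS.le_normalizer_sigmaCore M (hE.1 he)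
  exact (Subgroup.mem_normalizer_iff.mp hn s).mp hs

/-- `M'' ≤ M_σ`. -/
theorem commutator_commutator_le_sigmaCore (hG : IsMinSimpleOddOrder G) {M : Subgroup G}
    (hM : IsCoatom M) : ⁅⁅M, M⁆, ⁅M, M⁆⁆ ≤ sigmaCore M := by
  obtain ⟨E, hE, -⟩ := Cfsg.Agent.Lib.H19.BG13.exists_compl_ge hG hM
    (bot_le : (⊥ : Subgroup G) ≤ M)
    (by
      intro q hq hd
      rw [Subgroup.card_bot] at hd
      exact absurd (Nat.dvd_one.mp hd) hq.one_lt.ne')
  have hE' := (Cfsg.Agent.S1420.result hG M hM E hE).2.1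
  have h1 := commutator_le_sup_compl hG hM hE
  have hEn : ⁅E, E⁆ ≤ Subgroup.normalizer ((sigmaCore M : Subgroup G) : Set G) :=
    ((Subgroup.commutator_le_self E).trans hE.1).trans
      (Cfsg.Agent.Lib.H20.BGS.le_normalizer_sigmaCore M)
  have h2 := commutator_sup_le hEn
  have h3 : ⁅⁅E, E⁆, ⁅E, E⁆⁆ = ⊥ := by
    rw [eq_bot_iff, Subgroup.commutator_le]
    intro a ha b hb
    rw [Subgroup.mem_bot, commutatorElement_eq_one_iff_mul_comm]
    have h9 := hE'.is_comm.comm ⟨a, ha⟩ ⟨b, hb⟩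
    exact congrArg Subtype.val h9
  rw [h3, sup_bot_eq] at h2
  exact (Subgroup.commutator_mono h1 h1).trans h2

/-- if `M_σ` is nilpotent then `C_M(M_σ) ≤ F(M)`. -/
theorem centralizer_sigmaCore_le_fittingOf (hG : IsMinSimpleOddOrder G) {M : Subgroup G}
    (hM : IsCoatom M) (hnil : Group.IsNilpotent ↥(sigmaCore M)) :
    M ⊓ Subgroup.centralizer ((sigmaCore M : Subgroup G) : Set G) ≤ fittingOf M := by
  have hU3 := Cfsg.Agent.Lib.H20.BGT.uniq3 hG
  have hσ1 : sigmaCore M ≠ ⊥ := Cfsg.Agent.Lib.H8.BG12.sigmaCore_ne_bot' hG hM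
  have hσM : sigmaCore M ≤ M := Cfsg.Agent.Lib.H20.BGS.sigmaCore_le M
  have hMσ := Cfsg.Agent.Lib.H20.BGS.le_normalizer_sigmaCore M
  have hhall := (Cfsg.Agent.Lib.H20.BGS.sigma_core_hall hG hU3 hM).1
  have h30 : Cfsg.Agent.Lib.H21.BGHall.Hyp1430 G := fun M hM K hK hK1 =>
    Cfsg.Agent.S1430.result hG M hM K hK hK1
  have h31 : Cfsg.Agent.Lib.H21.BGHall.Hyp1431 G := fun M hM K hK hK1 =>
    Cfsg.Agent.S1431.result hG M hM K hK hK1
  set C := M ⊓ Subgroup.centralizer ((sigmaCore M : Subgroup G) : Set G) with hC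
  have hCM : C ≤ M := inf_le_left
  haveI : Group.IsSolvable ↥M := solvable_of_coatom hG hM
  haveI : Group.IsSolvable ↥C :=
    Group.isSolvable_of_isSolvable_injective (Subgroup.inclusion_injective hCM)
  have hMC : M ≤ Subgroup.normalizer (C : Set G) :=
    Cfsg.Agent.Lib.H10.BG36.le_normalizer_inf Subgroup.le_normalizer
      (Cfsg.Agent.Lib.H10.BG36.le_normalizer_centralizer hMσ)
  apply le_fittingOf hCM hMC
  apply isNilpotent_of_hall_split (sigma M)
  · intro Z hZC hZ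
    have hZσ : Z ≤ sigmaCore M :=
      Cfsg.Agent.Lib.H20.BGY.le_of_normal_hall hhall hMσ (hZC.trans hCM) hZ
    refine ⟨Cfsg.Agent.Lib.H16.BG.isNilpotent_of_le hnil hZσ, ?_⟩
    intro z hz x hx
    have hx2 : x ∈ Subgroup.centralizer ((sigmaCore M : Subgroup G) : Set G) := hx.2
    exact Subgroup.mem_centralizer_iff.mp hx2 z (hZσ hz)
  · intro Y hYC hY
    have hcop : (Nat.card (sigmaCore M)).Coprime ((sigmaCore M).relIndex (sigmaCore M)) := by
      rw [Subgroup.relIndex_self]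
      exact Nat.coprime_one_right _
    have := (Cfsg.Agent.Lib.H21.BGHall.cyclic_tau2_of_centralizes hG h30 h31 hM le_rfl hσ1 hcop
      (hYC.trans hCM) (hYC.trans inf_le_right) (fun q hq hd => hY q hq hd)).1
    letI := IsCyclic.commGroup (α := ↥Y)
    exact CommGroup.isNilpotent

/-- **BG Theorem 15.2 (b)** = the conclusion of S1356, modulo `Hyp1373`. -/
theorem s1356_of_hyp (hG : IsMinSimpleOddOrder G) (h73 : Hyp1373 G) (M : Subgroup G)
    (hM : IsCoatom M) :
    ⁅⁅M, M⁆, ⁅M, M⁆⁆ ≤ fittingOf M ∧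
      fittingOf M = (M ⊓ Subgroup.centralizer (fittingHallOf M : Set G)) ⊔ fittingHallOf M ∧
      ((kappa M).Nonempty → fittingOf M ≤ ⁅M, M⁆) := by
  have hAM : fittingHallOf M ≤ M := Cfsg.Agent.Lib.H8.fittingHallOf_le M
  have hAn := Cfsg.Agent.Lib.H8.fittingHallOf_isNilpotent M
  have hAnorm := Cfsg.Agent.Lib.H8.le_normalizer_fittingHallOf M
  have hAF : fittingHallOf M ≤ fittingOf M := le_fittingOf hAM hAnorm hAn
  refine ⟨?_, ?_, fittingOf_le_commutator hG hM⟩
  · -- `M'' ≤ F(M)`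
    by_cases hnil : Group.IsNilpotent ↥(sigmaCore M)
    · have heq := Cfsg.Agent.Lib.H10.BG144.sigmaCore_eq_fittingHallOf hG hM hnil
      exact (commutator_commutator_le_sigmaCore hG hM).trans (heq ▸ hAF)
    · obtain ⟨K, U, hKU⟩ := exists_isSigmaDecomposition hG hM
      have hne : fittingHallOf M ≠ sigmaCore M := by
        intro h
        apply hnil
        rw [← h]
        exact hAn
      have hU := U_eq_bot hG hM hKU hnil
      have hK1 := K_ne_bot hG hM hKU hU
      have hq := h73 M hM K U hKU hK1 hU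
      have c := p1_of_ne hG hM hKU hne hq
      have hcomm := sigmaCore_eq_commutator hG hM hKU hU
      rw [← hcomm]
      exact c.commutator_le_fittingOf
  · -- `F(M) = C_M(M_F) M_F`
    apply le_antisymm (fittingOf_le_sup M)
    apply sup_le _ hAF
    by_cases hnil : Group.IsNilpotent ↥(sigmaCore M)
    · have heq := Cfsg.Agent.Lib.H10.BG144.sigmaCore_eq_fittingHallOf hG hM hnil
      rw [← heq]
      exact centralizer_sigmaCore_le_fittingOf hG hM hnil
    · obtain ⟨K, U, hKU⟩ := exists_isSigmaDecomposition hG hM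
      have hne : fittingHallOf M ≠ sigmaCore M := by
        intro h
        apply hnil
        rw [← h]
        exact hAn
      have hU := U_eq_bot hG hM hKU hnil
      have hK1 := K_ne_bot hG hM hKU hU
      have hq := h73 M hM K U hKU hK1 hU
      have c := p1_of_ne hG hM hKU hne hq
      have hQF := Q_le_fittingHallOf hG hM hKU hne hq
      have hle : M ⊓ Subgroup.centralizer (fittingHallOf M : Set G) ≤
          M ⊓ Subgroup.centralizer ((piCoreOf
            {Nat.card ↥(sigmaCore M ⊓ Subgroup.centralizer (K : Set G))} (sigmaCore M) :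
              Subgroup G) : Set G) :=
        inf_le_inf_left M (Subgroup.centralizer_le (by exact_mod_cast hQF))
      apply le_fittingOf inf_le_left
      · exact Cfsg.Agent.Lib.H10.BG36.le_normalizer_inf Subgroup.le_normalizer
          (Cfsg.Agent.Lib.H10.BG36.le_normalizer_centralizer hAnorm)
      · exact c.nil_of_le_centralizer_Q hle

end Cfsg.Agent.Lib.H10.BG152
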