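import Mathlib

/-! # BG Theorem 15.8 (helper10), part 1: the torus lemma.
A cyclic group `K` of odd order prime to `p` acting on a nonabelian group `P` of order `p ^ 3` and
exponent `p`, trivially on `Z(P)` and with `C_P(k) = Z(P)` for all `k ≠ 1`, has order dividing
`p - 1` or `p + 1`. -/

set_option autoImplicit false
set_option linter.style.haveILetI false
set_option linter.unusedSectionVars false
set_option linter.unusedVariables false
set_option maxHeartbeats 800000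

namespace Cfsg.Agent.Lib.H10.BG158

open scoped commutatorElement

section comm

variable {G : Type*} [Group G]

theorem commutatorElement_pow_left {u v : G} (hu : Commute ⁅u, v⁆ u) (m : ℕ) :
    ⁅u ^ m, v⁆ = ⁅u, v⁆ ^ m := by
  induction m with
  | zero => simp
  | succ m ih =>
    have hc : Commute (⁅u, v⁆ ^ m) u := hu.pow_left m
    have e1 : ⁅u ^ (m + 1), v⁆ = u * ⁅u ^ m, v⁆ * u⁻¹ * ⁅u, v⁆ := by
      simp only [commutatorElement_def, pow_succ']
      group
    rw [e1, ih]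
    have e2 : u * ⁅u, v⁆ ^ m * u⁻¹ = ⁅u, v⁆ ^ m := by
      rw [← hc.eq]; group
    rw [e2, pow_succ]

theorem commutatorElement_pow_right {u v : G} (hv : Commute ⁅u, v⁆ v) (m : ℕ) :
    ⁅u, v ^ m⁆ = ⁅u, v⁆ ^ m := by
  have h1 : ⁅u, v ^ m⁆ = (⁅v ^ m, u⁆)⁻¹ := (commutatorElement_inv _ _).symm
  have h2 : Commute ⁅v, u⁆ v := by
    rw [← commutatorElement_inv u v]
    exact hv.inv_left
  rw [h1, commutatorElement_pow_left h2, ← commutatorElement_inv u v, inv_pow, inv_inv]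

theorem commutatorElement_pow_pow {u v : G} (hu : Commute ⁅u, v⁆ u) (hv : Commute ⁅u, v⁆ v)
    (a b : ℕ) : ⁅u ^ a, v ^ b⁆ = ⁅u, v⁆ ^ (a * b) := by
  have h1 : ⁅u ^ a, v⁆ = ⁅u, v⁆ ^ a := commutatorElement_pow_left hu a
  have h2 : Commute ⁅u ^ a, v⁆ v := by
    rw [h1]; exact hv.pow_left a
  rw [commutatorElement_pow_right h2, h1, pow_mul]

/-- a group acting freely on a finite set has order dividing the size of the set -/
theorem card_dvd_card_of_free {Γ X : Type*} [Group Γ] [MulAction Γ X]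
    (hfree : ∀ (g : Γ) (x : X), g • x = x → g = 1) : Nat.card Γ ∣ Nat.card X := by
  have h : ∀ b : X, MulAction.stabilizer Γ b = ⊥ := by
    intro b
    rw [eq_bot_iff]
    intro g hg
    rw [Subgroup.mem_bot]
    exact hfree g b (MulAction.mem_stabilizer_iff.mp hg)
  have e := MulAction.selfEquivOrbitsQuotientProd h
  rw [Nat.card_congr e, Nat.card_prod]
  exact Dvd.intro_left _ rfl

theorem pow_val_mul {p : ℕ} [Fact p.Prime] {y : G} (hy : y ^ p = 1) (a b : ZMod p) :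
    y ^ (a * b).val = (y ^ a.val) ^ b.val := by
  rw [ZMod.val_mul, ← pow_mul, ← pow_eq_pow_mod _ hy]

end comm

variable {G : Type*} [Group G] [Finite G]

theorem card_lt_card_of_lt {H L : Subgroup G} (h : H < L) : Nat.card H < Nat.card L := by
  have h1 := Subgroup.card_le_of_le h.le
  rcases Nat.lt_or_ge (Nat.card H) (Nat.card L) with h2 | h2
  · exact h2
  · exact absurd (Subgroup.eq_of_le_of_card_ge h.le h2) h.ne

/-- a subgroup acting freely by conjugation on an invariant set has order dividing its size -/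
theorem card_dvd_ncard_of_conj_free (K : Subgroup G) (X : Set G)
    (hinv : ∀ k ∈ K, ∀ s ∈ X, k * s * k⁻¹ ∈ X)
    (hfree : ∀ k ∈ K, ∀ s ∈ X, k * s * k⁻¹ = s → k = 1) : Nat.card K ∣ X.ncard := by
  letI : MulAction ↥K ↥X :=
    { smul := fun k s => ⟨(k : G) * (s : G) * (k : G)⁻¹, hinv k k.2 s s.2⟩
      one_smul := fun s => by
        apply Subtype.ext
        show ((1 : ↥K) : G) * (s : G) * ((1 : ↥K) : G)⁻¹ = s
        simp
      mul_smul := fun a b s => by
        apply Subtype.ext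
        show ((a * b : ↥K) : G) * (s : G) * ((a * b : ↥K) : G)⁻¹ =
          (a : G) * ((b : G) * (s : G) * (b : G)⁻¹) * (a : G)⁻¹
        rw [Subgroup.coe_mul, mul_inv_rev]
        simp only [mul_assoc] }
  have hf : ∀ (k : ↥K) (s : ↥X), k • s = s → k = 1 := by
    intro k s h
    have h1 : (k : G) * (s : G) * (k : G)⁻¹ = s := congrArg Subtype.val h
    exact Subtype.ext (hfree k k.2 s s.2 h1)
  have := card_dvd_card_of_free hf
  rwa [Nat.card_coe_set_eq] at this

/-- the torus configuration. -/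
structure Torus (p : ℕ) (P Z K : Subgroup G) : Prop where
  cardP : Nat.card P = p ^ 3
  exp : ∀ y ∈ P, y ^ p = 1
  nab : ¬ ∀ a ∈ P, ∀ b ∈ P, a * b = b * a
  ZP : Z ≤ P
  cardZ : Nat.card Z = p
  cent : ∀ z ∈ Z, ∀ y ∈ P, z * y = y * z
  KP : K ≤ Subgroup.normalizer (P : Set G)
  odd : Odd (Nat.card K)
  cop : (Nat.card K).Coprime p
  ab : ∀ a ∈ K, ∀ b ∈ K, a * b = b * a
  fix : ∀ k ∈ K, k ≠ 1 → P ⊓ Subgroup.centralizer ({k} : Set G) = Z

namespace Torus

variable {p : ℕ} [hp : Fact p.Prime] {P Z K : Subgroup G}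

theorem isPGroup (t : Torus p P Z K) : IsPGroup p P := IsPGroup.of_card t.cardP

theorem conj_mem (t : Torus p P Z K) {k y : G} (hk : k ∈ K) (hy : y ∈ P) : k * y * k⁻¹ ∈ P :=
  (Subgroup.mem_normalizer_iff.mp (t.KP hk) y).mp hy

/-- `K` centralizes `Z`. -/
theorem comm_Z (t : Torus p P Z K) {k z : G} (hk : k ∈ K) (hz : z ∈ Z) : k * z = z * k := by
  by_cases hk1 : k = 1
  · rw [hk1, one_mul, mul_one]
  · have h1 : z ∈ P ⊓ Subgroup.centralizer ({k} : Set G) := by rw [t.fix k hk hk1]; exact hz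
    exact (Subgroup.mem_centralizer_iff.mp h1.2) k (Set.mem_singleton k)

theorem eq_of_chain (t : Torus p P Z K) {L H : Subgroup G} (hZL : Z < L) (hLH : L < H)
    (hHP : H ≤ P) : H = P := by
  apply Subgroup.eq_of_le_of_card_ge hHP
  obtain ⟨a, ha⟩ := IsPGroup.iff_card.mp (t.isPGroup.to_le (hLH.le.trans hHP))
  obtain ⟨b, hb⟩ := IsPGroup.iff_card.mp (t.isPGroup.to_le hHP)
  have h1 := card_lt_card_of_lt hZL
  have h2 := card_lt_card_of_lt hLH
  rw [t.cardZ, ha] at h1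
  rw [ha, hb] at h2
  have hp1 : 1 < p := hp.out.one_lt
  have ha2 : 1 < a := by
    have : p ^ 1 < p ^ a := by rwa [pow_one]
    exact (Nat.pow_lt_pow_iff_right hp1).mp this
  have hb3 : a < b := (Nat.pow_lt_pow_iff_right hp1).mp h2
  rw [t.cardP, hb]
  exact Nat.pow_le_pow_right hp.out.pos (by omega)

theorem ne_one_of_not_mem (t : Torus p P Z K) {y : G} (hyZ : y ∉ Z) : y ≠ 1 := by
  rintro rfl
  exact hyZ Z.one_mem

theorem orderOf_eq (t : Torus p P Z K) {y : G} (hy : y ∈ P) (hyZ : y ∉ Z) : orderOf y = p :=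
  orderOf_eq_prime (t.exp y hy) (t.ne_one_of_not_mem hyZ)

/-- a nonidentity element of `⟨y⟩` generates `⟨y⟩`. -/
theorem mem_zpowers_of_mem (t : Torus p P Z K) {y s : G} (hy : y ∈ P) (hyZ : y ∉ Z)
    (hs : s ∈ Subgroup.zpowers y) (hs1 : s ≠ 1) : y ∈ Subgroup.zpowers s := by
  have hc : Nat.card (Subgroup.zpowers y) = p := by
    rw [Nat.card_zpowers, t.orderOf_eq hy hyZ]
  have h1 : (⟨s, hs⟩ : Subgroup.zpowers y) ≠ 1 := fun h => hs1 (congrArg Subtype.val h)
  have h2 : (⟨y, Subgroup.mem_zpowers y⟩ : Subgroup.zpowers y) ∈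
      Subgroup.zpowers (⟨s, hs⟩ : Subgroup.zpowers y) := by
    exact mem_zpowers_of_prime_card (p := p) hc h1
  obtain ⟨i, hi⟩ := Subgroup.mem_zpowers_iff.mp h2
  rw [Subgroup.mem_zpowers_iff]
  refine ⟨i, ?_⟩
  have := congrArg Subtype.val hi
  simpa using this

theorem not_mem_Z_of_mem_zpowers (t : Torus p P Z K) {y s : G} (hy : y ∈ P) (hyZ : y ∉ Z)
    (hs : s ∈ Subgroup.zpowers y) (hs1 : s ≠ 1) : s ∉ Z := by
  intro hsZ
  apply hyZ
  have := t.mem_zpowers_of_mem hy hyZ hs hs1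
  exact (Subgroup.zpowers_le.mpr hsZ) this

/-- `C_P(y) = Z ⟨y⟩` for `y ∉ Z`. -/
theorem mem_sup_of_comm (t : Torus p P Z K) {y y' : G} (hy : y ∈ P) (hyZ : y ∉ Z)
    (hy' : y' ∈ P) (hc : y * y' = y' * y) : y' ∈ Z ⊔ Subgroup.zpowers y := by
  by_contra hn
  apply t.nab
  set L := Z ⊔ Subgroup.zpowers y with hL
  set H := L ⊔ Subgroup.zpowers y' with hH
  have hyL : y ∈ L := (le_sup_right : Subgroup.zpowers y ≤ L) (Subgroup.mem_zpowers y)
  have hy'H : y' ∈ H := (le_sup_right : Subgroup.zpowers y' ≤ H) (Subgroup.mem_zpowers y')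
  have hZL : Z < L := lt_of_le_of_ne le_sup_left (fun h => hyZ (h ▸ hyL))
  have hLH : L < H := lt_of_le_of_ne le_sup_left (fun h => hn (h ▸ hy'H))
  have hLP : L ≤ P := sup_le t.ZP (Subgroup.zpowers_le.mpr hy)
  have hHP : H ≤ P := sup_le hLP (Subgroup.zpowers_le.mpr hy')
  have hHeq : H = P := t.eq_of_chain hZL hLH hHP
  -- every element of `P` commuting with `Z`, `y`, `y'` elementwise: centralizer contains `H`
  have key : ∀ a : G, (∀ z ∈ Z, a * z = z * a) → a * y = y * a → a * y' = y' * a →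
      ∀ b ∈ P, a * b = b * a := by
    intro a h1 h2 h3 b hb
    have hle : H ≤ Subgroup.centralizer ({a} : Set G) := by
      apply sup_le (sup_le _ _) _
      · intro z hz
        exact Subgroup.mem_centralizer_singleton_iff.mpr (h1 z hz).symm
      · rw [Subgroup.zpowers_le]
        exact Subgroup.mem_centralizer_singleton_iff.mpr h2.symm
      · rw [Subgroup.zpowers_le]
        exact Subgroup.mem_centralizer_singleton_iff.mpr h3.symm
    rw [hHeq] at hle
    exact (Subgroup.mem_centralizer_singleton_iff.mp (hle hb)).symm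
  have hyc : ∀ b ∈ P, y * b = b * y :=
    key y (fun z hz => (t.cent z hz y hy).symm) rfl hc
  have hy'c : ∀ b ∈ P, y' * b = b * y' :=
    key y' (fun z hz => (t.cent z hz y' hy').symm) hc.symm rfl
  intro a ha b hb
  exact key a (fun z hz => (t.cent z hz a ha).symm) (hyc a ha).symm (hy'c a ha).symm b hb

/-- commutators of `P` lie in `Z`. -/
theorem comm_mem (t : Torus p P Z K) {u v : G} (hu : u ∈ P) (hv : v ∈ P) : ⁅u, v⁆ ∈ Z := by
  haveI : (Z.subgroupOf P).Normal := by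
    constructor
    intro n hn g
    rw [Subgroup.mem_subgroupOf] at hn ⊢
    have h1 := t.cent (n : G) hn (g : G) g.2
    have : ((g * n * g⁻¹ : ↥P) : G) = (n : G) := by
      rw [Subgroup.coe_mul, Subgroup.coe_mul, Subgroup.coe_inv, ← h1]
      group
    rw [this]; exact hn
  have hcZ : Nat.card (Z.subgroupOf P) = p := by
    rw [← t.cardZ]
    exact Nat.card_congr (Subgroup.subgroupOfEquivOfLe t.ZP).toEquiv
  have hcard : Nat.card (↥P ⧸ Z.subgroupOf P) = p ^ 2 := by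
    have h1 := Subgroup.card_eq_card_quotient_mul_card_subgroup (Z.subgroupOf P)
    rw [t.cardP, hcZ] at h1
    have hp0 : 0 < p := hp.out.pos
    have : p ^ 2 * p = Nat.card (↥P ⧸ Z.subgroupOf P) * p := by rw [← h1]; ring
    exact (Nat.eq_of_mul_eq_mul_right hp0 this).symm
  have hcomm : ∀ a b : ↥P ⧸ Z.subgroupOf P, a * b = b * a :=
    (IsPGroup.isMulCommutative_of_card_eq_prime_sq hcard).is_comm.comm
  have h1 : (QuotientGroup.mk' (Z.subgroupOf P)) ⁅(⟨u, hu⟩ : ↥P), ⟨v, hv⟩⁆ = 1 := by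
    rw [map_commutatorElement, commutatorElement_eq_one_iff_mul_comm]
    exact hcomm _ _
  have h2 : ⁅(⟨u, hu⟩ : ↥P), ⟨v, hv⟩⁆ ∈ Z.subgroupOf P := by
    rwa [← QuotientGroup.ker_mk' (Z.subgroupOf P), MonoidHom.mem_ker]
  exact h2

theorem sq_ne_one (t : Torus p P Z K) {k : G} (hk : k ∈ K) (hk1 : k ≠ 1) : k ^ 2 ≠ 1 := by
  intro h
  apply hk1
  have h1 : orderOf k ∣ 2 := orderOf_dvd_of_pow_eq_one h
  have h2 : orderOf k ∣ Nat.card K := by
    have := orderOf_dvd_natCard (⟨k, hk⟩ : K)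
    rwa [← Subgroup.orderOf_coe] at this
  have h3 : orderOf k ∣ Nat.gcd 2 (Nat.card K) := Nat.dvd_gcd h1 h2
  have h4 : Nat.gcd 2 (Nat.card K) = 1 := by
    rw [Nat.coprime_two_left.mpr t.odd]
  rw [h4, Nat.dvd_one, orderOf_eq_one_iff] at h3
  exact h3

/-- if some `k ≠ 1` normalizes `⟨y⟩`, `y ∉ Z`, then all of `K` does. -/
theorem normalizes_of_normalizes (t : Torus p P Z K) {k y : G} (hk : k ∈ K) (hk1 : k ≠ 1)
    (hy : y ∈ P) (hyZ : y ∉ Z) (hky : k * y * k⁻¹ ∈ Subgroup.zpowers y) {k' : G} (hk' : k' ∈ K) :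
    k' * y * k'⁻¹ ∈ Subgroup.zpowers y := by
  obtain ⟨a, ha⟩ : ∃ a : ℕ, y ^ a = k * y * k⁻¹ := by
    have h0 : k * y * k⁻¹ ∈ Submonoid.powers y := mem_powers_iff_mem_zpowers.mpr hky
    exact (Submonoid.mem_powers_iff _ _).mp h0
  set y' := k' * y * k'⁻¹ with hy'def
  have hy'P : y' ∈ P := t.conj_mem hk' hy
  -- `k y' k⁻¹ = y' ^ a`
  have hky' : k * y' * k⁻¹ = y' ^ a := by
    have hcomm : k * k' = k' * k := t.ab k hk k' hk'
    have h1 : k * y' * k⁻¹ = k' * (k * y * k⁻¹) * k'⁻¹ := by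
      rw [hy'def]
      calc k * (k' * y * k'⁻¹) * k⁻¹ = (k * k') * y * (k * k')⁻¹ := by group
        _ = (k' * k) * y * (k' * k)⁻¹ := by rw [hcomm]
        _ = k' * (k * y * k⁻¹) * k'⁻¹ := by group
    rw [h1, ← ha, hy'def, conj_pow]
  -- `k` does not centralize `y`
  have hnc : k * y * k⁻¹ ≠ y := by
    intro h
    apply hyZ
    rw [← t.fix k hk hk1]
    refine ⟨hy, Subgroup.mem_centralizer_singleton_iff.mpr ?_⟩
    calc y * k = (k * y * k⁻¹) * k := by rw [h]
      _ = k * y := by group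
  by_contra hn
  by_cases hc : y * y' = y' * y
  · -- `y' = z y^j`
    have h1 := t.mem_sup_of_comm hy hyZ hy'P hc
    have hZn : Subgroup.zpowers y ≤ Subgroup.normalizer (Z : Set G) := by
      rw [Subgroup.zpowers_le, Subgroup.mem_normalizer_iff]
      intro z
      constructor
      · intro hz
        have := t.cent z hz y hy
        have e : y * z * y⁻¹ = z := by rw [← this]; group
        rw [e]; exact hz
      · intro hz
        have := t.cent _ hz y⁻¹ (P.inv_mem hy)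
        have e : z = y⁻¹ * (y * z * y⁻¹) * y := by group
        rw [e, ← this]
        have e2 : y * z * y⁻¹ * y⁻¹ * y = y * z * y⁻¹ := by group
        rw [e2]; exact hz
    have hcoe := Subgroup.coe_mul_of_right_le_normalizer_left Z (Subgroup.zpowers y) hZn
    have h2 : y' ∈ ((Z ⊔ Subgroup.zpowers y : Subgroup G) : Set G) := h1
    rw [hcoe] at h2
    obtain ⟨z, hz, s, hs, hzs⟩ := h2
    have hzs' : y' = z * s := hzs.symm
    obtain ⟨j, hj⟩ := Subgroup.mem_zpowers_iff.mp hs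
    -- `k (z s) k⁻¹ = z s^a` and `(z s)^a = z^a s^a`
    have hsP : s ∈ P := (Subgroup.zpowers_le.mpr hy) hs
    have hks : k * s * k⁻¹ = s ^ a := by
      rw [← hj]
      have : k * y ^ j * k⁻¹ = (k * y * k⁻¹) ^ j := by rw [conj_zpow]
      rw [this, ← ha, ← zpow_natCast, ← zpow_natCast, ← zpow_mul, ← zpow_mul, mul_comm]
    have hkz : k * z * k⁻¹ = z := by
      have := t.comm_Z hk hz
      rw [this]; group
    have hzs_comm : Commute z s := t.cent z hz s hsP
    have e1 : k * y' * k⁻¹ = z * s ^ a := by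
      rw [hzs']
      calc k * (z * s) * k⁻¹ = (k * z * k⁻¹) * (k * s * k⁻¹) := by group
        _ = z * s ^ a := by rw [hkz, hks]
    have e2 : y' ^ a = z ^ a * s ^ a := by
      rw [hzs', hzs_comm.mul_pow]
    rw [hky', e2] at e1
    have e3 : z ^ a = z := mul_right_cancel e1
    -- `z = 1`
    have hz1 : z = 1 := by
      by_contra hz1
      apply hnc
      have hzo : orderOf z = p := by
        have hzp : z ^ p = 1 := t.exp z (t.ZP hz)
        exact orderOf_eq_prime hzp hz1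
      have h3 : z ^ a = z ^ 1 := by rw [e3, pow_one]
      have h4 := pow_eq_pow_iff_modEq.mp h3
      rw [hzo] at h4
      have h5 : y ^ a = y ^ 1 := by
        rw [pow_eq_pow_iff_modEq, t.orderOf_eq hy hyZ]
        exact h4
      rw [← ha, h5, pow_one]
    apply hn
    rw [hzs', hz1, one_mul]
    exact hs
  · -- `c = [y, y'] ≠ 1`
    set c := ⁅y, y'⁆ with hcdef
    have hcZ : c ∈ Z := t.comm_mem hy hy'P
    have hc1 : c ≠ 1 := by
      intro h
      exact hc (commutatorElement_eq_one_iff_mul_comm.mp h)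
    have hcu : Commute c y := t.cent c hcZ y hy
    have hcv : Commute c y' := t.cent c hcZ y' hy'P
    have h1 : ⁅y ^ a, y' ^ a⁆ = c ^ (a * a) := commutatorElement_pow_pow hcu hcv a a
    have h2 : k * c * k⁻¹ = ⁅y ^ a, y' ^ a⁆ := by
      rw [ha, ← hky', hcdef]
      simp only [commutatorElement_def]
      group
    have h3 : k * c * k⁻¹ = c := by
      have := t.comm_Z hk hcZ
      rw [this]; group
    have hco : orderOf c = p := orderOf_eq_prime (t.exp c (t.ZP hcZ)) hc1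
    have h4 : c ^ (a * a) = c ^ 1 := by rw [← h1, ← h2, h3, pow_one]
    have h5 := pow_eq_pow_iff_modEq.mp h4
    rw [hco] at h5
    have h6 : y ^ (a * a) = y := by
      have : y ^ (a * a) = y ^ 1 := by
        rw [pow_eq_pow_iff_modEq, t.orderOf_eq hy hyZ]; exact h5
      rw [this, pow_one]
    -- `k² y k⁻² = y`
    have h7 : k ^ 2 * y * (k ^ 2)⁻¹ = y := by
      calc k ^ 2 * y * (k ^ 2)⁻¹ = k * (k * y * k⁻¹) * k⁻¹ := by
            rw [pow_two, mul_inv_rev]; simp only [mul_assoc]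
        _ = k * y ^ a * k⁻¹ := by rw [ha]
        _ = (k * y * k⁻¹) ^ a := by rw [conj_pow]
        _ = (y ^ a) ^ a := by rw [ha]
        _ = y := by rw [← pow_mul, h6]
    apply hyZ
    rw [← t.fix (k ^ 2) (K.pow_mem hk 2) (t.sq_ne_one hk hk1)]
    refine ⟨hy, Subgroup.mem_centralizer_singleton_iff.mpr ?_⟩
    calc y * k ^ 2 = (k ^ 2 * y * (k ^ 2)⁻¹) * k ^ 2 := by rw [h7]
      _ = k ^ 2 * y := by group

/-- **case (a)**: if some nontrivial element of `K` normalizes some `⟨y⟩`, `y ∈ P ∖ Z`, then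
`|K| ∣ p - 1`. -/
theorem dvd_pred_of_normalizes (t : Torus p P Z K) {k y : G} (hk : k ∈ K) (hk1 : k ≠ 1)
    (hy : y ∈ P) (hyZ : y ∉ Z) (hky : k * y * k⁻¹ ∈ Subgroup.zpowers y) :
    Nat.card K ∣ p - 1 := by
  have hyo : orderOf y = p := t.orderOf_eq hy hyZ
  have hinv : ∀ k' ∈ K, ∀ s ∈ ((Subgroup.zpowers y : Set G) \ {1}),
      k' * s * k'⁻¹ ∈ ((Subgroup.zpowers y : Set G) \ {1}) := by
    intro k' hk' s hs
    refine ⟨?_, ?_⟩
    · obtain ⟨i, hi⟩ := Subgroup.mem_zpowers_iff.mp hs.1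
      have h1 : k' * s * k'⁻¹ = (k' * y * k'⁻¹) ^ i := by rw [conj_zpow, hi]
      show k' * s * k'⁻¹ ∈ Subgroup.zpowers y
      rw [h1]
      exact (Subgroup.zpowers y).zpow_mem (t.normalizes_of_normalizes hk hk1 hy hyZ hky hk') i
    · intro h
      apply hs.2
      have h2 : k' * s * k'⁻¹ = 1 := h
      have : s = k'⁻¹ * (k' * s * k'⁻¹) * k' := by group
      rw [this, h2]; simp
  have hfree : ∀ k' ∈ K, ∀ s ∈ ((Subgroup.zpowers y : Set G) \ {1}),
      k' * s * k'⁻¹ = s → k' = 1 := by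
    intro k' hk' s hs h
    by_contra hk'1
    have hsZ : s ∉ Z := t.not_mem_Z_of_mem_zpowers hy hyZ hs.1 (fun h1 => hs.2 h1)
    apply hsZ
    rw [← t.fix k' hk' hk'1]
    refine ⟨(Subgroup.zpowers_le.mpr hy) hs.1, Subgroup.mem_centralizer_singleton_iff.mpr ?_⟩
    calc s * k' = (k' * s * k'⁻¹) * k' := by rw [h]
      _ = k' * s := by group
  have h1 := card_dvd_ncard_of_conj_free K _ hinv hfree
  have h2 : ((Subgroup.zpowers y : Set G) \ {1}).ncard = p - 1 := by
    rw [Set.ncard_sdiff_singleton_of_mem (Subgroup.zpowers y).one_mem]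
    have : (Subgroup.zpowers y : Set G).ncard = p := by
      rw [← hyo, ← Nat.card_zpowers]; rfl
    rw [this]
  rwa [h2] at h1

/-- the set `P ∖ Z`. -/
theorem ncard_diff (t : Torus p P Z K) : ((P : Set G) \ (Z : Set G)).ncard = p ^ 3 - p := by
  rw [Set.ncard_sdiff (fun z hz => t.ZP hz) (Set.toFinite _)]
  have h1 : (P : Set G).ncard = p ^ 3 := by rw [← t.cardP]; rfl
  have h2 : (Z : Set G).ncard = p := by rw [← t.cardZ]; rfl
  rw [h1, h2]

theorem pow_val_not_mem (t : Torus p P Z K) {y : G} (hy : y ∈ P) (hyZ : y ∉ Z) (c : (ZMod p)ˣ) :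
    y ^ (c : ZMod p).val ∉ Z := by
  apply t.not_mem_Z_of_mem_zpowers hy hyZ (Subgroup.npow_mem_zpowers y _)
  intro h
  have h1 : orderOf y ∣ (c : ZMod p).val := orderOf_dvd_of_pow_eq_one h
  rw [t.orderOf_eq hy hyZ] at h1
  have h2 : ((c : ZMod p).val : ZMod p) = 0 := (ZMod.natCast_eq_zero_iff _ _).mpr h1
  rw [ZMod.natCast_zmod_val] at h2
  exact c.ne_zero h2

theorem conj_not_mem (t : Torus p P Z K) {k s : G} (hk : k ∈ K) (hsZ : s ∉ Z) :
    k * s * k⁻¹ ∉ Z := by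
  intro h
  apply hsZ
  have h1 := t.comm_Z (K.inv_mem hk) h
  have h2 : s = k⁻¹ * (k * s * k⁻¹) * k := by group
  rw [h2, h1]
  have : k * s * k⁻¹ * k⁻¹ * k = k * s * k⁻¹ := by group
  rw [this]; exact h

/-- the action of `K × (ZMod p)ˣ` on `P ∖ Z`. -/
@[instance_reducible] def act (t : Torus p P Z K) : MulAction (↥K × (ZMod p)ˣ) ↥((P : Set G) \ (Z : Set G)) where
  smul g y := ⟨(g.1 : G) * (y : G) ^ (g.2 : ZMod p).val * (g.1 : G)⁻¹,
    t.conj_mem g.1.2 (P.pow_mem y.2.1 _), t.conj_not_mem g.1.2 (t.pow_val_not_mem y.2.1 y.2.2 g.2)⟩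
  one_smul y := by
    apply Subtype.ext
    show ((1 : ↥K) : G) * (y : G) ^ ((1 : (ZMod p)ˣ) : ZMod p).val * ((1 : ↥K) : G)⁻¹ = y
    rw [Units.val_one, ZMod.val_one'' hp.out.ne_one]
    simp
  mul_smul g h y := by
    apply Subtype.ext
    show ((g * h).1 : G) * (y : G) ^ ((g * h).2 : ZMod p).val * ((g * h).1 : G)⁻¹ =
      (g.1 : G) * ((h.1 : G) * (y : G) ^ (h.2 : ZMod p).val * (h.1 : G)⁻¹) ^ (g.2 : ZMod p).val *
        (g.1 : G)⁻¹
    have hyp : (y : G) ^ p = 1 := t.exp _ y.2.1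
    have h1 : (((g * h).2 : (ZMod p)ˣ) : ZMod p) = (h.2 : ZMod p) * (g.2 : ZMod p) := by
      rw [Prod.snd_mul, Units.val_mul, mul_comm]
    rw [h1, pow_val_mul hyp, conj_pow, Prod.fst_mul, Subgroup.coe_mul, mul_inv_rev]
    simp only [mul_assoc]

/-- **case (b)**: if no nontrivial element of `K` normalizes a `⟨y⟩`, `y ∈ P ∖ Z`, then
`|K| ∣ p + 1`. -/
theorem dvd_succ_of_free (t : Torus p P Z K)
    (hfree : ∀ k ∈ K, ∀ y ∈ P, y ∉ Z → k * y * k⁻¹ ∈ Subgroup.zpowers y → k = 1) :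
    Nat.card K ∣ p + 1 := by
  letI := t.act
  have hsm : ∀ (g : ↥K × (ZMod p)ˣ) (y : ↥((P : Set G) \ (Z : Set G))),
      ((g • y : ↥((P : Set G) \ (Z : Set G))) : G) =
        (g.1 : G) * (y : G) ^ (g.2 : ZMod p).val * (g.1 : G)⁻¹ := fun g y => rfl
  have hf : ∀ (g : ↥K × (ZMod p)ˣ) (y : ↥((P : Set G) \ (Z : Set G))), g • y = y → g = 1 := by
    intro g y h
    have h0 : (g.1 : G) * (y : G) ^ (g.2 : ZMod p).val * (g.1 : G)⁻¹ = y := by
      rw [← hsm, h]
    have hyP : (y : G) ∈ P := y.2.1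
    have hyZ : (y : G) ∉ Z := y.2.2
    -- `y = (k y k⁻¹) ^ c`
    have h1 : ((g.1 : G) * (y : G) * (g.1 : G)⁻¹) ^ (g.2 : ZMod p).val = y := by
      rw [conj_pow]; exact h0
    have hy'P : (g.1 : G) * (y : G) * (g.1 : G)⁻¹ ∈ P := t.conj_mem g.1.2 hyP
    have hy'Z : (g.1 : G) * (y : G) * (g.1 : G)⁻¹ ∉ Z := t.conj_not_mem g.1.2 hyZ
    have h2 : (y : G) ∈ Subgroup.zpowers ((g.1 : G) * (y : G) * (g.1 : G)⁻¹) := by
      have h2' := Subgroup.npow_mem_zpowers ((g.1 : G) * (y : G) * (g.1 : G)⁻¹)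
        (g.2 : ZMod p).val
      rwa [h1] at h2'
    have h3 : (g.1 : G) * (y : G) * (g.1 : G)⁻¹ ∈ Subgroup.zpowers (y : G) :=
      t.mem_zpowers_of_mem hy'P hy'Z h2 (t.ne_one_of_not_mem hyZ)
    have hg1 : (g.1 : G) = 1 := hfree _ g.1.2 _ hyP hyZ h3
    have h4 : (y : G) ^ (g.2 : ZMod p).val = (y : G) ^ 1 := by
      rw [hg1] at h0
      simpa using h0
    have h5 := pow_eq_pow_iff_modEq.mp h4
    rw [t.orderOf_eq hyP hyZ] at h5
    have h6 : (((g.2 : ZMod p).val : ℕ) : ZMod p) = ((1 : ℕ) : ZMod p) :=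
      (ZMod.natCast_eq_natCast_iff _ _ _).mpr h5
    rw [ZMod.natCast_zmod_val, Nat.cast_one] at h6
    apply Prod.ext
    · exact Subtype.ext hg1
    · exact Units.ext h6
  have h1 := card_dvd_card_of_free hf
  rw [Nat.card_prod, Nat.card_coe_set_eq, t.ncard_diff, Nat.card_eq_fintype_card (α := (ZMod p)ˣ),
    ZMod.card_units] at h1
  have hp1 : 1 < p := hp.out.one_lt
  have e : p ^ 3 - p = (p * (p + 1)) * (p - 1) := by
    obtain ⟨q, rfl⟩ : ∃ q, p = q + 1 := ⟨p - 1, by omega⟩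
    simp only [Nat.add_sub_cancel]
    have : (q + 1) ^ 3 = (q + 1) * (q + 1 + 1) * q + (q + 1) := by ring
    rw [this, Nat.add_sub_cancel]
  rw [e] at h1
  have h2 : Nat.card K ∣ p * (p + 1) :=
    Nat.dvd_of_mul_dvd_mul_right (by omega : 0 < p - 1) h1
  exact (Nat.Coprime.dvd_mul_left t.cop).mp h2

/-- **The torus lemma.** -/
theorem main (t : Torus p P Z K) : Nat.card K ∣ p - 1 ∨ Nat.card K ∣ p + 1 := by
  by_cases h : ∀ k ∈ K, ∀ y ∈ P, y ∉ Z → k * y * k⁻¹ ∈ Subgroup.zpowers y → k = 1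
  · exact Or.inr (t.dvd_succ_of_free h)
  · left
    simp only [not_forall] at h
    obtain ⟨k, hk, y, hy, hyZ, hky, hk1⟩ := h
    exact t.dvd_pred_of_normalizes hk hk1 hy hyZ hky

end Torus

end Cfsg.Agent.Lib.H10.BG158
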