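import Mathlib
import Cfsg.Agent.Lib.H10.BG158a
import Cfsg.Agent.Lib.H16.NarrowFit
import Cfsg.Agent.Lib.H16.NarrowAutE
import Cfsg.Agent.Lib.H16.NarrowMaxSq
import Cfsg.Agent.Lib.H7.BG138b
import Cfsg.Agent.Lib.H1.FpfAction
import Cfsg.Agent.S1412

/-! # BG Theorem 15.8 (helper10), part 2: the `p`-group lemmas `not_pow` and `exceptional`. -/

set_option autoImplicit false
set_option linter.style.haveILetI false
set_option linter.unusedSectionVars false
set_option linter.unusedVariables false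
set_option maxHeartbeats 800000

namespace Cfsg.Agent.Lib.H10.BG158

open scoped commutatorElement
open Cfsg.Agent.Lib.H16 Cfsg.Agent.Lib.H16.Narrow

universe u

section abstract

variable {R : Type u} [Group R] [Finite R] {p : ℕ} [hp : Fact p.Prime]

/-- an element `s ≠ 1` of a group `⟨y⟩` of prime order generates it. -/
theorem mem_zpowers_of_mem_zpowers_prime {X : Type*} [Group X] {y s : X} (hy : orderOf y = p)
    (hs : s ∈ Subgroup.zpowers y) (hs1 : s ≠ 1) : y ∈ Subgroup.zpowers s := by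
  have hc : Nat.card (Subgroup.zpowers y) = p := by rw [Nat.card_zpowers, hy]
  have h1 : (⟨s, hs⟩ : Subgroup.zpowers y) ≠ 1 := fun h => hs1 (congrArg Subtype.val h)
  have h2 : (⟨y, Subgroup.mem_zpowers y⟩ : Subgroup.zpowers y) ∈
      Subgroup.zpowers (⟨s, hs⟩ : Subgroup.zpowers y) :=
    mem_zpowers_of_prime_card (p := p) hc h1
  obtain ⟨i, hi⟩ := Subgroup.mem_zpowers_iff.mp h2
  rw [Subgroup.mem_zpowers_iff]
  refine ⟨i, ?_⟩
  have := congrArg Subtype.val hi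
  simpa using this

/-- `x` of order `p` outside `N`, `w ^ p ∈ N ∩ ⟨x⟩` forces `w ^ p = 1`. -/
theorem pow_eq_one_of_not_mem {X : Type*} [Group X] {x : X} (hx : orderOf x = p) (N : Subgroup X)
    (hxN : x ∉ N) {w : X} (hwN : w ^ p ∈ N) (hw : w ^ p ∈ Subgroup.zpowers x) : w ^ p = 1 := by
  by_contra h1
  exact hxN ((Subgroup.zpowers_le.mpr hwN) (mem_zpowers_of_mem_zpowers_prime hx hw h1))

/-- variant of `exists_maxSq_of_centralizer` remembering `x ∈ B`. -/
theorem exists_maxSq_mem (hp2 : p ≠ 2) (hR : IsPGroup p R) (hr : ¬ Cfsg.PRankLE p 2 R) (x : R)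
    (hx : x ^ p = 1)
    (hC : ∀ B : Subgroup R, Cfsg.IsElementaryAbelian p B →
      B ≤ Subgroup.centralizer ({x} : Set R) → Nat.card B ≤ p ^ 2) :
    ∃ B : Subgroup R, MaxSq R p B ∧ x ∈ B := by
  set E : Subgroup R := Subgroup.zpowers x with hEdef
  have hE : Cfsg.IsElementaryAbelian p E := by
    refine ⟨inferInstance, ?_⟩
    intro a ha
    obtain ⟨i, rfl⟩ := Subgroup.mem_zpowers_iff.mp ha
    rw [← zpow_natCast, ← zpow_mul, mul_comm, zpow_mul, zpow_natCast, hx, one_zpow]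
  have hex : ∃ n : ℕ, ∃ B : Subgroup R, Cfsg.IsElementaryAbelian p B ∧ E ≤ B ∧ Nat.card B = n :=
    ⟨_, E, hE, le_rfl, rfl⟩
  have hbdd : ∀ n : ℕ, (∃ B : Subgroup R, Cfsg.IsElementaryAbelian p B ∧ E ≤ B ∧ Nat.card B = n) →
      n ≤ Nat.card R := by
    rintro n ⟨B, -, -, rfl⟩
    exact Subgroup.card_le_card_group B
  classical
  obtain ⟨B, hB, hEB, hBcard⟩ := Nat.findGreatest_spec (P := fun n => ∃ B : Subgroup R,
    Cfsg.IsElementaryAbelian p B ∧ E ≤ B ∧ Nat.card B = n) (hbdd _ hex.choose_spec) hex.choose_spec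
  have hBmax : ∀ B' : Subgroup R, Cfsg.IsElementaryAbelian p B' → B ≤ B' → B' = B := by
    intro B' hB' hBB'
    have h1 : Nat.card B' ≤ Nat.findGreatest (fun n => ∃ B : Subgroup R,
        Cfsg.IsElementaryAbelian p B ∧ E ≤ B ∧ Nat.card B = n) (Nat.card R) :=
      Nat.le_findGreatest (Subgroup.card_le_card_group B') ⟨B', hB', hEB.trans hBB', rfl⟩
    rw [← hBcard] at h1
    exact (Subgroup.eq_of_le_of_card_ge hBB' h1).symm
  have hxB : x ∈ B := hEB (Subgroup.mem_zpowers x)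
  have hBC : B ≤ Subgroup.centralizer ({x} : Set R) := by
    intro b hb
    rw [Subgroup.mem_centralizer_singleton_iff]
    exact congrArg Subtype.val (hB.1.is_comm.comm (⟨b, hb⟩ : B) ⟨x, hxB⟩)
  exact ⟨B, maxSq_of_maximal hp2 hR hr B hB hBmax (hC B hB hBC), hxB⟩

theorem not_mem_cent_of_not_central {B : Subgroup R} (h : MaxSq R p B) {x : R} (hxB : x ∈ B)
    (hxc : x ∉ Subgroup.center R) : x ∉ Subgroup.centralizer (omegaZ2 R p : Set R) := by
  intro hT
  have h1 : x ∈ B ⊓ Subgroup.centralizer (omegaZ2 R p : Set R) := ⟨hxB, hT⟩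
  rw [h.inf_centralizer] at h1
  exact hxc (omegaCenter_le_center p h1)

theorem pow_mem_cent {B : Subgroup R} (h : MaxSq R p B) (w : R) :
    w ^ p ∈ Subgroup.centralizer (omegaZ2 R p : Set R) := by
  have h1 := Subgroup.pow_index_mem (Subgroup.centralizer (omegaZ2 R p : Set R)) w
  rwa [h.index_centralizer] at h1

/-- **(B1), rank at least three.** -/
theorem not_pow_of_maxSq {B : Subgroup R} (h : MaxSq R p B) {x : R} (hxB : x ∈ B)
    (hxo : orderOf x = p) (hxc : x ∉ Subgroup.center R) {w : R}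
    (hw : w ^ p ∈ Subgroup.zpowers x) : w ^ p = 1 :=
  pow_eq_one_of_not_mem hxo _ (not_mem_cent_of_not_central h hxB hxc) (pow_mem_cent h w) hw

end abstract

section glevel

variable {G : Type*} [Group G] [Finite G] {p : ℕ} [hp : Fact p.Prime]

/-- the conclusion of S1412 (rank at most two, nonabelian). -/
structure RankTwo (p : ℕ) (P P₁ P₂ : Subgroup G) : Prop where
  sup : P₁ ⊔ P₂ = P
  comm : ∀ a ∈ P₁, ∀ b ∈ P₂, a * b = b * a
  nab : ¬ IsMulCommutative P₁
  card : Nat.card P₁ = p ^ 3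
  exp : Monoid.exponent P₁ = p
  cyc : IsCyclic P₂
  om : Subgroup.closure {x : G | x ∈ P₂ ∧ x ^ p = 1} = P₁ ⊓ Subgroup.centralizer (P₁ : Set G)

namespace RankTwo

variable {P P₁ P₂ : Subgroup G}

theorem le₁ (h : RankTwo p P P₁ P₂) : P₁ ≤ P := h.sup ▸ le_sup_left

theorem le₂ (h : RankTwo p P P₁ P₂) : P₂ ≤ P := h.sup ▸ le_sup_right

theorem exists_mul (h : RankTwo p P P₁ P₂) {y : G} (hy : y ∈ P) :
    ∃ a ∈ P₁, ∃ b ∈ P₂, a * b = y :=
  exists_mul_of_mem_sup h.comm (h.sup ▸ hy)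

theorem comm₂ (h : RankTwo p P P₁ P₂) : ∀ a ∈ P₂, ∀ b ∈ P₂, a * b = b * a := by
  haveI := h.cyc
  intro a ha b hb
  have := (IsCyclic.commGroup (α := ↥P₂)).mul_comm ⟨a, ha⟩ ⟨b, hb⟩
  exact congrArg Subtype.val this

theorem central (h : RankTwo p P P₁ P₂) {b : G} (hb : b ∈ P₂) {y : G} (hy : y ∈ P) :
    b * y = y * b := by
  obtain ⟨a, ha, b', hb', rfl⟩ := h.exists_mul hy
  rw [← mul_assoc, ← h.comm a ha b hb, mul_assoc, h.comm₂ b hb b' hb', ← mul_assoc]

theorem pow₁ (h : RankTwo p P P₁ P₂) {a : G} (ha : a ∈ P₁) : a ^ p = 1 := by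
  have := Monoid.pow_exponent_eq_one (⟨a, ha⟩ : ↥P₁)
  rw [h.exp] at this
  exact congrArg Subtype.val this

theorem pow_mem (h : RankTwo p P P₁ P₂) {w : G} (hw : w ∈ P) : w ^ p ∈ P₂ := by
  obtain ⟨a, ha, b, hb, rfl⟩ := h.exists_mul hw
  have hc : Commute a b := h.comm a ha b hb
  rw [hc.mul_pow, h.pow₁ ha, one_mul]
  exact P₂.pow_mem hb p

theorem Z₁_le (h : RankTwo p P P₁ P₂) : P₁ ⊓ Subgroup.centralizer (P₁ : Set G) ≤ P₂ := by
  rw [← h.om, Subgroup.closure_le]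
  exact fun x hx => hx.1

theorem mem_of_central (h : RankTwo p P P₁ P₂) {y : G} (hy : y ∈ P)
    (hc : ∀ y' ∈ P₁, y' * y = y * y') : y ∈ P₂ := by
  obtain ⟨a, ha, b, hb, rfl⟩ := h.exists_mul hy
  have h1 : a ∈ P₁ ⊓ Subgroup.centralizer (P₁ : Set G) := by
    refine ⟨ha, Subgroup.mem_centralizer_iff.mpr (fun y' hy' => ?_)⟩
    have e1 := hc y' hy'
    have e2 := h.comm y' hy' b hb
    calc y' * a = y' * (a * b) * b⁻¹ := by group
      _ = a * b * y' * b⁻¹ := by rw [e1]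
      _ = a * (b * y') * b⁻¹ := by group
      _ = a * (y' * b) * b⁻¹ := by rw [e2]
      _ = a * y' := by group
  exact P₂.mul_mem (h.Z₁_le h1) hb

theorem exists_omega (h : RankTwo p P P₁ P₂) : ∃ z ∈ P₂, z ≠ 1 ∧ z ^ p = 1 := by
  have hP₁ : IsPGroup p P₁ := IsPGroup.of_card h.card
  haveI : Nontrivial ↥P₁ := by
    apply (Finite.one_lt_card_iff_nontrivial).mp
    rw [h.card]
    exact Nat.one_lt_pow (by norm_num) hp.out.one_lt
  haveI := hP₁.center_nontrivial
  obtain ⟨c, hc⟩ := exists_ne (1 : ↥(Subgroup.center ↥P₁))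
  have hcG : ((c : ↥P₁) : G) ∈ P₁ ⊓ Subgroup.centralizer (P₁ : Set G) := by
    refine ⟨(c : ↥P₁).2, Subgroup.mem_centralizer_iff.mpr (fun y hy => ?_)⟩
    have := Subgroup.mem_center_iff.mp c.2 ⟨y, hy⟩
    exact congrArg Subtype.val this
  have hne : ((c : ↥P₁) : G) ≠ 1 := by
    intro h1
    apply hc
    apply Subtype.ext
    apply Subtype.ext
    exact h1
  by_contra hcon
  apply hne
  have hle : Subgroup.closure {x : G | x ∈ P₂ ∧ x ^ p = 1} ≤ ⊥ := by
    rw [Subgroup.closure_le]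
    intro x hx
    by_contra hx1
    exact hcon ⟨x, hx.1, fun h1 => hx1 (by rw [h1]; exact Subgroup.mem_bot.mpr rfl), hx.2⟩
  rw [h.om] at hle
  exact Subgroup.mem_bot.mp (hle hcG)

theorem mem_zpowers_of_pow (h : RankTwo p P P₁ P₂) (hP : IsPGroup p P) {z y : G} (hz : z ∈ P₂)
    (hz1 : z ≠ 1) (hzp : z ^ p = 1) (hy : y ∈ P₂) (hyp : y ^ p = 1) :
    y ∈ Subgroup.zpowers z := by
  by_cases hy1 : y = 1
  · rw [hy1]; exact Subgroup.one_mem _
  have hzo : orderOf z = p := orderOf_eq_prime hzp hz1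
  have hyo : orderOf y = p := orderOf_eq_prime hyp hy1
  have h1 : Subgroup.zpowers z ⊓ Subgroup.zpowers y ≠ ⊥ := by
    intro hbot
    rcases Cfsg.Agent.Lib.H7.BG138.eq_bot_or_eq_bot_of_cyclic h.cyc (hP.to_le h.le₂)
      (Subgroup.zpowers_le.mpr hz) (Subgroup.zpowers_le.mpr hy) hbot with h2 | h2
    · exact hz1 (Subgroup.zpowers_eq_bot.mp h2)
    · exact hy1 (Subgroup.zpowers_eq_bot.mp h2)
  obtain ⟨s, hs1⟩ := (Subgroup.ne_bot_iff_exists_ne_one).mp h1
  have hs1' : (s : G) ≠ 1 := fun h => hs1 (Subtype.ext h)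
  have h2 : y ∈ Subgroup.zpowers (s : G) := mem_zpowers_of_mem_zpowers_prime hyo s.2.2 hs1'
  exact (Subgroup.zpowers_le.mpr s.2.1) h2

end RankTwo

theorem p_ne_two (hG : Cfsg.IsMinSimpleOddOrder G) {x : G} (hxo : orderOf x = p) : p ≠ 2 := by
  intro h2
  have h1 : orderOf x ∣ Nat.card G := orderOf_dvd_natCard x
  rw [hxo, h2] at h1
  have hodd : Odd (Nat.card G) := hG.1
  rw [Nat.odd_iff] at hodd
  omega

theorem not_central {P : Subgroup G} (hnab : ¬ IsMulCommutative P) {x : G}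
    (hab : IsMulCommutative ↥(P ⊓ Subgroup.centralizer ({x} : Set G))) :
    ¬ ∀ y ∈ P, y * x = x * y := by
  intro h
  apply hnab
  refine ⟨⟨fun a b => ?_⟩⟩
  have ha : (a : G) ∈ P ⊓ Subgroup.centralizer ({x} : Set G) :=
    ⟨a.2, Subgroup.mem_centralizer_singleton_iff.mpr (h a a.2)⟩
  have hb : (b : G) ∈ P ⊓ Subgroup.centralizer ({x} : Set G) :=
    ⟨b.2, Subgroup.mem_centralizer_singleton_iff.mpr (h b b.2)⟩
  have := hab.is_comm.comm ⟨(a : G), ha⟩ ⟨(b : G), hb⟩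
  have h2 : (a : G) * (b : G) = (b : G) * (a : G) := congrArg Subtype.val this
  apply Subtype.ext
  exact h2

theorem card_le_of_cent {P : Subgroup G} {x : G} (hxP : x ∈ P)
    (hrk : Cfsg.PRankLE p 2 ↥(P ⊓ Subgroup.centralizer ({x} : Set G))) :
    ∀ B : Subgroup ↥P, Cfsg.IsElementaryAbelian p B →
      B ≤ Subgroup.centralizer ({⟨x, hxP⟩} : Set ↥P) → Nat.card B ≤ p ^ 2 := by
  intro B hB hBC
  have hmem : ∀ b : ↥B, (P.subtype.comp B.subtype) b ∈
      P ⊓ Subgroup.centralizer ({x} : Set G) := by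
    intro b
    refine ⟨(b : ↥P).2, Subgroup.mem_centralizer_singleton_iff.mpr ?_⟩
    have := Subgroup.mem_centralizer_singleton_iff.mp (hBC b.2)
    exact congrArg Subtype.val this
  set f : ↥B →* ↥(P ⊓ Subgroup.centralizer ({x} : Set G)) :=
    MonoidHom.codRestrict (P.subtype.comp B.subtype) _ hmem with hf
  have hinj : Function.Injective f := by
    intro a b hab
    have h1 : ((f a : ↥(P ⊓ Subgroup.centralizer ({x} : Set G))) : G) = f b := by rw [hab]
    apply Subtype.ext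
    apply Subtype.ext
    exact h1
  have hr : Cfsg.PRankLE p 2 ↥B := Cfsg.Agent.Lib.H16.BG.pRankLE_of_injective f hinj hrk
  have h1 := hr ⊤ ⟨⟨fun a b => Subtype.ext (hB.1.is_comm.comm a.1 b.1)⟩⟩ (by
    intro a _
    apply Subtype.ext
    have := hB.2 (a : ↥P) a.2
    rw [Subgroup.coe_pow, this]
    rfl)
  rwa [Subgroup.card_top] at h1

/-- **(B1)**: `x` is not a proper `p`-th power in `P`. -/
theorem not_pow (hG : Cfsg.IsMinSimpleOddOrder G) (p : ℕ) [hp : Fact p.Prime] (P : Sylow p G)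
    (hnab : ¬ IsMulCommutative (P : Subgroup G)) {x : G} (hxP : x ∈ (P : Subgroup G))
    (hxo : orderOf x = p)
    (hab : IsMulCommutative ↥((P : Subgroup G) ⊓ Subgroup.centralizer ({x} : Set G)))
    (hrk : Cfsg.PRankLE p 2 ↥((P : Subgroup G) ⊓ Subgroup.centralizer ({x} : Set G))) :
    ∀ w ∈ (P : Subgroup G), w ^ p ∈ Subgroup.zpowers x → w ^ p = 1 := by
  intro w hw hwx
  have hp2 : p ≠ 2 := p_ne_two hG hxo
  have hnc := not_central hnab hab
  by_cases hr : Cfsg.PRankLE p 2 ↥(P : Subgroup G)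
  · rcases Cfsg.Agent.S1412.result hG p P hr with h | ⟨P₁, P₂, h1, h2, h3, h4, h5, h6, h7⟩
    · exact absurd h hnab
    · have hR : RankTwo p (P : Subgroup G) P₁ P₂ := ⟨h1, h2, h3, h4, h5, h6, h7⟩
      apply pow_eq_one_of_not_mem hxo P₂ _ (hR.pow_mem hw) hwx
      intro hx2
      exact hnc (fun y hy => (hR.central hx2 hy).symm)
  · have hxp : (⟨x, hxP⟩ : ↥(P : Subgroup G)) ^ p = 1 := by
      apply Subtype.ext
      have h0 : x ^ p = 1 := by
        have := pow_orderOf_eq_one x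
        rwa [hxo] at this
      rw [Subgroup.coe_pow]
      exact h0
    obtain ⟨B, hB, hxB⟩ := exists_maxSq_mem hp2 P.isPGroup' hr ⟨x, hxP⟩ hxp
      (card_le_of_cent hxP hrk)
    have hxc : (⟨x, hxP⟩ : ↥(P : Subgroup G)) ∉ Subgroup.center ↥(P : Subgroup G) := by
      intro hc
      apply hnc
      intro y hy
      have := Subgroup.mem_center_iff.mp hc ⟨y, hy⟩
      exact congrArg Subtype.val this
    have hxo' : orderOf (⟨x, hxP⟩ : ↥(P : Subgroup G)) = p :=
      (Subgroup.orderOf_mk x hxP).trans hxo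
    have hw' : (⟨w, hw⟩ : ↥(P : Subgroup G)) ^ p ∈
        Subgroup.zpowers (⟨x, hxP⟩ : ↥(P : Subgroup G)) := by
      obtain ⟨i, hi⟩ := Subgroup.mem_zpowers_iff.mp hwx
      rw [Subgroup.mem_zpowers_iff]
      refine ⟨i, ?_⟩
      apply Subtype.ext
      rw [Subgroup.coe_zpow, Subgroup.coe_pow]
      exact hi
    have := not_pow_of_maxSq hB hxB hxo' hxc hw'
    have h2 := congrArg Subtype.val this
    rw [Subgroup.coe_pow] at h2
    exact h2

end glevel

end Cfsg.Agent.Lib.H10.BG158
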