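import Mathlib
import Cfsg.Agent.Lib.H10.BG158b

/-! # BG Theorem 15.8 (helper10), part 3: the lemma `exceptional`. -/

set_option autoImplicit false
set_option linter.style.haveILetI false
set_option linter.unusedSectionVars false
set_option linter.unusedVariables false
set_option maxHeartbeats 800000

namespace Cfsg.Agent.Lib.H10.BG158

open scoped commutatorElement
open Cfsg.Agent.Lib.H16 Cfsg.Agent.Lib.H16.Narrow

variable {G : Type*} [Group G] [Finite G] {p : ℕ} [hp : Fact p.Prime]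

theorem comm_of_isCyclic {K : Subgroup G} (hKc : IsCyclic K) : ∀ a ∈ K, ∀ b ∈ K, a * b = b * a := by
  haveI := hKc
  intro a ha b hb
  have := (IsCyclic.commGroup (α := ↥K)).mul_comm ⟨a, ha⟩ ⟨b, hb⟩
  exact congrArg Subtype.val this

theorem isMulCommutative_of_card_prime {Z : Subgroup G} (hZ : Nat.card Z = p) :
    IsMulCommutative ↥Z := by
  haveI : IsCyclic ↥Z := isCyclic_of_prime_card hZ
  exact ⟨⟨fun a b => (IsCyclic.commGroup (α := ↥Z)).mul_comm a b⟩⟩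

/-- **(B2), rank at least three**: `|K| ∣ p - 1`. -/
theorem dvd_pred_of_maxSq {P K Z₀ : Subgroup G} {B : Subgroup ↥P} (hB : MaxSq ↥P p B)
    (hnab : ¬ IsMulCommutative P) (hKc : IsCyclic K) (hKp : (Nat.card K).Coprime p)
    (hKP : K ≤ Subgroup.normalizer (P : Set G)) (hZ₀ : Nat.card Z₀ = p)
    (hfix : ∀ k ∈ K, k ≠ 1 → P ⊓ Subgroup.centralizer ({k} : Set G) = Z₀) :
    Nat.card K ∣ p - 1 := by
  haveI := hKc
  obtain ⟨k₀, hk₀⟩ := IsCyclic.exists_generator (α := ↥K)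
  set α : MulAut ↥P := Cfsg.Agent.Lib.H1.conjAutHom hKP k₀ with hα
  have hm : α ^ (Nat.card K) = 1 := by
    rw [hα, ← map_pow, pow_card_eq_one', map_one]
  have h1 : α ^ (p - 1) = 1 := pow_pred_eq_one hB α hm hKp
  have h2 : Cfsg.Agent.Lib.H1.conjAutHom hKP (k₀ ^ (p - 1)) = 1 := by rw [map_pow]; exact h1
  have h3 : ((k₀ ^ (p - 1) : ↥K) : G) = 1 := by
    by_contra hne
    apply hnab
    have h4 := hfix _ (k₀ ^ (p - 1) : ↥K).2 hne
    have h5 : P ≤ Subgroup.centralizer ({((k₀ ^ (p - 1) : ↥K) : G)} : Set G) := by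
      intro y hy
      rw [Subgroup.mem_centralizer_singleton_iff]
      have h6 : Cfsg.Agent.Lib.H1.conjAutHom hKP (k₀ ^ (p - 1)) ⟨y, hy⟩ = ⟨y, hy⟩ := by
        rw [h2]; rfl
      have h7 := congrArg Subtype.val h6
      rw [Cfsg.Agent.Lib.H1.conjAutHom_apply] at h7
      have h8 : ((k₀ ^ (p - 1) : ↥K) : G) * y * ((k₀ ^ (p - 1) : ↥K) : G)⁻¹ = y := h7
      calc y * ((k₀ ^ (p - 1) : ↥K) : G)
          = (((k₀ ^ (p - 1) : ↥K) : G) * y * ((k₀ ^ (p - 1) : ↥K) : G)⁻¹) *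
            ((k₀ ^ (p - 1) : ↥K) : G) := by rw [h8]
        _ = ((k₀ ^ (p - 1) : ↥K) : G) * y := by group
    have h6 : P = Z₀ := by rw [← h4]; exact (inf_eq_left.mpr h5).symm
    rw [h6]
    exact isMulCommutative_of_card_prime hZ₀
  have h4 : k₀ ^ (p - 1) = 1 := Subtype.ext h3
  have h5 : orderOf k₀ ∣ p - 1 := orderOf_dvd_of_pow_eq_one h4
  rwa [orderOf_eq_card_of_forall_mem_zpowers hk₀] at h5

/-- **(B2), rank at most two**. -/
theorem exceptional_of_rankTwo {P P₁ P₂ K Z₀ : Subgroup G} (hR : RankTwo p P P₁ P₂)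
    (hP : IsPGroup p P) (hKc : IsCyclic K) (hKodd : Odd (Nat.card K))
    (hKp : (Nat.card K).Coprime p)
    (hKP : K ≤ Subgroup.normalizer (P : Set G)) (hZ₀P : Z₀ ≤ P) (hZ₀ : Nat.card Z₀ = p)
    (hfix : ∀ k ∈ K, k ≠ 1 → P ⊓ Subgroup.centralizer ({k} : Set G) = Z₀)
    (hnd : ¬ Nat.card K ∣ p - 1) :
    Nat.card P = p ^ 3 ∧ Nat.card K ∣ p + 1 := by
  obtain ⟨z, hz, hz1, hzp⟩ := hR.exists_omega
  have hzo : orderOf z = p := orderOf_eq_prime hzp hz1
  have hconjP : ∀ k ∈ K, ∀ y ∈ P, k * y * k⁻¹ ∈ P := fun k hk y hy =>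
    (Subgroup.mem_normalizer_iff.mp (hKP hk) y).mp hy
  -- `K` normalizes `P₂ = Z(P)`
  have hconj₂ : ∀ k ∈ K, ∀ b ∈ P₂, k * b * k⁻¹ ∈ P₂ := by
    intro k hk b hb
    apply hR.mem_of_central (hconjP k hk b (hR.le₂ hb))
    intro y' hy'
    have h1 : k⁻¹ * y' * k⁻¹⁻¹ ∈ P := hconjP k⁻¹ (K.inv_mem hk) y' (hR.le₁ hy')
    have h2 := hR.central hb h1
    calc y' * (k * b * k⁻¹) = k * ((k⁻¹ * y' * k⁻¹⁻¹) * b) * k⁻¹ := by group
      _ = k * (b * (k⁻¹ * y' * k⁻¹⁻¹)) * k⁻¹ := by rw [h2]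
      _ = k * b * k⁻¹ * y' := by group
  -- the set `Ω ∖ {1}`
  have hinv : ∀ k ∈ K, ∀ s ∈ ((Subgroup.zpowers z : Set G) \ {1}),
      k * s * k⁻¹ ∈ ((Subgroup.zpowers z : Set G) \ {1}) := by
    intro k hk s hs
    have hs2 : s ∈ P₂ := (Subgroup.zpowers_le.mpr hz) hs.1
    have hsp : s ^ p = 1 := by
      obtain ⟨i, rfl⟩ := Subgroup.mem_zpowers_iff.mp hs.1
      rw [← zpow_natCast, ← zpow_mul, mul_comm, zpow_mul, zpow_natCast, hzp, one_zpow]
    refine ⟨?_, ?_⟩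
    · apply hR.mem_zpowers_of_pow hP hz hz1 hzp (hconj₂ k hk s hs2)
      rw [conj_pow, hsp]; group
    · intro h
      apply hs.2
      have h2 : k * s * k⁻¹ = 1 := h
      have : s = k⁻¹ * (k * s * k⁻¹) * k := by group
      rw [this, h2]; simp
  have hcardX : ((Subgroup.zpowers z : Set G) \ {1}).ncard = p - 1 := by
    rw [Set.ncard_sdiff_singleton_of_mem (Subgroup.zpowers z).one_mem]
    have : (Subgroup.zpowers z : Set G).ncard = p := by
      rw [← hzo, ← Nat.card_zpowers]; rfl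
    rw [this]
  have hex : ∃ k ∈ K, k ≠ 1 ∧ ∃ s ∈ P₂, s ≠ 1 ∧ k * s * k⁻¹ = s := by
    by_contra hcon
    apply hnd
    rw [← hcardX]
    apply card_dvd_ncard_of_conj_free K _ hinv
    intro k hk s hs hks
    by_contra hk1
    exact hcon ⟨k, hk, hk1, s, (Subgroup.zpowers_le.mpr hz) hs.1, fun h => hs.2 h, hks⟩
  obtain ⟨k₁, hk₁, hk₁1, s, hs2, hs1, hks⟩ := hex
  -- `k₁` centralizes `P₂`
  have hP₂le : P₂ ≤ Subgroup.centralizer ((Subgroup.zpowers k₁ : Subgroup G) : Set G) := by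
    apply Cfsg.Agent.Lib.H7.BG138.le_centralizer_of_cyclic_of_fixed hR.cyc (hP.to_le hR.le₂)
    · apply Cfsg.Agent.Lib.H16.Narrow.zpowers_le_normalizer_of_conj_mem
      exact hconj₂ k₁ hk₁
    · rw [Nat.card_zpowers]
      obtain ⟨n, hn⟩ := IsPGroup.iff_card.mp (hP.to_le hR.le₂)
      rw [hn]
      apply Nat.Coprime.pow_right
      have h1 : orderOf k₁ ∣ Nat.card K := by
        have := orderOf_dvd_natCard (⟨k₁, hk₁⟩ : K)
        rwa [← Subgroup.orderOf_coe] at this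
      exact Nat.Coprime.of_dvd_left h1 hKp
    · intro hbot
      apply hs1
      have : s ∈ P₂ ⊓ Subgroup.centralizer ((Subgroup.zpowers k₁ : Subgroup G) : Set G) := by
        refine ⟨hs2, ?_⟩
        show s ∈ Subgroup.centralizer ((Subgroup.zpowers k₁ : Subgroup G) : Set G)
        rw [Subgroup.mem_centralizer_iff]
        intro g hg
        obtain ⟨i, rfl⟩ := Subgroup.mem_zpowers_iff.mp hg
        have hc : Commute k₁ s := by
          show k₁ * s = s * k₁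
          calc k₁ * s = (k₁ * s * k₁⁻¹) * k₁ := by group
            _ = s * k₁ := by rw [hks]
        exact (hc.zpow_left i).eq
      rw [hbot] at this
      exact Subgroup.mem_bot.mp this
  have hP₂Z₀ : P₂ ≤ Z₀ := by
    rw [← hfix k₁ hk₁ hk₁1]
    intro b hb
    refine ⟨hR.le₂ hb, ?_⟩
    have := Subgroup.mem_centralizer_iff.mp (hP₂le hb) k₁ (Subgroup.mem_zpowers k₁)
    exact Subgroup.mem_centralizer_singleton_iff.mpr this.symm
  -- `P₂ ≤ P₁`
  have hP₂P₁ : P₂ ≤ P₁ := by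
    intro b hb
    have hbp : b ^ p = 1 := by
      have := pow_card_eq_one' (G := ↥Z₀) (x := ⟨b, hP₂Z₀ hb⟩)
      rw [hZ₀] at this
      exact congrArg Subtype.val this
    have : b ∈ Subgroup.closure {x : G | x ∈ P₂ ∧ x ^ p = 1} :=
      Subgroup.subset_closure ⟨hb, hbp⟩
    rw [hR.om] at this
    exact this.1
  have hPP₁ : P = P₁ := by rw [← hR.sup]; exact sup_eq_left.mpr hP₂P₁
  have hcardP : Nat.card P = p ^ 3 := by rw [hPP₁]; exact hR.card
  have hZ₀P₂ : Z₀ = P₂ := by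
    symm
    apply Subgroup.eq_of_le_of_card_ge hP₂Z₀
    rw [hZ₀]
    have := Subgroup.card_le_of_le (Subgroup.zpowers_le.mpr hz)
    rwa [Nat.card_zpowers, hzo] at this
  refine ⟨hcardP, ?_⟩
  have ht : Torus p P Z₀ K :=
    { cardP := hcardP
      exp := fun y hy => hR.pow₁ (hPP₁ ▸ hy)
      nab := by
        intro h
        apply hR.nab
        refine ⟨⟨fun a b => ?_⟩⟩
        apply Subtype.ext
        exact h a (hR.le₁ a.2) b (hR.le₁ b.2)
      ZP := hZ₀P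
      cardZ := hZ₀
      cent := fun z' hz' y hy => hR.central (hZ₀P₂ ▸ hz') hy
      KP := hKP
      odd := hKodd
      cop := hKp
      ab := comm_of_isCyclic hKc
      fix := hfix }
  rcases ht.main with h | h
  · exact absurd h hnd
  · exact h

/-- **(B2)**: the exceptional case of BG 15.8: if `|K| ∤ p - 1` then `|P| = p ^ 3` and
`|K| ∣ p + 1`. -/
theorem exceptional (hG : Cfsg.IsMinSimpleOddOrder G) (p : ℕ) [hp : Fact p.Prime] (P : Sylow p G)
    (hnab : ¬ IsMulCommutative (P : Subgroup G)) {x : G} (hxP : x ∈ (P : Subgroup G))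
    (hxo : orderOf x = p)
    (hab : IsMulCommutative ↥((P : Subgroup G) ⊓ Subgroup.centralizer ({x} : Set G)))
    (hrk : Cfsg.PRankLE p 2 ↥((P : Subgroup G) ⊓ Subgroup.centralizer ({x} : Set G)))
    {K Z₀ : Subgroup G} (hKc : IsCyclic K) (hKp : (Nat.card K).Coprime p)
    (hKP : K ≤ Subgroup.normalizer ((P : Subgroup G) : Set G)) (hZ₀P : Z₀ ≤ (P : Subgroup G))
    (hZ₀ : Nat.card Z₀ = p)
    (hfix : ∀ k ∈ K, k ≠ 1 → (P : Subgroup G) ⊓ Subgroup.centralizer ({k} : Set G) = Z₀)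
    (hnd : ¬ Nat.card K ∣ p - 1) :
    Nat.card (P : Subgroup G) = p ^ 3 ∧ Nat.card K ∣ p + 1 := by
  have hp2 : p ≠ 2 := p_ne_two hG hxo
  have hKodd : Odd (Nat.card K) := by
    have hodd : Odd (Nat.card G) := hG.1
    exact Odd.of_dvd_nat hodd (Subgroup.card_subgroup_dvd_card K)
  by_cases hr : Cfsg.PRankLE p 2 ↥(P : Subgroup G)
  · rcases Cfsg.Agent.S1412.result hG p P hr with h | ⟨P₁, P₂, h1, h2, h3, h4, h5, h6, h7⟩
    · exact absurd h hnab
    · have hR : RankTwo p (P : Subgroup G) P₁ P₂ := ⟨h1, h2, h3, h4, h5, h6, h7⟩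
      exact exceptional_of_rankTwo hR P.isPGroup' hKc hKodd hKp hKP hZ₀P hZ₀ hfix hnd
  · exfalso
    have hxp : (⟨x, hxP⟩ : ↥(P : Subgroup G)) ^ p = 1 := by
      apply Subtype.ext
      have h0 : x ^ p = 1 := by
        have := pow_orderOf_eq_one x
        rwa [hxo] at this
      rw [Subgroup.coe_pow]
      exact h0
    obtain ⟨B, hB, -⟩ := exists_maxSq_mem hp2 P.isPGroup' hr ⟨x, hxP⟩ hxp
      (card_le_of_cent hxP hrk)
    exact hnd (dvd_pred_of_maxSq hB hnab hKc hKp hKP hZ₀ hfix)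

end Cfsg.Agent.Lib.H10.BG158
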