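import Mathlib
import Cfsg.Prelude.Def_Characters
import Cfsg.Agent.Lib.H23.ExtDet
import Cfsg.Agent.Lib.H23.LinearExt
import Cfsg.Agent.Lib.H24.CharLinearMul
import Cfsg.Agent.Lib.H24.CharOrth

/-!
# S4640 pieces (FIB) and (CNT) (helper10)

`N ⊴ G` with `G/N` abelian.  The linear characters of `G` trivial on `N` are `|G : N|` in number
(Mathlib duality of finite abelian groups); if `χ ∈ Irr(G)` restricts irreducibly to `N` and no nontrivial
such twist fixes `χ`, the extensions of `χ|_N` are a torsor under the twists (Gallagher), so there are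
exactly `|G : N|` of them.  (CNT) is the counting that turns fibres of constant size into a product.
-/

set_option autoImplicit false

namespace Cfsg.Agent.Lib.H10.BK

variable {G : Type*} [Group G]

/-- the commutative group structure on `G ⧸ N` when `N` contains all commutators -/
@[reducible] def quotCommGroup (N : Subgroup G) [N.Normal]
    (hab : ∀ a b : G, a * b * a⁻¹ * b⁻¹ ∈ N) : CommGroup (G ⧸ N) :=
  { (inferInstance : Group (G ⧸ N)) with
    mul_comm := by
      intro x y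
      induction x using QuotientGroup.induction_on with
      | H a =>
        induction y using QuotientGroup.induction_on with
        | H b =>
          rw [← QuotientGroup.mk_mul, ← QuotientGroup.mk_mul, QuotientGroup.eq]
          have h := hab b⁻¹ a⁻¹
          have h2 : (a * b)⁻¹ * (b * a) = b⁻¹ * a⁻¹ * b⁻¹⁻¹ * a⁻¹⁻¹ := by group
          rw [h2]
          exact h }

/-- the twists: linear characters of `G` trivial on `N` -/
abbrev Twist (N : Subgroup G) : Type _ := {lam : G →* ℂˣ // ∀ n ∈ N, lam n = 1}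

/-- twists correspond to the linear characters of `G ⧸ N` -/
def twistEquiv (N : Subgroup G) [N.Normal] : Twist N ≃ (G ⧸ N →* ℂˣ) where
  toFun lam := QuotientGroup.lift N lam.1 (fun n hn => MonoidHom.mem_ker.2 (lam.2 n hn))
  invFun φ := ⟨φ.comp (QuotientGroup.mk' N), fun n hn => by
    rw [MonoidHom.comp_apply, QuotientGroup.mk'_apply, (QuotientGroup.eq_one_iff n).2 hn, map_one]⟩
  left_inv lam := by
    apply Subtype.ext
    apply MonoidHom.ext
    intro g
    rfl
  right_inv φ := by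
    apply MonoidHom.ext
    intro x
    induction x using QuotientGroup.induction_on with
    | H a => rfl

/-- (DUAL) there are exactly `|G : N|` twists when `G/N` is abelian -/
theorem card_twist [Finite G] (N : Subgroup G) [N.Normal]
    (hab : ∀ a b : G, a * b * a⁻¹ * b⁻¹ ∈ N) : Nat.card (Twist N) = N.index := by
  let _ : CommGroup (G ⧸ N) := quotCommGroup N hab
  have hne : NeZero (Monoid.exponent (G ⧸ N)) := ⟨Monoid.exponent_ne_zero_of_finite⟩
  have hne' : NeZero ((Monoid.exponent (G ⧸ N) : ℕ) : ℂ) := NeZero.charZero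
  have hroots : HasEnoughRootsOfUnity ℂ (Monoid.exponent (G ⧸ N)) :=
    IsSepClosed.hasEnoughRootsOfUnity ℂ _
  rw [Nat.card_congr (twistEquiv N), CommGroup.card_monoidHom_of_hasEnoughRootsOfUnity (G ⧸ N) ℂ,
    Subgroup.index_eq_card]

variable [Fintype G]

/-- (FIB) the extensions of `θ = χ|_N` form a torsor under the twists -/
theorem card_fibre (N : Subgroup G) [N.Normal] [Fintype N]
    (hab : ∀ a b : G, a * b * a⁻¹ * b⁻¹ ∈ N) (B : Set (Cfsg.IrrCharacter G))
    (θ : Cfsg.IrrCharacter N) (χ : Cfsg.IrrCharacter G)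
    (hχθ : ∀ n : N, (χ : G → ℂ) n = (θ : N → ℂ) n)
    (hcl : ∀ ψ : Cfsg.IrrCharacter G, (∀ n : N, (ψ : G → ℂ) n = (θ : N → ℂ) n) → ψ ∈ B)
    (hfree : ∀ lam : G →* ℂˣ, (∀ n ∈ N, lam n = 1) →
      (∀ g, (χ : G → ℂ) g * (lam g : ℂ) = (χ : G → ℂ) g) → lam = 1) :
    Nat.card {ψ : Cfsg.IrrCharacter G // ψ ∈ B ∧ ∀ n : N, (ψ : G → ℂ) n = (θ : N → ℂ) n} =
      N.index := by
  classical
  rw [← card_twist N hab]
  have hres : ∀ lam : Twist N, ∀ n : N,
      (χ : G → ℂ) n * ((lam.1 (n : G) : ℂˣ) : ℂ) = (θ : N → ℂ) n := by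
    intro lam n
    rw [lam.2 n n.2, hχθ n]
    simp
  let Φ : Twist N → {ψ : Cfsg.IrrCharacter G // ψ ∈ B ∧ ∀ n : N, (ψ : G → ℂ) n = (θ : N → ℂ) n} :=
    fun lam => ⟨⟨fun g => (χ : G → ℂ) g * ((lam.1 g : ℂˣ) : ℂ),
      Cfsg.Agent.Lib.H24.isIrrCharacter_mul_hom (χ : G → ℂ) χ.2 lam.1⟩,
      hcl _ (hres lam), hres lam⟩
  have hΦ : ∀ lam : Twist N, ∀ g : G,
      (((Φ lam).1 : Cfsg.IrrCharacter G) : G → ℂ) g = (χ : G → ℂ) g * ((lam.1 g : ℂˣ) : ℂ) :=
    fun _ _ => rfl
  have hinj : Function.Injective Φ := by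
    intro l₁ l₂ h
    have hfun : ∀ g : G, (χ : G → ℂ) g * ((l₁.1 g : ℂˣ) : ℂ) = (χ : G → ℂ) g * ((l₂.1 g : ℂˣ) : ℂ) := by
      intro g
      rw [← hΦ l₁ g, ← hΦ l₂ g, h]
    have h1 : l₁.1 * l₂.1⁻¹ = 1 := by
      apply hfree
      · intro n hn
        rw [MonoidHom.mul_apply, MonoidHom.inv_apply, l₁.2 n hn, l₂.2 n hn]
        simp
      · intro g
        rw [MonoidHom.mul_apply, MonoidHom.inv_apply, Units.val_mul, ← mul_assoc, hfun g, mul_assoc,
          ← Units.val_mul, mul_inv_cancel, Units.val_one, mul_one]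
    apply Subtype.ext
    exact mul_inv_eq_one.1 h1
  have hsurj : Function.Surjective Φ := by
    rintro ⟨ψ, hψB, hψθ⟩
    have hηN : Cfsg.IsIrrCharacter N (fun n : N => (χ : G → ℂ) n) := by
      have : (fun n : N => (χ : G → ℂ) n) = (θ : N → ℂ) := funext hχθ
      rw [this]
      exact θ.2
    obtain ⟨β, hβN, hβ⟩ := Cfsg.Agent.Lib.H23.exists_hom_of_restrict_eq N χ.2 ψ.2 hηN
      (fun n => by rw [hψθ n, hχθ n])
    refine ⟨⟨β, fun n hn => hβN ⟨n, hn⟩⟩, ?_⟩
    apply Subtype.ext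
    apply Subtype.ext
    funext g
    rw [hΦ]
    have := congrFun hβ g
    rw [Pi.mul_apply, Cfsg.Agent.Lib.H23.homToFun_apply] at this
    exact this.symm
  exact (Nat.card_congr (Equiv.ofBijective Φ ⟨hinj, hsurj⟩)).symm

/-- (CNT) fibres of constant size `m` over `b` give `|B| = m * |b|` -/
theorem card_eq_mul_of_fibres (N : Subgroup G) (B : Set (Cfsg.IrrCharacter G))
    (b : Set (Cfsg.IrrCharacter N)) (m : ℕ)
    (h3 : ∀ χ ∈ B, ∃ θ ∈ b, ∀ n : N, (χ : G → ℂ) n = (θ : N → ℂ) n)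
    (h4 : ∀ θ ∈ b, Nat.card {χ : Cfsg.IrrCharacter G //
      χ ∈ B ∧ ∀ n : N, (χ : G → ℂ) n = (θ : N → ℂ) n} = m) :
    Nat.card B = m * Nat.card b := by
  classical
  have hfinB : Finite B := Subtype.finite
  have : Finite N := Finite.of_injective (fun n : N => (n : G)) Subtype.val_injective
  have hfinb : Finite b := Subtype.finite
  -- the restriction map `B → b`
  choose r hrb hr using h3
  let R : B → b := fun χ => ⟨r χ.1 χ.2, hrb χ.1 χ.2⟩
  have hfib : ∀ θ : b, Nat.card {χ : B // R χ = θ} = m := by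
    intro θ
    rw [← h4 θ.1 θ.2]
    refine Nat.card_congr ⟨fun χ => ⟨χ.1.1, χ.1.2, fun n => ?_⟩, fun χ => ⟨⟨χ.1, χ.2.1⟩, ?_⟩, ?_, ?_⟩
    · have := hr χ.1.1 χ.1.2 n
      rw [this]
      have h2 : r χ.1.1 χ.1.2 = θ.1 := congrArg Subtype.val χ.2
      rw [h2]
    · apply Subtype.ext
      apply Subtype.ext
      funext n
      show ((r χ.1 χ.2.1 : Cfsg.IrrCharacter N) : N → ℂ) n = _
      rw [← hr χ.1 χ.2.1 n, χ.2.2 n]
    · intro χ
      rfl
    · intro χ
      rfl
  have hsig : Nat.card B = Nat.card (Σ θ : b, {χ : B // R χ = θ}) :=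
    Nat.card_congr (Equiv.sigmaFiberEquiv R).symm
  have : Fintype b := Fintype.ofFinite b
  rw [hsig, Nat.card_sigma]
  simp only [hfib]
  rw [Finset.sum_const, Finset.card_univ, smul_eq_mul, Nat.card_eq_fintype_card, mul_comm]

end Cfsg.Agent.Lib.H10.BK
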