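import Mathlib
import Cfsg.Agent.Lib.H16.BGe
import Cfsg.Agent.Lib.H7.BG10b
import Cfsg.Agent.Lib.H7.DihedralLemma2
import Cfsg.Agent.Lib.H1.Fitting
import Cfsg.Agent.Lib.H1.CharSubgroup
import Cfsg.Agent.Lib.H1.QuotientBasic
import Cfsg.Agent.Lib.H19.PLength

/-!
# The second term of the `σ, r`-series of a subgroup (helper10)

For a subgroup `R` of `G`, a set of primes `σ` and a prime `r`, `upT σ r R` is the preimage in `R`
of `O_r(R / O_σ(R))`, as a subgroup of `G`.  A `σ`-subgroup of a solvable `R` that centralizes every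
`upT σ r R` modulo `O_σ(R)` lies in `O_σ(R)`.
-/

set_option autoImplicit false
set_option linter.unusedSectionVars false
set_option linter.style.haveILetI false

namespace Cfsg.Agent.Lib.H10.BML

open Subgroup Cfsg Cfsg.Agent.Lib.H19
open Cfsg.Agent.Lib.H16.BG Cfsg.Agent.Lib.H7.BG7
open scoped Pointwise commutatorElement

universe u

section Abstract

variable {S : Type u} [Group S] [Finite S]

/-- in a finite solvable group with `O_σ = 1`, a `σ`-subgroup centralizing every `O_r` is trivial -/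
theorem eq_bot_of_centralizes_pCores [hs : Group.IsSolvable S] {σ : Set ℕ}
    (hσ : piCore σ S = ⊥) {Q : Subgroup S} (hQ : IsPiCard σ (Nat.card Q))
    (hc : ∀ r : ℕ, r.Prime → Cfsg.pCore r S ≤ Subgroup.centralizer (Q : Set S)) : Q = ⊥ := by
  have h1 : Cfsg.fittingSubgroup S ≤ Subgroup.centralizer (Q : Set S) := by
    rw [Cfsg.Agent.Lib.H1.fittingSubgroup_eq_iSup_pCore]
    exact iSup_le fun r => hc r r.2
  have h2 : Q ≤ Subgroup.centralizer (Cfsg.fittingSubgroup S : Set S) :=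
    Subgroup.le_centralizer_iff.1 h1
  have h3 : Q ≤ Cfsg.fittingSubgroup S :=
    h2.trans (Cfsg.Agent.Lib.H7.centralizer_fittingSubgroup_le_of_isSolvable S)
  have hnil : Group.IsNilpotent (Cfsg.fittingSubgroup S) :=
    Cfsg.Agent.Lib.H1.fittingSubgroup_isNilpotent
  have h4 : Q ≤ piCoreOf σ (Cfsg.fittingSubgroup S) := le_piCoreOf_of_nilpotent hnil h3 hQ
  have hFn : (Cfsg.fittingSubgroup S).Normal := Cfsg.Agent.Lib.H1.fittingSubgroup_normal S
  have hn : (piCoreOf σ (Cfsg.fittingSubgroup S)).Normal := by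
    rw [← Subgroup.normalizer_eq_top_iff, eq_top_iff]
    refine le_trans ?_ (normalizer_le_normalizer_piCoreOf σ (Cfsg.fittingSubgroup S))
    rw [Subgroup.normalizer_eq_top_iff.2 hFn]
  have h5 : piCoreOf σ (Cfsg.fittingSubgroup S) ≤ piCore σ S :=
    Cfsg.Agent.Lib.H19.le_piCore hn (piCoreOf_isPiCard σ _)
  rw [eq_bot_iff, ← hσ]
  exact h4.trans h5

end Abstract

variable {G : Type u} [Group G]

/-- the preimage in `R` of `O_r(R / O_σ(R))`, inside `↥R` -/
noncomputable def upT₀ (σ : Set ℕ) (r : ℕ) (R : Subgroup G) : Subgroup ↥R :=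
  (Cfsg.pCore r (↥R ⧸ piCore σ ↥R)).comap (QuotientGroup.mk' (piCore σ ↥R))

/-- the preimage in `R` of `O_r(R / O_σ(R))`, as a subgroup of `G` -/
noncomputable def upT (σ : Set ℕ) (r : ℕ) (R : Subgroup G) : Subgroup G :=
  (upT₀ σ r R).map R.subtype

theorem upT_le (σ : Set ℕ) (r : ℕ) (R : Subgroup G) : upT σ r R ≤ R :=
  Subgroup.map_subtype_le _

theorem piCoreOf_le_upT (σ : Set ℕ) (r : ℕ) (R : Subgroup G) : piCoreOf σ R ≤ upT σ r R := by
  unfold piCoreOf upT upT₀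
  exact Subgroup.map_mono (Cfsg.Agent.Lib.H1.le_comap_mk' _ _)

instance upT₀_characteristic (σ : Set ℕ) (r : ℕ) (R : Subgroup G) :
    (upT₀ σ r R).Characteristic :=
  Cfsg.Agent.Lib.H19.comap_mk'_characteristic _ (Cfsg.Agent.Lib.H19.piCore_characteristic σ) _
    (Cfsg.Agent.Lib.H1.pCore_characteristic r _)

theorem normalizer_le_normalizer_upT (σ : Set ℕ) (r : ℕ) (R : Subgroup G) :
    Subgroup.normalizer (R : Set G) ≤ Subgroup.normalizer ((upT σ r R : Subgroup G) : Set G) :=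
  Cfsg.Agent.Lib.H1.normalizer_le_normalizer_map_of_characteristic (upT₀ σ r R)

theorem card_upT [Finite G] (σ : Set ℕ) (r : ℕ) [Fact r.Prime] (R : Subgroup G) :
    ∃ a : ℕ, Nat.card (upT σ r R) = Nat.card (piCoreOf σ R) * r ^ a := by
  obtain ⟨a, ha⟩ := IsPGroup.iff_card.1
    (Cfsg.Agent.Lib.H1.pCore_isPGroup r (↥R ⧸ piCore σ ↥R))
  refine ⟨a, ?_⟩
  have h1 : Nat.card (upT σ r R) = Nat.card (upT₀ σ r R) :=
    (Nat.card_congr ((upT₀ σ r R).equivMapOfInjective R.subtype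
      (Subgroup.subtype_injective R)).toEquiv).symm
  rw [h1, card_piCoreOf]
  unfold upT₀
  rw [Cfsg.Agent.Lib.H1.card_comap_mk', ha, mul_comm]

/-- a `σ`-subgroup of a solvable `R` centralizing every `upT σ r R` modulo `O_σ(R)` lies in `O_σ(R)` -/
theorem le_piCoreOf_of_commutator_upT_le [Finite G] {σ : Set ℕ} {R Q : Subgroup G}
    (hR : Group.IsSolvable R) (hQR : Q ≤ R) (hQ : IsPiCard σ (Nat.card Q))
    (hc : ∀ r : ℕ, r.Prime → ⁅upT σ r R, Q⁆ ≤ piCoreOf σ R) : Q ≤ piCoreOf σ R := by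
  haveI := hR
  set K₀ : Subgroup ↥R := piCore σ ↥R with hK₀
  set Q₀ : Subgroup ↥R := Q.subgroupOf R with hQ₀
  set Qb : Subgroup (↥R ⧸ K₀) := Q₀.map (QuotientGroup.mk' K₀) with hQb
  have hcard : Nat.card Q₀ = Nat.card Q :=
    Nat.card_congr (Subgroup.subgroupOfEquivOfLe hQR).toEquiv
  have hQbcard : IsPiCard σ (Nat.card Qb) := by
    apply isPiCard_of_dvd _ hQ
    rw [← hcard]
    exact Subgroup.card_map_dvd Q₀ (QuotientGroup.mk' K₀)
  have hbot : Qb = ⊥ := by
    apply eq_bot_of_centralizes_pCores (Cfsg.Agent.Lib.H7.BG10.piCore_quotient_eq_bot σ) hQbcard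
    intro r hr
    rw [Subgroup.le_centralizer_iff]
    rintro _ ⟨x, hx, rfl⟩
    rw [Subgroup.mem_centralizer_iff]
    intro s hs
    obtain ⟨t, rfl⟩ := QuotientGroup.mk'_surjective K₀ s
    have ht : t ∈ upT₀ σ r R := hs
    have h1 : ((t : G)) ∈ upT σ r R := ⟨t, ht, rfl⟩
    have h2 : ((x : G)) ∈ Q := Subgroup.mem_subgroupOf.1 hx
    have h3 : ⁅(t : G), (x : G)⁆ ∈ piCoreOf σ R := hc r hr (Subgroup.commutator_mem_commutator h1 h2)
    obtain ⟨k, hk, hkeq⟩ := h3
    have h4 : ⁅t, x⁆ = k := by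
      apply Subtype.ext
      have : ((k : ↥R) : G) = ⁅(t : G), (x : G)⁆ := hkeq
      rw [this]
      simp [commutatorElement_def]
    have h5 : ⁅t, x⁆ ∈ K₀ := h4 ▸ hk
    have h6 : QuotientGroup.mk' K₀ ⁅t, x⁆ = 1 := by
      rw [← MonoidHom.mem_ker, QuotientGroup.ker_mk']
      exact h5
    rw [map_commutatorElement, commutatorElement_eq_one_iff_commute] at h6
    exact h6.eq
  have h7 : Q₀ ≤ K₀ := by
    rw [hQb, Subgroup.map_eq_bot_iff, QuotientGroup.ker_mk'] at hbot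
    exact hbot
  have h8 := Subgroup.map_mono (f := R.subtype) h7
  rwa [hQ₀, Subgroup.map_subgroupOf_eq_of_le hQR] at h8

end Cfsg.Agent.Lib.H10.BML
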