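import Mathlib
import Cfsg.Agent.Lib.H10.BMLa
import Cfsg.Agent.Lib.H7.Coprime
import Cfsg.Prelude.Def_CaseTheorems

/-!
# Maximal local subgroups: first consequences (helper10)

`H` is a local subgroup not properly contained in any local subgroup, `F = F(H)`, `M ≤ F` with
`C_F(M) ≤ M`.  An `M`-invariant subgroup of `H` of order prime to `#F` centralizes `F`; the solvable
subgroups normalized by `C_H(F)` meet `C_H(F)` inside `F`; hence the `M`-invariant subgroups of such
an `R` of order prime to `#F` have no fixed points under `Z(O_p(F))`.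
-/

set_option autoImplicit false
set_option linter.unusedSectionVars false
set_option linter.style.haveILetI false

namespace Cfsg.Agent.Lib.H10.BML

open Subgroup Cfsg Cfsg.Agent.Lib.H19
open Cfsg.Agent.Lib.H16.BG Cfsg.Agent.Lib.H7.BG7
open scoped Pointwise commutatorElement

universe u

variable {G : Type u} [Group G] [Finite G]

theorem isNilpotent_of_le {M F : Subgroup G} (hF : Group.IsNilpotent F) (h : M ≤ F) :
    Group.IsNilpotent M := by
  haveI := hF
  exact (Group.isNilpotent_congr (Subgroup.subgroupOfEquivOfLe h)).1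
    (Subgroup.isNilpotent (M.subgroupOf F))

theorem isSolvable_of_le {M R : Subgroup G} (hR : Group.IsSolvable R) (h : M ≤ R) :
    Group.IsSolvable M := by
  haveI := hR
  exact Group.isSolvable_of_isSolvable_injective (Subgroup.inclusion_injective h)

/-- `H` is a local subgroup not properly contained in any local subgroup -/
structure MaxLocal (H : Subgroup G) : Prop where
  loc : Cfsg.IsLocalSubgroup H
  max : ∀ L : Subgroup G, Cfsg.IsLocalSubgroup L → H ≤ L → L = H

namespace MaxLocal

variable {H : Subgroup G}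

theorem normalizer_eq (h : MaxLocal H) {p : ℕ} (hp : p.Prime) {Y : Subgroup G} (hY : IsPGroup p Y)
    (hY1 : Y ≠ ⊥) (hHY : H ≤ Subgroup.normalizer (Y : Set G)) :
    Subgroup.normalizer (Y : Set G) = H :=
  h.max _ ⟨p, Y, hp, hY, hY1, rfl⟩ hHY

theorem normalizer_Zq_eq (h : MaxLocal H) {p : ℕ} [hp : Fact p.Prime]
    (hpF : p ∣ Nat.card (fittingOf H)) : Subgroup.normalizer (Zq H p : Set G) = H :=
  h.normalizer_eq hp.out (isPGroup_Zq H p) (Zq_ne_bot H hpF) (le_normalizer_Zq H p)

theorem centralizer_Zq_le (h : MaxLocal H) {p : ℕ} [hp : Fact p.Prime]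
    (hpF : p ∣ Nat.card (fittingOf H)) : Subgroup.centralizer (Zq H p : Set G) ≤ H :=
  (Subgroup.centralizer_le_normalizer _).trans (h.normalizer_Zq_eq hpF).le

end MaxLocal

section

variable {H M : Subgroup G}

theorem Zq_le_of_centralizer_le (hM : M ≤ fittingOf H)
    (hCM : fittingOf H ⊓ Subgroup.centralizer (M : Set G) ≤ M) (p : ℕ) : Zq H p ≤ M := by
  refine le_trans (le_inf (Zq_le H p) ?_) hCM
  exact le_centralizer_comm (hM.trans (fittingOf_le_centralizer_Zq H p))

/-- an `M`-invariant subgroup of `H` of order prime to `#F(H)` centralizes `F(H)` -/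
theorem le_centralizer_fittingOf (hM : M ≤ fittingOf H)
    (hCM : fittingOf H ⊓ Subgroup.centralizer (M : Set G) ≤ M) {D : Subgroup G} (hDH : D ≤ H)
    (hMD : M ≤ Subgroup.normalizer (D : Set G))
    (hcop : (Nat.card (fittingOf H)).Coprime (Nat.card D)) :
    D ≤ Subgroup.centralizer (fittingOf H : Set G) := by
  have hDF : D ≤ Subgroup.normalizer (fittingOf H : Set G) := hDH.trans (le_normalizer_fittingOf H)
  have hMnil : Group.IsNilpotent M := isNilpotent_of_le (fittingOf_isNilpotent H) hM
  -- `D` centralizes `M`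
  have hDM : ⁅D, M⁆ = ⊥ := by
    have h1 : ⁅D, M⁆ ≤ fittingOf H := commutator_le_of_le_normalizer hDF hM
    have h2 : ⁅D, M⁆ ≤ D := by
      rw [Subgroup.commutator_comm]
      exact commutator_le_of_le_normalizer hMD le_rfl
    have h3 : fittingOf H ⊓ D = ⊥ := (Subgroup.disjoint_of_coprime_natCard hcop).eq_bot
    rw [eq_bot_iff, ← h3]
    exact le_inf h1 h2
  apply le_centralizer_comm
  apply le_centralizer_of_forall_piCoreOf (fittingOf_isNilpotent H)
  intro r hr
  haveI : Fact r.Prime := ⟨hr⟩
  by_cases hrF : r ∣ Nat.card (fittingOf H)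
  · -- Thompson `A × B`
    have hE : Fq H r ⊓ Subgroup.centralizer ((piCoreOf {r} M : Subgroup G) : Set G) ≤ M := by
      refine le_trans (le_inf (inf_le_left.trans (Fq_le H r)) ?_) hCM
      apply le_centralizer_comm
      apply le_centralizer_of_forall_piCoreOf hMnil
      intro s hs
      haveI : Fact s.Prime := ⟨hs⟩
      by_cases hsr : s = r
      · subst hsr
        exact le_centralizer_comm inf_le_right
      · have h1 : piCoreOf {s} M ≤ Fq H s :=
          le_piCoreOf_of_nilpotent (fittingOf_isNilpotent H) ((piCoreOf_le _ _).trans hM)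
            (piCoreOf_isPiCard {s} M)
        exact (h1.trans (Fq_le_centralizer_Fq H hsr)).trans (centralizer_anti inf_le_left)
    have hres : ⁅D, Fq H r⁆ = ⊥ := by
      apply Cfsg.Agent.Lib.H7.thompson_AxB' r (isPGroup_Fq H r)
        (isPGroup_piCoreOf_singleton r M)
      · exact (Nat.Coprime.coprime_dvd_left hrF hcop).symm
      · rw [eq_bot_iff, ← hDM]
        exact Subgroup.commutator_mono le_rfl (piCoreOf_le _ _)
      · exact hDH.trans (le_normalizer_Fq H r)
      · exact (((piCoreOf_le _ _).trans hM).trans (fittingOf_le H)).trans (le_normalizer_Fq H r)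
      · rw [eq_bot_iff, ← hDM]
        exact Subgroup.commutator_mono le_rfl hE
    exact le_centralizer_comm (le_centralizer_of_commutator_eq_bot hres)
  · have h0 : Fq H r = ⊥ := by
      by_contra hne
      exact hrF (dvd_card_fittingOf_of_Fq_ne_bot H hne)
    change Fq H r ≤ _
    rw [h0]
    exact bot_le

/-- a solvable subgroup normalized by `C_H(F)` meets `C_H(F)` inside `F = F(H)` -/
theorem centralizer_inf_le_fittingOf {R : Subgroup G} (hR : Group.IsSolvable R)
    (hXR : H ⊓ Subgroup.centralizer (fittingOf H : Set G) ≤ Subgroup.normalizer (R : Set G)) :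
    (H ⊓ Subgroup.centralizer (fittingOf H : Set G)) ⊓ R ≤ fittingOf H := by
  set X := H ⊓ Subgroup.centralizer (fittingOf H : Set G) with hX
  set S := X ⊓ R with hS
  have hSsol : Group.IsSolvable S := isSolvable_of_le hR inf_le_right
  have hXS : X ≤ Subgroup.normalizer (S : Set G) := le_normalizer_inf' Subgroup.le_normalizer hXR
  have h1 : fittingOf S ≤ fittingOf X :=
    le_fittingOf ((fittingOf_le S).trans inf_le_left)
      (hXS.trans (normalizer_le_normalizer_fittingOf S)) (fittingOf_isNilpotent S)
  have hHX : H ≤ Subgroup.normalizer (X : Set G) :=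
    le_normalizer_inf' Subgroup.le_normalizer
      (le_normalizer_centralizer_of_le (le_normalizer_fittingOf H))
  have h2 : fittingOf X ≤ fittingOf H :=
    le_fittingOf ((fittingOf_le X).trans inf_le_left)
      (hHX.trans (normalizer_le_normalizer_fittingOf X)) (fittingOf_isNilpotent X)
  have h3 : S ≤ Subgroup.centralizer (fittingOf S : Set G) :=
    (inf_le_left.trans inf_le_right).trans (centralizer_anti (h1.trans h2))
  exact ((le_inf le_rfl h3).trans (inf_centralizer_fittingOf_le hSsol)).trans (h1.trans h2)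

/-- `Z(O_p(F))` has no fixed points on an `M`-invariant subgroup of `R` of order prime to `#F` -/
theorem inf_centralizer_Zq_eq_bot (hH : MaxLocal H) (hM : M ≤ fittingOf H)
    (hCM : fittingOf H ⊓ Subgroup.centralizer (M : Set G) ≤ M) {R : Subgroup G}
    (hR : Group.IsSolvable R)
    (hXR : H ⊓ Subgroup.centralizer (fittingOf H : Set G) ≤ Subgroup.normalizer (R : Set G))
    {D : Subgroup G} (hDR : D ≤ R) (hMD : M ≤ Subgroup.normalizer (D : Set G))
    (hcop : (Nat.card (fittingOf H)).Coprime (Nat.card D)) {p : ℕ} [hp : Fact p.Prime]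
    (hpF : p ∣ Nat.card (fittingOf H)) :
    D ⊓ Subgroup.centralizer (Zq H p : Set G) = ⊥ := by
  set E := D ⊓ Subgroup.centralizer (Zq H p : Set G) with hE
  have hEH : E ≤ H := inf_le_right.trans (hH.centralizer_Zq_le hpF)
  have hMZ : M ≤ Subgroup.normalizer (Zq H p : Set G) :=
    (hM.trans (fittingOf_le H)).trans (le_normalizer_Zq H p)
  have hME : M ≤ Subgroup.normalizer (E : Set G) :=
    le_normalizer_inf' hMD (le_normalizer_centralizer_of_le hMZ)
  have hcopE : (Nat.card (fittingOf H)).Coprime (Nat.card E) :=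
    Nat.Coprime.coprime_dvd_right (Subgroup.card_dvd_of_le inf_le_left) hcop
  have h1 : E ≤ Subgroup.centralizer (fittingOf H : Set G) :=
    le_centralizer_fittingOf hM hCM hEH hME hcopE
  have h2 : E ≤ fittingOf H :=
    (le_inf (le_inf hEH h1) (inf_le_left.trans hDR)).trans (centralizer_inf_le_fittingOf hR hXR)
  have h3 : fittingOf H ⊓ E = ⊥ := (Subgroup.disjoint_of_coprime_natCard hcopE).eq_bot
  rw [eq_bot_iff, ← h3]
  exact le_inf h2 le_rfl

end

end Cfsg.Agent.Lib.H10.BML
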