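import Mathlib
import Cfsg.Agent.Lib.H10.BMLb
import Cfsg.Agent.Lib.H10.BG36g
import Cfsg.Agent.Lib.H10.BG36f
import Cfsg.Agent.Lib.H1.CoprimeSylow
import Cfsg.Agent.Lib.H16.SylCommA
import Cfsg.Agent.Lib.H16.BGc

/-!
# Maximal local subgroups: invariant `q`-subgroups lie in the core (helper10)
-/

set_option autoImplicit false
set_option linter.unusedSectionVars false
set_option linter.style.haveILetI false

namespace Cfsg.Agent.Lib.H10.BML

open Subgroup Cfsg Cfsg.Agent.Lib.H19 Cfsg.Agent.Lib.H1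
open Cfsg.Agent.Lib.H16.BG Cfsg.Agent.Lib.H7.BG7
open scoped Pointwise commutatorElement

universe u

variable {G : Type u} [Group G]

/-- the elements normalizing `T` and `K` and centralizing `T` modulo `K` -/
def centMod (T K : Subgroup G) : Subgroup G where
  carrier := {x | x ∈ Subgroup.normalizer (T : Set G) ∧ x ∈ Subgroup.normalizer (K : Set G) ∧
    ∀ t ∈ T, ⁅t, x⁆ ∈ K}
  one_mem' := by
    refine ⟨one_mem _, one_mem _, fun t _ => ?_⟩
    rw [commutatorElement_one_right]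
    exact one_mem _
  mul_mem' := by
    rintro x y ⟨hx1, hx2, hx3⟩ ⟨hy1, hy2, hy3⟩
    refine ⟨mul_mem hx1 hy1, mul_mem hx2 hy2, fun t ht => ?_⟩
    have e : ⁅t, x * y⁆ = ⁅t, x⁆ * (x * ⁅t, y⁆ * x⁻¹) := by
      simp only [commutatorElement_def]; group
    rw [e]
    exact mul_mem (hx3 t ht) ((Subgroup.mem_normalizer_iff.1 hx2 _).1 (hy3 t ht))
  inv_mem' := by
    rintro x ⟨hx1, hx2, hx3⟩
    refine ⟨inv_mem hx1, inv_mem hx2, fun t ht => ?_⟩
    have e : ⁅t, x⁻¹⁆ = x⁻¹ * (⁅t, x⁆)⁻¹ * x⁻¹⁻¹ := by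
      simp only [commutatorElement_def]; group
    rw [e]
    exact (Subgroup.mem_normalizer_iff.1 (inv_mem hx2) _).1 (inv_mem (hx3 t ht))

theorem mem_centMod {T K : Subgroup G} {x : G} :
    x ∈ centMod T K ↔ x ∈ Subgroup.normalizer (T : Set G) ∧ x ∈ Subgroup.normalizer (K : Set G) ∧
      ∀ t ∈ T, ⁅t, x⁆ ∈ K := Iff.rfl

theorem le_normalizer_centMod (T K : Subgroup G) :
    Subgroup.normalizer (T : Set G) ⊓ Subgroup.normalizer (K : Set G) ≤
      Subgroup.normalizer (centMod T K : Set G) := by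
  have key : ∀ n ∈ Subgroup.normalizer (T : Set G) ⊓ Subgroup.normalizer (K : Set G),
      ∀ x ∈ centMod T K, n * x * n⁻¹ ∈ centMod T K := by
    rintro n ⟨hn1, hn2⟩ x ⟨hx1, hx2, hx3⟩
    refine ⟨mul_mem (mul_mem hn1 hx1) (inv_mem hn1), mul_mem (mul_mem hn2 hx2) (inv_mem hn2),
      fun t ht => ?_⟩
    have ht' : n⁻¹ * t * n⁻¹⁻¹ ∈ T := (Subgroup.mem_normalizer_iff.1 (inv_mem hn1) t).1 ht
    have e : ⁅t, n * x * n⁻¹⁆ = n * ⁅n⁻¹ * t * n⁻¹⁻¹, x⁆ * n⁻¹ := by
      simp only [commutatorElement_def]; group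
    rw [e]
    exact (Subgroup.mem_normalizer_iff.1 hn2 _).1 (hx3 _ ht')
  intro n hn
  rw [Subgroup.mem_normalizer_iff]
  intro x
  constructor
  · exact key n hn x
  · intro hx
    have := key n⁻¹ (inv_mem hn) _ hx
    have e : n⁻¹ * (n * x * n⁻¹) * n⁻¹⁻¹ = x := by group
    rwa [e] at this

variable [Finite G]

theorem isSolvable_of_isPGroup {p : ℕ} [Fact p.Prime] {P : Subgroup G} (h : IsPGroup p P) :
    Group.IsSolvable P := by
  haveI := h.isNilpotent
  infer_instance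

/-- arithmetic: if `n ∣ k * r ^ m`, `k ∣ n` and `r ∤ k` then `n ∣ k * r ^ (v_r n)` -/
theorem dvd_mul_ordProj {n k r m : ℕ} (hr : r.Prime) (hn : n ≠ 0) (h : n ∣ k * r ^ m) :
    n ∣ k * r ^ n.factorization r := by
  have h1 := Nat.ordProj_mul_ordCompl_eq_self n r
  have h2 : r.Coprime (n / r ^ n.factorization r) := Nat.coprime_ordCompl hr hn
  have h3 : n / r ^ n.factorization r ∣ k := by
    apply Nat.Coprime.dvd_of_dvd_mul_right (Nat.Coprime.pow_right m h2.symm)
    exact (Dvd.intro_left _ h1).trans h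
  conv_lhs => rw [← h1]
  rw [mul_comm]
  exact Nat.mul_dvd_mul h3 dvd_rfl

section Main

variable {H M R : Subgroup G}

/-- **Key step**: an `M`-invariant `q`-subgroup of `R` (`q ∤ #F`) lies in `O_{π(F)'}(R)`. -/
theorem le_piCoreOf_of_invariant (hH : MaxLocal H)
    (hF2 : 2 ≤ (Nat.card (fittingOf H)).primeFactors.card)
    (hM : M ≤ fittingOf H) (hCM : fittingOf H ⊓ Subgroup.centralizer (M : Set G) ≤ M)
    (hR : Group.IsSolvable R) (hMR : M ≤ Subgroup.normalizer (R : Set G))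
    (hXR : H ⊓ Subgroup.centralizer (fittingOf H : Set G) ≤ Subgroup.normalizer (R : Set G))
    {q : ℕ} [hq : Fact q.Prime] (hqF : ¬ q ∣ Nat.card (fittingOf H))
    {Q : Subgroup G} (hQR : Q ≤ R) (hQ : IsPGroup q Q)
    (hMQ : M ≤ Subgroup.normalizer (Q : Set G)) :
    Q ≤ piCoreOf (primesNotDvd (Nat.card (fittingOf H))) R := by
  set σ := primesNotDvd (Nat.card (fittingOf H)) with hσ
  set K := piCoreOf σ R with hK
  have hqσ : q ∈ σ := ⟨hq.out, hqF⟩
  have hQσ : IsPiCard σ (Nat.card Q) := isPiCard_card_of_isPGroup hqσ hQ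
  apply le_piCoreOf_of_commutator_upT_le hR hQR hQσ
  intro r hr
  by_contra hnot
  haveI : Fact r.Prime := ⟨hr⟩
  set T := upT σ r R with hT
  have hKT : K ≤ T := piCoreOf_le_upT σ r R
  have hTR : T ≤ R := upT_le σ r R
  have hNT : Subgroup.normalizer (R : Set G) ≤ Subgroup.normalizer (T : Set G) :=
    normalizer_le_normalizer_upT σ r R
  have hNK : Subgroup.normalizer (R : Set G) ≤ Subgroup.normalizer (K : Set G) :=
    normalizer_le_normalizer_piCoreOf σ R
  have hRK : R ≤ Subgroup.normalizer (K : Set G) := le_normalizer_piCoreOf σ R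
  have hKσ : IsPiCard σ (Nat.card K) := piCoreOf_isPiCard σ R
  obtain ⟨a, ha⟩ := card_upT σ r R
  -- `r` divides `#F`
  have hrF : r ∣ Nat.card (fittingOf H) := by
    by_contra hrF
    have hrσ : r ∈ σ := ⟨hr, hrF⟩
    have hTσ : IsPiCard σ (Nat.card T) := by
      rw [ha]
      apply isPiCard_mul hKσ
      intro s hs hsd
      have := (Nat.prime_dvd_prime_iff_eq hs hr).1 (hs.dvd_of_dvd_pow hsd)
      rw [this]; exact hrσ
    have hTK : T ≤ K := le_piCoreOf hTR (Subgroup.le_normalizer.trans hNT) hTσ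
    apply hnot
    rw [Subgroup.commutator_comm]
    exact commutator_le_of_le_normalizer (hQR.trans hRK) hTK
  -- a second prime
  obtain ⟨p, hpmem, hpr⟩ := Finset.exists_mem_ne (by omega : 1 < (Nat.card (fittingOf H)).primeFactors.card) r
  have hp : p.Prime := Nat.prime_of_mem_primeFactors hpmem
  have hpF : p ∣ Nat.card (fittingOf H) := Nat.dvd_of_mem_primeFactors hpmem
  haveI : Fact p.Prime := ⟨hp⟩
  have hpq : p ≠ q := fun h => hqF (h ▸ hpF)
  set Zr := Zq H r with hZr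
  set Zp := Zq H p with hZp
  have hZrM : Zr ≤ M := Zq_le_of_centralizer_le hM hCM r
  have hZpM : Zp ≤ M := Zq_le_of_centralizer_le hM hCM p
  have hZrT : Zr ≤ Subgroup.normalizer (T : Set G) := hZrM.trans (hMR.trans hNT)
  have hZpT : Zp ≤ Subgroup.normalizer (T : Set G) := hZpM.trans (hMR.trans hNT)
  have hZrK : Zr ≤ Subgroup.normalizer (K : Set G) := hZrM.trans (hMR.trans hNK)
  have hZpK : Zp ≤ Subgroup.normalizer (K : Set G) := hZpM.trans (hMR.trans hNK)
  have hZpZr : Zp ≤ Subgroup.normalizer (Zr : Set G) :=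
    ((Zq_le H p).trans (fittingOf_le H)).trans (le_normalizer_Zq H r)
  have hZrp : IsPGroup r Zr := isPGroup_Zq H r
  have hZpp : IsPGroup p Zp := isPGroup_Zq H p
  obtain ⟨c, hc⟩ := IsPGroup.iff_card.1 hZrp
  obtain ⟨b, hb⟩ := IsPGroup.iff_card.1 hZpp
  have hpK : ¬ p ∣ Nat.card K := fun h => (hKσ p hp h).2 hpF
  have hrK : ¬ r ∣ Nat.card K := fun h => (hKσ r hr h).2 hrF
  set L := T ⊔ Zr with hL
  have hLdvd : Nat.card L ∣ Nat.card K * r ^ (a + c) := by
    have h1 : Nat.card (Zr ⊔ T : Subgroup G) ∣ Nat.card Zr * Nat.card T :=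
      Cfsg.Agent.Lib.H16.SylComm.card_sup_dvd_of_le_normalizer hZrT
    rw [sup_comm, ha, hc] at h1
    rw [hL, pow_add]
    convert h1 using 1
    ring
  have hpL : ¬ p ∣ Nat.card L := by
    intro h
    rcases (Nat.Prime.dvd_mul hp).1 (h.trans hLdvd) with h1 | h1
    · exact hpK h1
    · exact hpr ((Nat.prime_dvd_prime_iff_eq hp hr).1 (hp.dvd_of_dvd_pow h1))
  have hZpL : Zp ≤ Subgroup.normalizer (L : Set G) :=
    Cfsg.Agent.Lib.H10.BG36.le_normalizer_sup' hZpT hZpZr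
  have hcopL : CoprimeAction Zp L := by
    refine ⟨hZpL, ?_, Or.inl (isSolvable_of_isPGroup hZpp)⟩
    rw [hb]
    exact Nat.Coprime.pow_left b ((Nat.Prime.coprime_iff_not_dvd hp).2 hpL)
  obtain ⟨S, hS, hZrS, hZpS⟩ :=
    coprime_invariant_psubgroup_le_sylow hcopL (le_sup_right : Zr ≤ L) hZrp hZpZr
  set Tr := S ⊓ T with hTr
  have hTrp : IsPGroup r Tr := hS.isPGroup.to_le inf_le_left
  have hZpTr : Zp ≤ Subgroup.normalizer (Tr : Set G) := le_normalizer_inf' hZpS hZpT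
  have hZrTr : Zr ≤ Subgroup.normalizer (Tr : Set G) :=
    le_normalizer_inf' (hZrS.trans Subgroup.le_normalizer) hZrT
  -- `T = K T_r`
  have hLK : L ≤ Subgroup.normalizer (K : Set G) := sup_le (hTR.trans hRK) hZrK
  have hSK : S ≤ Subgroup.normalizer (K : Set G) := hS.le.trans hLK
  have hKS : K ⊔ S = L := by
    apply Subgroup.eq_of_le_of_card_ge (sup_le (hKT.trans le_sup_left) hS.le)
    apply Nat.le_of_dvd Nat.card_pos
    have h1 : Nat.card L ∣ Nat.card K * Nat.card S := by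
      rw [hS.card_eq]
      exact dvd_mul_ordProj hr Nat.card_pos.ne' hLdvd
    refine h1.trans ?_
    apply Nat.Coprime.mul_dvd_of_dvd_of_dvd
    · rw [hS.card_eq]
      exact Nat.Coprime.pow_right _ (((Nat.Prime.coprime_iff_not_dvd hr).2 hrK).symm)
    · exact Subgroup.card_dvd_of_le le_sup_left
    · exact Subgroup.card_dvd_of_le le_sup_right
  have hdec : ∀ t ∈ T, ∃ k ∈ K, ∃ s ∈ Tr, t = k * s := by
    intro t ht
    have htL : t ∈ K ⊔ S := by rw [hKS]; exact (le_sup_left : T ≤ L) ht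
    obtain ⟨k, hk, s, hs, e⟩ := (Cfsg.Agent.Lib.H10.BG36.mem_sup_of_le_normalizer hSK).1 htL
    refine ⟨k, hk, s, Subgroup.mem_inf.2 ⟨hs, ?_⟩, e⟩
    have : s = k⁻¹ * t := by rw [e]; group
    rw [this]
    exact mul_mem (inv_mem (hKT hk)) ht
  -- `Z_p` centralizes `C_{T_r}(Z_r)`
  set D := Tr ⊓ Subgroup.centralizer (Zr : Set G) with hD
  have hDH : D ≤ H := inf_le_right.trans (hH.centralizer_Zq_le hrF)
  have hZpD : Zp ≤ Subgroup.normalizer (D : Set G) :=
    le_normalizer_inf' hZpTr (le_normalizer_centralizer_of_le hZpZr)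
  have hcomm : ⁅Zp, D⁆ = ⊥ := by
    have h1 : ⁅D, Zp⁆ ≤ Zp :=
      commutator_le_of_le_normalizer (hDH.trans (le_normalizer_Zq H p)) le_rfl
    have h2 : ⁅Zp, D⁆ ≤ D := commutator_le_of_le_normalizer hZpD le_rfl
    have h3 : D ⊓ Zp = ⊥ :=
      (IsPGroup.disjoint_of_ne r p (Ne.symm hpr) D Zp (hTrp.to_le inf_le_left) hZpp).eq_bot
    rw [eq_bot_iff, ← h3]
    refine le_inf h2 ?_
    rw [Subgroup.commutator_comm]
    exact h1
  have hres : ⁅Zp, Tr⁆ = ⊥ := by
    apply Cfsg.Agent.Lib.H7.thompson_AxB' r hTrp hZrp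
    · rw [hb]
      exact Nat.Coprime.pow_left b ((Nat.coprime_primes hp hr).2 hpr)
    · exact commutator_eq_bot_of_le_centralizer
        ((Zq_le H p).trans (fittingOf_le_centralizer_Zq H r))
    · exact hZpTr
    · exact hZrTr
    · exact hcomm
  have hZpcent : Zp ≤ Subgroup.centralizer (Tr : Set G) := le_centralizer_of_commutator_eq_bot hres
  -- `Z_p` centralizes `T` modulo `K`
  have hZpC : Zp ≤ centMod T K := by
    intro z hz
    refine ⟨hZpT hz, hZpK hz, fun t ht => ?_⟩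
    obtain ⟨k, hk, s, hs, rfl⟩ := hdec t ht
    have hsz : s * z = z * s := Subgroup.mem_centralizer_iff.1 (hZpcent hz) s hs
    have e : ⁅k * s, z⁆ = k * (z * k⁻¹ * z⁻¹) := by
      simp only [commutatorElement_def]
      calc k * s * z * (k * s)⁻¹ * z⁻¹ = k * (s * z) * s⁻¹ * k⁻¹ * z⁻¹ := by group
        _ = k * (z * s) * s⁻¹ * k⁻¹ * z⁻¹ := by rw [hsz]
        _ = k * (z * k⁻¹ * z⁻¹) := by group
    rw [e]
    exact mul_mem hk ((Subgroup.mem_normalizer_iff.1 (hZpK hz) _).1 (inv_mem hk))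
  -- `Q = [Q, Z_p]`
  obtain ⟨d, hd⟩ := IsPGroup.iff_card.1 hQ
  have hcopQ : CoprimeAction Zp Q := by
    refine ⟨hZpM.trans hMQ, ?_, Or.inl (isSolvable_of_isPGroup hZpp)⟩
    rw [hb, hd]
    exact Nat.Coprime.pow b d ((Nat.coprime_primes hp hq.out).2 hpq)
  have hFQ : (Nat.card (fittingOf H)).Coprime (Nat.card Q) := by
    rw [hd]
    exact Nat.Coprime.pow_right d (((Nat.Prime.coprime_iff_not_dvd hq.out).2 hqF).symm)
  have hfix : Q ⊓ Subgroup.centralizer (Zp : Set G) = ⊥ :=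
    inf_centralizer_Zq_eq_bot hH hM hCM hR hXR hQR hMQ hFQ hpF
  have hQcomm : ⁅Q, Zp⁆ = Q := commutator_eq_of_centralizer_eq_bot hcopQ hfix
  have hQC : Q ≤ centMod T K := by
    rw [← hQcomm]
    apply commutator_le_of_le_normalizer _ hZpC
    exact (le_inf (hQR.trans (Subgroup.le_normalizer.trans hNT)) (hQR.trans hRK)).trans
      (le_normalizer_centMod T K)
  apply hnot
  rw [Subgroup.commutator_le]
  intro t ht x hx
  exact (hQC hx).2.2 t ht

end Main

end Cfsg.Agent.Lib.H10.BML
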