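import Mathlib
import Cfsg.Agent.Lib.H10.BMLc
import Cfsg.Agent.Lib.H16.BGg
import Cfsg.Agent.Lib.H16.PGroupBasic

/-!
# Bender: a maximal subgroup `H` of a minimal simple group of odd order, `F(H)` not of prime power
order, `Z(F(H)) ≤ A ≤ F(H)` with no nontrivial `A`-invariant `π(F(H))'`-subgroup of `G`: then `H`
is the only maximal subgroup containing `A` (helper10)

The first half generalizes helper16's proof of BG Theorem 8.1(a) (`Cfsg.Agent.Lib.H16.BGg`).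
-/

set_option autoImplicit false
set_option linter.unusedSectionVars false
set_option linter.style.haveILetI false

namespace Cfsg.Agent.Lib.H10.BML

open Subgroup Cfsg Cfsg.Agent.Lib.H19 Cfsg.Agent.Lib.H1
open Cfsg.Agent.Lib.H16.BG Cfsg.Agent.Lib.H7.BG7
open scoped Pointwise commutatorElement

universe u

variable {G : Type u} [Group G] [Finite G]

/-- the hypotheses -/
structure ZA (H A : Subgroup G) : Prop where
  coatom : IsCoatom H
  le : A ≤ fittingOf H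
  center_le : fittingOf H ⊓ Subgroup.centralizer (fittingOf H : Set G) ≤ A
  two : 2 ≤ (Nat.card (fittingOf H)).primeFactors.card
  inv : ∀ Y ∈ invSubgroups ⊤ A (primesNotDvd (Nat.card (fittingOf H))), Y = ⊥

namespace ZA

variable {H A L : Subgroup G}

theorem Zq_le_A (h : ZA H A) (q : ℕ) : Zq H q ≤ A :=
  (le_inf (Zq_le H q) (le_centralizer_comm (fittingOf_le_centralizer_Zq H q))).trans h.center_le

theorem exists_other (h : ZA H A) (r : ℕ) :
    ∃ q : ℕ, q.Prime ∧ q ≠ r ∧ q ∣ Nat.card (fittingOf H) := by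
  obtain ⟨q, hq, hqr⟩ := Finset.exists_mem_ne
    (by have := h.two; omega : 1 < (Nat.card (fittingOf H)).primeFactors.card) r
  exact ⟨q, Nat.prime_of_mem_primeFactors hq, hqr, Nat.dvd_of_mem_primeFactors hq⟩

theorem fit_ne_bot (h : ZA H A) : fittingOf H ≠ ⊥ := by
  intro h0
  obtain ⟨q, hq, -, hqF⟩ := h.exists_other 0
  rw [h0, Subgroup.card_bot] at hqF
  exact hq.one_lt.ne' (Nat.dvd_one.1 hqF)

/-- `O_{π(F)'}(L) = 1`. -/
theorem core_eq_bot (h : ZA H A) (hAL : A ≤ L) :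
    piCoreOf (primesNotDvd (Nat.card (fittingOf H))) L = ⊥ :=
  h.inv _ ⟨le_top, piCoreOf_isPiCard _ _, hAL.trans (le_normalizer_piCoreOf _ _)⟩

theorem Nr_le (h : ZA H A) (L : Subgroup G) (r : ℕ) : Nr H L r ≤ L := by
  obtain ⟨q, hq, hqr, hqF⟩ := h.exists_other r
  exact (Nr_le_core H L hq hqF hqr).trans (piCoreOf_le _ _)

theorem Nr_inf_Nr (h : ZA H A) (hAL : A ≤ L) {r s : ℕ} (hrs : r ≠ s) :
    Nr H L r ⊓ Nr H L s = ⊥ := by
  rw [eq_bot_iff, ← h.core_eq_bot hAL]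
  apply le_piCoreOf
  · exact inf_le_left.trans (h.Nr_le L r)
  · exact le_normalizer_inf' (le_normalizer_Nr H L r) (le_normalizer_Nr H L s)
  · intro t ht htN
    refine ⟨ht, fun htF => ?_⟩
    have hle : Nr H L r ⊓ Nr H L s ≤ piCoreOf (primesNotDvd t) L := by
      by_cases htr : t = r
      · have hts : t ≠ s := fun hts => hrs (htr.symm.trans hts)
        exact inf_le_right.trans (Nr_le_core H L ht htF hts)
      · exact inf_le_left.trans (Nr_le_core H L ht htF htr)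
    have h2 := card_piCoreOf_primesNotDvd_coprime t L
    have h3 : t ∣ 1 := by
      rw [← h2]
      exact Nat.dvd_gcd (htN.trans (Subgroup.card_dvd_of_le hle)) dvd_rfl
    exact ht.one_lt.ne' (Nat.dvd_one.1 h3)

theorem Nr_le_centralizer_Nr (h : ZA H A) (hAL : A ≤ L) {r s : ℕ} (hrs : r ≠ s) :
    Nr H L r ≤ Subgroup.centralizer (Nr H L s : Set G) :=
  le_centralizer_of_inf_eq_bot ((h.Nr_le L r).trans (le_normalizer_Nr H L s))
    ((h.Nr_le L s).trans (le_normalizer_Nr H L r)) (h.Nr_inf_Nr hAL hrs)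

/-- `F_s ∩ L ≤ N_s`. -/
theorem Fq_inf_le_Nr (hG : IsMinSimpleOddOrder G) (h : ZA H A) (hL : L ≠ ⊤) (hAL : A ≤ L)
    (s : ℕ) [Fact s.Prime] : Fq H s ⊓ L ≤ Nr H L s := by
  apply le_Nr
  intro q hq hqF hqs
  haveI : Fact q.Prime := ⟨hq⟩
  exact Fq_inf_le_core hG h.coatom hqF (Ne.symm hqs) hL ((h.Zq_le_A q).trans hAL)

theorem Zq_le_Nr (hG : IsMinSimpleOddOrder G) (h : ZA H A) (hL : L ≠ ⊤) (hAL : A ≤ L)
    (s : ℕ) [Fact s.Prime] : Zq H s ≤ Nr H L s :=
  (le_inf inf_le_left ((h.Zq_le_A s).trans hAL)).trans (h.Fq_inf_le_Nr hG hL hAL s)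

/-- `N_r ≤ H`. -/
theorem Nr_le_H (hG : IsMinSimpleOddOrder G) (h : ZA H A) (hL : L ≠ ⊤) (hAL : A ≤ L)
    (r : ℕ) : Nr H L r ≤ H := by
  obtain ⟨s, hs, hsr, hsF⟩ := h.exists_other r
  haveI : Fact s.Prime := ⟨hs⟩
  exact ((h.Nr_le_centralizer_Nr hAL (Ne.symm hsr)).trans
    (centralizer_anti (h.Zq_le_Nr hG hL hAL s))).trans (centralizer_Zq_le hG h.coatom hsF)

/-- `O_r(L) ≤ N_r`. -/
theorem core_le_Nr (H L : Subgroup G) (r : ℕ) [hr : Fact r.Prime] :
    piCoreOf {r} L ≤ Nr H L r := by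
  apply le_Nr
  intro q hq hqF hqr
  apply piCoreOf_mono_set
  intro t ht
  rw [Set.mem_singleton_iff] at ht
  subst ht
  exact ⟨hr.out, fun hdvd => hqr ((Nat.prime_dvd_prime_iff_eq hr.out hq).1 hdvd).symm⟩

/-- `O_r(L) ≤ H` for every prime `r`. -/
theorem core_le_H (hG : IsMinSimpleOddOrder G) (h : ZA H A) (hL : L ≠ ⊤) (hAL : A ≤ L)
    (r : ℕ) [hr : Fact r.Prime] : piCoreOf {r} L ≤ H :=
  (core_le_Nr H L r).trans (h.Nr_le_H hG hL hAL r)

/-- `F(L) ≤ H`. -/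
theorem fittingOf_le_H (hG : IsMinSimpleOddOrder G) (h : ZA H A) (hL : L ≠ ⊤) (hAL : A ≤ L) :
    fittingOf L ≤ H := by
  refine (le_iSup_piCoreOf_singleton (fittingOf_isNilpotent L)).trans (iSup_le fun q => ?_)
  haveI : Fact (q : ℕ).Prime := ⟨q.2⟩
  exact (piCoreOf_le_piCoreOf_of_normal _ (fittingOf_le L) (le_normalizer_fittingOf L)).trans
    (h.core_le_H hG hL hAL q)

/-- `F_r ∩ L ≤ O_r(L)`. -/
theorem Fq_inf_le_pcore (hG : IsMinSimpleOddOrder G) (h : ZA H A) (hL : L ≠ ⊤) (hAL : A ≤ L)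
    (r : ℕ) [hr : Fact r.Prime] : Fq H r ⊓ L ≤ piCoreOf {r} L := by
  have h1 : Fq H r ⊓ L ≤ Nr H L r := h.Fq_inf_le_Nr hG hL hAL r
  have h2 : Nr H L r ≤ Subgroup.normalizer ((Fq H r ⊓ L : Subgroup G) : Set G) :=
    le_normalizer_inf' ((h.Nr_le_H hG hL hAL r).trans (le_normalizer_Fq H r))
      ((h.Nr_le L r).trans Subgroup.le_normalizer)
  have h3 : Fq H r ⊓ L ≤ piCoreOf {r} (Nr H L r) :=
    le_piCoreOf h1 h2 (isPiCard_card_of_isPGroup (Set.mem_singleton r)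
      ((isPGroup_Fq H r).to_le inf_le_left))
  exact h3.trans (piCoreOf_le_piCoreOf_of_normal _ (h.Nr_le L r) (le_normalizer_Nr H L r))

/-- `F_r ≤ O_r(L)`: `O_r(L)` is self-normalizing in the `r`-group `F_r O_r(L)`. -/
theorem Fq_le_pcore (hG : IsMinSimpleOddOrder G) (h : ZA H A) (hL : IsCoatom L) (hAL : A ≤ L)
    (r : ℕ) [hr : Fact r.Prime] (hrF : r ∣ Nat.card (fittingOf H)) :
    Fq H r ≤ piCoreOf {r} L := by
  set P := piCoreOf {r} L with hP
  have hPL : P ≤ L := piCoreOf_le _ _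
  have hZP : Zq H r ≤ P :=
    (le_inf inf_le_left ((h.Zq_le_A r).trans hAL)).trans (h.Fq_inf_le_pcore hG hL.1 hAL r)
  have hP1 : P ≠ ⊥ := _root_.ne_bot_of_le_ne_bot (Zq_ne_bot H hrF) hZP
  have hNP : Subgroup.normalizer (P : Set G) = L :=
    normalizer_eq_of_coatom hG hL hPL hP1 (le_normalizer_piCoreOf _ _)
  have hPH : P ≤ H := h.core_le_H hG hL.1 hAL r
  have hPF : P ≤ Subgroup.normalizer (Fq H r : Set G) := hPH.trans (le_normalizer_Fq H r)
  set W := Fq H r ⊔ P with hW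
  have hWp : IsPGroup r W :=
    IsPGroup.to_sup_of_normal_left' (isPGroup_Fq H r) (isPGroup_piCoreOf_singleton r L) hPF
  by_contra hnot
  have hlt : P < W := by
    refine lt_of_le_of_ne le_sup_right ?_
    intro he
    exact hnot (he ▸ (le_sup_left : Fq H r ≤ W))
  obtain ⟨n, hnW, hnP, hnN⟩ := Cfsg.Agent.Lib.H16.exists_mem_normalizer_not_mem W P hWp hlt
  have hnL : n ∈ L := hNP ▸ hnN
  obtain ⟨f, hf, x, hx, e⟩ := (Cfsg.Agent.Lib.H10.BG36.mem_sup_of_le_normalizer hPF).1 hnW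
  have hfL : f ∈ L := by
    have : f = n * x⁻¹ := by rw [e]; group
    rw [this]
    exact mul_mem hnL (inv_mem (hPL hx))
  have hfP : f ∈ P := h.Fq_inf_le_pcore hG hL.1 hAL r (Subgroup.mem_inf.2 ⟨hf, hfL⟩)
  exact hnP (e ▸ mul_mem hfP hx)

/-- `F(H) ≤ F(L)`. -/
theorem fit_le_fit (hG : IsMinSimpleOddOrder G) (h : ZA H A) (hL : IsCoatom L) (hAL : A ≤ L) :
    fittingOf H ≤ fittingOf L := by
  refine (le_iSup_piCoreOf_singleton (fittingOf_isNilpotent H)).trans (iSup_le fun q => ?_)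
  haveI : Fact (q : ℕ).Prime := ⟨q.2⟩
  by_cases hqF : (q : ℕ) ∣ Nat.card (fittingOf H)
  · exact (h.Fq_le_pcore hG hL hAL q hqF).trans (piCoreOf_singleton_le_fittingOf q L)
  · have h0 : Fq H q = ⊥ := by
      by_contra hne
      exact hqF (dvd_card_fittingOf_of_Fq_ne_bot H hne)
    change Fq H q ≤ _
    rw [h0]
    exact bot_le

/-- the symmetric hypotheses for `L` and `A' = F(L)` -/
theorem symm (hG : IsMinSimpleOddOrder G) (h : ZA H A) (hL : IsCoatom L) (hAL : A ≤ L) :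
    ZA L (fittingOf L) := by
  have hFF : fittingOf H ≤ fittingOf L := h.fit_le_fit hG hL hAL
  have hdvd : Nat.card (fittingOf H) ∣ Nat.card (fittingOf L) := Subgroup.card_dvd_of_le hFF
  refine ⟨hL, le_rfl, inf_le_left, ?_, ?_⟩
  · refine h.two.trans (Finset.card_le_card ?_)
    exact Nat.primeFactors_mono hdvd Nat.card_pos.ne'
  · rintro Y ⟨-, hY1, hY2⟩
    apply h.inv
    refine ⟨le_top, ?_, (h.le.trans hFF).trans hY2⟩
    intro t ht htY
    exact ⟨ht, fun htF => (hY1 t ht htY).2 (htF.trans hdvd)⟩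

/-- **Bender**: `H` is the only maximal subgroup containing `A`. -/
theorem eq_of_coatom (hG : IsMinSimpleOddOrder G) (h : ZA H A) (hL : IsCoatom L) (hAL : A ≤ L) :
    L = H := by
  have h1 : fittingOf H ≤ fittingOf L := h.fit_le_fit hG hL hAL
  have h' : ZA L (fittingOf L) := h.symm hG hL hAL
  have h2 : fittingOf L ≤ H := h.fittingOf_le_H hG hL.1 hAL
  have h3 : fittingOf L ≤ fittingOf H := h'.fit_le_fit hG h.coatom h2
  have heq : fittingOf L = fittingOf H := le_antisymm h3 h1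
  rw [← normalizer_fittingOf_eq hG hL h'.fit_ne_bot, heq,
    normalizer_fittingOf_eq hG h.coatom h.fit_ne_bot]

end ZA

end Cfsg.Agent.Lib.H10.BML
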