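import Mathlib
import Cfsg.Agent.Lib.H8.BQ0

/-!
# S4719 Part II, piece QD: normalizing passes to the quotient `N_Γ(X)/X` (helper10)
-/

set_option autoImplicit false

universe u

namespace Cfsg.Agent.Lib.H10.BQ

open Subgroup Cfsg.Agent.Lib.H8.BQ

/-- Conjugation by the image of an element of `N_Γ(X)` that normalizes `H` preserves `qImg X H`. -/
theorem qMap_conj_mem_qImg {Γ : Type u} [Group Γ] (X H : Subgroup Γ)
    (k : ↥(normalizer (X : Set Γ))) (hk : (k : Γ) ∈ normalizer (H : Set Γ))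
    (y : QΓ X) (hy : y ∈ qImg X H) : qMap X k * y * (qMap X k)⁻¹ ∈ qImg X H := by
  obtain ⟨h, hh, rfl⟩ := hy
  refine ⟨k * h * k⁻¹, ?_, by simp⟩
  rw [SetLike.mem_coe, mem_subgroupOf] at hh ⊢
  have := (mem_normalizer_iff.mp hk) (h : Γ)
  simpa using this.mp hh

/-- QD. Normalizing passes to the quotient. -/
theorem qImg_le_normalizer {Γ : Type u} [Group Γ] (X H K : Subgroup Γ)
    (hKX : K ≤ normalizer (X : Set Γ)) (hKH : K ≤ normalizer (H : Set Γ)) :
    qImg X K ≤ normalizer ((qImg X H : Subgroup (QΓ X)) : Set (QΓ X)) := by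
  intro w hw
  obtain ⟨k, hk, rfl⟩ := hw
  rw [SetLike.mem_coe, mem_subgroupOf] at hk
  rw [mem_normalizer_iff]
  intro y
  constructor
  · exact qMap_conj_mem_qImg X H k (hKH hk) y
  · intro hy
    have hk' : ((k⁻¹ : ↥(normalizer (X : Set Γ))) : Γ) ∈ normalizer (H : Set Γ) := by
      simpa using (normalizer (H : Set Γ)).inv_mem (hKH hk)
    have := qMap_conj_mem_qImg X H k⁻¹ hk' _ hy
    simpa [mul_assoc] using this

end Cfsg.Agent.Lib.H10.BQ
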