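import Mathlib
import Cfsg.Prelude.Def_BaumannBlocks
import Cfsg.Agent.Lib.H15.MCL
import Cfsg.Agent.Lib.H15.CLAb
import Cfsg.Agent.Lib.H15.PGroup

/-!
S3008 piece ABW (helper10's twin): every abelian subgroup `Y ≤ C(Q) C(Q₁)` with `|Y| ≥ |C(Q)|`
is the centre of the minimal centrally large subgroup `C(Y)`.
-/

set_option autoImplicit false

namespace Cfsg.Agent.Lib.H10.CLB

open scoped Pointwise commutatorElement
open Cfsg.Agent.Lib.H15

theorem abw_arith {y z i d w cy m : ℕ} (hy : 0 < y) (hi : 0 < i) (hd : 0 < d)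
    (h1 : y * i ≤ d * cy) (h2 : y * cy ≤ m) (h3 : m = w * i) (h4 : z * z = d * w) (h5 : z ≤ y) :
    y = z ∧ y * cy = m := by
  -- y*y*i ≤ y*d*cy = d*(y*cy) ≤ d*m = d*w*i = z*z*i
  have e1 : y * y * i ≤ z * z * i := by
    calc y * y * i = y * (y * i) := by ring
      _ ≤ y * (d * cy) := Nat.mul_le_mul_left _ h1
      _ = d * (y * cy) := by ring
      _ ≤ d * m := Nat.mul_le_mul_left _ h2
      _ = d * w * i := by rw [h3]; ring
      _ = z * z * i := by rw [h4]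
  have e2 : y * y ≤ z * z := Nat.le_of_mul_le_mul_right e1 hi
  have e3 : y ≤ z := by
    by_contra hlt
    have hlt' : z < y := Nat.lt_of_not_le hlt
    have : z * z < y * y := Nat.mul_lt_mul_of_lt_of_le hlt' hlt'.le (by omega)
    omega
  have hyz : y = z := le_antisymm e3 h5
  refine ⟨hyz, ?_⟩
  subst hyz
  -- d * (y*cy) ≥ y*y*i = d*w*i = d*m
  have e4 : d * m ≤ d * (y * cy) := by
    calc d * m = d * w * i := by rw [h3]; ring
      _ = y * y * i := by rw [h4]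
      _ = y * (y * i) := by ring
      _ ≤ y * (d * cy) := Nat.mul_le_mul_left _ h1
      _ = d * (y * cy) := by ring
  have e5 : m ≤ y * cy := Nat.le_of_mul_le_mul_left e4 hd
  exact le_antisymm h2 e5

theorem mcl_of_abelian_le_sup {G : Type*} [Group G] [Finite G] {Q Q₁ : Subgroup G}
    (hQ : Cfsg.IsMinimalCentrallyLarge Q) (hQ₁ : Cfsg.IsMinimalCentrallyLarge Q₁)
    (Y : Subgroup G) (hY : IsMulCommutative ↥Y)
    (hYW : Y ≤ Subgroup.centralizer (Q : Set G) ⊔ Subgroup.centralizer (Q₁ : Set G))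
    (hcard : Nat.card (Subgroup.centralizer (Q : Set G)) ≤ Nat.card Y) :
    Cfsg.IsMinimalCentrallyLarge (Subgroup.centralizer (Y : Set G)) ∧
      Subgroup.centralizer ((Subgroup.centralizer (Y : Set G) : Subgroup G) : Set G) = Y ∧
      Nat.card Y = Nat.card (Subgroup.centralizer (Q : Set G)) := by
  have hQl := (cl_large hQ.1).1
  have hQ₁l := (cl_large hQ₁.1).1
  have hZl := (cd_centralizer hQl).1
  have hQeq := (cd_centralizer hQl).2
  have hZ₁l := (cd_centralizer hQ₁l).1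
  have hQ₁eq := (cd_centralizer hQ₁l).2
  have hZQ : Subgroup.centralizer (Q : Set G) ≤ Q := cl_centralizer_le hQ.1
  have hZ₁Q₁ : Subgroup.centralizer (Q₁ : Set G) ≤ Q₁ := cl_centralizer_le hQ₁.1
  have hcdZ := cd_main hZl hZ₁l
  have hWl := hcdZ.1
  have hWset := hcdZ.2.2.1
  have hCW : Subgroup.centralizer ((Subgroup.centralizer (Q : Set G) ⊔ Subgroup.centralizer (Q₁ : Set G)
      : Subgroup G) : Set G) = Q ⊓ Q₁ := by
    rw [centralizer_sup, ← hQeq, ← hQ₁eq]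
  have hcardZW := cd_card_eq hZl hZ₁l
  have hcardZZ₁ := (mcl_card hQ hQ₁).2
  -- (MP)
  have hMP : Subgroup.centralizer (Q₁ : Set G) ⊓ Q ≤ Subgroup.centralizer (Q : Set G) := by
    intro x hx
    have h1 : x ∈ (Q₁ ⊓ Q) ⊓ Subgroup.centralizer (Q₁ : Set G) := ⟨⟨hZ₁Q₁ hx.1, hx.2⟩, hx.1⟩
    exact (mcl_inf_centralizer hQ₁ hQ h1).2
  have hMP' : Subgroup.centralizer (Q : Set G) ⊓ Q₁ ≤ Subgroup.centralizer (Q₁ : Set G) := by
    intro x hx
    have h1 : x ∈ (Q ⊓ Q₁) ⊓ Subgroup.centralizer (Q : Set G) := ⟨⟨hZQ hx.1, hx.2⟩, hx.1⟩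
    exact (mcl_inf_centralizer hQ hQ₁ h1).2
  -- (ZW)
  have hZW : (Subgroup.centralizer (Q : Set G) ⊔ Subgroup.centralizer (Q₁ : Set G)) ⊓ (Q ⊓ Q₁)
      ≤ Subgroup.centralizer (Q : Set G) ⊓ Subgroup.centralizer (Q₁ : Set G) := by
    intro x hx
    have hx1 : x ∈ ((Subgroup.centralizer (Q : Set G) ⊔ Subgroup.centralizer (Q₁ : Set G) : Subgroup G)
        : Set G) := hx.1
    rw [hWset] at hx1
    obtain ⟨z, hz, z₁, hz₁, rfl⟩ := Set.mem_mul.mp hx1
    have hxQ : z * z₁ ∈ Q := hx.2.1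
    have hxQ₁ : z * z₁ ∈ Q₁ := hx.2.2
    have hz₁Q : z₁ ∈ Q := by
      have := Q.mul_mem (Q.inv_mem (hZQ hz)) hxQ
      simpa using this
    have hzQ₁ : z ∈ Q₁ := by
      have := Q₁.mul_mem hxQ₁ (Q₁.inv_mem (hZ₁Q₁ hz₁))
      simpa using this
    have hz₁Z : z₁ ∈ Subgroup.centralizer (Q : Set G) := hMP ⟨hz₁, hz₁Q⟩
    have hzZ₁ : z ∈ Subgroup.centralizer (Q₁ : Set G) := hMP' ⟨hz, hzQ₁⟩
    exact ⟨Subgroup.mul_mem _ hz hz₁Z, Subgroup.mul_mem _ hzZ₁ hz₁⟩
  -- counting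
  have hYC : Y ≤ Subgroup.centralizer (Y : Set G) := by
    intro x hx
    rw [Subgroup.mem_centralizer_iff]
    intro y hy
    have := hY.is_comm.comm (⟨y, hy⟩ : ↥Y) ⟨x, hx⟩
    exact congrArg Subtype.val this
  have hIC : Q ⊓ Q₁ ≤ Subgroup.centralizer (Y : Set G) := by
    rw [← hCW]
    exact Subgroup.centralizer_le (fun y hy => hYW hy)
  have hsupC : Y ⊔ (Q ⊓ Q₁) ≤ Subgroup.centralizer (Y : Set G) := sup_le hYC hIC
  have hinfD : Y ⊓ (Q ⊓ Q₁) ≤ Subgroup.centralizer (Q : Set G) ⊓ Subgroup.centralizer (Q₁ : Set G) :=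
    fun x hx => hZW ⟨hYW hx.1, hx.2⟩
  have c1 := card_mul_card_le Y (Q ⊓ Q₁)
  have c2 : Nat.card (Y ⊔ (Q ⊓ Q₁) : Subgroup G) ≤ Nat.card (Subgroup.centralizer (Y : Set G)) :=
    card_le_card_of_le hsupC
  have c3 : Nat.card (Y ⊓ (Q ⊓ Q₁) : Subgroup G)
      ≤ Nat.card (Subgroup.centralizer (Q : Set G) ⊓ Subgroup.centralizer (Q₁ : Set G) : Subgroup G) :=
    card_le_card_of_le hinfD
  have c4 : meas Y ≤ Cfsg.maxCentralizerProduct G := meas_le_max Y
  have c5 : meas (Subgroup.centralizer (Q : Set G) ⊔ Subgroup.centralizer (Q₁ : Set G))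
      = Cfsg.maxCentralizerProduct G := hWl
  unfold meas at c4 c5
  rw [hCW] at c5
  have harith := abw_arith (y := Nat.card Y) (z := Nat.card (Subgroup.centralizer (Q : Set G)))
    (i := Nat.card (Q ⊓ Q₁ : Subgroup G))
    (d := Nat.card (Subgroup.centralizer (Q : Set G) ⊓ Subgroup.centralizer (Q₁ : Set G) : Subgroup G))
    (w := Nat.card (Subgroup.centralizer (Q : Set G) ⊔ Subgroup.centralizer (Q₁ : Set G) : Subgroup G))
    (cy := Nat.card (Subgroup.centralizer (Y : Set G))) (m := Cfsg.maxCentralizerProduct G)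
    Nat.card_pos Nat.card_pos Nat.card_pos
    (c1.trans (Nat.mul_le_mul c3 c2)) c4 c5.symm
    (by rw [← hcardZW, ← hcardZZ₁]) hcard
  have hYl : Cfsg.IsCentralizerLarge Y := harith.2
  have hCY := cd_centralizer hYl
  have hCCY : Subgroup.centralizer ((Subgroup.centralizer (Y : Set G) : Subgroup G) : Set G) = Y :=
    hCY.2.symm
  have hQsCL : Cfsg.IsCentrallyLarge (Subgroup.centralizer (Y : Set G)) := by
    apply cl_of_large_of_centralizer_le hCY.1
    rw [hCCY]; exact hYC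
  refine ⟨?_, hCCY, harith.1⟩
  obtain ⟨R, hRle, hR⟩ := exists_min_cl_le hQsCL
  have hRQ := (mcl_card hR hQ).1
  -- |C(Y)| = |Q|
  have hmQ : Nat.card Q * Nat.card (Subgroup.centralizer (Q : Set G)) = Cfsg.maxCentralizerProduct G := hQl
  have hcardCY : Nat.card (Subgroup.centralizer (Y : Set G)) = Nat.card Q := by
    have h1 := harith.2
    rw [harith.1, ← hmQ, mul_comm] at h1
    exact Nat.eq_of_mul_eq_mul_right Nat.card_pos h1
  have hReq : R = Subgroup.centralizer (Y : Set G) :=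
    eq_of_le_of_card_le hRle (by rw [hcardCY, hRQ])
  rw [← hReq]
  exact hR

end Cfsg.Agent.Lib.H10.CLB
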