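import Mathlib
import Cfsg.Prelude.Def_BaumannBlocks
import Cfsg.Agent.Lib.H15.MCL
import Cfsg.Agent.Lib.H15.CLAb
import Cfsg.Agent.Lib.H15.PGroup
import Cfsg.Agent.Lib.H5.CLBITO
import Cfsg.Agent.Lib.H5.CLBREPL
import Cfsg.Agent.Lib.H16.CLBCONJ
import Cfsg.Agent.Lib.H10.CLBABW

/-!
S3008 part (b), main step: a minimal centrally large subgroup `Q` whose centre `C(Q)` is normalized by
every abelian subgroup `B` such that `C(Q) B` is a subgroup.
-/

set_option autoImplicit false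

namespace Cfsg.Agent.Lib.H10.CLB

open scoped Pointwise commutatorElement
open Cfsg.Agent.Lib.H15
open Cfsg.Agent.Lib.H5.CLB Cfsg.Agent.Lib.H16.CLB

/-- conjugating by `g` and membership -/
theorem mem_map_conj {G : Type*} [Group G] (Z : Subgroup G) (g x : G) :
    x ∈ Z.map (MulAut.conj g).toMonoidHom ↔ g⁻¹ * x * g ∈ Z := by
  constructor
  · rintro ⟨z, hz, rfl⟩
    have : g⁻¹ * ((MulAut.conj g).toMonoidHom z) * g = z := by
      simp [MulAut.conj_apply, mul_assoc]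
    rw [this]; exact hz
  · intro h
    refine ⟨g⁻¹ * x * g, h, ?_⟩
    simp [MulAut.conj_apply, mul_assoc]

theorem conj_mem_map_conj {G : Type*} [Group G] (Z : Subgroup G) (g z : G) (hz : z ∈ Z) :
    g * z * g⁻¹ ∈ Z.map (MulAut.conj g).toMonoidHom :=
  ⟨z, hz, by simp [MulAut.conj_apply]⟩

/-- The potential. -/
noncomputable def pot {P : Type*} [Group P] (Z : Subgroup P) : Lex (ℕ → ℕ) :=
  toLex (fun i => Nat.card ↥(Z ⊓ Subgroup.upperCentralSeries P i))

/-- Lexicographic comparison: if `Z ≠ Y` have the same order, and `Y ⊓ U_j = Z ⊓ U_j → Z ⊓ U_{j+1} ≤ Y ⊓ U_{j+1}`,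
then `pot Z < pot Y`. -/
theorem pot_lt {P : Type*} [Group P] [Finite P] [Group.IsNilpotent P] (Z Y : Subgroup P) (hne : Y ≠ Z)
    (hstep : ∀ j : ℕ, Y ⊓ Subgroup.upperCentralSeries P j = Z ⊓ Subgroup.upperCentralSeries P j →
      Z ⊓ Subgroup.upperCentralSeries P (j + 1) ≤ Y ⊓ Subgroup.upperCentralSeries P (j + 1)) :
    pot Z < pot Y := by
  classical
  obtain ⟨n, hn⟩ := Group.IsNilpotent.nilpotent P
  have hex : ∃ i, Y ⊓ Subgroup.upperCentralSeries P i ≠ Z ⊓ Subgroup.upperCentralSeries P i := by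
    refine ⟨n, ?_⟩
    rw [hn, inf_top_eq, inf_top_eq]
    exact hne
  set i₀ := Nat.find hex with hi₀
  have hi₀ne := Nat.find_spec hex
  have hmin : ∀ j < i₀, Y ⊓ Subgroup.upperCentralSeries P j = Z ⊓ Subgroup.upperCentralSeries P j := by
    intro j hj
    by_contra hcon
    exact Nat.find_min hex hj hcon
  have hpos : i₀ ≠ 0 := by
    intro h0
    apply hi₀ne
    rw [← hi₀, h0]
    simp
  obtain ⟨j, hj⟩ := Nat.exists_eq_succ_of_ne_zero hpos
  have hle : Z ⊓ Subgroup.upperCentralSeries P i₀ ≤ Y ⊓ Subgroup.upperCentralSeries P i₀ := by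
    rw [hj]
    exact hstep j (hmin j (by omega))
  refine ⟨i₀, ?_, ?_⟩
  · intro j hj
    show Nat.card ↥(Z ⊓ Subgroup.upperCentralSeries P j) = Nat.card ↥(Y ⊓ Subgroup.upperCentralSeries P j)
    rw [hmin j hj]
  · show Nat.card ↥(Z ⊓ Subgroup.upperCentralSeries P i₀) < Nat.card ↥(Y ⊓ Subgroup.upperCentralSeries P i₀)
    by_contra hcon
    have hcon' : Nat.card ↥(Y ⊓ Subgroup.upperCentralSeries P i₀)
        ≤ Nat.card ↥(Z ⊓ Subgroup.upperCentralSeries P i₀) := not_lt.mp hcon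
    exact hi₀ne (eq_of_le_of_card_le hle hcon').symm

theorem exists_mcl_normalized {p : ℕ} [Fact p.Prime] {P : Type*} [Group P] [Finite P]
    (hP : IsPGroup p P) :
    ∃ Q : Subgroup P, Cfsg.IsMinimalCentrallyLarge Q ∧
      ∀ B : Subgroup P, IsMulCommutative ↥B →
        ((Subgroup.centralizer (Q : Set P) ⊔ B : Subgroup P) : Set P)
            = (Subgroup.centralizer (Q : Set P) : Set P) * (B : Set P) →
        B ≤ Subgroup.normalizer ((Subgroup.centralizer (Q : Set P) : Subgroup P) : Set P) := by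
  classical
  have hnil : Group.IsNilpotent P := hP.isNilpotent
  obtain ⟨Q₀', hQ₀'⟩ := exists_min_cl (G := P)
  have hne : Nonempty {Q : Subgroup P // Cfsg.IsMinimalCentrallyLarge Q} := ⟨⟨Q₀', hQ₀'⟩⟩
  obtain ⟨⟨Q, hQ⟩, hmax⟩ := Finite.exists_max
    (fun Q : {Q : Subgroup P // Cfsg.IsMinimalCentrallyLarge Q} =>
      pot (Subgroup.centralizer ((Q : Subgroup P) : Set P)))
  refine ⟨Q, hQ, ?_⟩
  intro B hB hZB
  set Z := Subgroup.centralizer (Q : Set P) with hZdef
  by_contra hBN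
  -- Z is abelian
  have hZab : IsMulCommutative ↥Z := by
    have h1 := isMulCommutative_inf_centralizer Q
    rw [← (cl_large hQ.1).2] at h1
    exact h1
  -- the nilpotent group X = Z ⊔ B and H = X ⊓ N(Z)
  set X := Z ⊔ B with hXdef
  have hXnil : Group.IsNilpotent ↥X := (hP.to_subgroup X).isNilpotent
  set H := X ⊓ Subgroup.normalizer (Z : Set P) with hHdef
  have hZH : Z ≤ H := le_inf le_sup_left Subgroup.le_normalizer
  have hHX : H ≤ X := inf_le_left
  have hHne : H ≠ X := by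
    intro h
    apply hBN
    have : X ≤ Subgroup.normalizer (Z : Set P) := by
      rw [← h]; exact inf_le_right
    exact le_sup_right.trans this
  obtain ⟨x, hxX, hxN, hxH⟩ := exists_mem_normalizer_not_mem hXnil hHX hHne
  have hxX' : x ∈ ((Z ⊔ B : Subgroup P) : Set P) := hxX
  rw [hZB] at hxX'
  obtain ⟨z₀, hz₀, g, hg, rfl⟩ := Set.mem_mul.mp hxX'
  have hz₀N : z₀ ∈ Subgroup.normalizer (H : Set P) := Subgroup.le_normalizer (hZH hz₀)
  have hgN : g ∈ Subgroup.normalizer (H : Set P) := by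
    have := (Subgroup.normalizer (H : Set P)).mul_mem ((Subgroup.normalizer (H : Set P)).inv_mem hz₀N) hxN
    simpa using this
  have hgX : g ∈ X := (le_sup_right : B ≤ X) hg
  have hgH : g ∉ H := by
    intro h
    exact hxH (H.mul_mem (hZH hz₀) h)
  have hgNZ : g ∉ Subgroup.normalizer (Z : Set P) := fun h => hgH ⟨hgX, h⟩
  -- conjugates of Z by g and g⁻¹ lie in H
  have hconj : ∀ z ∈ Z, g * z * g⁻¹ ∈ H := fun z hz =>
    (Subgroup.mem_normalizer_iff.mp hgN z).mp (hZH hz)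
  have hginvN : g⁻¹ ∈ Subgroup.normalizer (H : Set P) := (Subgroup.normalizer (H : Set P)).inv_mem hgN
  have hconj' : ∀ z ∈ Z, g⁻¹ * z * g ∈ H := fun z hz => by
    have := (Subgroup.mem_normalizer_iff.mp hginvN z).mp (hZH hz)
    simpa using this
  -- mutual normalization
  have h1 : Z.map (MulAut.conj g).toMonoidHom ≤ Subgroup.normalizer (Z : Set P) := by
    rintro _ ⟨z, hz, rfl⟩
    have := (hconj z hz).2
    simpa [MulAut.conj_apply] using this
  have h2 : Z ≤ Subgroup.normalizer ((Z.map (MulAut.conj g).toMonoidHom : Subgroup P) : Set P) := by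
    intro z hz
    have hw : g⁻¹ * z * g ∈ Subgroup.normalizer (Z : Set P) := (hconj' z hz).2
    rw [Subgroup.mem_normalizer_iff]
    intro x
    rw [mem_map_conj, mem_map_conj]
    have hw' := Subgroup.mem_normalizer_iff.mp hw (g⁻¹ * x * g)
    have e : g⁻¹ * z * g * (g⁻¹ * x * g) * (g⁻¹ * z * g)⁻¹ = g⁻¹ * (z * x * z⁻¹) * g := by group
    rw [e] at hw'
    exact hw'
  -- Ito
  have hcomm : ∀ z ∈ Z, ∀ z' ∈ Z, Commute ⁅z, g⁆ ⁅z', g⁆ := fun z hz z' hz' =>
    ito_commute Z B hZab hB hZB hz hz' hg hg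
  obtain ⟨Y, hYab, hYW, hYcard, hYcomm, hYD⟩ := repl_core Z g hZab h1 h2 hcomm
  obtain ⟨hQ₁, hCQ₁⟩ := mcl_conj hQ g
  have hYW' : Y ≤ Subgroup.centralizer (Q : Set P)
      ⊔ Subgroup.centralizer ((Q.map (MulAut.conj g).toMonoidHom : Subgroup P) : Set P) := by
    rw [hCQ₁]; exact hYW
  obtain ⟨hQs, hCC, hcardYZ⟩ := mcl_of_abelian_le_sup hQ hQ₁ Y hYab hYW' hYcard
  have hle := hmax ⟨Subgroup.centralizer (Y : Set P), hQs⟩
  simp only at hle
  rw [hCC] at hle
  -- Y ≠ Z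
  have hex : ∃ z ∈ Z, g * z * g⁻¹ ∉ Z := by
    by_contra hcon
    have hall : ∀ z ∈ Z, g * z * g⁻¹ ∈ Z := by
      intro z hz
      by_contra h
      exact hcon ⟨z, hz, h⟩
    apply hgNZ
    have hmle : Z.map (MulAut.conj g).toMonoidHom ≤ Z := by
      rintro _ ⟨z, hz, rfl⟩
      have := hall z hz
      simpa [MulAut.conj_apply] using this
    have hcard : Nat.card Z ≤ Nat.card (Z.map (MulAut.conj g).toMonoidHom : Subgroup P) := by
      rw [Subgroup.card_map_of_injective (MulAut.conj g).injective]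
    have hmeq : Z.map (MulAut.conj g).toMonoidHom = Z := eq_of_le_of_card_le hmle hcard
    rw [Subgroup.mem_normalizer_iff]
    intro h
    constructor
    · exact hall h
    · intro hh
      have h3 : g * h * g⁻¹ ∈ Z.map (MulAut.conj g).toMonoidHom := by rw [hmeq]; exact hh
      rw [mem_map_conj] at h3
      have e : g⁻¹ * (g * h * g⁻¹) * g = h := by group
      rw [e] at h3
      exact h3
  have hne : Y ≠ Z := by
    intro hYZ
    obtain ⟨z, hz, hzn⟩ := hex
    have h3 : ⁅z, g⁆ ∈ Z := by rw [← hYZ]; exact hYcomm z hz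
    apply hzn
    have e : g * z * g⁻¹ = (z⁻¹ * ⁅z, g⁆)⁻¹ := by
      rw [commutatorElement_def]; group
    rw [e]
    exact Z.inv_mem (Z.mul_mem (Z.inv_mem hz) h3)
  have hstep : ∀ j : ℕ, Y ⊓ Subgroup.upperCentralSeries P j = Z ⊓ Subgroup.upperCentralSeries P j →
      Z ⊓ Subgroup.upperCentralSeries P (j + 1) ≤ Y ⊓ Subgroup.upperCentralSeries P (j + 1) := by
    intro j hj z hz
    refine ⟨?_, hz.2⟩
    have hzZ : z ∈ Z := hz.1
    have h3 : ⁅z, g⁆ ∈ Subgroup.upperCentralSeries P j :=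
      Subgroup.mem_upperCentralSeries_succ_iff.mp hz.2 g
    have h4 : ⁅z, g⁆ ∈ Y ⊓ Subgroup.upperCentralSeries P j := ⟨hYcomm z hzZ, h3⟩
    rw [hj] at h4
    have h5 : ⁅z, g⁆ ∈ Z := h4.1
    have e : g * z * g⁻¹ = (z⁻¹ * ⁅z, g⁆)⁻¹ := by
      rw [commutatorElement_def]; group
    have h6 : g * z * g⁻¹ ∈ Z := by
      rw [e]
      exact Z.inv_mem (Z.mul_mem (Z.inv_mem hzZ) h5)
    have h7 : g * z * g⁻¹ ∈ Y := hYD ⟨h6, conj_mem_map_conj Z g z hzZ⟩
    have e2 : z = ⁅z, g⁆ * (g * z * g⁻¹) := by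
      rw [commutatorElement_def]; group
    rw [e2]
    exact Y.mul_mem (hYcomm z hzZ) h7
  have hlt := pot_lt Z Y hne hstep
  exact absurd hle (not_le.mpr hlt)

end Cfsg.Agent.Lib.H10.CLB
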