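import Mathlib
import Cfsg.Agent.Lib.H15.SCSections
import Cfsg.Agent.Lib.H19.SylowAux
import Cfsg.Agent.Lib.H5.AlperinCentric

/-!
Towards "`SL₂(p)`-free automizers ⇒ the largest subgroup whose normalizer controls strong fusion is
centric radical" (helper10): fusion-control lemmas on top of helper15's `SCSections`.
-/

set_option autoImplicit false

universe u

namespace Cfsg.Agent.Lib.H10.CRF

open Cfsg Cfsg.Agent.Lib Cfsg.Agent.Lib.H15 Cfsg.Agent.Lib.H15.SCF Cfsg.Agent.Lib.H15.NPCS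
  Cfsg.Agent.Lib.H15.ZJS Cfsg.Agent.Lib.H4.ZJ

section basic

variable {X : Type u} [Group X]

/-- if `N(V)` controls strong fusion in `S ≥ V` then `S` normalizes `V` -/
theorem le_normalizer_of_ctl {S V : Subgroup X} (h : Ctl S V) (hVS : V ≤ S) :
    S ≤ Subgroup.normalizer (V : Set X) := by
  intro s hs
  obtain ⟨x, hx, hxa⟩ := h (S : Set X) s (fun _ h => h) (by
    rintro _ ⟨a, ha, rfl⟩
    exact S.mul_mem (S.mul_mem hs ha) (S.inv_mem hs))
  have hc : x⁻¹ * s ∈ Subgroup.centralizer (V : Set X) := by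
    rw [Subgroup.mem_centralizer_iff]
    intro v hv
    have := hxa v (hVS hv)
    calc v * (x⁻¹ * s) = x⁻¹ * (x * v * x⁻¹) * s := by group
      _ = x⁻¹ * (s * v * s⁻¹) * s := by rw [this]
      _ = x⁻¹ * s * v := by group
  have : s = x * (x⁻¹ * s) := by group
  rw [this]
  exact Subgroup.mul_mem _ hx (Subgroup.centralizer_le_normalizer _ hc)

/-- transitivity of control -/
theorem ctl_trans {S Q V : Subgroup X} (h1 : Ctl S Q)
    (h2 : CtlIn (Subgroup.normalizer (Q : Set X)) S V) : Ctl S V := by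
  intro A g hA hAg
  obtain ⟨x, hx, hxa⟩ := h1 A g hA hAg
  obtain ⟨y, hy, hya⟩ := h2 A x hx hA (by
    rintro _ ⟨a, ha, rfl⟩
    show x * a * x⁻¹ ∈ (S : Set X)
    rw [hxa a ha]
    exact hAg ⟨a, ha, rfl⟩)
  exact ⟨y, hy.2, fun a ha => (hya a ha).trans (hxa a ha)⟩

/-- trivial relative control -/
theorem ctlIn_of_le_normalizer {H S V : Subgroup X} (h : H ≤ Subgroup.normalizer (V : Set X)) :
    CtlIn H S V := by
  intro A g hg _ _
  exact ⟨g, ⟨hg, h hg⟩, fun _ _ => rfl⟩

/-- from control in the type `↥H` to relative control in `X` -/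
theorem ctlIn_of_ctl_subgroupOf {H S V : Subgroup X} (hSH : S ≤ H) (hVH : V ≤ H)
    (h : Ctl (S.subgroupOf H) (V.subgroupOf H)) : CtlIn H S V := by
  intro A g hg hA hAg
  obtain ⟨x, hx, hxa⟩ := h {a : ↥H | (a : X) ∈ A} ⟨g, hg⟩ (by
    intro a ha
    exact Subgroup.mem_subgroupOf.2 (hA ha)) (by
    rintro _ ⟨a, ha, rfl⟩
    show _ ∈ S.subgroupOf H
    rw [Subgroup.mem_subgroupOf]
    exact hAg ⟨(a : X), ha, rfl⟩)
  refine ⟨(x : X), ⟨x.2, ?_⟩, ?_⟩
  · show (x : X) ∈ Subgroup.normalizer (V : Set X)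
    rw [Subgroup.mem_normalizer_iff]
    intro v
    have h1 := Subgroup.mem_normalizer_iff.1 hx
    constructor
    · intro hv
      have := (h1 ⟨v, hVH hv⟩).1 (Subgroup.mem_subgroupOf.2 hv)
      exact Subgroup.mem_subgroupOf.1 this
    · intro hv
      have hvH : v ∈ H := by
        have h2 : v = (x : X)⁻¹ * ((x : X) * v * (x : X)⁻¹) * (x : X) := by group
        rw [h2]
        exact H.mul_mem (H.mul_mem (H.inv_mem x.2) (hVH hv)) x.2
      have := (h1 ⟨v, hvH⟩).2 (Subgroup.mem_subgroupOf.2 hv)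
      exact Subgroup.mem_subgroupOf.1 this
  · intro a ha
    have haH : a ∈ H := hSH (hA ha)
    have := hxa ⟨a, haH⟩ ha
    exact congrArg Subtype.val this

end basic

section K1

variable {p : ℕ} [hp : Fact p.Prime]

theorem stronglyClosed_inf_normal {Y : Type*} [Group Y] (S K : Subgroup Y) [hK : K.Normal] :
    Cfsg.IsStronglyClosed (S ⊓ K) S :=
  ⟨inf_le_left, fun x hx g hg => ⟨hg, hK.conj_mem x hx.2 g⟩⟩

theorem normalizer_le_normalizer_comap_W {W : ∀ (X : Type u) [Group X], Subgroup X → Subgroup X}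
    (hW : MapFun W) {Y : Type u} [Group Y] (P : Subgroup Y) [P.Normal] (E : Subgroup Y) :
    Subgroup.normalizer (E : Set Y) ≤ Subgroup.normalizer
      (((W (Y ⧸ P) (E.map (QuotientGroup.mk' P))).comap (QuotientGroup.mk' P) : Subgroup Y) :
        Set Y) := by
  intro n hn
  have h1 : QuotientGroup.mk' P n ∈ Subgroup.normalizer
      ((E.map (QuotientGroup.mk' P) : Subgroup (Y ⧸ P)) : Set (Y ⧸ P)) :=
    Subgroup.le_normalizer_map _ ⟨n, hn, rfl⟩
  have h2 := normalizer_le_normalizer_W hW _ h1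
  exact Subgroup.le_normalizer_comap _ h2

/-- **The case `Y = S C_Y(P)`**: the preimage of `ZJ` of the image of `S ∩ K` (`K ⊴ Y`) in `Y/P`
controls strong fusion in `S`, when all sections are `p`-stable. -/
theorem ctl_comap_of_sup_centralizer_eq_top (hp2 : p ≠ 2) {G₀ : Type u} [Group G₀] [Finite G₀]
    (hHer : ∀ (Z : Type u) [Group Z] [Finite Z], H10.IsSec G₀ Z → Cfsg.IsNormalizerPStable p Z)
    {Y : Type u} [Group Y] [Finite Y] (hsec : H10.IsSec G₀ Y) (S : Sylow p Y) (P : Subgroup Y)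
    [hPn : P.Normal] (hPS : P ≤ (S : Subgroup Y))
    (hSC : (S : Subgroup Y) ⊔ Subgroup.centralizer (P : Set Y) = ⊤) (K : Subgroup Y) [K.Normal] :
    Ctl (S : Subgroup Y) ((WA (Y ⧸ P) (((S : Subgroup Y) ⊓ K).map (QuotientGroup.mk' P))).comap
      (QuotientGroup.mk' P)) := by
  set E := (S : Subgroup Y) ⊓ K with hE
  have hEsc : Cfsg.IsStronglyClosed E (S : Subgroup Y) := stronglyClosed_inf_normal _ K
  obtain ⟨hSbp, hSbi⟩ := H10.sylow_map_mk S P
  obtain ⟨Sb, hSb⟩ := H10.exists_sylow_eq hSbp hSbi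
  have hEb : Cfsg.IsStronglyClosed (E.map (QuotientGroup.mk' P)) (Sb : Subgroup (Y ⧸ P)) := by
    rw [hSb]
    exact stronglyClosed_map_mk_of_le P hPS hEsc
  have hquot : Ctl ((S : Subgroup Y).map (QuotientGroup.mk' P))
      (WA (Y ⧸ P) (E.map (QuotientGroup.mk' P))) := by
    have := ctlAll_of_sections mapFun_WA (normalHyp_WA hp2) (fun X _ _ => zFun_WA) G₀ hHer _
      (Y ⧸ P) rfl (hsec.quotient P) Sb _ hEb
    rwa [hSb] at this
  set Vb := WA (Y ⧸ P) (E.map (QuotientGroup.mk' P)) with hVb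
  have hSV : (S : Subgroup Y) ≤ Subgroup.normalizer
      ((Vb.comap (QuotientGroup.mk' P) : Subgroup Y) : Set Y) :=
    (le_normalizer_of_stronglyClosed hEsc).trans (normalizer_le_normalizer_comap_W mapFun_WA P E)
  refine ctl_caseC S P hPS hSC _ hSV Vb hquot ?_
  exact ctlIn_of_le_normalizer (Subgroup.le_normalizer_comap _)

/-- **Key step.** `Q ⊴ X` a `p`-subgroup with `C_S(Q) ≰ Q`: some `V` with `Q < V ≤ S` has `N_X(V)`
controlling strong fusion in `S` (all sections being `p`-stable, `p` odd). -/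
theorem exists_lt_ctl (hp2 : p ≠ 2) {G₀ : Type u} [Group G₀] [Finite G₀]
    (hHer : ∀ (Z : Type u) [Group Z] [Finite Z], H10.IsSec G₀ Z → Cfsg.IsNormalizerPStable p Z)
    {X : Type u} [Group X] [Finite X] (hsec : H10.IsSec G₀ X) (S : Sylow p X) (Q : Subgroup X)
    [hQn : Q.Normal] (hQ : IsPGroup p Q)
    (hnc : ¬ ((S : Subgroup X) ⊓ Subgroup.centralizer (Q : Set X) ≤ Q)) :
    ∃ V : Subgroup X, Q < V ∧ V ≤ (S : Subgroup X) ∧ Ctl (S : Subgroup X) V := by
  have hQS : Q ≤ (S : Subgroup X) := (H1.le_pCore hQn hQ).trans (H1.pCore_le_sylow S)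
  set C := Subgroup.centralizer (Q : Set X) with hC
  have hCn : C.Normal := Subgroup.normal_centralizer
  set K := Q ⊔ C with hK
  have hKn : K.Normal := Subgroup.sup_normal Q C
  set S₀ := (S : Subgroup X) ⊓ K with hS₀
  set π := QuotientGroup.mk' Q with hπ
  set Vb := WA (X ⧸ Q) (S₀.map π) with hVb
  set V := Vb.comap π with hV
  have hQS₀ : Q ≤ S₀ := le_inf hQS le_sup_left
  have hVS₀ : V ≤ S₀ := by
    intro v hv
    have h1 : π v ∈ S₀.map π := (mapFun_WA.le _) hv
    obtain ⟨s, hs, hsv⟩ := h1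
    have h2 : s⁻¹ * v ∈ Q := by
      rw [← QuotientGroup.ker_mk' Q, MonoidHom.mem_ker, map_mul, map_inv, ← hπ, hsv,
        inv_mul_cancel]
    have : v = s * (s⁻¹ * v) := by group
    rw [this]; exact S₀.mul_mem hs (hQS₀ h2)
  have hQV : Q ≤ V := by
    intro q hq
    show π q ∈ Vb
    have : π q = 1 := (QuotientGroup.eq_one_iff q).2 hq
    rw [this]; exact Vb.one_mem
  have hS₀p : IsPGroup p (S₀.map π) := (S.2.to_le inf_le_left).map _
  have hS₀1 : S₀.map π ≠ ⊥ := by
    intro h0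
    apply hnc
    have h1 : S₀ ≤ π.ker := (Subgroup.map_eq_bot_iff _).1 h0
    rw [hπ, QuotientGroup.ker_mk'] at h1
    exact (inf_le_inf_left _ le_sup_right).trans h1
  have hVb1 : Vb ≠ ⊥ := (zFun_WA (p := p) (G := X ⧸ Q)).ne_bot _ hS₀p hS₀1
  have hne : Q ≠ V := by
    intro heq
    apply hVb1
    rw [eq_bot_iff]
    intro vb hvb
    obtain ⟨v, rfl⟩ := QuotientGroup.mk'_surjective Q vb
    have hvV : v ∈ V := hvb
    rw [← heq] at hvV
    rw [Subgroup.mem_bot]
    exact (QuotientGroup.eq_one_iff v).2 hvV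
  refine ⟨V, lt_of_le_of_ne hQV hne, hVS₀.trans inf_le_left, ?_⟩
  have hNS₀ : Subgroup.normalizer (S₀ : Set X) ≤ Subgroup.normalizer (V : Set X) :=
    normalizer_le_normalizer_comap_W mapFun_WA Q S₀
  have h1 : CtlIn (Subgroup.normalizer (((S : Subgroup X) ⊓ (Q ⊔ C) : Subgroup X) : Set X))
      (S : Subgroup X) V := ctlIn_of_le_normalizer hNS₀
  set H := (S : Subgroup X) ⊔ C with hH
  have hSH : (S : Subgroup X) ≤ H := le_sup_left
  have hVH : V ≤ H := hVS₀.trans (inf_le_left.trans hSH)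
  have h2 : CtlIn H (S : Subgroup X) V := by
    apply ctlIn_of_ctl_subgroupOf hSH hVH
    have hSp : IsPGroup p ((S : Subgroup X).subgroupOf H) := S.2.comap_subtype
    have hSi : ¬ p ∣ ((S : Subgroup X).subgroupOf H).index :=
      H10.not_dvd_relIndex_of_sylow_le S hSH
    obtain ⟨SH, hSHeq⟩ := H10.exists_sylow_eq hSp hSi
    set PH := Q.subgroupOf H with hPH
    have hPS : PH ≤ (SH : Subgroup ↥H) := by
      rw [hSHeq]
      intro x hx
      exact Subgroup.mem_subgroupOf.2 (hQS (Subgroup.mem_subgroupOf.1 hx))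
    have hSC : (SH : Subgroup ↥H) ⊔ Subgroup.centralizer (PH : Set ↥H) = ⊤ := by
      rw [eq_top_iff]
      intro y _
      obtain ⟨s, hs, c, hc, hsc⟩ := Subgroup.mem_sup_of_normal_right.1 y.2
      have hsH : s ∈ H := hSH hs
      have hcH : c ∈ H := by
        have : c = s⁻¹ * (y : X) := by rw [← hsc]; group
        rw [this]
        exact H.mul_mem (H.inv_mem hsH) y.2
      have hy : y = (⟨s, hsH⟩ : ↥H) * ⟨c, hcH⟩ := Subtype.ext hsc.symm
      rw [hy]
      apply Subgroup.mul_mem_sup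
      · rw [hSHeq]
        exact Subgroup.mem_subgroupOf.2 hs
      · rw [Subgroup.mem_centralizer_iff]
        intro q hq
        apply Subtype.ext
        exact Subgroup.mem_centralizer_iff.1 hc (q : X) (Subgroup.mem_subgroupOf.1 hq)
    have key := ctl_comap_of_sup_centralizer_eq_top hp2 hHer (hsec.subgroup H) SH PH hPS hSC
      (K.subgroupOf H)
    rw [hSHeq] at key
    -- identification of the two subgroups
    set EH := (((S : Subgroup X).subgroupOf H ⊓ K.subgroupOf H).map (QuotientGroup.mk' PH))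
      with hEH
    let ι : ↥H ⧸ PH →* X ⧸ Q := QuotientGroup.map PH Q H.subtype (le_refl _)
    have hιπ : ∀ y : ↥H, ι (QuotientGroup.mk' PH y) = π (y : X) := fun y => rfl
    have hι : Function.Injective ι := by
      rw [injective_iff_map_eq_one]
      intro yb hyb
      obtain ⟨y, rfl⟩ := QuotientGroup.mk'_surjective PH yb
      rw [hιπ] at hyb
      have h1 : (y : X) ∈ Q := (QuotientGroup.eq_one_iff (y : X)).1 hyb
      exact (QuotientGroup.eq_one_iff y).2 (Subgroup.mem_subgroupOf.2 h1)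
    have hEmap : EH.map ι = S₀.map π := by
      ext z
      constructor
      · rintro ⟨_, ⟨y, hy, rfl⟩, rfl⟩
        rw [hιπ]
        refine ⟨(y : X), ⟨Subgroup.mem_subgroupOf.1 hy.1, Subgroup.mem_subgroupOf.1 hy.2⟩, rfl⟩
      · rintro ⟨s, hs, rfl⟩
        have hsH : s ∈ H := hSH hs.1
        refine ⟨QuotientGroup.mk' PH ⟨s, hsH⟩, ⟨⟨s, hsH⟩, ⟨?_, ?_⟩, rfl⟩, rfl⟩
        · exact Subgroup.mem_subgroupOf.2 hs.1
        · exact Subgroup.mem_subgroupOf.2 hs.2
    have hW := mapFun_WA.map ι EH hι.injOn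
    rw [hEmap, ← hVb] at hW
    have hVeq : V.subgroupOf H = (WA (↥H ⧸ PH) EH).comap (QuotientGroup.mk' PH) := by
      ext y
      rw [Subgroup.mem_subgroupOf, Subgroup.mem_comap]
      show π (y : X) ∈ Vb ↔ _
      rw [hW, ← hιπ]
      exact Subgroup.mem_map_iff_mem hι
    rw [hVeq]
    exact key
  exact ctl_caseB S Q C hQS V h1 h2

end K1

section rad

variable {p : ℕ} [hp : Fact p.Prime]

/-- `K ⊴ Y` a `p'`-subgroup, `X ⊴ Y` with `X = (S ∩ X) K`: then `N_Y(S ∩ X)` controls strong fusion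
in `S`. -/
theorem ctl_inf_of_le_sup_coprime {Y : Type*} [Group Y] [Finite Y] (S : Sylow p Y)
    (K X : Subgroup Y) [hKn : K.Normal] [hXn : X.Normal] (hK : (Nat.card K).Coprime p)
    (hX : X ≤ ((S : Subgroup Y) ⊓ X) ⊔ K) :
    Ctl (S : Subgroup Y) ((S : Subgroup Y) ⊓ X) := by
  set Q₁ := (S : Subgroup Y) ⊓ X with hQ₁
  have hSK : ∀ y ∈ (S : Subgroup Y), y ∈ K → y = 1 := by
    intro y hyS hyK
    have hdisj : Disjoint (S : Subgroup Y) K := by
      apply Subgroup.disjoint_of_coprime_natCard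
      obtain ⟨k, hk⟩ := IsPGroup.iff_card.mp S.2
      rw [hk]
      exact (hK.symm).pow_left _
    have := Subgroup.disjoint_def.1 hdisj hyS hyK
    exact this
  have hSN : (S : Subgroup Y) ≤ Subgroup.normalizer (Q₁ : Set Y) :=
    le_normalizer_of_stronglyClosed (stronglyClosed_inf_normal _ X)
  have hQ₁p : IsPGroup p Q₁ := S.2.to_le inf_le_left
  have hQ₁i : ¬ p ∣ Q₁.relIndex X := H19.not_dvd_relIndex_inf_normal S X
  intro A g hA hAg
  -- Frattini
  have h1 : Q₁.map (MulAut.conj g).toMonoidHom ≤ X := by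
    rintro _ ⟨q, hq, rfl⟩
    exact hXn.conj_mem q hq.2 g
  obtain ⟨x, hxX, hx⟩ := H10.exists_mem_map_conj_le_of_sylowIn hQ₁p inf_le_right hQ₁i
    (hQ₁p.map _) h1
  rw [H10.map_conj_map_conj] at hx
  have hn : x * g ∈ Subgroup.normalizer (Q₁ : Set Y) :=
    H10.mem_normalizer_iff_map_conj.mpr (H10.eq_of_le_of_card_map_conj hx le_rfl)
  obtain ⟨q, hq, k₀, hk₀, hqk⟩ := Subgroup.mem_sup_of_normal_right.1 (hX (X.inv_mem hxX))
  obtain ⟨n', hn'def⟩ : ∃ n' : Y, n' = q * (x * g) := ⟨_, rfl⟩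
  have hn' : n' ∈ Subgroup.normalizer (Q₁ : Set Y) := by
    rw [hn'def]
    exact Subgroup.mul_mem _ (Subgroup.le_normalizer hq) hn
  obtain ⟨k'', hk''def⟩ : ∃ k'' : Y, k'' = q * k₀ * q⁻¹ := ⟨_, rfl⟩
  have hk'' : k'' ∈ K := by rw [hk''def]; exact hKn.conj_mem k₀ hk₀ q
  have hg : g = k'' * n' := by
    rw [hk''def, hn'def]
    have : q * k₀ = x⁻¹ := hqk
    calc g = x⁻¹ * (x * g) := by group
      _ = q * k₀ * (x * g) := by rw [this]
      _ = q * k₀ * q⁻¹ * (q * (x * g)) := by group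
  -- the two subgroups
  set Ã := Subgroup.closure A with hÃ
  have hÃS : Ã ≤ (S : Subgroup Y) := (Subgroup.closure_le _).2 hA
  set B := Ã.map (MulAut.conj g).toMonoidHom with hB
  set A' := Ã.map (MulAut.conj n').toMonoidHom with hA'
  have hBS : B ≤ (S : Subgroup Y) := by
    rw [hB, hÃ, MonoidHom.map_closure, Subgroup.closure_le]
    rintro _ ⟨a, ha, rfl⟩
    exact hAg ⟨a, ha, rfl⟩
  have hBp : IsPGroup p B := S.2.to_le hBS
  have hA'p : IsPGroup p A' := (S.2.to_le hÃS).map _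
  set T := (B ⊔ K) ⊓ Subgroup.normalizer (Q₁ : Set Y) with hT
  have hBT : B ≤ T := le_inf le_sup_left (hBS.trans hSN)
  have hA'T : A' ≤ T := by
    rintro _ ⟨a, ha, rfl⟩
    refine ⟨?_, ?_⟩
    · have hb : g * a * g⁻¹ ∈ B := ⟨a, ha, rfl⟩
      have e : (MulAut.conj n').toMonoidHom a =
          (g * a * g⁻¹) * ((g * a * g⁻¹)⁻¹ * k''⁻¹ * (g * a * g⁻¹) * k'') := by
        show n' * a * n'⁻¹ = _
        rw [hg]; group
      rw [e]
      apply Subgroup.mul_mem_sup hb
      apply K.mul_mem _ hk''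
      have := hKn.conj_mem k''⁻¹ (K.inv_mem hk'') (g * a * g⁻¹)⁻¹
      simpa [mul_assoc] using this
    · show n' * a * n'⁻¹ ∈ Subgroup.normalizer (Q₁ : Set Y)
      exact Subgroup.mul_mem _ (Subgroup.mul_mem _ hn' (hSN (hÃS ha))) (Subgroup.inv_mem _ hn')
  have hBi : ¬ p ∣ B.relIndex T := by
    intro hdvd
    apply H10.not_dvd_relIndex_sup_of_coprime K B hK hBp
    have := Subgroup.relIndex_mul_relIndex B T (B ⊔ K) hBT inf_le_left
    rw [← this]
    exact dvd_mul_of_dvd_left hdvd _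
  obtain ⟨y, hyT, hy⟩ := H10.exists_mem_map_conj_le_of_sylowIn hBp hBT hBi hA'p hA'T
  obtain ⟨b, hb, k₁, hk₁, hbk⟩ := Subgroup.mem_sup_of_normal_right.1 hyT.1
  have hk₁N : k₁ ∈ Subgroup.normalizer (Q₁ : Set Y) := by
    have : k₁ = b⁻¹ * y := by rw [← hbk]; group
    rw [this]
    exact Subgroup.mul_mem _ (Subgroup.inv_mem _ (hSN (hBS hb))) hyT.2
  refine ⟨k₁ * n', Subgroup.mul_mem _ hk₁N hn', ?_⟩
  intro a ha
  have haÃ : a ∈ Ã := Subgroup.subset_closure ha
  have hu : k₁ * n' * a * (k₁ * n')⁻¹ ∈ B := by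
    have h2 : y * (n' * a * n'⁻¹) * y⁻¹ ∈ B := hy ⟨n' * a * n'⁻¹, ⟨a, haÃ, rfl⟩, rfl⟩
    have e : k₁ * n' * a * (k₁ * n')⁻¹ = b⁻¹ * (y * (n' * a * n'⁻¹) * y⁻¹) * b := by
      rw [← hbk]; group
    rw [e]
    exact B.mul_mem (B.mul_mem (B.inv_mem hb) h2) hb
  have hv : g * a * g⁻¹ ∈ B := ⟨a, haÃ, rfl⟩
  have huv : (k₁ * n' * a * (k₁ * n')⁻¹)⁻¹ * (g * a * g⁻¹) ∈ K := by
    have e : (k₁ * n' * a * (k₁ * n')⁻¹)⁻¹ * (g * a * g⁻¹) =
        k₁ * ((n' * a * n'⁻¹)⁻¹ * (k₁⁻¹ * k'') * (n' * a * n'⁻¹)) * k''⁻¹ := by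
      rw [hg]; group
    rw [e]
    apply K.mul_mem (K.mul_mem hk₁ _) (K.inv_mem hk'')
    have := hKn.conj_mem (k₁⁻¹ * k'') (K.mul_mem (K.inv_mem hk₁) hk'') (n' * a * n'⁻¹)⁻¹
    simpa [mul_assoc] using this
  have h3 := hSK _ ((S : Subgroup Y).mul_mem ((S : Subgroup Y).inv_mem (hBS hu)) (hBS hv)) huv
  exact inv_mul_eq_one.1 h3

end rad

section localthm

variable {p : ℕ} [hp : Fact p.Prime]

/-- **Local theorem.** `Q ⊴ Y` a `p`-subgroup maximal among the subgroups of `S` whose normalizer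
controls strong fusion in `S`: then `C_S(Q) ≤ Q` and `Y/Q C_Y(Q)` has no nontrivial normal
`p`-subgroup. -/
theorem local_centric_radical (hp2 : p ≠ 2) {G₀ : Type u} [Group G₀] [Finite G₀]
    (hHer : ∀ (Z : Type u) [Group Z] [Finite Z], H10.IsSec G₀ Z → Cfsg.IsNormalizerPStable p Z)
    {Y : Type u} [Group Y] [Finite Y] (hsec : H10.IsSec G₀ Y) (S : Sylow p Y) (Q : Subgroup Y)
    [hQn : Q.Normal] (hQ : IsPGroup p Q)
    (hmax : ∀ V : Subgroup Y, Q ≤ V → V ≤ (S : Subgroup Y) → Ctl (S : Subgroup Y) V → V = Q) :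
    ((S : Subgroup Y) ⊓ Subgroup.centralizer (Q : Set Y) ≤ Q) ∧
    ∀ X : Subgroup Y, X.Normal → Q ⊔ Subgroup.centralizer (Q : Set Y) ≤ X →
      (∃ k : ℕ, (Q ⊔ Subgroup.centralizer (Q : Set Y)).relIndex X = p ^ k) →
      X = Q ⊔ Subgroup.centralizer (Q : Set Y) := by
  have hi : (S : Subgroup Y) ⊓ Subgroup.centralizer (Q : Set Y) ≤ Q := by
    by_contra hnc
    obtain ⟨V, hlt, hVS, hctl⟩ := exists_lt_ctl hp2 hHer hsec S Q hQ hnc
    exact hlt.ne (hmax V hlt.le hVS hctl).symm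
  refine ⟨hi, ?_⟩
  intro X hXn hle ⟨k, hk⟩
  have hQS : Q ≤ (S : Subgroup Y) := (H1.le_pCore hQn hQ).trans (H1.pCore_le_sylow S)
  set C := Subgroup.centralizer (Q : Set Y) with hC
  have hCn : C.Normal := Subgroup.normal_centralizer
  have hZ' : ∀ z ∈ (S : Subgroup Y) ⊓ C, ∀ c ∈ C, z * c = c * z := by
    intro z hz c hc
    exact Subgroup.mem_centralizer_iff.1 hc z (hi hz)
  obtain ⟨D, hDn, hDc, hfac⟩ := H10.exists_normal_coprime_complement S C hZ'
  set Q₁ := (S : Subgroup Y) ⊓ X with hQ₁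
  have hQQ₁ : Q ≤ Q₁ := le_inf hQS (le_sup_left.trans hle)
  have hQ₁i : ¬ p ∣ Q₁.relIndex X := H19.not_dvd_relIndex_inf_normal S X
  have hX1 : X ≤ Q₁ ⊔ C := by
    rw [← Subgroup.relIndex_eq_one]
    have h1 : (Q₁ ⊔ C).relIndex X ∣ p ^ k := by
      rw [← hk]
      exact Subgroup.relIndex_dvd_of_le_left X (sup_le_sup_right hQQ₁ C)
    have h2 : (Q₁ ⊔ C).relIndex X ∣ Q₁.relIndex X :=
      Subgroup.relIndex_dvd_of_le_left X le_sup_left
    obtain ⟨m, -, hm⟩ := (Nat.dvd_prime_pow hp.out).1 h1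
    rcases Nat.eq_zero_or_pos m with h0 | hpos
    · rw [hm, h0, pow_zero]
    · exfalso
      apply hQ₁i
      refine dvd_trans ?_ h2
      rw [hm]
      exact dvd_pow_self p hpos.ne'
  have hX2 : X ≤ Q₁ ⊔ D := by
    refine hX1.trans (sup_le le_sup_left ?_)
    intro c hc
    obtain ⟨z, hz, d, hd, rfl⟩ := hfac c hc
    exact Subgroup.mul_mem_sup ⟨hz.1, hle (Subgroup.mem_sup_right hz.2)⟩ hd
  have hctl := ctl_inf_of_le_sup_coprime S D X hDc hX2
  have hQ₁Q : Q₁ = Q := hmax Q₁ hQQ₁ inf_le_left hctl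
  rw [hQ₁Q] at hX1
  exact le_antisymm hX1 hle

end localthm

section globalthm

variable {p : ℕ} [hp : Fact p.Prime]

/-- **Global theorem.** A subgroup `Q` of `P` of largest order among those whose normalizer controls
strong fusion in `P` satisfies `C_P(Q) ≤ Q`, and `N_G(Q)/Q C_G(Q)` has no nontrivial normal
`p`-subgroup (all sections of `G` being `p`-stable, `p` odd). -/
theorem exists_max_ctl (hp2 : p ≠ 2) {G : Type u} [Group G] [Finite G]
    (hHer : ∀ (Z : Type u) [Group Z] [Finite Z], H10.IsSec G Z → Cfsg.IsNormalizerPStable p Z)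
    (P : Sylow p G) :
    ∃ Q : Subgroup G, Q ≤ (P : Subgroup G) ∧ Ctl (P : Subgroup G) Q ∧
      (∀ V : Subgroup G, V ≤ (P : Subgroup G) → Ctl (P : Subgroup G) V →
        Nat.card V ≤ Nat.card Q) ∧
      (P : Subgroup G) ⊓ Subgroup.centralizer (Q : Set G) ≤ Q ∧
      ∀ X : Subgroup G, X ≤ Subgroup.normalizer (Q : Set G) →
        (∀ n ∈ Subgroup.normalizer (Q : Set G), X.map (MulAut.conj n).toMonoidHom = X) →
        Q ⊔ Subgroup.centralizer (Q : Set G) ≤ X →
        (∃ k : ℕ, (Q ⊔ Subgroup.centralizer (Q : Set G)).relIndex X = p ^ k) →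
        X = Q ⊔ Subgroup.centralizer (Q : Set G) := by
  obtain ⟨Q, ⟨hQP, hQctl⟩, hmax⟩ := Set.exists_max_image
    {V : Subgroup G | V ≤ (P : Subgroup G) ∧ Ctl (P : Subgroup G) V} (fun V => Nat.card V)
    (Set.toFinite _) ⟨⊥, bot_le, ctl_of_normal _ _ inferInstance⟩
  have hmax' : ∀ V : Subgroup G, V ≤ (P : Subgroup G) → Ctl (P : Subgroup G) V →
      Nat.card V ≤ Nat.card Q := fun V h1 h2 => hmax V ⟨h1, h2⟩
  set N := Subgroup.normalizer (Q : Set G) with hN
  have hPN : (P : Subgroup G) ≤ N := le_normalizer_of_ctl hQctl hQP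
  have hQN : Q ≤ N := Subgroup.le_normalizer
  have hSp : IsPGroup p ((P : Subgroup G).subgroupOf N) := P.2.comap_subtype
  have hSi : ¬ p ∣ ((P : Subgroup G).subgroupOf N).index :=
    H10.not_dvd_relIndex_of_sylow_le P hPN
  obtain ⟨SN, hSN⟩ := H10.exists_sylow_eq hSp hSi
  set QN := Q.subgroupOf N with hQNdef
  have hQNn : QN.Normal := Subgroup.normal_in_normalizer
  have hQNp : IsPGroup p QN := (P.2.to_le hQP).comap_subtype
  have hmaxN : ∀ V : Subgroup ↥N, QN ≤ V → V ≤ (SN : Subgroup ↥N) →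
      Ctl (SN : Subgroup ↥N) V → V = QN := by
    intro VN hQV hVS hctl
    set V := VN.map N.subtype with hV
    have hVN : V ≤ N := Subgroup.map_subtype_le _
    have hVsub : V.subgroupOf N = VN := by
      rw [hV, ← Subgroup.comap_subtype]
      exact Subgroup.comap_map_eq_self_of_injective N.subtype_injective VN
    have h1 : CtlIn N (P : Subgroup G) V := by
      apply ctlIn_of_ctl_subgroupOf hPN hVN
      rw [hVsub, ← hSN]
      exact hctl
    have h2 : Ctl (P : Subgroup G) V := ctl_trans hQctl h1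
    have hVP : V ≤ (P : Subgroup G) := by
      rintro _ ⟨v, hv, rfl⟩
      have := hVS hv
      rw [hSN] at this
      exact Subgroup.mem_subgroupOf.1 this
    have h3 := hmax' V hVP h2
    have hQV' : Q ≤ V := by
      intro q hq
      exact ⟨⟨q, hQN hq⟩, hQV (Subgroup.mem_subgroupOf.2 hq), rfl⟩
    have hVQ : Q = V := Subgroup.eq_of_le_of_card_ge hQV' h3
    rw [← hVsub, ← hVQ]
  obtain ⟨hi, hii⟩ := local_centric_radical hp2 hHer (H10.isSec_self.subgroup N) SN QN hQNp hmaxN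
  have hcent : Subgroup.centralizer ((QN : Subgroup N) : Set N) =
      (Subgroup.centralizer (Q : Set G)).subgroupOf N := by
    ext x
    rw [Subgroup.mem_subgroupOf, Subgroup.mem_centralizer_iff, Subgroup.mem_centralizer_iff]
    constructor
    · intro h y hy
      have := h ⟨y, hQN hy⟩ (by rw [SetLike.mem_coe, Subgroup.mem_subgroupOf]; exact hy)
      exact congrArg Subtype.val this
    · intro h y hy
      rw [SetLike.mem_coe, Subgroup.mem_subgroupOf] at hy
      exact Subtype.ext (h y hy)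
  refine ⟨Q, hQP, hQctl, hmax', ?_, ?_⟩
  · intro x hx
    have hxN : x ∈ N := hPN hx.1
    have h1 : (⟨x, hxN⟩ : ↥N) ∈ (SN : Subgroup ↥N) ⊓
        Subgroup.centralizer ((QN : Subgroup N) : Set N) := by
      refine ⟨?_, ?_⟩
      · rw [hSN]; exact Subgroup.mem_subgroupOf.2 hx.1
      · rw [hcent]; exact Subgroup.mem_subgroupOf.2 hx.2
    exact Subgroup.mem_subgroupOf.1 (hi h1)
  · intro X hXN hXinv hle ⟨k, hk⟩
    have hCN : Subgroup.centralizer (Q : Set G) ≤ N := Subgroup.centralizer_le_normalizer _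
    have hXn : (X.subgroupOf N).Normal := by
      constructor
      intro x hx n
      rw [Subgroup.mem_subgroupOf] at hx ⊢
      have h1 : (n : G) * (x : G) * (n : G)⁻¹ ∈ X.map (MulAut.conj (n : G)).toMonoidHom :=
        ⟨(x : G), hx, rfl⟩
      rw [hXinv (n : G) n.2] at h1
      simpa using h1
    have hsup : (Q ⊔ Subgroup.centralizer (Q : Set G)).subgroupOf N =
        QN ⊔ Subgroup.centralizer ((QN : Subgroup N) : Set N) := by
      rw [hcent, Subgroup.subgroupOf_sup hQN hCN]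
    have hle' : QN ⊔ Subgroup.centralizer ((QN : Subgroup N) : Set N) ≤ X.subgroupOf N := by
      rw [← hsup]
      intro x hx
      exact Subgroup.mem_subgroupOf.2 (hle (Subgroup.mem_subgroupOf.1 hx))
    have hrel : (QN ⊔ Subgroup.centralizer ((QN : Subgroup N) : Set N)).relIndex
        (X.subgroupOf N) = p ^ k := by
      rw [← hsup, Subgroup.relIndex_subgroupOf hXN, hk]
    have h1 := hii (X.subgroupOf N) hXn hle' ⟨k, hrel⟩
    rw [← hsup] at h1
    have h2 := congrArg (Subgroup.map N.subtype) h1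
    rwa [Subgroup.map_subgroupOf_eq_of_le hXN,
      Subgroup.map_subgroupOf_eq_of_le (sup_le hQN hCN)] at h2

end globalthm

section least

variable {p : ℕ} [hp : Fact p.Prime]

theorem conj_mem_centralizer {Y : Type*} [Group Y] {Q : Subgroup Y} {n c : Y}
    (hn : n ∈ Subgroup.normalizer (Q : Set Y)) (hc : c ∈ Subgroup.centralizer (Q : Set Y)) :
    n * c * n⁻¹ ∈ Subgroup.centralizer (Q : Set Y) := by
  rw [Subgroup.mem_centralizer_iff]
  intro q hq
  have h1 : n⁻¹ * q * n ∈ Q := by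
    have := (Subgroup.mem_normalizer_iff.1 (Subgroup.inv_mem _ hn) q).1 hq
    simpa using this
  have h2 := Subgroup.mem_centralizer_iff.1 hc _ h1
  calc q * (n * c * n⁻¹) = n * ((n⁻¹ * q * n) * c) * n⁻¹ := by group
    _ = n * (c * (n⁻¹ * q * n)) * n⁻¹ := by rw [h2]
    _ = n * c * n⁻¹ * q := by group

theorem normalizer_le_normalizer_centralizer' {Y : Type*} [Group Y] (Q : Subgroup Y) :
    Subgroup.normalizer (Q : Set Y) ≤
      Subgroup.normalizer ((Subgroup.centralizer (Q : Set Y) : Subgroup Y) : Set Y) := by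
  intro n hn
  rw [Subgroup.mem_normalizer_iff]
  intro c
  constructor
  · intro hc'
    exact conj_mem_centralizer hn hc'
  · intro hc'
    have := conj_mem_centralizer (Subgroup.inv_mem _ hn) hc'
    have e : n⁻¹ * (n * c * n⁻¹) * n⁻¹⁻¹ = c := by group
    rwa [e] at this

/-- **Every subgroup of `P` whose normalizer controls strong fusion in `P` lies in every centric
radical subgroup of `P`.** -/
theorem le_of_ctl_of_centric_radical {G : Type*} [Group G] [Finite G] (P : Sylow p G)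
    {V R : Subgroup G} (hVP : V ≤ (P : Subgroup G)) (hV : Ctl (P : Subgroup G) V)
    (hRP : R ≤ (P : Subgroup G))
    (hsyl : ∃ R' : Sylow p ↥(Subgroup.centralizer (R : Set G)),
      (R' : Subgroup ↥(Subgroup.centralizer (R : Set G))).map
        (Subgroup.centralizer (R : Set G)).subtype = R ⊓ Subgroup.centralizer (R : Set G))
    (hrad : ∀ X : Subgroup G, X ≤ Subgroup.normalizer (R : Set G) →
      (∀ n ∈ Subgroup.normalizer (R : Set G), X.map (MulAut.conj n).toMonoidHom = X) →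
      R ⊔ Subgroup.centralizer (R : Set G) ≤ X →
      (∃ k : ℕ, (R ⊔ Subgroup.centralizer (R : Set G)).relIndex X = p ^ k) →
      X = R ⊔ Subgroup.centralizer (R : Set G)) :
    V ≤ R := by
  set C := Subgroup.centralizer (R : Set G) with hC
  set N := Subgroup.normalizer (R : Set G) with hN
  have hPV : (P : Subgroup G) ≤ Subgroup.normalizer (V : Set G) := le_normalizer_of_ctl hV hVP
  have hNC : N ≤ Subgroup.normalizer (C : Set G) := normalizer_le_normalizer_centralizer' R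
  have hRN : R ≤ N := Subgroup.le_normalizer
  have hCN : C ≤ N := Subgroup.centralizer_le_normalizer _
  set D := V ⊓ N with hD
  have hDN : D ≤ N := inf_le_right
  have hDP : D ≤ (P : Subgroup G) := inf_le_left.trans hVP
  set C₀ := R ⊔ C with hC₀
  have hC₀N : C₀ ≤ N := sup_le hRN hCN
  have hNC₀ : N ≤ Subgroup.normalizer (C₀ : Set G) := by
    intro n hn
    rw [H10.mem_normalizer_iff_map_conj, hC₀, Subgroup.map_sup,
      H10.mem_normalizer_iff_map_conj.1 hn, H10.mem_normalizer_iff_map_conj.1 (hNC hn)]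
  -- Step 1: `D ≤ R`
  have hDR : D ≤ R := by
    set X := D ⊔ C₀ with hX
    have hXN : X ≤ N := sup_le hDN hC₀N
    have hinv : ∀ n ∈ N, X.map (MulAut.conj n).toMonoidHom = X := by
      intro n hn
      apply H10.eq_of_le_of_card_map_conj _ le_rfl
      rw [hX, Subgroup.map_sup, H10.mem_normalizer_iff_map_conj.1 (hNC₀ hn)]
      refine sup_le ?_ le_sup_right
      -- `n = x c` with `x ∈ N(V) ∩ N(R)`, `c ∈ C`
      obtain ⟨x, hxV, hxa⟩ := hV (R : Set G) n (fun a ha => hRP ha) (by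
        rintro _ ⟨a, ha, rfl⟩
        exact hRP ((Subgroup.mem_normalizer_iff.1 hn a).1 ha))
      have hxN : x ∈ N := by
        apply mem_normalizer_of_cj_le
        rintro _ ⟨a, ha, rfl⟩
        show x * a * x⁻¹ ∈ R
        rw [hxa a ha]
        exact (Subgroup.mem_normalizer_iff.1 hn a).1 ha
      have hcC : x⁻¹ * n ∈ C := by
        rw [Subgroup.mem_centralizer_iff]
        intro a ha
        have := hxa a ha
        calc a * (x⁻¹ * n) = x⁻¹ * (x * a * x⁻¹) * n := by group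
          _ = x⁻¹ * (n * a * n⁻¹) * n := by rw [this]
          _ = x⁻¹ * n * a := by group
      rintro _ ⟨d, hd, rfl⟩
      show n * d * n⁻¹ ∈ D ⊔ C₀
      have hc' : d⁻¹ * (x⁻¹ * n) * d * (x⁻¹ * n)⁻¹ ∈ C := by
        apply C.mul_mem _ (C.inv_mem hcC)
        have := conj_mem_centralizer (Subgroup.inv_mem _ (hDN hd)) hcC
        simpa [mul_assoc] using this
      have e : n * d * n⁻¹ = (x * d * x⁻¹) *
          (x * (d⁻¹ * (x⁻¹ * n) * d * (x⁻¹ * n)⁻¹) * x⁻¹) := by group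
      rw [e]
      apply Subgroup.mul_mem_sup
      · refine ⟨?_, ?_⟩
        · exact (Subgroup.mem_normalizer_iff.1 hxV d).1 hd.1
        · exact N.mul_mem (N.mul_mem hxN hd.2) (N.inv_mem hxN)
      · exact le_sup_right (a := R) (conj_mem_centralizer hxN hc')
    have hrel : ∃ k : ℕ, C₀.relIndex X = p ^ k := by
      have hXC₀ : X ≤ Subgroup.normalizer (C₀ : Set G) := hXN.trans hNC₀
      have hnorm : (C₀.subgroupOf X).Normal := Subgroup.normal_subgroupOf_of_le_normalizer hXC₀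
      have hq : IsPGroup p (↥X ⧸ C₀.subgroupOf X) := by
        intro y
        induction y using QuotientGroup.induction_on with
        | H y =>
          have hy : (y : G) ∈ ((D ⊔ C₀ : Subgroup G) : Set G) := y.2
          rw [Subgroup.coe_mul_of_left_le_normalizer_right D C₀ (hDN.trans hNC₀),
            Set.mem_mul] at hy
          obtain ⟨d, hd, z, hz, hdz⟩ := hy
          obtain ⟨j, hj⟩ := (P.2.to_le hDP) ⟨d, hd⟩
          have hj' : d ^ (p ^ j) = 1 := by
            have := congrArg Subtype.val hj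
            simpa using this
          refine ⟨j, ?_⟩
          have hdX : d ∈ X := le_sup_left (a := D) hd
          have e : (QuotientGroup.mk y : ↥X ⧸ C₀.subgroupOf X) =
              QuotientGroup.mk (⟨d, hdX⟩ : ↥X) := by
            rw [QuotientGroup.eq, Subgroup.mem_subgroupOf]
            have : ((y⁻¹ * ⟨d, hdX⟩ : ↥X) : G) = z⁻¹ := by
              show (y : G)⁻¹ * d = z⁻¹
              rw [← hdz]; group
            rw [this]
            exact C₀.inv_mem hz
          rw [e, ← QuotientGroup.mk_pow, QuotientGroup.eq_one_iff, Subgroup.mem_subgroupOf]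
          show ((⟨d, hdX⟩ : ↥X) ^ (p ^ j) : ↥X).1 ∈ C₀
          rw [Subgroup.coe_pow]
          show d ^ (p ^ j) ∈ C₀
          rw [hj']
          exact C₀.one_mem
      obtain ⟨k, hk⟩ := IsPGroup.iff_card.mp hq
      exact ⟨k, by rw [← hk]; exact Subgroup.index_eq_card _⟩
    have hXeq := hrad X hXN hinv le_sup_right hrel
    set T := D ⊔ R with hT
    have hTP : T ≤ (P : Subgroup G) := sup_le hDP hRP
    have hTX : T ≤ C₀ := by
      rw [← hXeq]
      exact sup_le le_sup_left ((le_sup_left (a := R)).trans le_sup_right)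
    obtain ⟨R', hR'⟩ := hsyl
    have hTC : T ⊓ C ≤ R ⊓ C := by
      have h1 : IsPGroup p ((T ⊓ C).subgroupOf C) :=
        (P.2.to_le (inf_le_left.trans hTP)).comap_subtype
      have h2 : (R' : Subgroup ↥C) ≤ (T ⊓ C).subgroupOf C := by
        intro x hx
        have h3 : (x : G) ∈ R ⊓ C := by
          rw [← hR']; exact ⟨x, hx, rfl⟩
        exact Subgroup.mem_subgroupOf.2 ⟨le_sup_right (a := D) h3.1, h3.2⟩
      have h3 : (T ⊓ C).subgroupOf C = R' := R'.is_maximal' h1 h2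
      intro t ht
      have h4 : (⟨t, ht.2⟩ : ↥C) ∈ (R' : Subgroup ↥C) := by
        rw [← h3]; exact Subgroup.mem_subgroupOf.2 ht
      rw [← hR']
      exact ⟨_, h4, rfl⟩
    intro d hd
    have hdT : d ∈ T := le_sup_left (a := D) hd
    have hdC₀ : d ∈ ((R ⊔ C : Subgroup G) : Set G) := hTX hdT
    rw [Subgroup.coe_mul_of_left_le_normalizer_right R C (hRN.trans hNC), Set.mem_mul] at hdC₀
    obtain ⟨r, hr, c, hc, hrc⟩ := hdC₀
    have hcT : c ∈ T := by
      have : c = r⁻¹ * d := by rw [← hrc]; group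
      rw [this]
      exact T.mul_mem (T.inv_mem (le_sup_right (a := D) hr)) hdT
    have hcR : c ∈ R := (hTC ⟨hcT, hc⟩).1
    rw [← hrc]
    exact R.mul_mem hr hcR
  -- Step 2: normalizers grow
  by_contra hVR
  set T := V ⊔ R with hT
  have hTP : T ≤ (P : Subgroup G) := sup_le hVP hRP
  have hlt : R < T := by
    refine lt_of_le_of_ne le_sup_right ?_
    intro heq
    apply hVR
    rw [heq]
    exact le_sup_left
  have h1 := H10.lt_inf_normalizer_of_lt (P.2.to_le hTP) hlt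
  apply h1.ne
  refine le_antisymm h1.le ?_
  intro t ht
  have htT : t ∈ ((V ⊔ R : Subgroup G) : Set G) := ht.1
  rw [Subgroup.coe_mul_of_right_le_normalizer_left V R (hRP.trans hPV), Set.mem_mul] at htT
  obtain ⟨v, hv, r, hr, hvr⟩ := htT
  have hvN : v ∈ N := by
    have : v = t * r⁻¹ := by rw [← hvr]; group
    rw [this]
    exact N.mul_mem ht.2 (N.inv_mem (hRN hr))
  rw [← hvr]
  exact R.mul_mem (hDR ⟨hv, hvN⟩) hr

/-- `Z(Q)` is a Sylow `p`-subgroup of `C_G(Q)` when `Q ⊴ P` and `C_P(Q) ≤ Q` -/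
theorem exists_sylow_centralizer {G : Type*} [Group G] [Finite G] (P : Sylow p G)
    {Q : Subgroup G} (hQP : Q ≤ (P : Subgroup G))
    (hPN : (P : Subgroup G) ≤ Subgroup.normalizer (Q : Set G))
    (hcent : (P : Subgroup G) ⊓ Subgroup.centralizer (Q : Set G) ≤ Q) :
    ∃ R : Sylow p ↥(Subgroup.centralizer (Q : Set G)),
      (R : Subgroup ↥(Subgroup.centralizer (Q : Set G))).map
        (Subgroup.centralizer (Q : Set G)).subtype = Q ⊓ Subgroup.centralizer (Q : Set G) := by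
  set C := Subgroup.centralizer (Q : Set G) with hC
  set N := Subgroup.normalizer (Q : Set G) with hN
  have h1 : ¬ p ∣ ((P : Subgroup G) ⊓ C).relIndex C :=
    H5.AC.not_dvd_relIndex_inf_of_normal P.2 hPN (H10.not_dvd_relIndex_of_sylow_le P hPN)
      (Subgroup.centralizer_le_normalizer _) (normalizer_le_normalizer_centralizer' Q)
  have h2 : (P : Subgroup G) ⊓ C = Q ⊓ C :=
    le_antisymm (le_inf hcent inf_le_right) (inf_le_inf_right _ hQP)
  rw [h2] at h1
  have h3 : IsPGroup p ((Q ⊓ C).subgroupOf C) :=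
    (P.2.to_le (inf_le_left.trans hQP)).comap_subtype
  obtain ⟨R, hR⟩ := H10.exists_sylow_eq h3 h1
  refine ⟨R, ?_⟩
  rw [hR, Subgroup.subgroupOf_map_subtype, inf_assoc, inf_idem]

end least

end Cfsg.Agent.Lib.H10.CRF
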