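import Mathlib
import Cfsg.Prelude.Def_TwoFusion
import Cfsg.Prelude.Def_CaseTheorems
import Cfsg.Agent.Lib.H1.ZStar
import Cfsg.Agent.Lib.H6.Dihedral

/-!
# S3211 piece D (helper10): an isolated involution `j` has `G = C_G(j) O(G)`.
-/

set_option autoImplicit false

namespace Cfsg.Agent.Lib.H10.CSL2

/-- every commutator `[j, g]` with an isolated involution lies in `O(G)` (Glauberman). -/
theorem isolated_comm_mem_oddCore {G : Type*} [Group G] [Finite G] (j : G)
    (hj : Cfsg.IsIsolatedInvolution j) (g : G) : j * g * j⁻¹ * g⁻¹ ∈ Cfsg.oddCore G := by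
  apply Cfsg.Agent.Lib.H1.ZStar.zstar j
  refine ⟨hj.1, fun g => ?_⟩
  have ha : j * j = 1 := Cfsg.Agent.Lib.H6.isolated_mul_self hj
  have hzinv : j⁻¹ = j := inv_eq_of_mul_eq_one_right ha
  have : j * g * j⁻¹ * g⁻¹ = j * (g * j * g⁻¹) := by rw [hzinv]; group
  rw [this]
  exact Cfsg.Agent.Lib.H6.isolated_odd_orderOf hj g

/-- **D**. -/
theorem sup_oddCore_eq_top {G : Type*} [Group G] [Finite G] (j : G)
    (hj : Cfsg.IsIsolatedInvolution j) :
    Subgroup.centralizer ({j} : Set G) ⊔ Cfsg.oddCore G = ⊤ := by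
  rw [eq_top_iff]
  intro g _
  have hjj : j * j = 1 := Cfsg.Agent.Lib.H6.isolated_mul_self hj
  have hjinv : j⁻¹ = j := inv_eq_of_mul_eq_one_right hjj
  set u : G := j * g * j⁻¹ * g⁻¹ with hu
  have huO : u ∈ Cfsg.oddCore G := isolated_comm_mem_oddCore j hj g
  -- `u` has odd order
  have hodd : Odd (orderOf u) := by
    have h1 : u = j * (g * j * g⁻¹) := by rw [hu, hjinv]; group
    rw [h1]
    exact Cfsg.Agent.Lib.H6.isolated_odd_orderOf hj g
  obtain ⟨k, hk⟩ := hodd
  -- `j` inverts `u`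
  have hinv : j * u * j⁻¹ = u⁻¹ := by
    rw [hu, hjinv]
    have e1 : j * (j * g * j * g⁻¹) * j = (j * j) * g * j * g⁻¹ * j := by group
    have e2 : (j * g * j * g⁻¹)⁻¹ = g * j⁻¹ * g⁻¹ * j⁻¹ := by group
    rw [e1, e2, hjj, hjinv, one_mul]
  -- the square root `w = u ^ (k + 1)`
  set w : G := u ^ (k + 1) with hw
  have hww : w * w = u := by
    rw [hw, ← pow_add]
    have : k + 1 + (k + 1) = orderOf u + 1 := by omega
    rw [this, pow_succ, pow_orderOf_eq_one, one_mul]
  have hwO : w ∈ Cfsg.oddCore G := Subgroup.pow_mem _ huO _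
  have hwinv : j * w * j⁻¹ = w⁻¹ := by
    rw [hw]
    have : j * u ^ (k + 1) * j⁻¹ = (j * u * j⁻¹) ^ (k + 1) := by
      rw [conj_pow]
    rw [this, hinv, inv_pow]
  -- `w * g` commutes with `j`
  have hcomm : (w * g) * j = j * (w * g) := by
    have h1 : j * g = u * g * j := by rw [hu]; group
    have h2 : j * w = w⁻¹ * j := by
      have : j * w = (j * w * j⁻¹) * j := by group
      rw [this, hwinv]
    calc (w * g) * j = w⁻¹ * (w * w) * g * j := by group
      _ = w⁻¹ * u * g * j := by rw [hww]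
      _ = w⁻¹ * (u * g * j) := by group
      _ = w⁻¹ * (j * g) := by rw [← h1]
      _ = (w⁻¹ * j) * g := by group
      _ = (j * w) * g := by rw [h2]
      _ = j * (w * g) := by group
  have hmem : w * g ∈ Subgroup.centralizer ({j} : Set G) := by
    rw [Subgroup.mem_centralizer_iff]
    intro x hx
    rw [Set.mem_singleton_iff] at hx
    rw [hx]
    exact hcomm.symm
  have hg' : g = w⁻¹ * (w * g) := by group
  rw [hg']
  exact Subgroup.mul_mem _ (Subgroup.mem_sup_right (Subgroup.inv_mem _ hwO))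
    (Subgroup.mem_sup_left hmem)

end Cfsg.Agent.Lib.H10.CSL2
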