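import Mathlib
import Cfsg.Agent.Lib.H28.CSL2Defs

/-!
# S3211 piece E (helper10): the hypotheses of S3211 give the configuration `Cfg`.
-/

set_option autoImplicit false

namespace Cfsg.Agent.Lib.H10.CSL2

open Cfsg.Agent.Lib.H28.CSL2

/-- the product set of two elementwise commuting subgroups, as a subgroup -/
def prodSub {G : Type*} [Group G] (L₁ L₂ : Subgroup G)
    (hc : ∀ x ∈ L₁, ∀ y ∈ L₂, x * y = y * x) : Subgroup G where
  carrier := {g | ∃ a ∈ L₁, ∃ b ∈ L₂, g = a * b}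
  one_mem' := ⟨1, L₁.one_mem, 1, L₂.one_mem, (one_mul 1).symm⟩
  mul_mem' := by
    rintro _ _ ⟨a, ha, b, hb, rfl⟩ ⟨a', ha', b', hb', rfl⟩
    refine ⟨a * a', L₁.mul_mem ha ha', b * b', L₂.mul_mem hb hb', ?_⟩
    calc a * b * (a' * b') = a * (b * a') * b' := by group
      _ = a * (a' * b) * b' := by rw [hc a' ha' b hb]
      _ = a * a' * (b * b') := by group
  inv_mem' := by
    rintro _ ⟨a, ha, b, hb, rfl⟩
    refine ⟨a⁻¹, L₁.inv_mem ha, b⁻¹, L₂.inv_mem hb, ?_⟩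
    rw [_root_.mul_inv_rev]
    exact (hc a⁻¹ (L₁.inv_mem ha) b⁻¹ (L₂.inv_mem hb)).symm

theorem sup_le_prodSub {G : Type*} [Group G] (L₁ L₂ : Subgroup G)
    (hc : ∀ x ∈ L₁, ∀ y ∈ L₂, x * y = y * x) : L₁ ⊔ L₂ ≤ prodSub L₁ L₂ hc := by
  refine sup_le ?_ ?_
  · intro a ha
    exact ⟨a, ha, 1, L₂.one_mem, (mul_one a).symm⟩
  · intro b hb
    exact ⟨1, L₁.one_mem, b, hb, (one_mul b).symm⟩

/-- **E**. -/
theorem cfg_of_hyp {G : Type*} [Group G] [Finite G] (L₁ L₂ : Subgroup G) (j n : G)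
    (hs1 : SLike L₁ j) (hs2 : SLike L₂ j) (h24 : 2 < Nat.card L₁)
    (hc : ∀ x ∈ L₁, ∀ y ∈ L₂, x * y = y * x) (hm : L₁ ⊓ L₂ = Subgroup.zpowers j)
    (hle : L₁ ⊔ L₂ ≤ Subgroup.centralizer ({j} : Set G))
    (hi : (L₁ ⊔ L₂).relIndex (Subgroup.centralizer ({j} : Set G)) = 2)
    (hn : n ∈ Subgroup.centralizer ({j} : Set G)) (hn2 : n ^ 2 = j)
    (hswap : L₁.map (MulAut.conj n).toMonoidHom = L₂) : Cfg L₁ L₂ j n := by
  have hnj : n * j = j * n := by
    rw [Subgroup.mem_centralizer_iff] at hn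
    exact (hn j (Set.mem_singleton j)).symm
  have hnn : n * n = j := by rw [← pow_two, hn2]
  have hn12 : ∀ a ∈ L₁, n * a * n⁻¹ ∈ L₂ := by
    intro a ha
    rw [← hswap]
    exact ⟨a, ha, by simp [MulAut.conj_apply]⟩
  have hn21 : ∀ b ∈ L₂, n * b * n⁻¹ ∈ L₁ := by
    intro b hb
    rw [← hswap] at hb
    obtain ⟨a, ha, rfl⟩ := hb
    have h1 : n * (MulAut.conj n).toMonoidHom a * n⁻¹ = (n * n) * a * (n * n)⁻¹ := by
      simp only [MulEquiv.toMonoidHom_eq_coe, MonoidHom.coe_coe, MulAut.conj_apply]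
      group
    rw [h1, hnn]
    have h2 : j * a * j⁻¹ = a := by
      rw [← hs1.cen a ha]
      group
    rw [h2]
    exact ha
  have hmeet : ∀ g, g ∈ L₁ → g ∈ L₂ → g = 1 ∨ g = j := by
    intro g h1 h2
    have : g ∈ L₁ ⊓ L₂ := ⟨h1, h2⟩
    rw [hm, Subgroup.mem_zpowers_iff] at this
    obtain ⟨k, rfl⟩ := this
    rcases Int.even_or_odd k with ⟨m, rfl⟩ | ⟨m, rfl⟩
    · left
      rw [← two_mul, zpow_mul, zpow_two, hs1.jj, one_zpow]
    · right
      rw [zpow_add, zpow_mul, zpow_two, hs1.jj, one_zpow, one_mul, zpow_one]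
  -- `n ∉ L₁ ⊔ L₂`
  have hnY : n ∉ L₁ ⊔ L₂ := by
    intro hnY
    obtain ⟨a, ha, b, hb, hab⟩ := sup_le_prodSub L₁ L₂ hc hnY
    -- `L₂ ≤ L₁`
    have h21 : L₂ ≤ L₁ := by
      intro y hy
      rw [← hswap] at hy
      obtain ⟨x, hx, rfl⟩ := hy
      have : (MulAut.conj n).toMonoidHom x = a * x * a⁻¹ := by
        simp only [MulEquiv.toMonoidHom_eq_coe, MonoidHom.coe_coe, MulAut.conj_apply]
        rw [hab]
        calc a * b * x * (a * b)⁻¹ = a * (b * x) * b⁻¹ * a⁻¹ := by group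
          _ = a * (x * b) * b⁻¹ * a⁻¹ := by rw [hc x hx b hb]
          _ = a * x * a⁻¹ := by group
      rw [this]
      exact L₁.mul_mem (L₁.mul_mem ha hx) (L₁.inv_mem ha)
    have h3 : L₂ = Subgroup.zpowers j := by
      rw [← hm]
      exact (inf_eq_right.2 h21).symm
    have hcard : Nat.card L₁ = Nat.card L₂ := by
      rw [← hswap]
      exact (Subgroup.card_map_of_injective (MulAut.conj n).injective).symm
    have hj2 : Nat.card (Subgroup.zpowers j) ≤ 2 := by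
      rw [Nat.card_zpowers]
      apply orderOf_le_of_pow_eq_one (by norm_num)
      rw [pow_two, hs1.jj]
    rw [hcard, h3] at h24
    omega
  refine ⟨hs1, hs2, hc, hmeet, ?_, hnj, hnn, hn12, hn21⟩
  -- cover
  intro g hg
  have hgC : g ∈ Subgroup.centralizer ({j} : Set G) := by
    rw [Subgroup.mem_centralizer_iff]
    intro x hx
    rw [Set.mem_singleton_iff] at hx
    rw [hx]
    exact hg.symm
  by_cases hgY : g ∈ L₁ ⊔ L₂
  · obtain ⟨a, ha, b, hb, hab⟩ := sup_le_prodSub L₁ L₂ hc hgY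
    exact ⟨a, ha, b, hb, Or.inl hab⟩
  · -- `g * n⁻¹ ∈ L₁ ⊔ L₂` by index two
    have hidx : ((L₁ ⊔ L₂).subgroupOf (Subgroup.centralizer ({j} : Set G))).index = 2 := hi
    have hninv : n⁻¹ ∈ Subgroup.centralizer ({j} : Set G) := Subgroup.inv_mem _ hn
    have key := Subgroup.mul_mem_iff_of_index_two hidx
      (a := (⟨g, hgC⟩ : Subgroup.centralizer ({j} : Set G)))
      (b := (⟨n⁻¹, hninv⟩ : Subgroup.centralizer ({j} : Set G)))
    have h1 : (⟨g, hgC⟩ : Subgroup.centralizer ({j} : Set G)) ∉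
        (L₁ ⊔ L₂).subgroupOf (Subgroup.centralizer ({j} : Set G)) := by
      rw [Subgroup.mem_subgroupOf]
      exact hgY
    have h2 : (⟨n⁻¹, hninv⟩ : Subgroup.centralizer ({j} : Set G)) ∉
        (L₁ ⊔ L₂).subgroupOf (Subgroup.centralizer ({j} : Set G)) := by
      rw [Subgroup.mem_subgroupOf]
      intro h
      exact hnY (by simpa using (L₁ ⊔ L₂).inv_mem h)
    have h3 : (⟨g, hgC⟩ : Subgroup.centralizer ({j} : Set G)) * ⟨n⁻¹, hninv⟩ ∈
        (L₁ ⊔ L₂).subgroupOf (Subgroup.centralizer ({j} : Set G)) := by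
      rw [key]
      exact ⟨fun h => absurd h h1, fun h => absurd h h2⟩
    rw [Subgroup.mem_subgroupOf] at h3
    have h4 : g * n⁻¹ ∈ L₁ ⊔ L₂ := h3
    obtain ⟨a, ha, b, hb, hab⟩ := sup_le_prodSub L₁ L₂ hc h4
    refine ⟨a, ha, b, hb, Or.inr ?_⟩
    rw [← hab]
    group

end Cfsg.Agent.Lib.H10.CSL2
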