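import Mathlib
import Cfsg.Prelude.Def_BrauerPairs
import Cfsg.Prelude.Def_BlockLocal
import Cfsg.Agent.Lib.L0.AbelianInertial

/-!
# S4645 piece (A): `subpair_of_inducedIn` (helper10)

Copy of the first half of `L0.AbelianInertial.core`: the block `f₁` of `C_G(Q)` with
`(Q, f₁) ≤ (P, c)` is the unique block of `C_G(Q)` induced (inside `C_G(Q)`) from `c`.
-/

set_option autoImplicit false

namespace Cfsg.Agent.Lib.H10.CY

open Cfsg MonoidAlgebra Cfsg.Agent.Lib.H23 Cfsg.Agent.Lib.H24 Cfsg.Agent.Lib.L0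
  Cfsg.Agent.Lib.L0.BrauerPairHom Cfsg.Agent.Lib.L0.BrauerLam
  Cfsg.Agent.Lib.L0.BrauerNormal Cfsg.Agent.Lib.L0.BrauerSubpair Cfsg.Agent.Lib.L0.BrauerConj
  Cfsg.Agent.Lib.L0.BrauerDefect Cfsg.Agent.Lib.L0.BrauerSylow Cfsg.Agent.Lib.L0.BrauerCentric
  Cfsg.Agent.Lib.L0.BlockOrbitCover Cfsg.Agent.Lib.L0.BrauerNormalizer
  Cfsg.Agent.Lib.L0.BrauerFully Cfsg.Agent.Lib.L0.BrauerRelative Cfsg.Agent.Lib.L0.BrauerStab
  Cfsg.Agent.Lib.L0.BrauerAutomizer Cfsg.Agent.Lib.L0.BrauerAbelian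
  Cfsg.Agent.Lib.L0.BrauerNilpotent Cfsg.Agent.Lib.L0.AbelianInertial
open scoped ComplexConjugate

variable {G : Type*} [Group G] [Fintype G] {p : ℕ} {M : Ideal Cfsg.AlgInt}

theorem subpair_of_inducedIn (hM : Cfsg.IsPModular p M) {B : Set (Cfsg.IrrCharacter G)}
    {P : Subgroup G} {c : Set (Cfsg.IrrCharacter (Subgroup.centralizer (P : Set G)))}
    (hmax : Cfsg.IsMaximalBrauerPair p M B P c) (hab : ∀ x ∈ P, ∀ y ∈ P, x * y = y * x)
    {Q : Subgroup G} (hQP : Q ≤ P)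
    (f : Set (Cfsg.IrrCharacter (Subgroup.centralizer (Q : Set G))))
    (hf : Cfsg.IsInducedBlockIn M (Subgroup.centralizer (Q : Set G))
      (Subgroup.centralizer (P : Set G)) c f) :
    Cfsg.IsPBlock M f ∧ Cfsg.SubpairLE p M Q f P c := by
  classical
  have hPr := isPrime_of_isPModular hM
  have hPe : IsBrauerPair p M P c := hmax.1.1
  have hPK : P ≤ Subgroup.centralizer (Q : Set G) := le_centralizer_of_abelian hab hQP
  have hCK : Subgroup.centralizer (P : Set G) ≤ Subgroup.centralizer (Q : Set G) :=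
    Subgroup.centralizer_le hQP
  have hCN := Subgroup.centralizer_le_normalizer ((Q : Subgroup G) : Set G)
  obtain ⟨f₁, ⟨hf₁, hle⟩, _⟩ := exists_unique_subpairLE hM P Q c hPe hQP
  have hnorm : IsNormalSubpair p M Q f₁ P c :=
    normalSubpair_of_subpairLE hM (a := ⟨Q, f₁⟩) (c := ⟨P, c⟩) hle hPe (hPK.trans hCN)
  have hloc : LocalMax p M P Q f₁ (fun Q' => Subgroup.centralizer (Q' : Set G)) := by
    refine localMax_of_fully hM hmax hle _ map_conj_centralizer_le fun y hy => ?_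
    have hyP : Q.map (MulAut.conj y).toMonoidHom ≤ P :=
      fst_le_of_reflTransGen (a := ⟨_, conjBlock Q y f₁⟩) (b := ⟨P, c⟩) hy
    have h1 : P ⊓ Subgroup.centralizer
        ((Q.map (MulAut.conj y).toMonoidHom : Subgroup G) : Set G) = P :=
      inf_eq_left.2 (le_centralizer_of_abelian hab hyP)
    have h2 : P ⊓ Subgroup.centralizer (Q : Set G) = P := inf_eq_left.2 hPK
    show Nat.card ↥(P ⊓ Subgroup.centralizer
      ((Q.map (MulAut.conj y).toMonoidHom : Subgroup G) : Set G)) ≤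
      Nat.card ↥(P ⊓ Subgroup.centralizer (Q : Set G))
    rw [h1, h2]
  have hD := isDefectGroup_centralizer_of_localMax hM hPe hf₁ hle hloc
  rw [inf_eq_left.2 hPK] at hD
  obtain ⟨b', hb1, hb2, hb3⟩ := exists_up_eq (Subgroup.centralizer (Q : Set G)) hPK hCK hPe.2
  have hup : upSub (Subgroup.centralizer (Q : Set G)) b'.1 = P := by
    rw [hb1, upSub_subgroupOf _ hPK]
  have hCb : Subgroup.centralizer
      ((upSub (Subgroup.centralizer (Q : Set G)) b'.1 : Subgroup G) : Set G) ≤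
      Subgroup.centralizer (Q : Set G) := by
    rw [hup]; exact hCK
  have hb'p : IsBrauerPair p M b'.1 b'.2 := by
    refine ⟨?_, hb2⟩
    rw [hb1]
    exact hPe.1.comap_subtype
  have hfc : ∀ t : Subgroup.centralizer (Q : Set G), blockCoeff f₁ t =
      subgroupBlockCoeff (Subgroup.centralizer (Q : Set G)) f₁ (t : G) := by
    intro t
    unfold subgroupBlockCoeff
    rw [dif_pos t.2]
  have hb'F : IsBrauerPairOf p M f₁ b'.1 b'.2 := by
    refine isBrauerPairOf_of_up _ hf₁ hfc hb'p hCb ?_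
    rw [hb3]
    exact hnorm
  have : Fintype (Subgroup.centralizer (b'.1 : Set (Subgroup.centralizer (Q : Set G)))) :=
    Fintype.ofFinite _
  have hind₁ := isInducedBlock_of_pair hM hb'F
  have h1 := (isInducedBlockIn_congr _ hb3 f).2 hf
  have h2 := isInducedBlock_of_in _ b'.1 hCb hb2 h1
  have h3 : f = f₁ := isInducedBlock_unique _ h2 hind₁
  rw [h3]
  exact ⟨hf₁, hle⟩

end Cfsg.Agent.Lib.H10.CY
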