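import Mathlib
import Cfsg.Prelude.Def_Local
import Cfsg.Prelude.Def_Transfer
import Cfsg.Agent.Lib.H28.CYBURN
import Cfsg.Agent.Lib.H10.PSolvable2
import Cfsg.Agent.Lib.H26.PSolvableExt
import Cfsg.Agent.Lib.H4.PSolvSub
import Cfsg.Agent.Lib.H1.PSolvOfSolv
import Cfsg.Agent.Lib.H1.PCore
import Cfsg.Agent.Lib.L0.TransferPC
import Cfsg.Agent.Lib.L0.NPCBasic
import Cfsg.Agent.Lib.H9.PPrimeCore
import Cfsg.Agent.Lib.H19.Cores

set_option autoImplicit false

namespace Cfsg.Agent.Lib.H10.CY

universe u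

def Hyp (p : ℕ) (G : Type u) [Group G] : Prop :=
  (∃ P : Sylow p G, IsCyclic ↥(P : Subgroup G)) ∧
    ∀ x y : G, orderOf x = p → orderOf y = p →
      Cfsg.IsPSolvable p ↥(Subgroup.closure ({x, y} : Set G))

variable {p : ℕ} [Fact p.Prime]

/-- the hypotheses pass to subgroups -/
theorem Hyp.subgroup {G : Type u} [Group G] [Finite G] (h : Hyp p G) (H : Subgroup G) :
    Hyp p ↥H := by
  obtain ⟨⟨P, hP⟩, hpair⟩ := h
  constructor
  · obtain ⟨Q⟩ : Nonempty (Sylow p ↥H) := inferInstance
    refine ⟨Q, ?_⟩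
    have h1 : IsPGroup p ↥((Q : Subgroup ↥H).map H.subtype) := Q.isPGroup'.map _
    have h2 : IsCyclic ↥((Q : Subgroup ↥H).map H.subtype) :=
      Cfsg.Agent.Lib.H28.CY.isCyclic_of_isPGroup_of_cyclic_sylow P hP _ h1
    have e := (Q : Subgroup ↥H).equivMapOfInjective H.subtype H.subtype_injective
    exact isCyclic_of_surjective e.symm.toMonoidHom e.symm.surjective
  · intro x y hx hy
    have hx' : orderOf (x : G) = p := by rw [Subgroup.orderOf_coe]; exact hx
    have hy' : orderOf (y : G) = p := by rw [Subgroup.orderOf_coe]; exact hy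
    have h1 := hpair (x : G) (y : G) hx' hy'
    have hmap : (Subgroup.closure ({x, y} : Set ↥H)).map H.subtype =
        Subgroup.closure ({(x : G), (y : G)} : Set G) := by
      rw [MonoidHom.map_closure, Set.image_pair]
      rfl
    have e := (Subgroup.closure ({x, y} : Set ↥H)).equivMapOfInjective H.subtype
      H.subtype_injective
    rw [← hmap] at h1
    exact Cfsg.Agent.Lib.H26.isPSolvable_of_mulEquiv e.symm h1

/-- lifting elements of order `p` modulo a normal `p'`-subgroup -/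
theorem exists_lift_orderOf_eq {G : Type u} [Group G] [Finite G] (K : Subgroup G) [K.Normal]
    (hK : (Nat.card K).Coprime p) (xb : G ⧸ K) (hx : orderOf xb = p) :
    ∃ x : G, orderOf x = p ∧ (QuotientGroup.mk x : G ⧸ K) = xb := by
  have hp : p.Prime := Fact.out
  obtain ⟨g, rfl⟩ := QuotientGroup.mk_surjective xb
  obtain ⟨a, -, ha⟩ := Nat.exists_mul_mod_eq_one_of_coprime hK hp.one_lt
  have hgp : g ^ p ∈ K := by
    rw [← QuotientGroup.eq_one_iff, QuotientGroup.mk_pow, ← hx, pow_orderOf_eq_one]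
  have hgpm : (g ^ p) ^ Nat.card K = 1 := by
    have := pow_card_eq_one' (G := ↥K) (x := ⟨g ^ p, hgp⟩)
    exact congrArg Subtype.val this
  refine ⟨g ^ (Nat.card K * a), ?_, ?_⟩
  · apply orderOf_eq_prime
    · rw [← pow_mul, mul_comm, ← mul_assoc, pow_mul, pow_mul, hgpm, one_pow]
    · intro h1
      have h2 : ((QuotientGroup.mk g : G ⧸ K)) ^ (Nat.card K * a) = 1 := by
        rw [← QuotientGroup.mk_pow, h1]; rfl
      rw [← pow_mod_orderOf, hx, ha, pow_one] at h2
      rw [h2, orderOf_one] at hx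
      exact hp.one_lt.ne hx
  · rw [QuotientGroup.mk_pow, ← pow_mod_orderOf, hx, ha, pow_one]

/-- the hypotheses pass to quotients by normal `p'`-subgroups -/
theorem Hyp.quotient {G : Type u} [Group G] [Finite G] (h : Hyp p G) (K : Subgroup G) [K.Normal]
    (hK : (Nat.card K).Coprime p) : Hyp p (G ⧸ K) := by
  obtain ⟨⟨P, hP⟩, hpair⟩ := h
  constructor
  · refine ⟨P.mapSurjective (QuotientGroup.mk'_surjective K), ?_⟩
    show IsCyclic ↥((P : Subgroup G).map (QuotientGroup.mk' K))
    exact isCyclic_of_surjective ((QuotientGroup.mk' K).subgroupMap (P : Subgroup G))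
      (MonoidHom.subgroupMap_surjective _ _)
  · intro xb yb hx hy
    obtain ⟨x, hx', rfl⟩ := exists_lift_orderOf_eq K hK xb hx
    obtain ⟨y, hy', rfl⟩ := exists_lift_orderOf_eq K hK yb hy
    have h1 := hpair x y hx' hy'
    have h2 : Cfsg.IsPSolvable p
        ↥((Subgroup.closure ({x, y} : Set G)).map (QuotientGroup.mk' K)) :=
      Cfsg.Agent.Lib.H26.isPSolvable_of_surjective
        ((QuotientGroup.mk' K).subgroupMap (Subgroup.closure ({x, y} : Set G)))
        (MonoidHom.subgroupMap_surjective _ _) h1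
    rw [MonoidHom.map_closure, Set.image_pair] at h2
    exact h2

omit [Fact p.Prime] in
/-- a `p'`-group is `p`-solvable -/
theorem isPSolvable_of_card_coprime {G : Type u} [Group G] (h : (Nat.card G).Coprime p) :
    Cfsg.IsPSolvable p G := by
  have h0 : Cfsg.IsPSolvable p Unit :=
    ⟨0, fun _ => ⊥, rfl, (Subgroup.eq_bot_of_subsingleton ⊤).symm, monotone_const,
      fun _ => inferInstance, fun i => i.elim0⟩
  refine Cfsg.Agent.Lib.H1.PSolvOfSolv.isPSolvable_of_ker_coprime (1 : G →* Unit)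
    (fun _ => ⟨1, Subsingleton.elim _ _⟩) ?_ h0
  rw [MonoidHom.ker_one, Subgroup.card_top]
  exact h


/-- the reduction (auxiliary form, by strong induction on the order) -/
theorem isPSolvable_of_simple_case_aux
    (hsimple : ∀ (G : Type u) [Group G] [Finite G] [IsSimpleGroup G], ¬ IsMulCommutative G →
      ∀ P : Sylow p G, IsCyclic ↥(P : Subgroup G) →
      (∀ x y : G, orderOf x = p → orderOf y = p →
        Cfsg.IsPSolvable p ↥(Subgroup.closure ({x, y} : Set G))) → False) :
    ∀ n : ℕ, ∀ (G : Type u) [Group G] [Finite G], Nat.card G = n → Hyp p G →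
      Cfsg.IsPSolvable p G := by
  have hp : p.Prime := Fact.out
  intro n
  induction n using Nat.strong_induction_on with
  | _ n ih =>
  intro G _ _ hn hH
  -- case A : the `p'`-core is nontrivial
  by_cases hK : Cfsg.pPrimeCore p G = ⊥
  swap
  · have hKn : (Cfsg.pPrimeCore p G).Normal := Cfsg.Agent.Lib.H22.pPrimeCore_normal p
    have hKc : (Nat.card (Cfsg.pPrimeCore p G)).Coprime p :=
      Cfsg.Agent.Lib.H22.card_pPrimeCore_coprime p
    have hcard := Subgroup.card_eq_card_quotient_mul_card_subgroup (Cfsg.pPrimeCore p G)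
    have h1 : 1 < Nat.card (Cfsg.pPrimeCore p G) := (Subgroup.one_lt_card_iff_ne_bot _).2 hK
    have hlt : Nat.card (G ⧸ Cfsg.pPrimeCore p G) < n := by
      rw [← hn, hcard]
      have hpos : 0 < Nat.card (G ⧸ Cfsg.pPrimeCore p G) := Nat.card_pos
      nlinarith
    have hq := ih _ hlt (G ⧸ Cfsg.pPrimeCore p G) rfl (hH.quotient _ hKc)
    refine Cfsg.Agent.Lib.H1.PSolvOfSolv.isPSolvable_of_ker_coprime
      (QuotientGroup.mk' (Cfsg.pPrimeCore p G)) (QuotientGroup.mk'_surjective _) ?_ hq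
    rw [QuotientGroup.ker_mk']
    exact hKc
  -- case B : the `p`-core is nontrivial
  by_cases hQ : Cfsg.pCore p G = ⊥
  swap
  · obtain ⟨⟨P, hP⟩, hpair⟩ := hH
    have hQn : (Cfsg.pCore p G).Normal := Cfsg.Agent.Lib.H1.pCore_normal p G
    have hQP : Cfsg.pCore p G ≤ (P : Subgroup G) := Cfsg.Agent.Lib.H1.pCore_le_sylow P
    have hQp : IsPGroup p ↥(Cfsg.pCore p G) := Cfsg.Agent.Lib.H1.pCore_isPGroup p G
    set N : Subgroup G := Subgroup.centralizer ((Cfsg.pCore p G : Subgroup G) : Set G) with hN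
    have hNn : N.Normal := Subgroup.normal_centralizer
    have hPN : (P : Subgroup G) ≤ N := by
      intro a ha
      rw [hN, Subgroup.mem_centralizer_iff]
      intro b hb
      have hc : IsMulCommutative ↥(P : Subgroup G) := IsCyclic.isMulCommutative
      have := hc.is_comm.comm (⟨b, hQP hb⟩ : ↥(P : Subgroup G)) ⟨a, ha⟩
      exact congrArg Subtype.val this
    obtain ⟨m, hm⟩ := hQp.exists_card_eq
    have hm0 : m ≠ 0 := by
      rintro rfl
      rw [pow_zero, Subgroup.card_eq_one] at hm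
      exact hQ hm
    have hdvd : p ∣ Nat.card ↥(Cfsg.pCore p G) := by
      rw [hm]; exact dvd_pow_self p hm0
    obtain ⟨s', hs'⟩ := exists_prime_orderOf_dvd_card' p hdvd
    have hs : orderOf (s' : G) = p := by rw [Subgroup.orderOf_coe]; exact hs'
    have hNC : N ≤ Subgroup.centralizer ({(s' : G)} : Set G) := by
      intro g hg
      rw [Subgroup.mem_centralizer_singleton_iff]
      rw [hN, Subgroup.mem_centralizer_iff] at hg
      exact (hg (s' : G) s'.2).symm
    have hnpc : Cfsg.HasNormalPComplement p ↥N :=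
      Cfsg.Agent.Lib.L0.HasNormalPComplement.of_le hNC
        (Cfsg.Agent.Lib.H28.CY.centralizer_hasNormalPComplement P hP (s' : G) hs)
    obtain ⟨T, hTn, hpT, k, hk⟩ := Cfsg.Agent.Lib.L0.HasNormalPComplement.exists_normal hnpc
    have hTc : (Nat.card ↥T).Coprime p := ((Nat.Prime.coprime_iff_not_dvd hp).2 hpT).symm
    have hT1 : T ≤ Cfsg.pPrimeCore p ↥N := Cfsg.Agent.Lib.H22.le_pPrimeCore p T hTn hTc
    have hT2 : (Cfsg.pPrimeCore p ↥N).map N.subtype ≤ Cfsg.pPrimeCore p G :=
      Cfsg.Agent.Lib.H9.pPrimeCore_subnormal_le p hNn.isSubnormal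
    have hT3 : Cfsg.pPrimeCore p ↥N = ⊥ := by
      rw [hK, le_bot_iff] at hT2
      exact (Subgroup.map_eq_bot_iff_of_injective _ N.subtype_injective).1 hT2
    have hT4 : T = ⊥ := by
      rw [hT3, le_bot_iff] at hT1
      exact hT1
    have hNp : IsPGroup p ↥N := by
      apply IsPGroup.of_card (n := k)
      rw [← hk, hT4, Subgroup.index_bot]
    have hNQ : N ≤ Cfsg.pCore p G := Cfsg.Agent.Lib.H1.le_pCore hNn hNp
    have hPQ : (P : Subgroup G) = Cfsg.pCore p G :=
      le_antisymm (hPN.trans hNQ) hQP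
    have hidx : (Nat.card (G ⧸ Cfsg.pCore p G)).Coprime p := by
      rw [← Subgroup.index_eq_card, ← hPQ]
      exact ((Nat.Prime.coprime_iff_not_dvd hp).2 P.not_dvd_index).symm
    have hq : Cfsg.IsPSolvable p (G ⧸ Cfsg.pCore p G) := isPSolvable_of_card_coprime hidx
    refine Cfsg.Agent.Lib.H26.isPSolvable_of_ker_isPGroup
      (QuotientGroup.mk' (Cfsg.pCore p G)) (QuotientGroup.mk'_surjective _) ?_ hq
    exact (QuotientGroup.ker_mk' (Cfsg.pCore p G)).symm ▸ hQp
  -- case C : both cores are trivial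
  by_cases hsub : Subsingleton G
  · apply isPSolvable_of_card_coprime
    rw [Nat.card_eq_one_iff_unique.2 ⟨hsub, ⟨1⟩⟩]
    exact Nat.coprime_one_left p
  have hnt : Nontrivial G := not_subsingleton_iff_nontrivial.1 hsub
  by_cases hsim : IsSimpleGroup G
  · by_cases hc : IsMulCommutative G
    · have : Group.IsSolvable G := Group.isSolvable_of_comm (fun a b => hc.is_comm.comm a b)
      exact Cfsg.Agent.Lib.H1.PSolvOfSolv.isPSolvable_of_isSolvable p G
    · obtain ⟨⟨P, hP⟩, hpair⟩ := hH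
      exact (hsimple G hc P hP hpair).elim
  exfalso
  have hex : ∃ N : Subgroup G, N.Normal ∧ N ≠ ⊥ ∧ N ≠ ⊤ := by
    by_contra hno
    apply hsim
    refine { exists_pair_ne := exists_pair_ne G, eq_bot_or_eq_top_of_normal := ?_ }
    intro H hHn
    by_contra hne
    rw [not_or] at hne
    exact hno ⟨H, hHn, hne.1, hne.2⟩
  obtain ⟨N, hNn, hNbot, hNtop⟩ := hex
  have := hNn
  have hlt : Nat.card ↥N < n := by
    rw [← hn]
    refine lt_of_le_of_ne (Subgroup.card_le_card_group N) ?_
    intro h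
    exact hNtop (Subgroup.eq_top_of_card_eq N h)
  have hNps := ih _ hlt ↥N rfl (hH.subgroup N)
  have : Nontrivial ↥N := (Subgroup.nontrivial_iff_ne_bot N).2 hNbot
  obtain ⟨M, hMn, hMne, hM⟩ := Cfsg.Agent.Lib.H10.exists_normal_of_isPSolvable hNps
  rcases hM with hMp | hMc
  · have h1 : M ≤ Cfsg.pCore p ↥N := Cfsg.Agent.Lib.H1.le_pCore hMn hMp
    have := Cfsg.Agent.Lib.H1.pCore_characteristic p ↥N
    have h2 : ((Cfsg.pCore p ↥N).map N.subtype).Normal :=
      ConjAct.normal_of_characteristic_of_normal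
    have h3 : IsPGroup p ↥((Cfsg.pCore p ↥N).map N.subtype) :=
      (Cfsg.Agent.Lib.H1.pCore_isPGroup p ↥N).map _
    have h4 : (Cfsg.pCore p ↥N).map N.subtype ≤ Cfsg.pCore p G :=
      Cfsg.Agent.Lib.H1.le_pCore h2 h3
    rw [hQ, le_bot_iff] at h4
    have h5 := (Subgroup.map_eq_bot_iff_of_injective _ N.subtype_injective).1 h4
    rw [h5, le_bot_iff] at h1
    exact hMne h1
  · have h1 : M ≤ Cfsg.pPrimeCore p ↥N := Cfsg.Agent.Lib.H22.le_pPrimeCore p M hMn hMc
    have h4 : (Cfsg.pPrimeCore p ↥N).map N.subtype ≤ Cfsg.pPrimeCore p G :=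
      Cfsg.Agent.Lib.H9.pPrimeCore_subnormal_le p hNn.isSubnormal
    rw [hK, le_bot_iff] at h4
    have h5 := (Subgroup.map_eq_bot_iff_of_injective _ N.subtype_injective).1 h4
    rw [h5, le_bot_iff] at h1
    exact hMne h1

/-- **S1950 piece RED**: to prove that a finite group with cyclic Sylow `p`-subgroups in which
any two elements of order `p` generate a `p`-solvable subgroup is `p`-solvable, it suffices to
derive a contradiction for nonabelian finite simple groups with these properties. -/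
theorem isPSolvable_of_simple_case
    (hsimple : ∀ (G : Type u) [Group G] [Finite G] [IsSimpleGroup G], ¬ IsMulCommutative G →
      ∀ P : Sylow p G, IsCyclic ↥(P : Subgroup G) →
      (∀ x y : G, orderOf x = p → orderOf y = p →
        Cfsg.IsPSolvable p ↥(Subgroup.closure ({x, y} : Set G))) → False)
    (G : Type u) [Group G] [Finite G] (P : Sylow p G) (hP : IsCyclic ↥(P : Subgroup G))
    (hpair : ∀ x y : G, orderOf x = p → orderOf y = p →
      Cfsg.IsPSolvable p ↥(Subgroup.closure ({x, y} : Set G))) :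
    Cfsg.IsPSolvable p G :=
  isPSolvable_of_simple_case_aux hsimple (Nat.card G) G rfl ⟨⟨P, hP⟩, hpair⟩

end Cfsg.Agent.Lib.H10.CY
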