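import Mathlib
import Cfsg.Agent.Lib.H10.CYRED

/-!
# S1950 piece RED, corrected form (helper10)

`Cfsg.Agent.Lib.H10.CY.isPSolvable_of_simple_case` of `Lib/H10/CYRED.lean` asks for a contradiction
from EVERY nonabelian simple group with the hypotheses, which cannot be supplied when `p` does not
divide the order.  Here is the usable form (the simple case delivers `p`-solvability), in the
exact statement `red` of `tools/blueprints/S1950_sigs_h12.lean`, plus the variant with
`p ∣ Nat.card G` and `¬ IsMulCommutative G` in the simple case.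
-/

set_option autoImplicit false

namespace Cfsg.Agent.Lib.H10.CY

universe u

variable {p : ℕ} [Fact p.Prime]

/-- the reduction (auxiliary form, by strong induction on the order) -/
theorem red_aux
    (hS : ∀ (H : Type u) [Group H] [Finite H] [IsSimpleGroup H] (Q : Sylow p H),
      IsCyclic ↥(Q : Subgroup H) →
      (∀ x y : H, orderOf x = p → orderOf y = p →
        Cfsg.IsPSolvable p ↥(Subgroup.closure ({x, y} : Set H))) → Cfsg.IsPSolvable p H) :
    ∀ n : ℕ, ∀ (G : Type u) [Group G] [Finite G], Nat.card G = n → Hyp p G →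
      Cfsg.IsPSolvable p G := by
  have hp : p.Prime := Fact.out
  intro n
  induction n using Nat.strong_induction_on with
  | _ n ih =>
  intro G _ _ hn hH
  -- case A : the `p'`-core is nontrivial
  by_cases hK : Cfsg.pPrimeCore p G = ⊥
  swap
  · have hKn : (Cfsg.pPrimeCore p G).Normal := Cfsg.Agent.Lib.H22.pPrimeCore_normal p
    have hKc : (Nat.card (Cfsg.pPrimeCore p G)).Coprime p :=
      Cfsg.Agent.Lib.H22.card_pPrimeCore_coprime p
    have hcard := Subgroup.card_eq_card_quotient_mul_card_subgroup (Cfsg.pPrimeCore p G)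
    have h1 : 1 < Nat.card (Cfsg.pPrimeCore p G) := (Subgroup.one_lt_card_iff_ne_bot _).2 hK
    have hlt : Nat.card (G ⧸ Cfsg.pPrimeCore p G) < n := by
      rw [← hn, hcard]
      have hpos : 0 < Nat.card (G ⧸ Cfsg.pPrimeCore p G) := Nat.card_pos
      nlinarith
    have hq := ih _ hlt (G ⧸ Cfsg.pPrimeCore p G) rfl (hH.quotient _ hKc)
    refine Cfsg.Agent.Lib.H1.PSolvOfSolv.isPSolvable_of_ker_coprime
      (QuotientGroup.mk' (Cfsg.pPrimeCore p G)) (QuotientGroup.mk'_surjective _) ?_ hq
    rw [QuotientGroup.ker_mk']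
    exact hKc
  -- case B : the `p`-core is nontrivial
  by_cases hQ : Cfsg.pCore p G = ⊥
  swap
  · obtain ⟨⟨P, hP⟩, hpair⟩ := hH
    have hQn : (Cfsg.pCore p G).Normal := Cfsg.Agent.Lib.H1.pCore_normal p G
    have hQP : Cfsg.pCore p G ≤ (P : Subgroup G) := Cfsg.Agent.Lib.H1.pCore_le_sylow P
    have hQp : IsPGroup p ↥(Cfsg.pCore p G) := Cfsg.Agent.Lib.H1.pCore_isPGroup p G
    set N : Subgroup G := Subgroup.centralizer ((Cfsg.pCore p G : Subgroup G) : Set G) with hN
    have hNn : N.Normal := Subgroup.normal_centralizer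
    have hPN : (P : Subgroup G) ≤ N := by
      intro a ha
      rw [hN, Subgroup.mem_centralizer_iff]
      intro b hb
      have hc : IsMulCommutative ↥(P : Subgroup G) := IsCyclic.isMulCommutative
      have := hc.is_comm.comm (⟨b, hQP hb⟩ : ↥(P : Subgroup G)) ⟨a, ha⟩
      exact congrArg Subtype.val this
    obtain ⟨m, hm⟩ := hQp.exists_card_eq
    have hm0 : m ≠ 0 := by
      rintro rfl
      rw [pow_zero, Subgroup.card_eq_one] at hm
      exact hQ hm
    have hdvd : p ∣ Nat.card ↥(Cfsg.pCore p G) := by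
      rw [hm]; exact dvd_pow_self p hm0
    obtain ⟨s', hs'⟩ := exists_prime_orderOf_dvd_card' p hdvd
    have hs : orderOf (s' : G) = p := by rw [Subgroup.orderOf_coe]; exact hs'
    have hNC : N ≤ Subgroup.centralizer ({(s' : G)} : Set G) := by
      intro g hg
      rw [Subgroup.mem_centralizer_singleton_iff]
      rw [hN, Subgroup.mem_centralizer_iff] at hg
      exact (hg (s' : G) s'.2).symm
    have hnpc : Cfsg.HasNormalPComplement p ↥N :=
      Cfsg.Agent.Lib.L0.HasNormalPComplement.of_le hNC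
        (Cfsg.Agent.Lib.H28.CY.centralizer_hasNormalPComplement P hP (s' : G) hs)
    obtain ⟨T, hTn, hpT, k, hk⟩ := Cfsg.Agent.Lib.L0.HasNormalPComplement.exists_normal hnpc
    have hTc : (Nat.card ↥T).Coprime p := ((Nat.Prime.coprime_iff_not_dvd hp).2 hpT).symm
    have hT1 : T ≤ Cfsg.pPrimeCore p ↥N := Cfsg.Agent.Lib.H22.le_pPrimeCore p T hTn hTc
    have hT2 : (Cfsg.pPrimeCore p ↥N).map N.subtype ≤ Cfsg.pPrimeCore p G :=
      Cfsg.Agent.Lib.H9.pPrimeCore_subnormal_le p hNn.isSubnormal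
    have hT3 : Cfsg.pPrimeCore p ↥N = ⊥ := by
      rw [hK, le_bot_iff] at hT2
      exact (Subgroup.map_eq_bot_iff_of_injective _ N.subtype_injective).1 hT2
    have hT4 : T = ⊥ := by
      rw [hT3, le_bot_iff] at hT1
      exact hT1
    have hNp : IsPGroup p ↥N := by
      apply IsPGroup.of_card (n := k)
      rw [← hk, hT4, Subgroup.index_bot]
    have hNQ : N ≤ Cfsg.pCore p G := Cfsg.Agent.Lib.H1.le_pCore hNn hNp
    have hPQ : (P : Subgroup G) = Cfsg.pCore p G :=
      le_antisymm (hPN.trans hNQ) hQP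
    have hidx : (Nat.card (G ⧸ Cfsg.pCore p G)).Coprime p := by
      rw [← Subgroup.index_eq_card, ← hPQ]
      exact ((Nat.Prime.coprime_iff_not_dvd hp).2 P.not_dvd_index).symm
    have hq : Cfsg.IsPSolvable p (G ⧸ Cfsg.pCore p G) := isPSolvable_of_card_coprime hidx
    refine Cfsg.Agent.Lib.H26.isPSolvable_of_ker_isPGroup
      (QuotientGroup.mk' (Cfsg.pCore p G)) (QuotientGroup.mk'_surjective _) ?_ hq
    exact (QuotientGroup.ker_mk' (Cfsg.pCore p G)).symm ▸ hQp
  -- case C : both cores are trivial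
  by_cases hsub : Subsingleton G
  · apply isPSolvable_of_card_coprime
    rw [Nat.card_eq_one_iff_unique.2 ⟨hsub, ⟨1⟩⟩]
    exact Nat.coprime_one_left p
  have hnt : Nontrivial G := not_subsingleton_iff_nontrivial.1 hsub
  by_cases hsim : IsSimpleGroup G
  · obtain ⟨⟨P, hP⟩, hpair⟩ := hH
    exact hS G P hP hpair
  exfalso
  have hex : ∃ N : Subgroup G, N.Normal ∧ N ≠ ⊥ ∧ N ≠ ⊤ := by
    by_contra hno
    apply hsim
    refine { exists_pair_ne := exists_pair_ne G, eq_bot_or_eq_top_of_normal := ?_ }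
    intro H hHn
    by_contra hne
    rw [not_or] at hne
    exact hno ⟨H, hHn, hne.1, hne.2⟩
  obtain ⟨N, hNn, hNbot, hNtop⟩ := hex
  have := hNn
  have hlt : Nat.card ↥N < n := by
    rw [← hn]
    refine lt_of_le_of_ne (Subgroup.card_le_card_group N) ?_
    intro h
    exact hNtop (Subgroup.eq_top_of_card_eq N h)
  have hNps := ih _ hlt ↥N rfl (hH.subgroup N)
  have : Nontrivial ↥N := (Subgroup.nontrivial_iff_ne_bot N).2 hNbot
  obtain ⟨M, hMn, hMne, hM⟩ := Cfsg.Agent.Lib.H10.exists_normal_of_isPSolvable hNps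
  rcases hM with hMp | hMc
  · have h1 : M ≤ Cfsg.pCore p ↥N := Cfsg.Agent.Lib.H1.le_pCore hMn hMp
    have := Cfsg.Agent.Lib.H1.pCore_characteristic p ↥N
    have h2 : ((Cfsg.pCore p ↥N).map N.subtype).Normal :=
      ConjAct.normal_of_characteristic_of_normal
    have h3 : IsPGroup p ↥((Cfsg.pCore p ↥N).map N.subtype) :=
      (Cfsg.Agent.Lib.H1.pCore_isPGroup p ↥N).map _
    have h4 : (Cfsg.pCore p ↥N).map N.subtype ≤ Cfsg.pCore p G :=
      Cfsg.Agent.Lib.H1.le_pCore h2 h3
    rw [hQ, le_bot_iff] at h4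
    have h5 := (Subgroup.map_eq_bot_iff_of_injective _ N.subtype_injective).1 h4
    rw [h5, le_bot_iff] at h1
    exact hMne h1
  · have h1 : M ≤ Cfsg.pPrimeCore p ↥N := Cfsg.Agent.Lib.H22.le_pPrimeCore p M hMn hMc
    have h4 : (Cfsg.pPrimeCore p ↥N).map N.subtype ≤ Cfsg.pPrimeCore p G :=
      Cfsg.Agent.Lib.H9.pPrimeCore_subnormal_le p hNn.isSubnormal
    rw [hK, le_bot_iff] at h4
    have h5 := (Subgroup.map_eq_bot_iff_of_injective _ N.subtype_injective).1 h4
    rw [h5, le_bot_iff] at h1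
    exact hMne h1


/-- **RED**, exact statement of `tools/blueprints/S1950_sigs_h12.lean`. -/
theorem red (p : ℕ) [Fact p.Prime]
    (hS : ∀ (H : Type u) [Group H] [Finite H] [IsSimpleGroup H] (Q : Sylow p H), IsCyclic ↥(Q : Subgroup H) →
      (∀ x y : H, orderOf x = p → orderOf y = p → Cfsg.IsPSolvable p ↥(Subgroup.closure ({x, y} : Set H))) →
      Cfsg.IsPSolvable p H) :
    ∀ (G : Type u) [Group G] [Finite G] (P : Sylow p G), IsCyclic ↥(P : Subgroup G) →
      (∀ x y : G, orderOf x = p → orderOf y = p → Cfsg.IsPSolvable p ↥(Subgroup.closure ({x, y} : Set G))) →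
      Cfsg.IsPSolvable p G :=
  fun G _ _ P hP hc => red_aux hS (Nat.card G) G rfl ⟨⟨P, hP⟩, hc⟩

/-- **RED** with the simple case only needed for nonabelian simple groups of order divisible by
`p`, as a contradiction. -/
theorem isPSolvable_of_simple_case' (p : ℕ) [Fact p.Prime]
    (hsimple : ∀ (G : Type u) [Group G] [Finite G] [IsSimpleGroup G], ¬ IsMulCommutative G →
      p ∣ Nat.card G → ∀ P : Sylow p G, IsCyclic ↥(P : Subgroup G) →
      (∀ x y : G, orderOf x = p → orderOf y = p →
        Cfsg.IsPSolvable p ↥(Subgroup.closure ({x, y} : Set G))) → False)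
    (G : Type u) [Group G] [Finite G] (P : Sylow p G) (hP : IsCyclic ↥(P : Subgroup G))
    (hpair : ∀ x y : G, orderOf x = p → orderOf y = p →
      Cfsg.IsPSolvable p ↥(Subgroup.closure ({x, y} : Set G))) :
    Cfsg.IsPSolvable p G := by
  have hp : p.Prime := Fact.out
  refine red p ?_ G P hP hpair
  intro H _ _ _ Q hQ hc
  by_cases hcomm : IsMulCommutative H
  · have : Group.IsSolvable H := Group.isSolvable_of_comm (fun a b => hcomm.is_comm.comm a b)
    exact Cfsg.Agent.Lib.H1.PSolvOfSolv.isPSolvable_of_isSolvable p H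
  by_cases hdvd : p ∣ Nat.card H
  · exact (hsimple H hcomm hdvd Q hQ hc).elim
  · exact isPSolvable_of_card_coprime ((Nat.Prime.coprime_iff_not_dvd hp).2 hdvd).symm

end Cfsg.Agent.Lib.H10.CY
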