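import Mathlib
import Cfsg.Agent.Lib.H7.PLocal

/-! # Groups of characteristic `p`: centralizers and normalizers of `p`-subgroups (helper10)

`F*(C_G(V)) = O_p(C_G(V))` propagates along subnormal chains of `p`-subgroups, and passes from
`C_G(U)` to `N_G(U)`.  Used for Aschbacher–Smith Lemma 1.1.4-type statements. -/

set_option autoImplicit false
set_option linter.unusedSectionVars false
set_option linter.unusedVariables false

open Cfsg

namespace Cfsg.Agent.Lib.H10.CharPLocal

open Cfsg.Agent.Lib.H7

universe u
variable {G : Type u} [Group G] [Finite G] {p : ℕ} [hp : Fact p.Prime]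

/-- `C_G(V)` has characteristic `p`. -/
def Good (p : ℕ) (V : Subgroup G) : Prop :=
  generalizedFittingSubgroup ↥(Subgroup.centralizer (V : Set G)) =
    pCore p ↥(Subgroup.centralizer (V : Set G))

theorem conj_mem_centralizer_of_mem_normalizer {V : Subgroup G} {g y : G}
    (hg : g ∈ Subgroup.normalizer (V : Set G)) (hy : y ∈ Subgroup.centralizer (V : Set G)) :
    g * y * g⁻¹ ∈ Subgroup.centralizer (V : Set G) := by
  rw [Subgroup.mem_centralizer_iff] at hy ⊢
  intro v hv
  have h1 : g⁻¹ * v * g ∈ V := by
    have := (Subgroup.mem_normalizer_iff.mp (Subgroup.inv_mem _ hg) v).mp hv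
    simpa using this
  have h2 := hy _ h1
  calc v * (g * y * g⁻¹) = g * ((g⁻¹ * v * g) * y) * g⁻¹ := by group
    _ = g * (y * (g⁻¹ * v * g)) * g⁻¹ := by rw [h2]
    _ = g * y * g⁻¹ * v := by group

/-- `N_G(V)` normalizes `O_p(C_G(V))`. -/
theorem normalizer_le_normalizer_pCoreOf_centralizer (V : Subgroup G) :
    Subgroup.normalizer (V : Set G) ≤
      Subgroup.normalizer (pCoreOf p (Subgroup.centralizer (V : Set G)) : Set G) := by
  intro g hg
  have h1 : (Subgroup.centralizer (V : Set G)).map (MulAut.conj g).toMonoidHom =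
      Subgroup.centralizer (V : Set G) := by
    apply le_antisymm
    · rintro _ ⟨y, hy, rfl⟩
      exact conj_mem_centralizer_of_mem_normalizer hg hy
    · intro y hy
      refine ⟨g⁻¹ * y * g, ?_, ?_⟩
      · have := conj_mem_centralizer_of_mem_normalizer (Subgroup.inv_mem _ hg) hy
        simpa using this
      · simp only [MulEquiv.coe_toMonoidHom, MulAut.conj_apply]; group
  have h2 := Cfsg.Agent.Lib.H14.pCoreOf_map_conj p (Subgroup.centralizer (V : Set G)) g
  rw [h1] at h2
  rw [Subgroup.mem_normalizer_iff]
  intro x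
  constructor
  · intro hx
    rw [h2]
    exact ⟨x, hx, rfl⟩
  · intro hx
    rw [h2] at hx
    obtain ⟨y, hy, hyx⟩ := hx
    simp only [MulEquiv.coe_toMonoidHom, MulAut.conj_apply] at hyx
    have : x = y := by
      have := congrArg (fun w => g⁻¹ * w * g) hyx
      simpa [mul_assoc] using this.symm
    rw [this]; exact hy

/-- one step up: `V ≤ P ≤ N_G(V)`. -/
theorem Good.step {V P : Subgroup G} (hV : Good p V) (hP : IsPGroup p P) (hVP : V ≤ P)
    (hPV : P ≤ Subgroup.normalizer (V : Set G)) : Good p P := by
  unfold Good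
  have hcc : Subgroup.centralizer (P : Set G) ≤ Subgroup.centralizer (V : Set G) :=
    Subgroup.centralizer_le hVP
  apply generalizedFittingSubgroup_eq_pCore_of_le_centralizer p
    (Q := pCoreOf p (Subgroup.centralizer (V : Set G))) (P := P)
    (Cfsg.Agent.Lib.H14.pCoreOf_isPGroup p _) hP
  · exact hcc.trans (Cfsg.Agent.Lib.H14.pCoreOf_normalized p _)
  · exact le_rfl
  · exact hPV.trans (normalizer_le_normalizer_pCoreOf_centralizer V)
  · exact inf_le_right
  · intro y hy hyc hyQ
    exact eq_one_of_generalizedFittingSubgroup_eq_pCore p _ hV (hcc hy) hyc hyQ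

/-- along subnormal chains inside a `p`-group `U`. -/
theorem Good.of_le {V U : Subgroup G} (hV : Good p V) (hU : IsPGroup p U) (hVU : V ≤ U) :
    Good p U := by
  -- induction on `|U| - |V|`
  obtain ⟨n, hn⟩ : ∃ n, Nat.card U - Nat.card V = n := ⟨_, rfl⟩
  induction n using Nat.strong_induction_on generalizing V with
  | _ n ih =>
    by_cases hVeq : V = U
    · rw [← hVeq]; exact hV
    · -- `V < N_U(V)`
      have hlt : V < U := lt_of_le_of_ne hVU hVeq
      set V₁ : Subgroup G := U ⊓ Subgroup.normalizer (V : Set G) with hV₁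
      have hVV₁ : V ≤ V₁ := le_inf hVU Subgroup.le_normalizer
      have hV₁U : V₁ ≤ U := inf_le_left
      have hne : V ≠ V₁ := by
        intro heq
        -- normalizer condition in the `p`-group `U`
        have : Group.IsNilpotent ↥U := hU.isNilpotent
        have hnc := Group.normalizerCondition_of_isNilpotent (G := ↥U)
        have hlt' : V.subgroupOf U < ⊤ := by
          rw [lt_top_iff_ne_top]
          intro h
          rw [Subgroup.subgroupOf_eq_top] at h
          exact hVeq (le_antisymm hVU h)
        have h1 := hnc (V.subgroupOf U) hlt'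
        obtain ⟨x, hxN, hxV⟩ := SetLike.exists_of_lt h1
        apply hxV
        rw [Subgroup.mem_subgroupOf]
        rw [heq]
        refine ⟨x.2, ?_⟩
        rw [Subgroup.mem_normalizer_iff] at hxN
        show (x : G) ∈ Subgroup.normalizer (V : Set G)
        rw [Subgroup.mem_normalizer_iff]
        intro v
        constructor
        · intro hv
          have := (hxN ⟨v, hVU hv⟩).mp (by rw [Subgroup.mem_subgroupOf]; exact hv)
          rw [Subgroup.mem_subgroupOf] at this
          simpa using this
        · intro hv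
          have hvU : v ∈ U := by
            have h2 : (x : G) * v * (x : G)⁻¹ ∈ U := hVU hv
            have h3 : v = (x : G)⁻¹ * ((x : G) * v * (x : G)⁻¹) * (x : G) := by group
            rw [h3]
            exact U.mul_mem (U.mul_mem (U.inv_mem x.2) h2) x.2
          have := (hxN ⟨v, hvU⟩).mpr (by
            rw [Subgroup.mem_subgroupOf]
            simpa using hv)
          rw [Subgroup.mem_subgroupOf] at this
          exact this
      have hlt₁ : V < V₁ := lt_of_le_of_ne hVV₁ hne
      have hgood₁ : Good p V₁ := hV.step (hU.to_le hV₁U) hVV₁ inf_le_right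
      have hc1 : Nat.card V < Nat.card V₁ := by
        rcases Nat.lt_or_ge (Nat.card V) (Nat.card V₁) with h | h
        · exact h
        · exact absurd (Subgroup.eq_of_le_of_card_ge hVV₁ h) hne
      have hc2 : Nat.card V₁ ≤ Nat.card U := Subgroup.card_le_of_le hV₁U
      exact ih (Nat.card U - Nat.card V₁) (by omega) hgood₁ hV₁U rfl

/-- from `C_G(U)` to `N_G(U)`. -/
theorem Good.normalizer {U : Subgroup G} (hU : Good p U) (hUp : IsPGroup p U) :
    generalizedFittingSubgroup ↥(Subgroup.normalizer (U : Set G)) =
      pCore p ↥(Subgroup.normalizer (U : Set G)) := by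
  apply generalizedFittingSubgroup_eq_pCore_of_coprime p
  intro y hyN hyc hyO
  have hUle : U ≤ pCoreOf p (Subgroup.normalizer (U : Set G)) :=
    Cfsg.Agent.Lib.H14.le_pCoreOf p _ U Subgroup.le_normalizer le_rfl hUp
  have hyC : y ∈ Subgroup.centralizer (U : Set G) := Subgroup.centralizer_le hUle hyO
  have hle : pCoreOf p (Subgroup.centralizer (U : Set G)) ≤
      pCoreOf p (Subgroup.normalizer (U : Set G)) := by
    apply Cfsg.Agent.Lib.H14.le_pCoreOf p _ _
      ((Cfsg.Agent.Lib.H14.pCoreOf_le p _).trans (Subgroup.centralizer_le_normalizer _))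
      (normalizer_le_normalizer_pCoreOf_centralizer U)
      (Cfsg.Agent.Lib.H14.pCoreOf_isPGroup p _)
  exact eq_one_of_generalizedFittingSubgroup_eq_pCore p _ hU hyC hyc
    (Subgroup.centralizer_le hle hyO)

end Cfsg.Agent.Lib.H10.CharPLocal
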