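import Mathlib
import Cfsg.Prelude.Def_PLocal
import Cfsg.Prelude.Def_LocalEven
import Cfsg.Agent.Lib.H10.KInfStar

/-! A normal subgroup acting as a `p`-group on a chief `p`-factor centralizes it; a quadratic
nontrivial action on a chief factor `U / V` makes `G / V` fail `p`-stability in the normalizer form
(helper10). -/

set_option autoImplicit false

namespace Cfsg.Agent.Lib.H10

open Cfsg
open scoped commutatorElement

universe u

variable {G : Type u} [Group G] [Finite G] {p : ℕ} [hp : Fact p.Prime]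

/-- A normal subgroup `X` of `G` every element of which has a `p`-power power centralizing the
chief `p`-factor `U / V` centralizes `U / V`: `O_p(G / C_G(U/V)) = 1`. -/
theorem commutator_le_of_chief_of_ppower {U V : Subgroup G} (hUV : IsChiefFactor U V)
    (hUp : IsPGroup p ↥U) (X : Subgroup G) [hXn : X.Normal]
    (hX : ∀ x ∈ X, ∃ k : ℕ, ⁅U, Subgroup.zpowers (x ^ (p ^ k))⁆ ≤ V) : ⁅U, X⁆ ≤ V := by
  obtain ⟨hlt, hUn, hVn, hmin⟩ := hUV
  have := hUn
  have := hVn
  set C := cstab ⊤ U V with hC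
  have hCn : C.Normal := inferInstance
  let P₁ : Sylow p G := default
  have hUP : U ≤ (P₁ : Subgroup G) := (H1.le_pCore hUn hUp).trans (H1.pCore_le_sylow P₁)
  have hXPC : X ≤ (P₁ : Subgroup G) ⊔ C := by
    have hXp : IsPGroup p ↥(X.map (QuotientGroup.mk' C)) := by
      rintro ⟨_, x, hx, rfl⟩
      obtain ⟨k, hk⟩ := hX x hx
      refine ⟨k, ?_⟩
      apply Subtype.ext
      show (QuotientGroup.mk' C x) ^ (p ^ k) = 1
      rw [← map_pow, ← MonoidHom.mem_ker, QuotientGroup.ker_mk']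
      have : Subgroup.zpowers (x ^ (p ^ k)) ≤ C := le_cstab_iff.mpr ⟨le_top, hk⟩
      exact this (Subgroup.mem_zpowers _)
    have hXn' : (X.map (QuotientGroup.mk' C)).Normal :=
      hXn.map _ (QuotientGroup.mk'_surjective C)
    obtain ⟨hSp, hSi⟩ := sylow_map_mk P₁ C
    have h1 : X.map (QuotientGroup.mk' C) ≤ (P₁ : Subgroup G).map (QuotientGroup.mk' C) := by
      have := H1.pCore_le_sylow (hSp.toSylow hSi)
      rw [hSp.toSylow_coe hSi] at this
      exact (H1.le_pCore hXn' hXp).trans this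
    intro x hx
    have h3 : x ∈ ((P₁ : Subgroup G).map (QuotientGroup.mk' C)).comap (QuotientGroup.mk' C) :=
      h1 ⟨x, hx, rfl⟩
    rw [Subgroup.comap_map_eq, QuotientGroup.ker_mk'] at h3
    exact h3
  have h4 : ⁅U, X⁆ ≤ ⁅U, (P₁ : Subgroup G)⁆ ⊔ V := by
    rw [Subgroup.commutator_le]
    intro u hu x hx
    obtain ⟨y, hy, c, hc, rfl⟩ := Subgroup.mem_sup_of_normal_right.mp (hXPC hx)
    have e : ⁅u, y * c⁆ = ⁅u, y⁆ * (y * ⁅u, c⁆ * y⁻¹) := by
      simp only [commutatorElement_def]; group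
    rw [e]
    exact Subgroup.mul_mem _ (Subgroup.mem_sup_left (Subgroup.commutator_mem_commutator hu hy))
      (Subgroup.mem_sup_right (hVn.conj_mem _ (hc.2 u hu) y))
  rcases hmin (⁅U, X⁆ ⊔ V) inferInstance le_sup_right
    (sup_le (Subgroup.commutator_le_left U X) hlt.le) with h | h
  · rw [← h]; exact le_sup_left
  · exfalso
    have h5 : U ≤ ⁅U, (P₁ : Subgroup G)⁆ ⊔ V :=
      calc U = ⁅U, X⁆ ⊔ V := h.symm
        _ ≤ ⁅U, (P₁ : Subgroup G)⁆ ⊔ V := sup_le h4 le_sup_right
    have key : ∀ k : ℕ, U ≤ iterCommutator U (P₁ : Subgroup G) k ⊔ V := by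
      intro k
      induction k with
      | zero => exact le_sup_left
      | succ k ih =>
        calc U ≤ ⁅U, (P₁ : Subgroup G)⁆ ⊔ V := h5
          _ ≤ ⁅iterCommutator U (P₁ : Subgroup G) k ⊔ V, (P₁ : Subgroup G)⁆ ⊔ V :=
            sup_le_sup_right (Subgroup.commutator_mono ih le_rfl) V
          _ ≤ (⁅iterCommutator U (P₁ : Subgroup G) k, (P₁ : Subgroup G)⁆ ⊔ V) ⊔ V :=
            sup_le_sup_right (commutator_sup_normal_le _ V _) V
          _ = iterCommutator U (P₁ : Subgroup G) (k + 1) ⊔ V := by rw [sup_assoc, sup_idem]; rfl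
    obtain ⟨c, hc⟩ := (Subgroup.isNilpotent_iff_lowerCentralSeries (P₁ : Subgroup G)).mp
      P₁.2.isNilpotent
    have hlcs : ∀ k : ℕ, iterCommutator U (P₁ : Subgroup G) k ≤
        (P₁ : Subgroup G).lowerCentralSeries k := by
      intro k
      induction k with
      | zero => exact hUP
      | succ k ih =>
        rw [Subgroup.lowerCentralSeries_succ]
        exact Subgroup.commutator_mono ih le_rfl
    have h1 : iterCommutator U (P₁ : Subgroup G) c = ⊥ := by
      rw [eq_bot_iff]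
      exact (hlcs c).trans (le_of_eq hc)
    have h2 := key c
    rw [h1, bot_sup_eq] at h2
    exact absurd hlt (not_lt_of_ge h2)

/-- A quadratic nontrivial action on a chief `p`-factor `U / V` makes `G / V` fail `p`-stability
in the normalizer form. -/
theorem not_isNormalizerPStable_of_quadratic {U V : Subgroup G} [hVn : V.Normal]
    (hUV : IsChiefFactor U V) (hUp : IsPGroup p ↥U) (g : G)
    (hq : ⁅⁅U, Subgroup.zpowers g⁆, Subgroup.zpowers g⁆ ≤ V)
    (hn : ¬ ⁅U, Subgroup.zpowers g⁆ ≤ V) : ¬ IsNormalizerPStable p (G ⧸ V) := by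
  intro hst
  have hUn : U.Normal := hUV.2.1
  set π := QuotientGroup.mk' V with hπ
  set Pb := U.map π with hPb
  have hPbp : IsPGroup p ↥Pb := hUp.map π
  have hPbn : Pb.Normal := hUn.map π (QuotientGroup.mk'_surjective V)
  have hnorm : Subgroup.normalizer ((Pb : Subgroup (G ⧸ V)) : Set (G ⧸ V)) = ⊤ :=
    Subgroup.normalizer_eq_top Pb
  have hall : ∀ x : G, π x ∈ Subgroup.normalizer ((Pb : Subgroup (G ⧸ V)) : Set (G ⧸ V)) := by
    intro x; rw [hnorm]; exact Subgroup.mem_top _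
  have hquad : ⁅⁅Pb, Subgroup.zpowers (π g)⁆, Subgroup.zpowers (π g)⁆ = ⊥ := by
    rw [← MonoidHom.map_zpowers, hPb, ← Subgroup.map_commutator, ← Subgroup.map_commutator,
      Subgroup.map_eq_bot_iff, hπ, QuotientGroup.ker_mk']
    exact hq
  have hmem := hst Pb hPbp (π g) (hall g) hquad
  set Nb := Subgroup.normalizer ((Pb : Subgroup (G ⧸ V)) : Set (G ⧸ V)) with hNb
  set Cb := (Subgroup.centralizer ((Pb : Subgroup (G ⧸ V)) : Set (G ⧸ V))).subgroupOf Nb with hCb
  let θ : G →* ↥Nb := π.codRestrict Nb hall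
  let ρ : G →* (↥Nb ⧸ Cb) := (QuotientGroup.mk' Cb).comp θ
  set O := pCore p (↥Nb ⧸ Cb) with hO
  have hOn : O.Normal := H1.pCore_normal p _
  have hOp : IsPGroup p ↥O := H1.pCore_isPGroup p _
  set X := O.comap ρ with hX
  have hXn : X.Normal := hOn.comap ρ
  have hgX : g ∈ X := hmem
  have hXpow : ∀ x ∈ X, ∃ k : ℕ, ⁅U, Subgroup.zpowers (x ^ (p ^ k))⁆ ≤ V := by
    intro x hx
    obtain ⟨k, hk⟩ := hOp ⟨ρ x, hx⟩
    refine ⟨k, ?_⟩
    have h1 : ρ (x ^ (p ^ k)) = 1 := by
      rw [map_pow]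
      have := congrArg Subtype.val hk
      simpa using this
    have h2 : θ (x ^ (p ^ k)) ∈ Cb := by
      rw [← QuotientGroup.ker_mk' Cb, MonoidHom.mem_ker]
      exact h1
    have h3 : π (x ^ (p ^ k)) ∈ Subgroup.centralizer ((Pb : Subgroup (G ⧸ V)) : Set (G ⧸ V)) := by
      rw [hCb, Subgroup.mem_subgroupOf] at h2
      exact h2
    have h4 : ⁅Pb, Subgroup.zpowers (π (x ^ (p ^ k)))⁆ = ⊥ := by
      rw [Subgroup.commutator_comm, Subgroup.commutator_eq_bot_iff_le_centralizer]
      exact (Subgroup.zpowers_le).mpr h3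
    rw [← MonoidHom.map_zpowers, hPb, ← Subgroup.map_commutator, Subgroup.map_eq_bot_iff, hπ,
      QuotientGroup.ker_mk'] at h4
    exact h4
  have h5 := commutator_le_of_chief_of_ppower hUV hUp X hXpow
  exact hn ((Subgroup.commutator_mono le_rfl ((Subgroup.zpowers_le).mpr hgX)).trans h5)

end Cfsg.Agent.Lib.H10
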