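import Mathlib
import Cfsg.Prelude.Def_PLocal
import Cfsg.Prelude.Def_LocalEven
import Cfsg.Agent.Lib.H10.EngelChief
import Cfsg.Agent.Lib.H10.PStableQuot

/-! Hall–Higman (abelian case) on a chief factor, in-group form: if a normal subgroup `M` acts on
the chief `p`-factor `U / V` as an abelian `p'`-group and `g` has Engel degree `p - 1` on `U / V`,
then `[M, g]` and `g ^ p` centralize `U / V` (helper10). -/

set_option autoImplicit false

namespace Cfsg.Agent.Lib.H10

open Cfsg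
open scoped commutatorElement

section aut

variable {V : Type*} [CommGroup V]

/-- an automorphism with `(1 - a)^(p-1) = 0` on a group of exponent `p` has `a ^ p = 1` -/
theorem pow_eq_one_of_engel {p : ℕ} [hp : Fact p.Prime] (hV : ∀ v : V, v ^ p = 1) (g : MulAut V)
    (hE : ∀ v : V, (fun w => w * (g w)⁻¹)^[p - 1] v = 1) : g ^ p = 1 := by
  have hN := prod_pow_eq_one_of_engel hV g hE
  obtain ⟨q, hq⟩ : ∃ q, p = q + 1 := ⟨p - 1, (Nat.sub_add_cancel hp.out.one_le).symm⟩
  apply MulEquiv.ext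
  intro v
  have h1 := hN (g v)
  have h2 := hN v
  rw [hq] at h1 h2 ⊢
  rw [Finset.prod_range_succ'] at h2
  have h3 : ∏ i ∈ Finset.range (q + 1), (g ^ i) (g v) =
      ∏ i ∈ Finset.range (q + 1), (g ^ (i + 1)) v := by
    apply Finset.prod_congr rfl
    intro i _
    rw [pow_succ]; rfl
  rw [h3, Finset.prod_range_succ] at h1
  rw [pow_zero] at h2
  have h4 : (g ^ (q + 1)) v = (1 : MulAut V) v := by
    have := h1.trans h2.symm
    exact mul_left_cancel this
  exact h4

end aut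

section chief

variable {Y : Type*} [Group Y] [Finite Y] {p : ℕ} [hp : Fact p.Prime]

open scoped IsMulCommutative in
/-- **Hall–Higman on a chief factor.** -/
theorem chief_hallHigman {U V : Subgroup Y} (hUV : IsChiefFactor U V) (hUp : IsPGroup p ↥U)
    (M : Subgroup Y) [hMn : M.Normal]
    (hMab : ∀ a ∈ M, ∀ b ∈ M, ⁅U, Subgroup.zpowers ⁅a, b⁆⁆ ≤ V)
    (hMp : ∀ m ∈ M, ∃ k : ℕ, k.Coprime p ∧ ⁅U, Subgroup.zpowers (m ^ k)⁆ ≤ V)
    (g : Y) (hE : iterCommutator U (Subgroup.zpowers g) (p - 1) ≤ V) :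
    (∀ m ∈ M, ⁅U, Subgroup.zpowers ⁅m, g⁆⁆ ≤ V) ∧ ⁅U, Subgroup.zpowers (g ^ p)⁆ ≤ V := by
  obtain ⟨hlt, hUn, hVn, hmin⟩ := hUV
  have := hVn
  have := hUn
  have hπs := QuotientGroup.mk'_surjective V
  have hNn : (U.map (QuotientGroup.mk' V)).Normal := hUn.map _ hπs
  have hNp : IsPGroup p ↥(U.map (QuotientGroup.mk' V)) := hUp.map _
  have hcmX : (U.map (QuotientGroup.mk' V)).comap (QuotientGroup.mk' V) = U := by
    rw [QuotientGroup.comap_map_mk', sup_eq_right.2 hlt.le]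
  have hminN : ∀ B : Subgroup (Y ⧸ V), B.Normal → B ≤ U.map (QuotientGroup.mk' V) →
      B = ⊥ ∨ B = U.map (QuotientGroup.mk' V) := by
    intro B hB hBN
    have h1 : (B.comap (QuotientGroup.mk' V)).Normal := hB.comap _
    have h2 : V ≤ B.comap (QuotientGroup.mk' V) := by
      intro y hy
      rw [Subgroup.mem_comap]
      have : (QuotientGroup.mk' V) y = 1 := (QuotientGroup.eq_one_iff y).2 hy
      rw [this]; exact B.one_mem
    have h3 : B.comap (QuotientGroup.mk' V) ≤ U := by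
      rw [← hcmX]; exact Subgroup.comap_mono hBN
    rcases hmin _ h1 h2 h3 with h4 | h4
    · left
      rw [← Subgroup.map_comap_eq_self_of_surjective hπs B, h4, QuotientGroup.map_mk'_self]
    · right
      rw [← Subgroup.map_comap_eq_self_of_surjective hπs B, h4]
  obtain ⟨hcomm, hexp⟩ := H19.isElementaryAbelian_of_minimal_normal _ hNp hminN
  have : IsMulCommutative ↥(U.map (QuotientGroup.mk' V)) := hcomm
  have hV : ∀ v : ↥(U.map (QuotientGroup.mk' V)), v ^ p = 1 := by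
    intro v
    apply Subtype.ext
    rw [Subgroup.coe_pow, hexp v v.2]
    rfl
  let ρ₀ : Y →* MulAut ↥(U.map (QuotientGroup.mk' V)) :=
    (MulAut.conjNormal (H := U.map (QuotientGroup.mk' V))).comp (QuotientGroup.mk' V)
  have hρ₀ : ∀ (h : Y) (v : ↥(U.map (QuotientGroup.mk' V))),
      ((ρ₀ h v : ↥(U.map (QuotientGroup.mk' V))) : Y ⧸ V) =
        (QuotientGroup.mk' V h) * (v : Y ⧸ V) * (QuotientGroup.mk' V h)⁻¹ := by
    intro h v
    exact MulAut.conjNormal_apply _ _
  -- triviality criterion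
  have hone : ∀ y : Y, ρ₀ y = 1 ↔ ⁅U, Subgroup.zpowers y⁆ ≤ V := by
    intro y
    constructor
    · intro h
      have : Subgroup.zpowers y ≤ cstab ⊤ U V := by
        rw [Subgroup.zpowers_le]
        refine ⟨Subgroup.mem_top y, fun u hu => ?_⟩
        have h2 := hρ₀ y ⟨QuotientGroup.mk' V u, Subgroup.mem_map_of_mem _ hu⟩
        rw [h] at h2
        rw [← QuotientGroup.eq_one_iff, commutatorElement_def]
        change (QuotientGroup.mk' V (u * y * u⁻¹ * y⁻¹)) = 1
        have h3 : QuotientGroup.mk' V (u * y * u⁻¹ * y⁻¹) =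
            QuotientGroup.mk' V u *
              (QuotientGroup.mk' V y * QuotientGroup.mk' V u * (QuotientGroup.mk' V y)⁻¹)⁻¹ := by
          simp only [map_mul, map_inv, mul_inv_rev, inv_inv]
          group
        rw [h3, ← h2]
        simp
      exact (le_cstab_iff.mp this).2
    · intro h
      apply MulEquiv.ext
      intro v
      apply Subtype.ext
      rw [hρ₀]
      obtain ⟨u, hu, huv⟩ := v.2
      have h1 : ⁅u, y⁆ ∈ V := h (Subgroup.commutator_mem_commutator hu (Subgroup.mem_zpowers y))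
      have h2 : QuotientGroup.mk' V (u * y * u⁻¹ * y⁻¹) = 1 := by
        rw [QuotientGroup.mk'_apply, QuotientGroup.eq_one_iff]
        rw [commutatorElement_def] at h1
        exact h1
      rw [MulAut.one_apply, ← huv]
      simp only [map_mul, map_inv] at h2
      calc QuotientGroup.mk' V y * QuotientGroup.mk' V u * (QuotientGroup.mk' V y)⁻¹
          = (QuotientGroup.mk' V u * QuotientGroup.mk' V y * (QuotientGroup.mk' V u)⁻¹ *
              (QuotientGroup.mk' V y)⁻¹)⁻¹ * QuotientGroup.mk' V u := by group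
        _ = QuotientGroup.mk' V u := by rw [h2, inv_one, one_mul]
  -- the Engel condition
  have hiter : ∀ (k : ℕ) (v : ↥(U.map (QuotientGroup.mk' V))),
      ∃ y ∈ iterCommutator U (Subgroup.zpowers g) k,
        (((fun w => w * (ρ₀ g w)⁻¹)^[k] v : ↥(U.map (QuotientGroup.mk' V))) : Y ⧸ V) =
          QuotientGroup.mk' V y := by
    intro k
    induction k with
    | zero =>
      intro v
      obtain ⟨x, hx, hxv⟩ := v.2
      exact ⟨x, hx, hxv.symm⟩
    | succ k ih =>
      intro v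
      obtain ⟨y, hy, hyv⟩ := ih v
      refine ⟨⁅y, g⁆, Subgroup.commutator_mem_commutator hy (Subgroup.mem_zpowers g), ?_⟩
      rw [Function.iterate_succ_apply']
      rw [Subgroup.coe_mul, Subgroup.coe_inv, hρ₀, hyv, commutatorElement_def]
      simp only [map_mul, map_inv, mul_inv_rev, inv_inv]
      group
  have hE' : ∀ v : ↥(U.map (QuotientGroup.mk' V)),
      (fun w => w * (ρ₀ g w)⁻¹)^[p - 1] v = 1 := by
    intro v
    obtain ⟨y, hy, hyv⟩ := hiter (p - 1) v
    apply Subtype.ext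
    rw [hyv]
    exact (QuotientGroup.eq_one_iff y).2 (hE hy)
  -- the image of `M`
  have hQc : ∀ a ∈ M.map ρ₀, ∀ b ∈ M.map ρ₀, a * b = b * a := by
    rintro _ ⟨a, ha, rfl⟩ _ ⟨b, hb, rfl⟩
    have h1 : ρ₀ ⁅a, b⁆ = 1 := (hone _).mpr (hMab a ha b hb)
    rw [commutatorElement_def, map_mul, map_mul, map_mul, map_inv, map_inv] at h1
    calc ρ₀ a * ρ₀ b = (ρ₀ a * ρ₀ b * (ρ₀ a)⁻¹ * (ρ₀ b)⁻¹) * (ρ₀ b * ρ₀ a) := by group
      _ = ρ₀ b * ρ₀ a := by rw [h1, one_mul]
  have hQp : (Nat.card ↥(M.map ρ₀)).Coprime p := by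
    rw [Nat.coprime_comm, Nat.Prime.coprime_iff_not_dvd hp.out]
    intro hdvd
    obtain ⟨x, hx⟩ := exists_prime_orderOf_dvd_card' p hdvd
    obtain ⟨m, hm, hmx⟩ := x.2
    obtain ⟨k, hk, hkm⟩ := hMp m hm
    have h1 : ρ₀ (m ^ k) = 1 := (hone _).mpr hkm
    rw [map_pow, hmx] at h1
    have h2 : x ^ k = 1 := Subtype.ext h1
    have h3 : p ∣ k := hx ▸ orderOf_dvd_of_pow_eq_one h2
    have h4 : p ∣ Nat.gcd k p := Nat.dvd_gcd h3 dvd_rfl
    rw [hk] at h4
    exact hp.out.one_lt.ne' (Nat.dvd_one.mp h4)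
  have hgQ : ρ₀ g ∈ Subgroup.normalizer ((M.map ρ₀ : Subgroup (MulAut _)) : Set (MulAut _)) := by
    rw [Subgroup.mem_normalizer_iff]
    intro b
    constructor
    · rintro ⟨k, hk, rfl⟩
      exact ⟨g * k * g⁻¹, hMn.conj_mem k hk g, by rw [map_mul, map_mul, map_inv]⟩
    · rintro ⟨k, hk, hkb⟩
      refine ⟨g⁻¹ * k * g, ?_, ?_⟩
      · have := hMn.conj_mem k hk g⁻¹
        simpa using this
      · rw [map_mul, map_mul, map_inv, hkb]
        group
  have hcent := engel_centralizes hV (M.map ρ₀) hQc hQp (ρ₀ g) hgQ hE'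
  constructor
  · intro m hm
    rw [← hone, commutatorElement_def, map_mul, map_mul, map_mul, map_inv, map_inv]
    have h1 := hcent (ρ₀ m) ⟨m, hm, rfl⟩
    calc ρ₀ m * ρ₀ g * (ρ₀ m)⁻¹ * (ρ₀ g)⁻¹ = (ρ₀ g * ρ₀ m) * (ρ₀ m)⁻¹ * (ρ₀ g)⁻¹ := by rw [h1]
      _ = 1 := by group
  · rw [← hone, map_pow]
    exact pow_eq_one_of_engel hV (ρ₀ g) hE'

end chief

end Cfsg.Agent.Lib.H10
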