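import Mathlib
import Cfsg.Prelude.Def_Local
import Cfsg.Prelude.Def_CaseTheorems
import Cfsg.Prelude.Def_Amalgam
import Cfsg.Agent.Lib.H7.PConstrained4
import Cfsg.Agent.Lib.H7.PLocal
import Cfsg.Agent.Lib.H14.Amalgam5

set_option autoImplicit false
open Cfsg
open Cfsg.Agent.Lib.H7

namespace Cfsg.Agent.Lib.H10.Chz

universe u

/-- A `p`-constrained group with trivial `O_{p'}` has `F* = O_p`. -/
theorem gfs_eq_pCore_of_constrained {Y : Type u} [Group Y] [Finite Y] (p : ℕ) [Fact p.Prime]
    (h1 : IsPConstrained p Y) (h2 : pPrimeCore p Y = ⊥) :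
    generalizedFittingSubgroup Y = pCore p Y := by
  rw [isPConstrained_iff_layer_quotient_eq_bot] at h1
  have e : (Y ⧸ pPrimeCore p Y) ≃* Y :=
    (QuotientGroup.quotientMulEquivOfEq h2).trans QuotientGroup.quotientBot
  have h3 : layer Y = ⊥ := by
    rw [← layer_map_equiv e, h1, Subgroup.map_bot]
  exact generalizedFittingSubgroup_eq_pCore_of_centralizer_le p
    (centralizer_pCore_le_of_layer_eq_bot p h2 h3)

/-- Every 2-local subgroup lies in a maximal 2-local subgroup. -/
theorem exists_isMaximalTwoLocal_ge {G : Type u} [Group G] [Finite G] {N : Subgroup G}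
    (hN : IsTwoLocal N) : ∃ M, IsMaximalTwoLocal M ∧ N ≤ M := by
  let 𝒮 : Set (Subgroup G) := {M | IsTwoLocal M ∧ N ≤ M}
  obtain ⟨M, hM⟩ := (Set.toFinite 𝒮).exists_maximal ⟨N, hN, le_rfl⟩
  refine ⟨M, ⟨hM.prop.1, ?_⟩, hM.prop.2⟩
  intro N' hN' hMN'
  exact le_antisymm (hM.le_of_ge ⟨hN', hM.prop.2.trans hMN'⟩ hMN') hMN'

/-- The property `C_H(O_2(H)) ≤ O_2(H)` for a subgroup `H`, elementwise in the ambient group. -/
def CProp {G : Type u} [Group G] (H : Subgroup G) : Prop :=
  ∀ y ∈ H, (orderOf y).Coprime 2 → y ∈ Subgroup.centralizer (pCoreOf 2 H : Set G) → y = 1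

theorem cprop_of_constrained {G : Type u} [Group G] [Finite G] (H : Subgroup G)
    (h1 : IsPConstrained 2 ↥H) (h2 : oddCore ↥H = ⊥) : CProp H := by
  haveI : Fact (Nat.Prime 2) := ⟨Nat.prime_two⟩
  intro y hy hyo hyc
  exact eq_one_of_generalizedFittingSubgroup_eq_pCore 2 H
    (gfs_eq_pCore_of_constrained 2 h1 h2) hy hyo hyc

/-- An involution centralizer inherits the property from a subgroup `M` containing it. -/
theorem cprop_centralizer_of_le {G : Type u} [Group G] [Finite G] {M : Subgroup G} (hM : CProp M)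
    {u : G} (hu : Subgroup.centralizer ({u} : Set G) ≤ M) (hu2 : u ^ 2 = 1) :
    CProp (Subgroup.centralizer ({u} : Set G)) := by
  haveI : Fact (Nat.Prime 2) := ⟨Nat.prime_two⟩
  have hP : IsPGroup 2 (Subgroup.zpowers u) := by
    rintro ⟨x, hx⟩
    obtain ⟨k, rfl⟩ := Subgroup.mem_zpowers_iff.1 hx
    refine ⟨1, ?_⟩
    apply Subtype.ext
    simp only [pow_one, Subgroup.coe_pow, Subgroup.coe_one]
    rw [← zpow_natCast, ← zpow_mul, mul_comm, zpow_mul, zpow_natCast, hu2, one_zpow]
  have hCle : Subgroup.centralizer ({u} : Set G) ≤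
      Subgroup.centralizer ((Subgroup.zpowers u : Subgroup G) : Set G) := by
    intro g hg
    rw [Subgroup.mem_centralizer_iff]
    intro x hx
    obtain ⟨k, rfl⟩ := Subgroup.mem_zpowers_iff.1 hx
    have h1 : Commute g u := (Subgroup.mem_centralizer_singleton_iff.1 hg)
    exact ((h1.zpow_right k).eq).symm
  have hCge : Subgroup.centralizer ((Subgroup.zpowers u : Subgroup G) : Set G) ≤
      Subgroup.centralizer ({u} : Set G) := by
    apply Subgroup.centralizer_le
    intro x hx
    rw [Set.mem_singleton_iff] at hx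
    rw [hx]
    exact Subgroup.mem_zpowers u
  have hgfs : generalizedFittingSubgroup ↥(Subgroup.centralizer ({u} : Set G)) =
      pCore 2 ↥(Subgroup.centralizer ({u} : Set G)) := by
    apply generalizedFittingSubgroup_eq_pCore_of_le_centralizer 2
      (Q := pCoreOf 2 M) (P := Subgroup.zpowers u)
      (Cfsg.Agent.Lib.H14.pCoreOf_isPGroup 2 M) hP
    · exact hu.trans (Cfsg.Agent.Lib.H14.pCoreOf_normalized 2 M)
    · exact hCle
    · have : Subgroup.zpowers u ≤ Subgroup.centralizer ({u} : Set G) := by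
        rw [Subgroup.zpowers_le]
        exact Subgroup.mem_centralizer_singleton_iff.2 rfl
      exact this.trans (hu.trans (Cfsg.Agent.Lib.H14.pCoreOf_normalized 2 M))
    · exact inf_le_right.trans hCge
    · intro y hy hyo hyc
      exact hM y (hu hy) hyo hyc
  intro y hy hyo hyc
  exact eq_one_of_generalizedFittingSubgroup_eq_pCore 2 _ hgfs hy hyo hyc

end Cfsg.Agent.Lib.H10.Chz
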