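import Mathlib
import Cfsg.Agent.Lib.H10.Chz1
import Cfsg.Agent.Lib.H7.Coprime
import Cfsg.Agent.Lib.H7.CoprimeGen

set_option autoImplicit false
open Cfsg
open Cfsg.Agent.Lib.H7

namespace Cfsg.Agent.Lib.H10.Chz

universe u

/-- Core lemma: an odd-order subgroup `X` normalized by a Sylow 2-subgroup `S` has trivial
centralizer of `u`, if `C_G(u)` has `C(O_2) ≤ O_2` and `C_S(u)` contains a subgroup `S₁` of index at
most two in `S`. -/
theorem inf_centralizer_eq_bot {G : Type u} [Group G] [Finite G] (S : Sylow 2 G) {X : Subgroup G}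
    (hX : Odd (Nat.card X)) (hSX : (S : Subgroup G) ≤ Subgroup.normalizer (X : Set G)) {u : G}
    (hC : CProp (Subgroup.centralizer ({u} : Set G))) {S₁ : Subgroup G}
    (hS₁S : S₁ ≤ (S : Subgroup G))
    (hS₁u : S₁ ≤ Subgroup.centralizer ({u} : Set G)) (hidx : Nat.card S ≤ 2 * Nat.card S₁) :
    X ⊓ Subgroup.centralizer ({u} : Set G) = ⊥ := by
  have : Fact (Nat.Prime 2) := ⟨Nat.prime_two⟩
  set H := Subgroup.centralizer ({u} : Set G) with hH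
  set Q := pCoreOf 2 H with hQ
  have hQp : IsPGroup 2 Q := Cfsg.Agent.Lib.H14.pCoreOf_isPGroup 2 H
  have hQH : Q ≤ H := Cfsg.Agent.Lib.H14.pCoreOf_le 2 H
  have hHQ : H ≤ Subgroup.normalizer (Q : Set G) := Cfsg.Agent.Lib.H14.pCoreOf_normalized 2 H
  have hS₁p : IsPGroup 2 S₁ := S.isPGroup'.to_le hS₁S
  have hTp : IsPGroup 2 (S₁ ⊔ Q : Subgroup G) :=
    IsPGroup.to_sup_of_normal_right' hS₁p hQp (hS₁u.trans hHQ)
  have hTcard : Nat.card (S₁ ⊔ Q : Subgroup G) ≤ Nat.card S := by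
    obtain ⟨P, hP⟩ := hTp.exists_le_sylow
    calc Nat.card (S₁ ⊔ Q : Subgroup G) ≤ Nat.card P := Subgroup.card_le_of_le hP
      _ = Nat.card S := by rw [P.card_eq_multiplicity, S.card_eq_multiplicity]
  have h1 := card_mul_relIndex_of_le (le_sup_left : S₁ ≤ S₁ ⊔ Q)
  have hS₁pos : 0 < Nat.card S₁ := Nat.card_pos
  have hrel : S₁.relIndex (S₁ ⊔ Q) ≤ 2 := by
    apply Nat.le_of_mul_le_mul_left _ hS₁pos
    rw [h1, mul_comm]
    exact hTcard.trans hidx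
  have hne : S₁.relIndex (S₁ ⊔ Q) ≠ 0 := by
    intro h0
    rw [h0, mul_zero] at h1
    exact (Nat.card_pos (α := (S₁ ⊔ Q : Subgroup G))).ne' h1.symm
  have hrelQ : S₁.relIndex Q ≤ 2 :=
    (Subgroup.relIndex_le_of_le_right le_sup_right hne).trans hrel
  have hneQ : S₁.relIndex Q ≠ 0 := by
    intro h0
    exact hne (Subgroup.relIndex_eq_zero_of_le_right le_sup_right h0)
  have hdvd : S₁.relIndex Q ∣ 2 := by
    have h2 : S₁.relIndex Q = 1 ∨ S₁.relIndex Q = 2 := by omega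
    rcases h2 with h2 | h2 <;> rw [h2]
    exact one_dvd 2
  obtain ⟨a, haQ, ha⟩ := Subgroup.relIndex_dvd_two_iff.1 hdvd
  have hXQ : X ⊓ Q = ⊥ := by
    apply (Subgroup.disjoint_of_coprime_natCard ?_).eq_bot
    obtain ⟨k, hk⟩ := IsPGroup.iff_card.1 hQp
    rw [hk]
    exact Nat.Coprime.pow_right k (Nat.coprime_two_right.2 hX)
  rw [eq_bot_iff]
  intro y hy
  rw [Subgroup.mem_bot]
  obtain ⟨hyX, hyH⟩ := Subgroup.mem_inf.1 hy
  have hyo : (orderOf y).Coprime 2 := by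
    have h2 : orderOf y ∣ Nat.card X := by
      have := orderOf_dvd_natCard (⟨y, hyX⟩ : X)
      rwa [Subgroup.orderOf_mk] at this
    exact Nat.Coprime.coprime_dvd_left h2 (Nat.coprime_two_right.2 hX)
  have hyQ : ∀ q ∈ Q, y * q * y⁻¹ ∈ Q := fun q hq =>
    (Subgroup.mem_normalizer_iff.1 (hHQ hyH) q).1 hq
  -- `y` centralizes `Q ⊓ S₁`
  have hcR : ∀ r ∈ Q ⊓ S₁, y * r = r * y := by
    intro r hr
    obtain ⟨hrQ, hrS⟩ := Subgroup.mem_inf.1 hr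
    have hrX : r * y * r⁻¹ ∈ X := (Subgroup.mem_normalizer_iff.1 (hSX (hS₁S hrS)) y).1 hyX
    have hc1 : r * y * r⁻¹ * y⁻¹ ∈ X := X.mul_mem hrX (X.inv_mem hyX)
    have hc2 : r * y * r⁻¹ * y⁻¹ ∈ Q := by
      have h3 : y * r⁻¹ * y⁻¹ ∈ Q := hyQ _ (Q.inv_mem hrQ)
      have h4 : r * y * r⁻¹ * y⁻¹ = r * (y * r⁻¹ * y⁻¹) := by group
      rw [h4]
      exact Q.mul_mem hrQ h3
    have hc : r * y * r⁻¹ * y⁻¹ ∈ X ⊓ Q := Subgroup.mem_inf.2 ⟨hc1, hc2⟩
    rw [hXQ, Subgroup.mem_bot] at hc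
    have h5 : r * y = (r * y * r⁻¹ * y⁻¹) * (y * r) := by group
    rw [h5, hc, one_mul]
  have hR : ∀ q ∈ Q, y * q * y⁻¹ * q⁻¹ ∈ Q ⊓ S₁ := by
    intro q hq
    have hq' : y * q * y⁻¹ ∈ Q := hyQ q hq
    refine Subgroup.mem_inf.2 ⟨Q.mul_mem hq' (Q.inv_mem hq), ?_⟩
    by_cases hqS : q ∈ S₁
    · have h3 := hcR q (Subgroup.mem_inf.2 ⟨hq, hqS⟩)
      have h4 : y * q * y⁻¹ * q⁻¹ = 1 := by rw [h3]; group
      rw [h4]; exact S₁.one_mem
    · have hqa : q * a ∈ S₁ := (ha q hq).resolve_right hqS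
      have hq'S : y * q * y⁻¹ ∉ S₁ := by
        intro h3
        have h4 := hcR _ (Subgroup.mem_inf.2 ⟨hq', h3⟩)
        have h5 : y * q * y⁻¹ = q := by
          have h6 : y * (y * q * y⁻¹) = y * q := by rw [h4]; group
          exact mul_left_cancel h6
        rw [h5] at h3
        exact hqS h3
      have hq'a : y * q * y⁻¹ * a ∈ S₁ := (ha _ hq').resolve_right hq'S
      have h7 : y * q * y⁻¹ * q⁻¹ = (y * q * y⁻¹ * a) * (q * a)⁻¹ := by group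
      rw [h7]
      exact S₁.mul_mem hq'a (S₁.inv_mem hqa)
  have hcop : (orderOf y).Coprime (Nat.card (Q ⊓ S₁ : Subgroup G)) := by
    obtain ⟨k, hk⟩ := IsPGroup.iff_card.1 (hQp.to_le (inf_le_left : Q ⊓ S₁ ≤ Q))
    rw [hk]
    exact Nat.Coprime.pow_right k hyo
  apply hC y hyH hyo
  rw [Subgroup.mem_centralizer_iff]
  intro q hq
  exact (commute_of_stable_step (a := y) (Q := Q) (R := Q ⊓ S₁) hcop hR hcR q hq).symm

end Cfsg.Agent.Lib.H10.Chz
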