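import Mathlib
import Cfsg.Prelude.Def_OddOrderLocal
import Cfsg.Agent.Lib.H10.Chz2
import Cfsg.Agent.Lib.H1.NilpotentBasic

set_option autoImplicit false
open Cfsg
open Cfsg.Agent.Lib.H7

namespace Cfsg.Agent.Lib.H10.Chz

universe u

/-- The elements of order dividing two in an abelian subgroup. -/
def omegaOne {G : Type u} [Group G] (A : Subgroup G) (hAc : ∀ a ∈ A, ∀ b ∈ A, a * b = b * a) :
    Subgroup G where
  carrier := {a | a ∈ A ∧ a ^ 2 = 1}
  one_mem' := ⟨A.one_mem, one_pow 2⟩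
  mul_mem' := by
    rintro a b ⟨ha, ha2⟩ ⟨hb, hb2⟩
    refine ⟨A.mul_mem ha hb, ?_⟩
    rw [(show Commute a b from hAc a ha b hb).mul_pow, ha2, hb2, one_mul]
  inv_mem' := by
    rintro a ⟨ha, ha2⟩
    exact ⟨A.inv_mem ha, by rw [inv_pow, ha2, inv_one]⟩

theorem mem_omegaOne {G : Type u} [Group G] {A : Subgroup G}
    {hAc : ∀ a ∈ A, ∀ b ∈ A, a * b = b * a} {x : G} :
    x ∈ omegaOne A hAc ↔ x ∈ A ∧ x ^ 2 = 1 := Iff.rfl

/-- Elements of `zpowers z` for `z ^ 2 = 1`. -/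
theorem eq_one_or_eq_of_mem_zpowers {H : Type*} [Group H] {z x : H} (hz : z ^ 2 = 1)
    (hx : x ∈ Subgroup.zpowers z) : x = 1 ∨ x = z := by
  obtain ⟨k, rfl⟩ := Subgroup.mem_zpowers_iff.1 hx
  rcases Int.even_or_odd' k with ⟨m, hm | hm⟩
  · left
    rw [hm, zpow_mul, zpow_ofNat, hz, one_zpow]
  · right
    rw [hm, zpow_add, zpow_mul, zpow_ofNat, hz, one_zpow, one_mul, zpow_one]

/-- From `A ∈ SCN_3(S)`: an elementary abelian normal subgroup `E` of `S`, a central involution `z` and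
an involution `v ∈ E` with `S`-orbit inside `{v, zv}`. -/
theorem exists_z_v {G : Type u} [Group G] [Finite G] (S : Sylow 2 G) (A : Subgroup G)
    (hA : IsSCN (S : Subgroup G) A) (hA3 : ¬ PRankLE 2 2 ↥A) :
    ∃ E : Subgroup G, E ≤ (S : Subgroup G) ∧ (∀ a ∈ E, ∀ b ∈ E, a * b = b * a) ∧
      (∀ a ∈ E, a ^ 2 = 1) ∧
      ∃ z ∈ E, ∃ v ∈ E, z ≠ 1 ∧ v ≠ 1 ∧ v ≠ z ∧ (∀ s ∈ (S : Subgroup G), s * z = z * s) ∧
        (∀ s ∈ (S : Subgroup G), s * v * s⁻¹ = v ∨ s * v * s⁻¹ = z * v) := by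
  have : Fact (Nat.Prime 2) := ⟨Nat.prime_two⟩
  obtain ⟨hAS, hSA, hCA⟩ := hA
  have hAc : ∀ a ∈ A, ∀ b ∈ A, a * b = b * a := by
    intro a ha b hb
    have h1 : a ∈ (S : Subgroup G) ⊓ Subgroup.centralizer (A : Set G) := by rw [hCA]; exact ha
    have h2 := Subgroup.mem_centralizer_iff.1 (Subgroup.mem_inf.1 h1).2 b hb
    exact h2.symm
  set E := omegaOne A hAc with hE
  have hEA : E ≤ A := fun x hx => hx.1
  have hES : E ≤ (S : Subgroup G) := hEA.trans hAS
  have hEc : ∀ a ∈ E, ∀ b ∈ E, a * b = b * a := fun a ha b hb => hAc a ha.1 b hb.1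
  have hE2 : ∀ a ∈ E, a ^ 2 = 1 := fun a ha => ha.2
  -- conjugation by `S` preserves `E`
  have hconj : ∀ s ∈ (S : Subgroup G), ∀ x ∈ E, s * x * s⁻¹ ∈ E := by
    intro s hs x hx
    refine ⟨(Subgroup.mem_normalizer_iff.1 (hSA hs) x).1 hx.1, ?_⟩
    rw [conj_pow, hx.2]; group
  have hSE : (S : Subgroup G) ≤ Subgroup.normalizer (E : Set G) := by
    intro s hs
    rw [Subgroup.mem_normalizer_iff]
    intro x
    constructor
    · exact hconj s hs x
    · intro h
      have h1 := hconj s⁻¹ (Subgroup.inv_mem _ hs) _ h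
      have h2 : s⁻¹ * (s * x * s⁻¹) * s⁻¹⁻¹ = x := by group
      rwa [h2] at h1
  -- `E` is large
  have hEcard : 4 < Nat.card E := by
    unfold PRankLE at hA3
    obtain ⟨B, hB⟩ := not_forall.1 hA3
    obtain ⟨hBc, hB⟩ := Classical.not_imp.1 hB
    obtain ⟨hB2, hBcard⟩ := Classical.not_imp.1 hB
    rw [not_le] at hBcard
    have h1 : B.map A.subtype ≤ E := by
      rintro _ ⟨b, hb, rfl⟩
      refine ⟨b.2, ?_⟩
      have := hB2 b hb
      exact congrArg Subtype.val this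
    have h2 : Nat.card (B.map A.subtype) = Nat.card B :=
      Subgroup.card_map_of_injective (Subgroup.subtype_injective A)
    calc 4 = 2 ^ 2 := by norm_num
      _ < Nat.card B := hBcard
      _ = Nat.card (B.map A.subtype) := h2.symm
      _ ≤ Nat.card E := Subgroup.card_le_of_le h1
  -- work inside `S`
  set ES : Subgroup ↥(S : Subgroup G) := E.subgroupOf (S : Subgroup G) with hESdef
  have hESn : ES.Normal := Subgroup.normal_subgroupOf_of_le_normalizer hSE
  have hEScard : Nat.card ES = Nat.card E :=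
    Nat.card_congr (Subgroup.subgroupOfEquivOfLe hES).toEquiv
  have hnil : Group.IsNilpotent ↥(S : Subgroup G) := S.isPGroup'.isNilpotent
  have hESne : ES ≠ ⊥ := by
    intro h
    rw [h, Subgroup.card_bot] at hEScard
    omega
  have h1 := Cfsg.Agent.Lib.H1.normal_inf_center_ne_bot ES hESne
  obtain ⟨⟨z', hz'mem⟩, hz'ne⟩ := (Subgroup.ne_bot_iff_exists_ne_one).1 h1
  have hz'1 : z' ≠ 1 := fun h => hz'ne (Subtype.ext h)
  obtain ⟨hz'E, hz'c⟩ := Subgroup.mem_inf.1 hz'mem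
  have hz'2 : z' ^ 2 = 1 := by
    apply Subtype.ext
    rw [Subgroup.coe_pow]
    exact (Subgroup.mem_subgroupOf.1 hz'E).2
  set Z : Subgroup ↥(S : Subgroup G) := Subgroup.zpowers z' with hZ
  have hZc : Z ≤ Subgroup.center ↥(S : Subgroup G) := by
    rw [hZ, Subgroup.zpowers_le]; exact hz'c
  have hZn : Z.Normal := by
    constructor
    intro n hn g
    have := Subgroup.mem_center_iff.1 (hZc hn) g
    have h2 : g * n * g⁻¹ = n := by rw [this]; group
    rw [h2]; exact hn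
  have hZcard : Nat.card Z ≤ 2 := by
    rw [hZ, Nat.card_zpowers]
    exact Nat.le_of_dvd (by norm_num) (orderOf_dvd_of_pow_eq_one hz'2)
  have hnotle : ¬ ES ≤ Z := by
    intro h
    have := Subgroup.card_le_of_le h
    omega
  obtain ⟨e₀, he₀E, he₀Z⟩ := SetLike.not_le_iff_exists.1 hnotle
  set π := QuotientGroup.mk' Z with hπ
  have hEbn : (ES.map π).Normal := hESn.map π (QuotientGroup.mk'_surjective Z)
  have hEbne : ES.map π ≠ ⊥ := by
    intro h
    have h2 : π e₀ ∈ ES.map π := Subgroup.mem_map_of_mem π he₀E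
    rw [h, Subgroup.mem_bot, hπ, QuotientGroup.mk'_apply, QuotientGroup.eq_one_iff] at h2
    exact he₀Z h2
  have hnilq : Group.IsNilpotent (↥(S : Subgroup G) ⧸ Z) := inferInstance
  have h2 := Cfsg.Agent.Lib.H1.normal_inf_center_ne_bot (ES.map π) hEbne
  obtain ⟨⟨w, hwmem⟩, hwne⟩ := (Subgroup.ne_bot_iff_exists_ne_one).1 h2
  have hw1 : w ≠ 1 := fun h => hwne (Subtype.ext h)
  obtain ⟨hwE, hwc⟩ := Subgroup.mem_inf.1 hwmem
  obtain ⟨e, heE, rfl⟩ := Subgroup.mem_map.1 hwE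
  have heZ : e ∉ Z := by
    intro h
    apply hw1
    rw [hπ, QuotientGroup.mk'_apply, QuotientGroup.eq_one_iff]
    exact h
  refine ⟨E, hES, hEc, hE2, (z' : G), Subgroup.mem_subgroupOf.1 hz'E, (e : G),
    Subgroup.mem_subgroupOf.1 heE, ?_, ?_, ?_, ?_, ?_⟩
  · intro h; exact hz'1 (Subtype.ext h)
  · intro h
    apply heZ
    have : e = 1 := Subtype.ext h
    rw [this]; exact Z.one_mem
  · intro h
    apply heZ
    have : e = z' := Subtype.ext h
    rw [this]; exact Subgroup.mem_zpowers z'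
  · intro s hs
    have := Subgroup.mem_center_iff.1 hz'c ⟨s, hs⟩
    exact congrArg Subtype.val this
  · intro s hs
    have h3 := Subgroup.mem_center_iff.1 hwc (π ⟨s, hs⟩)
    have h4 : π (⟨s, hs⟩ * e * ⟨s, hs⟩⁻¹ * e⁻¹) = 1 := by
      rw [map_mul, map_mul, map_mul, map_inv, map_inv, h3]; group
    rw [hπ, QuotientGroup.mk'_apply, QuotientGroup.eq_one_iff] at h4
    rcases eq_one_or_eq_of_mem_zpowers hz'2 h4 with h5 | h5
    · left
      have h6 := congrArg Subtype.val h5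
      simp only [Subgroup.coe_mul, Subgroup.coe_inv, Subgroup.coe_one] at h6
      have h7 : s * (e : G) * s⁻¹ = (s * (e : G) * s⁻¹ * (e : G)⁻¹) * e := by group
      rw [h7, h6, one_mul]
    · right
      have h6 := congrArg Subtype.val h5
      simp only [Subgroup.coe_mul, Subgroup.coe_inv] at h6
      have h7 : s * (e : G) * s⁻¹ = (s * (e : G) * s⁻¹ * (e : G)⁻¹) * e := by group
      rw [h7, h6]

end Cfsg.Agent.Lib.H10.Chz
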