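import Mathlib
import Cfsg.Agent.Lib.H10.Chz3

set_option autoImplicit false
open Cfsg
open Cfsg.Agent.Lib.H7

namespace Cfsg.Agent.Lib.H10.Chz

universe u

/-- Part (a): a Sylow 2-subgroup with a member of `SCN_3` normalizes no nontrivial subgroup of odd
order, if all involution centralizers have `C(O_2) ≤ O_2`. -/
theorem eq_bot_of_odd_of_le_normalizer {G : Type u} [Group G] [Finite G] (S : Sylow 2 G)
    (A : Subgroup G) (hA : IsSCN (S : Subgroup G) A) (hA3 : ¬ PRankLE 2 2 ↥A)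
    (hC : ∀ u : G, orderOf u = 2 → CProp (Subgroup.centralizer ({u} : Set G)))
    (X : Subgroup G) (hX : Odd (Nat.card X))
    (hSX : (S : Subgroup G) ≤ Subgroup.normalizer (X : Set G)) : X = ⊥ := by
  have : Fact (Nat.Prime 2) := ⟨Nat.prime_two⟩
  obtain ⟨E, hES, hEc, hE2, z, hzE, v, hvE, hz1, hv1, hvz, hzS, hvS⟩ := exists_z_v S A hA hA3
  have hz2 : z ^ 2 = 1 := hE2 z hzE
  have hv2 : v ^ 2 = 1 := hE2 v hvE
  have hzvE : z * v ∈ E := E.mul_mem hzE hvE
  have hzv2 : (z * v) ^ 2 = 1 := hE2 _ hzvE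
  have hzv1 : z * v ≠ 1 := by
    intro h
    apply hvz
    have h1 : z * z = 1 := by rw [← pow_two]; exact hz2
    have h2 : v = z * (z * v) := by rw [← mul_assoc, h1, one_mul]
    rw [h2, h, mul_one]
  have hoz : orderOf z = 2 := orderOf_eq_prime hz2 hz1
  have hov : orderOf v = 2 := orderOf_eq_prime hv2 hv1
  have hozv : orderOf (z * v) = 2 := orderOf_eq_prime hzv2 hzv1
  set S₁ : Subgroup G := (S : Subgroup G) ⊓ Subgroup.centralizer ({v} : Set G) with hS₁
  have hS₁S : S₁ ≤ (S : Subgroup G) := inf_le_left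
  have hmemS₁ : ∀ b ∈ (S : Subgroup G), b * v * b⁻¹ = v → b ∈ S₁ := by
    intro b hb h
    refine Subgroup.mem_inf.2 ⟨hb, Subgroup.mem_centralizer_singleton_iff.2 ?_⟩
    have h1 : b * v = (b * v * b⁻¹) * b := by group
    rw [h1, h]
  have hdvd : S₁.relIndex (S : Subgroup G) ∣ 2 := by
    rw [Subgroup.relIndex_dvd_two_iff]
    by_cases hex : ∃ a ∈ (S : Subgroup G), a * v * a⁻¹ = z * v
    · obtain ⟨a, haS, ha⟩ := hex
      refine ⟨a, haS, ?_⟩
      intro b hb
      rcases hvS b hb with h | h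
      · right; exact hmemS₁ b hb h
      · left
        apply hmemS₁ _ (Subgroup.mul_mem _ hb haS)
        have h1 : b * a * v * (b * a)⁻¹ = b * (a * v * a⁻¹) * b⁻¹ := by group
        have h2 : b * (z * v) * b⁻¹ = (b * z) * b⁻¹ * (b * v * b⁻¹) := by group
        rw [h1, ha, h2, hzS b hb, h]
        have h3 : z * b * b⁻¹ * (z * v) = (z * z) * v := by group
        rw [h3, ← pow_two, hz2, one_mul]
    · refine ⟨1, Subgroup.one_mem _, ?_⟩
      intro b hb
      right
      rcases hvS b hb with h | h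
      · exact hmemS₁ b hb h
      · exact absurd ⟨b, hb, h⟩ hex
  have hidx : Nat.card S ≤ 2 * Nat.card S₁ := by
    have h1 := card_mul_relIndex_of_le hS₁S
    have h2 : S₁.relIndex (S : Subgroup G) ≤ 2 := Nat.le_of_dvd (by norm_num) hdvd
    calc Nat.card S = Nat.card S₁ * S₁.relIndex (S : Subgroup G) := h1.symm
      _ ≤ Nat.card S₁ * 2 := Nat.mul_le_mul_left _ h2
      _ = 2 * Nat.card S₁ := mul_comm _ _
  have hXz : X ⊓ Subgroup.centralizer ({z} : Set G) = ⊥ := by
    apply inf_centralizer_eq_bot S hX hSX (hC z hoz) (le_refl (S : Subgroup G))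
    · intro s hs
      exact Subgroup.mem_centralizer_singleton_iff.2 (hzS s hs)
    · omega
  have hXv : X ⊓ Subgroup.centralizer ({v} : Set G) = ⊥ :=
    inf_centralizer_eq_bot S hX hSX (hC v hov) hS₁S inf_le_right hidx
  have hXzv : X ⊓ Subgroup.centralizer ({z * v} : Set G) = ⊥ := by
    apply inf_centralizer_eq_bot S hX hSX (hC (z * v) hozv) hS₁S _ hidx
    intro s hs
    obtain ⟨hsS, hsv⟩ := Subgroup.mem_inf.1 hs
    rw [Subgroup.mem_centralizer_singleton_iff] at hsv ⊢
    rw [← mul_assoc, hzS s hsS, mul_assoc, hsv, mul_assoc]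
  have hXp : (Nat.card X).Coprime 2 := Nat.coprime_two_right.2 hX
  have hgen := le_hypGen 2 hEc hE2 hXp (hES.trans hSX)
  rw [eq_bot_iff]
  refine hgen.trans ?_
  unfold hypGen
  apply iSup_le
  rintro ⟨B, hBE, hBrel⟩
  have hBne : B.relIndex E ≠ 0 := by
    have h1 := card_mul_relIndex_of_le hBE
    intro h0
    rw [h0, mul_zero] at h1
    exact (Nat.card_pos (α := E)).ne' h1.symm
  have hBdvd : B.relIndex E ∣ 2 := by
    have h2 : B.relIndex E = 1 ∨ B.relIndex E = 2 := by omega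
    rcases h2 with h2 | h2 <;> rw [h2]
    exact one_dvd 2
  obtain ⟨a, haE, ha⟩ := Subgroup.relIndex_dvd_two_iff.1 hBdvd
  -- one of `z`, `v`, `z * v` lies in `B`
  have key : ∀ w : G, w ∈ B → X ⊓ Subgroup.centralizer ({w} : Set G) = ⊥ →
      X ⊓ Subgroup.centralizer ((B : Subgroup G) : Set G) ≤ ⊥ := by
    intro w hw h
    rw [← h]
    apply inf_le_inf_left
    apply Subgroup.centralizer_le
    intro x hx
    rw [Set.mem_singleton_iff] at hx
    rw [hx]; exact hw
  rcases ha z hzE with h1 | h1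
  · rcases ha v hvE with h2 | h2
    · apply key (z * v) _ hXzv
      have hvinv : v⁻¹ = v := by
        rw [inv_eq_iff_mul_eq_one, ← pow_two]; exact hv2
      have h5 : z * v = (z * a) * (v * a)⁻¹ := by
        have h4 : (z * a) * (v * a)⁻¹ = z * v⁻¹ := by group
        rw [h4, hvinv]
      rw [h5]
      exact B.mul_mem h1 (B.inv_mem h2)
    · exact key v h2 hXv
  · exact key z h1 hXz

end Cfsg.Agent.Lib.H10.Chz
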