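import Mathlib
import Cfsg.Agent.Lib.H10.Chz4
import Cfsg.Agent.Lib.H7.PConstrained4

set_option autoImplicit false
open Cfsg
open Cfsg.Agent.Lib.H7

namespace Cfsg.Agent.Lib.H10.Chz

universe u

theorem isPGroup_zpowers_of_sq {G : Type u} [Group G] {x : G} (hx : x ^ 2 = 1) :
    IsPGroup 2 (Subgroup.zpowers x) := by
  rintro ⟨y, hy⟩
  obtain ⟨k, rfl⟩ := Subgroup.mem_zpowers_iff.1 hy
  refine ⟨1, ?_⟩
  apply Subtype.ext
  simp only [pow_one, Subgroup.coe_pow, Subgroup.coe_one]
  rw [← zpow_natCast, ← zpow_mul, mul_comm, zpow_mul, zpow_natCast, hx, one_zpow]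

theorem centralizer_singleton_le_normalizer_zpowers {G : Type u} [Group G] (x : G) :
    Subgroup.centralizer ({x} : Set G) ≤
      Subgroup.normalizer ((Subgroup.zpowers x : Subgroup G) : Set G) := by
  refine le_trans ?_ (Subgroup.centralizer_le_normalizer _)
  intro g hg
  rw [Subgroup.mem_centralizer_iff]
  intro y hy
  obtain ⟨k, rfl⟩ := Subgroup.mem_zpowers_iff.1 hy
  have h1 : Commute g x := (Subgroup.mem_centralizer_singleton_iff.1 hg)
  exact ((h1.zpow_right k).eq).symm

/-- Under either hypothesis, all involution centralizers have `C(O_2) ≤ O_2`. -/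
theorem cprop_centralizer_of_hyp {G : Type u} [Group G] [Finite G]
    (h : (∀ M : Subgroup G, IsMaximalTwoLocal M → IsPConstrained 2 ↥M ∧ oddCore ↥M = ⊥) ∨
      (∀ t : G, orderOf t = 2 → IsPConstrained 2 ↥(Subgroup.centralizer ({t} : Set G)) ∧
        oddCore ↥(Subgroup.centralizer ({t} : Set G)) = ⊥))
    (x : G) (hx : orderOf x = 2) : CProp (Subgroup.centralizer ({x} : Set G)) := by
  have hx2 : x ^ 2 = 1 := by rw [← hx]; exact pow_orderOf_eq_one x
  rcases h with h | h
  · have hloc : IsTwoLocal (Subgroup.normalizer ((Subgroup.zpowers x : Subgroup G) : Set G)) := by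
      refine ⟨Subgroup.zpowers x, isPGroup_zpowers_of_sq hx2, ?_, rfl⟩
      intro h0
      have h1 : x ∈ (⊥ : Subgroup G) := by rw [← h0]; exact Subgroup.mem_zpowers x
      rw [Subgroup.mem_bot] at h1
      rw [h1, orderOf_one] at hx
      omega
    obtain ⟨M, hMmax, hNM⟩ := exists_isMaximalTwoLocal_ge hloc
    have hM := cprop_of_constrained M (h M hMmax).1 (h M hMmax).2
    exact cprop_centralizer_of_le hM
      ((centralizer_singleton_le_normalizer_zpowers x).trans hNM) hx2
  · exact cprop_of_constrained _ (h x hx).1 (h x hx).2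

theorem isPConstrained_normalizer_subgroupOf' {G : Type u} [Group G] [Finite G] (p : ℕ)
    [Fact p.Prime] {M T : Subgroup G} (hT : IsPGroup p T) (hTM : T ≤ M)
    (hM : IsPConstrained p ↥M) :
    IsPConstrained p ↥((Subgroup.normalizer (T : Set G)).subgroupOf M) := by
  have h1 := (pLocal_of_pLayer_eq_bot p ((isPConstrained_iff_pLayer_eq_bot p).1 hM)
    (T.subgroupOf M) (hT.comap_subtype)).1
  rw [← isPConstrained_iff_pLayer_eq_bot] at h1
  rw [Subgroup.subgroupOf_normalizer_eq hTM]
  exact h1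

/-- `A ∩ B` viewed inside `B` and inside `A`. -/
def subgroupOfSwap' {G : Type u} [Group G] (A B : Subgroup G) :
    ↥(A.subgroupOf B) ≃* ↥(B.subgroupOf A) where
  toFun y := ⟨⟨y.1.1, y.2⟩, y.1.2⟩
  invFun y := ⟨⟨y.1.1, y.2⟩, y.1.2⟩
  left_inv _ := rfl
  right_inv _ := rfl
  map_mul' _ _ := rfl

/-- Part (b): every 2-local subgroup is 2-constrained. -/
theorem isPConstrained_normalizer_of_hyp {G : Type u} [Group G] [Finite G]
    (h : (∀ M : Subgroup G, IsMaximalTwoLocal M → IsPConstrained 2 ↥M ∧ oddCore ↥M = ⊥) ∨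
      (∀ t : G, orderOf t = 2 → IsPConstrained 2 ↥(Subgroup.centralizer ({t} : Set G)) ∧
        oddCore ↥(Subgroup.centralizer ({t} : Set G)) = ⊥))
    (T : Subgroup G) (hT : IsPGroup 2 ↥T) (hT1 : T ≠ ⊥) :
    IsPConstrained 2 ↥(Subgroup.normalizer (T : Set G)) := by
  have hp : Fact (Nat.Prime 2) := ⟨Nat.prime_two⟩
  rcases h with hA | hB
  · obtain ⟨M, hMmax, hNM⟩ := exists_isMaximalTwoLocal_ge
      (⟨T, hT, hT1, rfl⟩ : IsTwoLocal (Subgroup.normalizer (T : Set G)))
    have hTM : T ≤ M := Subgroup.le_normalizer.trans hNM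
    exact isPConstrained_of_mulEquiv 2 (Subgroup.subgroupOfEquivOfLe hNM)
      (isPConstrained_normalizer_subgroupOf' 2 hT hTM (hA M hMmax).1)
  · have hnt : Nontrivial ↥T := (Subgroup.nontrivial_iff_ne_bot T).2 hT1
    have hZ : Nontrivial (Subgroup.center ↥T) := hT.center_nontrivial
    have hdvd : 2 ∣ Nat.card (Subgroup.center ↥T) := by
      obtain ⟨k, hk⟩ := IsPGroup.iff_card.1 (hT.to_subgroup (Subgroup.center ↥T))
      have hk0 : k ≠ 0 := by
        rintro rfl
        rw [pow_zero] at hk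
        have := (Nat.card_eq_one_iff_unique.1 hk).1
        exact not_subsingleton _ this
      rw [hk]
      exact dvd_pow_self 2 hk0
    obtain ⟨z, hz⟩ := exists_prime_orderOf_dvd_card' 2 hdvd
    have hxo : orderOf ((z : ↥T) : G) = 2 := by
      rw [Subgroup.orderOf_coe, Subgroup.orderOf_coe]; exact hz
    have hxT : ((z : ↥T) : G) ∈ T := (z : ↥T).2
    have hxc : ∀ t ∈ T, t * ((z : ↥T) : G) = ((z : ↥T) : G) * t := by
      intro t ht
      have := Subgroup.mem_center_iff.1 z.2 ⟨t, ht⟩
      exact congrArg Subtype.val this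
    generalize ((z : ↥T) : G) = x at hxo hxT hxc
    have hTX : T ≤ Subgroup.centralizer ({x} : Set G) := by
      intro t ht
      rw [Subgroup.mem_centralizer_singleton_iff]
      exact hxc t ht
    have h1 := isPConstrained_normalizer_subgroupOf' 2 hT hTX (hB x hxo).1
    have hxN : x ∈ Subgroup.normalizer (T : Set G) := Subgroup.le_normalizer hxT
    have hC' : Subgroup.centralizer ({(⟨x, hxN⟩ : ↥(Subgroup.normalizer (T : Set G)))} :
        Set ↥(Subgroup.normalizer (T : Set G))) =
        (Subgroup.centralizer ({x} : Set G)).subgroupOf (Subgroup.normalizer (T : Set G)) := by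
      ext y
      rw [Subgroup.mem_centralizer_singleton_iff, Subgroup.mem_subgroupOf,
        Subgroup.mem_centralizer_singleton_iff]
      constructor
      · intro h; exact congrArg Subtype.val h
      · intro h; exact Subtype.ext h
    have h2 : IsPConstrained 2 ↥(Subgroup.centralizer
        ({(⟨x, hxN⟩ : ↥(Subgroup.normalizer (T : Set G)))} :
          Set ↥(Subgroup.normalizer (T : Set G)))) := by
      rw [hC']
      exact isPConstrained_of_mulEquiv 2 (subgroupOfSwap' _ _) h1
    apply isPConstrained_of_centralizer_mem_pCore 2 (x := ⟨x, hxN⟩) _ _ h2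
    · apply Subtype.ext
      rw [Subgroup.coe_pow, Subgroup.coe_one, ← hxo]
      exact pow_orderOf_eq_one x
    · have hn : (T.subgroupOf (Subgroup.normalizer (T : Set G))).Normal :=
        Subgroup.normal_in_normalizer
      exact Cfsg.Agent.Lib.H1.le_pCore hn (hT.comap_subtype) (Subgroup.mem_subgroupOf.2 hxT)

end Cfsg.Agent.Lib.H10.Chz
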