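import Mathlib

/-! Involution-centralizer simplicity criterion (helper10). -/

set_option autoImplicit false

namespace Cfsg.Agent.Lib.H10

/-- If an element `e` with `e ^ 2 = 1` acts without nontrivial fixed points on a finite normal subgroup
`N`, then it inverts `N`. -/
theorem conj_eq_inv_of_fpf {H : Type*} [Group H] [Finite H] (N : Subgroup H) [N.Normal] (e : H)
    (he : e ^ 2 = 1) (hfpf : N ⊓ Subgroup.centralizer ({e} : Set H) = ⊥) (n : H) (hn : n ∈ N) :
    e * n * e⁻¹ = n⁻¹ := by
  let φ : MulAut N := MulAut.conjNormal e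
  have hφ : MonoidHom.FixedPointFree φ := by
    intro g hg
    have h1 : e * (g : H) * e⁻¹ = g := by
      have := congrArg (Subtype.val) hg
      rwa [MulAut.conjNormal_apply] at this
    have h2 : (g : H) ∈ N ⊓ Subgroup.centralizer ({e} : Set H) := by
      refine Subgroup.mem_inf.mpr ⟨g.2, ?_⟩
      rw [Subgroup.mem_centralizer_iff]
      intro y hy
      rw [Set.mem_singleton_iff] at hy
      subst hy
      calc y * (g : H) = y * g * y⁻¹ * y := by group
        _ = g * y := by rw [h1]
    rw [hfpf, Subgroup.mem_bot] at h2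
    exact Subtype.ext h2
  have hinv : Function.Involutive φ := by
    intro g
    apply Subtype.ext
    rw [MulAut.conjNormal_apply, MulAut.conjNormal_apply]
    have : e⁻¹ = e := by
      rw [inv_eq_iff_mul_eq_one, ← sq, he]
    rw [this]
    calc e * (e * (g : H) * e) * e = (e ^ 2) * g * (e ^ 2) := by rw [pow_two]; group
      _ = g := by rw [he]; group
  have key := hφ.coe_eq_inv_of_involutive hinv
  have := congrFun key ⟨n, hn⟩
  have h3 := congrArg Subtype.val this
  rw [MulAut.conjNormal_apply] at h3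
  simpa using h3

/-- Core lemma: under the hypotheses of the criterion every proper normal subgroup is trivial. -/
theorem crit19_core {H : Type*} [Group H] [Finite H] (z : H) (hz : orderOf z = 2)
    (hN : ∀ N : Subgroup H, N.Normal → N ≠ ⊤ → N ⊓ Subgroup.centralizer ({z} : Set H) = ⊥)
    (E : Subgroup H) (hE : IsKleinFour ↥E) (hzE : z ∈ E) (hc : ∀ e ∈ E, e ≠ 1 → IsConj z e) :
    (∃ e ∈ E, e ≠ 1 ∧ e ≠ z) ∧ ∀ N : Subgroup H, N.Normal → N ≠ ⊤ → N = ⊥ := by
  have hz1 : z ≠ 1 := by
    intro h; rw [h, orderOf_one] at hz; norm_num at hz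
  -- a third element
  have hex : ∃ e ∈ E, e ≠ 1 ∧ e ≠ z := by
    by_contra hcon
    push Not at hcon
    have hsub : (E : Set H) ⊆ {1, z} := by
      intro e he
      by_cases h1 : e = 1
      · left; exact h1
      · right; exact hcon e he h1
    have hcard : Nat.card E = 4 := hE.card_four
    have : Nat.card E ≤ 2 := by
      have h1 : Nat.card E = (E : Set H).ncard := (Nat.card_coe_set_eq (E : Set H))
      rw [h1]
      calc (E : Set H).ncard ≤ ({1, z} : Set H).ncard := Set.ncard_le_ncard hsub (Set.toFinite _)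
        _ ≤ 2 := Set.ncard_insert_le _ _ |>.trans (by simp)
    omega
  refine ⟨hex, ?_⟩
  intro N hNn hNt
  haveI := hNn
  -- exponent two
  have hsq : ∀ e ∈ E, e ^ 2 = 1 := by
    intro e he
    have := Monoid.pow_exponent_eq_one (⟨e, he⟩ : E)
    rw [hE.exponent_two] at this
    exact congrArg Subtype.val this
  -- fixed-point-freeness for all nonidentity elements of E
  have hfpf : ∀ e ∈ E, e ≠ 1 → N ⊓ Subgroup.centralizer ({e} : Set H) = ⊥ := by
    intro e he he1
    obtain ⟨c, hc'⟩ := isConj_iff.mp (hc e he he1)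
    rw [eq_bot_iff]
    intro x hx
    rw [Subgroup.mem_bot]
    have hxN : x ∈ N := (Subgroup.mem_inf.mp hx).1
    have hxe : e * x = x * e := by
      have := (Subgroup.mem_inf.mp hx).2
      rw [Subgroup.mem_centralizer_iff] at this
      exact this e (Set.mem_singleton _)
    have h1 : c⁻¹ * x * c ∈ N ⊓ Subgroup.centralizer ({z} : Set H) := by
      refine Subgroup.mem_inf.mpr ⟨by simpa using hNn.conj_mem x hxN c⁻¹, ?_⟩
      rw [Subgroup.mem_centralizer_iff]
      intro y hy
      rw [Set.mem_singleton_iff] at hy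
      subst hy
      have hz' : y = c⁻¹ * e * c := by rw [← hc']; group
      rw [hz']
      calc c⁻¹ * e * c * (c⁻¹ * x * c) = c⁻¹ * (e * x) * c := by group
        _ = c⁻¹ * (x * e) * c := by rw [hxe]
        _ = c⁻¹ * x * c * (c⁻¹ * e * c) := by group
    rw [hN N hNn hNt, Subgroup.mem_bot] at h1
    calc x = c * (c⁻¹ * x * c) * c⁻¹ := by group
      _ = 1 := by rw [h1]; group
  obtain ⟨e1, he1E, he11, he1z⟩ := hex
  have he2E : z * e1 ∈ E := E.mul_mem hzE he1E
  have he21 : z * e1 ≠ 1 := by
    intro h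
    have hzz : z * z = 1 := by rw [← sq]; exact hsq z hzE
    apply he1z
    calc e1 = z * (z * e1) := by rw [← mul_assoc, hzz, one_mul]
      _ = z := by rw [h, mul_one]
  rw [eq_bot_iff]
  intro n hn
  rw [Subgroup.mem_bot]
  have a1 := conj_eq_inv_of_fpf N z (hsq z hzE) (hfpf z hzE hz1) 
  have a2 := conj_eq_inv_of_fpf N e1 (hsq e1 he1E) (hfpf e1 he1E he11) n hn
  have a3 := conj_eq_inv_of_fpf N (z * e1) (hsq _ he2E) (hfpf _ he2E he21) n hn
  have a4 : (z * e1) * n * (z * e1)⁻¹ = n := by
    calc (z * e1) * n * (z * e1)⁻¹ = z * (e1 * n * e1⁻¹) * z⁻¹ := by group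
      _ = z * n⁻¹ * z⁻¹ := by rw [a2]
      _ = (n⁻¹)⁻¹ := a1 n⁻¹ (N.inv_mem hn)
      _ = n := inv_inv n
  -- n is fixed by z * e1, hence trivial
  have h5 : n ∈ N ⊓ Subgroup.centralizer ({z * e1} : Set H) := by
    refine Subgroup.mem_inf.mpr ⟨hn, ?_⟩
    rw [Subgroup.mem_centralizer_iff]
    intro y hy
    rw [Set.mem_singleton_iff] at hy
    rw [hy]
    calc (z * e1) * n = (z * e1) * n * (z * e1)⁻¹ * (z * e1) := by group
      _ = n * (z * e1) := by rw [a4]
  rw [hfpf _ he2E he21, Subgroup.mem_bot] at h5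
  exact h5

end Cfsg.Agent.Lib.H10
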