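import Mathlib
import Cfsg.Agent.Lib.H3.DF0

/-!
# S4316 piece D6c (helper10): generators commuting modulo a normalized subgroup
-/

set_option autoImplicit false

universe u

namespace Cfsg.Agent.Lib.H10.DF

open Subgroup Cfsg.Agent.Lib.H3.DF
open scoped commutatorElement

variable {Γ : Type u} [Group Γ] [Finite Γ]

omit [Finite Γ] in
theorem conj_mem_of_mem_normalizer {T : Subgroup Γ} {g t : Γ}
    (hg : g ∈ normalizer (T : Set Γ)) (ht : t ∈ T) : g * t * g⁻¹ ∈ T :=
  (Subgroup.mem_normalizer_iff.1 hg t).1 ht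

/-- D6c. General: if `G = ⟨S⟩` normalizes `T` and generators commute modulo `T` then `G' ≤ T`. -/
theorem commutator_le_of_closure (G T : Subgroup Γ) (S : Set Γ) (hS : G ≤ closure S)
    (hSG : S ⊆ (G : Set Γ)) (hGT : G ≤ normalizer (T : Set Γ))
    (hST : ∀ a ∈ S, ∀ b ∈ S, ⁅a, b⁆ ∈ T) : ⁅G, G⁆ ≤ T := by
  have hcl : closure S ≤ G := (closure_le G).2 hSG
  have hN : ∀ g ∈ closure S, g ∈ normalizer (T : Set Γ) := fun g hg => hGT (hcl hg)
  -- step 1: a generator commutes with everything modulo `T`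
  have h1 : ∀ a ∈ S, ∀ g ∈ closure S, ⁅a, g⁆ ∈ T := by
    intro a ha g hg
    induction hg using Subgroup.closure_induction with
    | mem x hx => exact hST a ha x hx
    | one => simp
    | mul x y hx hy ihx ihy =>
      have e : ⁅a, x * y⁆ = ⁅a, x⁆ * (x * ⁅a, y⁆ * x⁻¹) := by
        simp only [commutatorElement_def]; group
      rw [e]
      exact T.mul_mem ihx (conj_mem_of_mem_normalizer (hN x hx) ihy)
    | inv x hx ihx =>
      have e : ⁅a, x⁻¹⁆ = x⁻¹ * (⁅a, x⁆)⁻¹ * (x⁻¹)⁻¹ := by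
        simp only [commutatorElement_def]; group
      rw [e]
      exact conj_mem_of_mem_normalizer (hN x⁻¹ (inv_mem hx)) (T.inv_mem ihx)
  -- step 2: everything commutes with everything modulo `T`
  have h2 : ∀ g ∈ closure S, ∀ h ∈ closure S, ⁅g, h⁆ ∈ T := by
    intro g hg
    induction hg using Subgroup.closure_induction with
    | mem x hx => exact fun h hh => h1 x hx h hh
    | one => intro h _; simp
    | mul x y hx hy ihx ihy =>
      intro h hh
      have e : ⁅x * y, h⁆ = (x * ⁅y, h⁆ * x⁻¹) * ⁅x, h⁆ := by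
        simp only [commutatorElement_def]; group
      rw [e]
      exact T.mul_mem (conj_mem_of_mem_normalizer (hN x hx) (ihy h hh)) (ihx h hh)
    | inv x hx ihx =>
      intro h hh
      have e : ⁅x⁻¹, h⁆ = x⁻¹ * (⁅x, h⁆)⁻¹ * (x⁻¹)⁻¹ := by
        simp only [commutatorElement_def]; group
      rw [e]
      exact conj_mem_of_mem_normalizer (hN x⁻¹ (inv_mem hx)) (T.inv_mem (ihx h hh))
  rw [Subgroup.commutator_le]
  exact fun g hg h hh => h2 g (hS hg) h (hS hh)

end Cfsg.Agent.Lib.H10.DF
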