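import Cfsg.Agent.Lib.H1.Hall
import Cfsg.Prelude.Def_Transfer
import Cfsg.Prelude.Def_CaseTheorems

set_option autoImplicit false

/-! S4404 piece HALL (helper10): a Hall `{3,p}`-subgroup containing `Q` and a conjugate of `E`. -/

namespace Cfsg.Agent.Lib.H10.FG19

open Cfsg

variable {S : Type*} [Group S]

/-- Splitting off the `{3,p}`-part of a positive number. -/
theorem hall_arith {p : ℕ} (hp : p.Prime) (hp3 : p ≠ 3) {N : ℕ} (hN : N ≠ 0) :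
    ∃ a b n : ℕ, N = 3 ^ a * p ^ b * n ∧ Nat.Coprime 3 n ∧ Nat.Coprime p n := by
  set a := N.factorization 3 with ha
  set N1 := N / 3 ^ a with hN1
  have h3N : 3 ^ a ∣ N := Nat.ordProj_dvd N 3
  have hN1e : N = 3 ^ a * N1 := (Nat.mul_div_cancel' h3N).symm
  have hN10 : N1 ≠ 0 := by
    intro h
    rw [h, mul_zero] at hN1e
    exact hN hN1e
  have hc3 : Nat.Coprime 3 N1 := Nat.coprime_ordCompl Nat.prime_three hN
  set b := N1.factorization p with hb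
  set n := N1 / p ^ b with hn
  have hpN1 : p ^ b ∣ N1 := Nat.ordProj_dvd N1 p
  have hN1e' : N1 = p ^ b * n := (Nat.mul_div_cancel' hpN1).symm
  have hcp : Nat.Coprime p n := Nat.coprime_ordCompl hp hN10
  have hnd : n ∣ N1 := ⟨p ^ b, by rw [hN1e']; ring⟩
  have hc3n : Nat.Coprime 3 n := Nat.Coprime.coprime_dvd_right hnd hc3
  refine ⟨a, b, n, ?_, hc3n, hcp⟩
  rw [mul_assoc, ← hN1e', ← hN1e]

/-- HALL (M): a Hall `{3,p}`-subgroup containing `Q` and a conjugate of `E`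
(`Cfsg.Agent.Lib.H1.hall_contain`, `hall_conj` in `Cfsg/Agent/Lib/H1/Hall.lean`). -/
theorem exists_hall_3p [Finite S] [Group.IsSolvable S] {p : ℕ} (hp : p.Prime) (hp3 : p ≠ 3)
    (Q E : Subgroup S) (hQ : IsPGroup 3 Q) (hE : IsPGroup p E) :
    ∃ (H : Subgroup S) (a b : ℕ), Nat.card H = 3 ^ a * p ^ b ∧ Q ≤ H ∧
      ∃ s : S, E.map (MulAut.conj s).toMonoidHom ≤ H := by
  classical
  have h3 : Fact (Nat.Prime 3) := ⟨Nat.prime_three⟩
  have hpf : Fact p.Prime := ⟨hp⟩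
  have hN : Nat.card S ≠ 0 := Nat.card_pos.ne'
  obtain ⟨a, b, n, hS, hc3, hcp⟩ := hall_arith hp hp3 hN
  have hmn : (3 ^ a * p ^ b).Coprime n :=
    Nat.Coprime.mul_left (Nat.Coprime.pow_left a hc3) (Nat.Coprime.pow_left b hcp)
  obtain ⟨i, hi⟩ := (IsPGroup.iff_card).mp hQ
  obtain ⟨j, hj⟩ := (IsPGroup.iff_card).mp hE
  obtain ⟨H, hH, hQH⟩ := Cfsg.Agent.Lib.H1.hall_contain hS hmn Q (by
    rw [hi]; exact Nat.Coprime.pow_left i hc3)
  obtain ⟨H', hH', hEH'⟩ := Cfsg.Agent.Lib.H1.hall_contain hS hmn E (by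
    rw [hj]; exact Nat.Coprime.pow_left j hcp)
  obtain ⟨g, hg⟩ := Cfsg.Agent.Lib.H1.hall_conj hS hmn H' H hH' hH
  refine ⟨H, a, b, hH, hQH, g, ?_⟩
  rintro _ ⟨e, he, rfl⟩
  rw [← hg]
  exact ⟨e, hEH' he, rfl⟩

end Cfsg.Agent.Lib.H10.FG19
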