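import Mathlib
import Cfsg.Prelude.Def_Characters
import Cfsg.Agent.S0174
import Cfsg.Agent.S1485
import Cfsg.Agent.Lib.H23.FullyRamified

/-!
# S4563/S4564 piece FR2: `g² |N| = |I_G(ζ₀)|` for an irreducible character vanishing off `N`

`χ` vanishes off `N`, so `[χ_N, χ_N] = |G:N|` and `[χ_N, (ζ₀^G)_N] = |G:N| [χ, ζ₀^G] = |G:N| e`.  With Clifford
`χ_N = e Θ` and `(ζ₀^G)_N = r Θ`, `r = |I|/|N|`, this gives `r = e²`.
-/

set_option autoImplicit false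

namespace Cfsg.Agent.Lib.H10.FRS

open Cfsg Cfsg.Agent.Lib.L0 Cfsg.Agent.Lib.H23
open scoped ComplexConjugate

/-- for `f` vanishing off `N`: `[f_N, h_N]_N = |G:N| [f, h]_G` -/
theorem classInner_restrict_of_vanish {G : Type*} [Group G] [Fintype G] (N : Subgroup G) [Fintype ↥N]
    (f h : G → ℂ) (hvan : ∀ x : G, x ∉ N → f x = 0) :
    classInner (fun n : ↥N => f n) (fun n : ↥N => h n) = (N.index : ℂ) * classInner f h := by
  classical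
  have hsum : ∑ g : G, f g * conj (h g) = ∑ n : ↥N, f n * conj (h n) := by
    have h1 : ∑ g : G, f g * conj (h g) = ∑ g ∈ Finset.univ.filter (· ∈ N), f g * conj (h g) := by
      rw [Finset.sum_filter]
      refine Finset.sum_congr rfl fun g _ => ?_
      split_ifs with hg
      · rfl
      · rw [hvan g hg, zero_mul]
    rw [h1, Finset.sum_subtype (p := (· ∈ N)) _ (by simp)]
  unfold classInner
  rw [hsum]
  have hidx : (Nat.card G : ℂ) = (Nat.card ↥N : ℂ) * (N.index : ℂ) := by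
    exact_mod_cast (Subgroup.card_mul_index N).symm
  have hN0 : (Nat.card ↥N : ℂ) ≠ 0 := Nat.cast_ne_zero.mpr Nat.card_pos.ne'
  have hI0 : (N.index : ℂ) ≠ 0 := Nat.cast_ne_zero.mpr Subgroup.index_ne_zero_of_finite
  rw [hidx]
  field_simp

/-- **FR2** -/
theorem fr_mult_sq {G : Type*} [Group G] [Fintype G] (N : Subgroup G) [hN : N.Normal] [Fintype ↥N]
    (ζ₁ : IrrCharacter G) (hvan : ∀ x : G, x ∉ N → (ζ₁ : G → ℂ) x = 0)
    (ζ₀ : IrrCharacter ↥N)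
    (hcon : classInner (fun n : ↥N => (ζ₁ : G → ℂ) n) (ζ₀ : ↥N → ℂ) ≠ 0) :
    ∃ g : ℕ, classInner (fun n : ↥N => (ζ₁ : G → ℂ) n) (ζ₀ : ↥N → ℂ) = (g : ℂ) ∧
      g ^ 2 * Nat.card ↥N = Nat.card {x : G // ∀ n : ↥N,
        (ζ₀ : ↥N → ℂ) ⟨x * n * x⁻¹, hN.conj_mem n n.2 x⟩ = (ζ₀ : ↥N → ℂ) n} := by
  classical
  obtain ⟨g, hg⟩ := classInner_char_irr_nat (isCharacter_restrict N (isCharacter_of_irr ζ₁.2)) ζ₀.2
  refine ⟨g, hg, ?_⟩
  have hcl := Cfsg.Agent.S0174.result N hN (ζ₁ : G → ℂ) ζ₁.2 (ζ₀ : ↥N → ℂ) ζ₀.2 hcon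
  have hind := Cfsg.Agent.S1485.result N (ζ₀ : ↥N → ℂ) ζ₀.2
  obtain ⟨Θ, hΘ⟩ : ∃ Θ : ↥N → ℂ, Θ = ∑ᶠ ψ ∈ {ψ : ↥N → ℂ | ∃ x : G, ψ = fun n : ↥N =>
      (ζ₀ : ↥N → ℂ) ⟨x * n * x⁻¹, hN.conj_mem n n.2 x⟩}, ψ := ⟨_, rfl⟩
  rw [← hΘ] at hcl hind
  obtain ⟨I, hI⟩ : ∃ I : ℕ, I = Nat.card {x : G // ∀ n : ↥N,
      (ζ₀ : ↥N → ℂ) ⟨x * n * x⁻¹, hN.conj_mem n n.2 x⟩ = (ζ₀ : ↥N → ℂ) n} := ⟨_, rfl⟩
  rw [← hI] at hind ⊢
  rw [hg] at hcl
  have h1 : classInner (fun n : ↥N => (ζ₁ : G → ℂ) n) (fun n : ↥N => (ζ₁ : G → ℂ) n) = (N.index : ℂ) :=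
    (classInner_restrict_self_eq_index_iff N (ζ₁ : G → ℂ) ζ₁.2).mpr hvan
  have h2 : classInner (fun n : ↥N => (ζ₁ : G → ℂ) n)
      (fun n : ↥N => indFun N (ζ₀ : ↥N → ℂ) n) = (N.index : ℂ) * (g : ℂ) := by
    rw [classInner_restrict_of_vanish N (ζ₁ : G → ℂ) _ hvan, ← classInner_conj_symm (indFun N _) _,
      frobenius_reciprocity N _ _ (isClassFunction_of_isCharacter (isCharacter_of_irr ζ₁.2)),
      classInner_conj_symm, hg]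
  rw [hind, classInner_smul_right] at h2
  have h3 : classInner (fun n : ↥N => (ζ₁ : G → ℂ) n) (fun n : ↥N => (ζ₁ : G → ℂ) n) =
      (g : ℂ) * classInner (fun n : ↥N => (ζ₁ : G → ℂ) n) Θ := by
    have : classInner (fun n : ↥N => (ζ₁ : G → ℂ) n) (fun n : ↥N => (ζ₁ : G → ℂ) n) =
        classInner (fun n : ↥N => (ζ₁ : G → ℂ) n) ((g : ℂ) • Θ) := by
      congr 1
    rw [this, classInner_smul_right, Complex.conj_natCast]
  rw [h1] at h3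
  have hconj : conj ((I : ℂ) / (Nat.card ↥N : ℂ)) = (I : ℂ) / (Nat.card ↥N : ℂ) := by
    rw [map_div₀, Complex.conj_natCast, Complex.conj_natCast]
  rw [hconj] at h2
  have hN0 : (Nat.card ↥N : ℂ) ≠ 0 := Nat.cast_ne_zero.mpr Nat.card_pos.ne'
  have hI0 : (N.index : ℂ) ≠ 0 := Nat.cast_ne_zero.mpr Subgroup.index_ne_zero_of_finite
  have hX0 : classInner (fun n : ↥N => (ζ₁ : G → ℂ) n) Θ ≠ 0 := by
    intro h0
    rw [h0, mul_zero] at h3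
    exact hI0 h3
  -- (I/|N|) * X = idx * g = g * X * g
  have h4 : (I : ℂ) / (Nat.card ↥N : ℂ) = (g : ℂ) * (g : ℂ) := by
    have : (I : ℂ) / (Nat.card ↥N : ℂ) * classInner (fun n : ↥N => (ζ₁ : G → ℂ) n) Θ =
        (g : ℂ) * (g : ℂ) * classInner (fun n : ↥N => (ζ₁ : G → ℂ) n) Θ := by
      rw [h2, h3]
      ring
    exact mul_right_cancel₀ hX0 this
  have h5 : (I : ℂ) = ((g ^ 2 * Nat.card ↥N : ℕ) : ℂ) := by
    rw [div_eq_iff hN0] at h4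
    rw [h4]
    push_cast
    ring
  exact (Nat.cast_injective h5).symm

end Cfsg.Agent.Lib.H10.FRS
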