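import Mathlib

/-!
# The Frobenius action lemma (T1) with an arbitrary complement (helper10)

`K`, `H` finite subgroups of a group `Γ` acting on an additive group `V`; `H` normalises `K` and every
`h ≠ 1` of `H` acts fixed-point-freely on `K`; multiplication by `|K|` is injective on `V`; `C_V(H) = 0`.
Then `K` acts trivially on `V`.  Also a form for conjugation actions inside a group.
-/

set_option autoImplicit false

namespace Cfsg.Agent.Lib.H10.FrobActGen

open scoped BigOperators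

section Module

variable {V : Type*} [AddCommGroup V] {Γ : Type*} [Group Γ] [DistribMulAction Γ V]

/-- **T1**, module form, arbitrary complement. -/
theorem t1_gen (K H : Subgroup Γ) [Finite K] [Finite H]
    (hn : ∀ h ∈ H, ∀ k ∈ K, h * k * h⁻¹ ∈ K)
    (hfpf : ∀ h ∈ H, h ≠ 1 → ∀ k ∈ K, h * k * h⁻¹ = k → k = 1)
    (hcop : ∀ v : V, Nat.card K • v = 0 → v = 0)
    (hfix : ∀ v : V, (∀ h ∈ H, h • v = v) → v = 0) :
    ∀ k ∈ K, ∀ v : V, k • v = v := by
  classical
  have : Fintype K := Fintype.ofFinite K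
  have : Fintype H := Fintype.ofFinite H
  -- `H`-norms vanish
  have hnorm : ∀ w : V, ∑ h : H, (h : Γ) • w = 0 := by
    intro w
    apply hfix
    intro g hg
    rw [Finset.smul_sum]
    have e1 : ∀ h : H, g • ((h : Γ) • w) = (((⟨g, hg⟩ : H) * h : H) : Γ) • w := by
      intro h
      rw [smul_smul]
      rfl
    simp_rw [e1]
    exact Fintype.sum_equiv (Equiv.mulLeft (⟨g, hg⟩ : H)) _ _ (fun h => rfl)
  intro k0 hk0 v
  set τ : V := ∑ k : K, (k : Γ) • v with hτ
  -- `τ` is `K`-fixed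
  have hτfix : k0 • τ = τ := by
    rw [hτ, Finset.smul_sum]
    have e1 : ∀ k : K, k0 • ((k : Γ) • v) = (((⟨k0, hk0⟩ : K) * k : K) : Γ) • v := by
      intro k
      rw [smul_smul]
      rfl
    simp_rw [e1]
    exact Fintype.sum_equiv (Equiv.mulLeft (⟨k0, hk0⟩ : K)) _ _ (fun k => rfl)
  -- the two double sums
  let f : H → V := fun h => ∑ k : K, ((k : Γ) * (h : Γ) * (k : Γ)⁻¹) • v
  let g : H → V := fun h => ∑ k : K, ((k : Γ) * (h : Γ)) • v
  have hf : ∑ h : H, f h = 0 := by
    show ∑ h : H, ∑ k : K, ((k : Γ) * (h : Γ) * (k : Γ)⁻¹) • v = 0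
    rw [Finset.sum_comm]
    apply Finset.sum_eq_zero
    intro k _
    have e1 : ∀ h : H, ((k : Γ) * (h : Γ) * (k : Γ)⁻¹) • v
        = (k : Γ) • ((h : Γ) • ((k : Γ)⁻¹ • v)) := by
      intro h
      rw [smul_smul, smul_smul]
    simp_rw [e1]
    rw [← Finset.smul_sum, hnorm, smul_zero]
  have hg : ∑ h : H, g h = 0 := by
    show ∑ h : H, ∑ k : K, ((k : Γ) * (h : Γ)) • v = 0
    rw [Finset.sum_comm]
    apply Finset.sum_eq_zero
    intro k _
    have e1 : ∀ h : H, ((k : Γ) * (h : Γ)) • v = (k : Γ) • ((h : Γ) • v) := by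
      intro h
      rw [smul_smul]
    simp_rw [e1]
    rw [← Finset.smul_sum, hnorm, smul_zero]
  have hfg : ∀ h : H, h ≠ 1 → f h = g h := by
    intro h hh
    have hh' : (h : Γ) ≠ 1 := by
      intro h1
      apply hh
      exact Subtype.ext h1
    -- the bijection `k ↦ k * (h k⁻¹ h⁻¹)` of `K`
    let σ : K → K := fun k =>
      ⟨(k : Γ) * ((h : Γ) * (k : Γ)⁻¹ * (h : Γ)⁻¹),
        K.mul_mem k.2 (hn h h.2 _ (K.inv_mem k.2))⟩
    have hσinj : Function.Injective σ := by
      intro k k' hkk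
      have h1 : (k : Γ) * ((h : Γ) * (k : Γ)⁻¹ * (h : Γ)⁻¹)
          = (k' : Γ) * ((h : Γ) * (k' : Γ)⁻¹ * (h : Γ)⁻¹) := congrArg Subtype.val hkk
      -- `x := k⁻¹ k'` is fixed by `h`
      have h2 : (h : Γ) * ((k : Γ)⁻¹ * (k' : Γ)) * (h : Γ)⁻¹ = (k : Γ)⁻¹ * (k' : Γ) := by
        have h3 : (h : Γ) * (k : Γ)⁻¹ * (h : Γ)⁻¹
            = (k : Γ)⁻¹ * ((k' : Γ) * ((h : Γ) * (k' : Γ)⁻¹ * (h : Γ)⁻¹)) := by
          rw [← h1]; group
        calc (h : Γ) * ((k : Γ)⁻¹ * (k' : Γ)) * (h : Γ)⁻¹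
            = ((h : Γ) * (k : Γ)⁻¹ * (h : Γ)⁻¹) * ((h : Γ) * (k' : Γ) * (h : Γ)⁻¹) := by group
          _ = ((k : Γ)⁻¹ * ((k' : Γ) * ((h : Γ) * (k' : Γ)⁻¹ * (h : Γ)⁻¹)))
                * ((h : Γ) * (k' : Γ) * (h : Γ)⁻¹) := by rw [h3]
          _ = (k : Γ)⁻¹ * (k' : Γ) := by group
      have h4 := hfpf h h.2 hh' _ (K.mul_mem (K.inv_mem k.2) k'.2) h2
      apply Subtype.ext
      have : (k' : Γ) = (k : Γ) * ((k : Γ)⁻¹ * (k' : Γ)) := by group
      rw [this, h4, mul_one]
    have hσbij : Function.Bijective σ := Finite.injective_iff_bijective.mp hσinj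
    show ∑ k : K, ((k : Γ) * (h : Γ) * (k : Γ)⁻¹) • v = ∑ k : K, ((k : Γ) * (h : Γ)) • v
    have e1 : ∀ k : K, ((k : Γ) * (h : Γ) * (k : Γ)⁻¹) • v = (((σ k : K) : Γ) * (h : Γ)) • v := by
      intro k
      congr 1
      show (k : Γ) * (h : Γ) * (k : Γ)⁻¹ = (k : Γ) * ((h : Γ) * (k : Γ)⁻¹ * (h : Γ)⁻¹) * (h : Γ)
      group
    simp_rw [e1]
    exact hσbij.sum_comp (fun k : K => ((k : Γ) * (h : Γ)) • v)
  have hf1 : f 1 = Nat.card K • v := by
    show ∑ k : K, ((k : Γ) * ((1 : H) : Γ) * (k : Γ)⁻¹) • v = Nat.card K • v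
    have e1 : ∀ k : K, ((k : Γ) * ((1 : H) : Γ) * (k : Γ)⁻¹) • v = v := by
      intro k
      have : (k : Γ) * ((1 : H) : Γ) * (k : Γ)⁻¹ = 1 := by
        rw [Subgroup.coe_one, mul_one, mul_inv_cancel]
      rw [this, one_smul]
    simp_rw [e1]
    rw [Finset.sum_const, Finset.card_univ, Nat.card_eq_fintype_card]
  have hg1 : g 1 = τ := by
    show ∑ k : K, ((k : Γ) * ((1 : H) : Γ)) • v = τ
    rw [hτ]
    apply Finset.sum_congr rfl
    intro k _
    rw [Subgroup.coe_one, mul_one]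
  have key : Nat.card K • v = τ := by
    have h0 : ∑ h : H, (f h - g h) = 0 := by
      rw [Finset.sum_sub_distrib, hf, hg, sub_zero]
    have h1 : ∑ h : H, (f h - g h) = f 1 - g 1 := by
      apply Finset.sum_eq_single (1 : H)
      · intro h _ hh
        rw [hfg h hh, sub_self]
      · intro h; exact absurd (Finset.mem_univ _) h
    rw [h1, hf1, hg1] at h0
    exact sub_eq_zero.mp h0
  -- conclude
  have h5 : k0 • (Nat.card K • v) = Nat.card K • v := by rw [key, hτfix]
  have h6 : Nat.card K • (k0 • v - v) = 0 := by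
    rw [smul_sub, ← smul_comm k0 (Nat.card K) v, h5, sub_self]
  exact sub_eq_zero.mp (hcop _ h6)

end Module

section Group

variable {G : Type*} [Group G]

/-- **T1**, conjugation form inside a group `G`, arbitrary complement `H`: `V` a commutative subgroup
normalised by `K` and `H`, `H` normalises `K` and acts fixed-point-freely on it, `|K|` is prime to the
orders of the elements of `V`, and `C_V(H) = 1`.  Then `K` centralises `V`. -/
theorem t1_gen_group (K H V : Subgroup G) [Finite K] [Finite H]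
    (hVc : ∀ v ∈ V, ∀ w ∈ V, v * w = w * v)
    (hKV : ∀ k ∈ K, ∀ v ∈ V, k * v * k⁻¹ ∈ V)
    (hHV : ∀ h ∈ H, ∀ v ∈ V, h * v * h⁻¹ ∈ V)
    (hn : ∀ h ∈ H, ∀ k ∈ K, h * k * h⁻¹ ∈ K)
    (hfpf : ∀ h ∈ H, h ≠ 1 → ∀ k ∈ K, h * k * h⁻¹ = k → k = 1)
    (hcop : ∀ v ∈ V, v ^ Nat.card K = 1 → v = 1)
    (hfix : ∀ v ∈ V, (∀ h ∈ H, h * v * h⁻¹ = v) → v = 1) :
    ∀ k ∈ K, ∀ v ∈ V, k * v = v * k := by
  classical
  -- the acting group: the normaliser of `V`
  let N : Subgroup G := Subgroup.normalizer (V : Set G)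
  have hmemN : ∀ g : G, (∀ v ∈ V, g * v * g⁻¹ ∈ V) → (∀ v ∈ V, g⁻¹ * v * g⁻¹⁻¹ ∈ V) → g ∈ N := by
    intro g h1 h2
    rw [Subgroup.mem_normalizer_iff]
    intro v
    constructor
    · exact h1 v
    · intro hv
      have := h2 _ hv
      have e : g⁻¹ * (g * v * g⁻¹) * g⁻¹⁻¹ = v := by group
      rwa [e] at this
  have hKN : K ≤ N := fun k hk => hmemN k (hKV k hk) (hKV k⁻¹ (K.inv_mem hk))
  have hHN : H ≤ N := fun h hh => hmemN h (hHV h hh) (hHV h⁻¹ (H.inv_mem hh))
  have hconj : ∀ g : N, ∀ v : V, (g : G) * (v : G) * (g : G)⁻¹ ∈ V := by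
    intro g v
    exact (Subgroup.mem_normalizer_iff.mp g.2 (v : G)).mp v.2
  letI : CommGroup V :=
    { (inferInstance : Group V) with
      mul_comm := fun a b => Subtype.ext (hVc a a.2 b b.2) }
  letI : DistribMulAction N (Additive V) :=
    { smul := fun g v => Additive.ofMul
        ⟨(g : G) * ((Additive.toMul v : V) : G) * (g : G)⁻¹, hconj g (Additive.toMul v)⟩
      one_smul := by
        intro v
        apply Additive.toMul.injective
        apply Subtype.ext
        show ((1 : N) : G) * ((Additive.toMul v : V) : G) * ((1 : N) : G)⁻¹ = _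
        rw [Subgroup.coe_one, one_mul, inv_one, mul_one]
      mul_smul := by
        intro g h v
        apply Additive.toMul.injective
        apply Subtype.ext
        show ((g * h : N) : G) * ((Additive.toMul v : V) : G) * ((g * h : N) : G)⁻¹
          = (g : G) * ((h : G) * ((Additive.toMul v : V) : G) * (h : G)⁻¹) * (g : G)⁻¹
        rw [Subgroup.coe_mul]
        group
      smul_zero := by
        intro g
        apply Additive.toMul.injective
        apply Subtype.ext
        show (g : G) * ((1 : V) : G) * (g : G)⁻¹ = ((1 : V) : G)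
        rw [Subgroup.coe_one, mul_one, mul_inv_cancel]
      smul_add := by
        intro g v w
        apply Additive.toMul.injective
        apply Subtype.ext
        show (g : G) * (((Additive.toMul v : V) * (Additive.toMul w : V) : V) : G) * (g : G)⁻¹
          = ((g : G) * ((Additive.toMul v : V) : G) * (g : G)⁻¹)
            * ((g : G) * ((Additive.toMul w : V) : G) * (g : G)⁻¹)
        rw [Subgroup.coe_mul]
        group }
  have hsmul : ∀ (g : N) (v : V),
      (Additive.toMul (g • (Additive.ofMul v : Additive V)) : V)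
        = ⟨(g : G) * (v : G) * (g : G)⁻¹, hconj g v⟩ := fun g v => rfl
  -- the subgroups inside `N`
  let K' : Subgroup N := K.subgroupOf N
  let H' : Subgroup N := H.subgroupOf N
  haveI : Finite K' :=
    Finite.of_injective (fun x : K' => (⟨(x : N), x.2⟩ : K))
      (fun x y hxy => Subtype.ext (Subtype.ext (congrArg (fun z : K => (z : G)) hxy)))
  haveI : Finite H' :=
    Finite.of_injective (fun x : H' => (⟨(x : N), x.2⟩ : H))
      (fun x y hxy => Subtype.ext (Subtype.ext (congrArg (fun z : H => (z : G)) hxy)))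
  have hcardK : Nat.card K' = Nat.card K := by
    apply Nat.card_congr
    exact (Subgroup.subgroupOfEquivOfLe hKN).toEquiv
  have main := t1_gen (V := Additive V) K' H'
    (by
      intro h hh k hk
      exact hn (h : G) hh (k : G) hk)
    (by
      intro h hh hne k hk hfixk
      have h1 : ((h : N) : G) ≠ 1 := by
        intro h1
        apply hne
        exact Subtype.ext h1
      have := hfpf (h : G) hh h1 (k : G) hk (congrArg Subtype.val hfixk)
      exact Subtype.ext this)
    (by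
      intro v hv
      have h1 : (Additive.toMul v : V) ^ Nat.card K' = 1 := by
        have := congrArg Additive.toMul hv
        rwa [toMul_nsmul] at this
      rw [hcardK] at h1
      have h2 : ((Additive.toMul v : V) : G) ^ Nat.card K = 1 := by
        have := congrArg Subtype.val h1
        rwa [Subgroup.coe_pow] at this
      have h3 := hcop _ (Additive.toMul v : V).2 h2
      apply Additive.toMul.injective
      exact Subtype.ext h3)
    (by
      intro v hv
      have h3 := hfix _ (Additive.toMul v : V).2 (by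
        intro h hh
        have := hv ⟨h, hHN hh⟩ hh
        have h4 := congrArg (fun z : Additive V => ((Additive.toMul z : V) : G)) this
        exact h4)
      apply Additive.toMul.injective
      exact Subtype.ext h3)
  intro k hk v hv
  have h1 := main ⟨k, hKN hk⟩ hk (Additive.ofMul (⟨v, hv⟩ : V))
  have h2 := congrArg (fun z : Additive V => ((Additive.toMul z : V) : G)) h1
  have h3 : k * v * k⁻¹ = v := h2
  calc k * v = (k * v * k⁻¹) * k := by group
    _ = v * k := by rw [h3]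

/-- **T1** with a cyclic complement `⟨x⟩`. -/
theorem t1_cyclic (K V : Subgroup G) [Finite K] (x : G) (hx : IsOfFinOrder x)
    (hVc : ∀ v ∈ V, ∀ w ∈ V, v * w = w * v)
    (hKV : ∀ k ∈ K, ∀ v ∈ V, k * v * k⁻¹ ∈ V)
    (hxV : ∀ v ∈ V, x * v * x⁻¹ ∈ V) (hxV' : ∀ v ∈ V, x⁻¹ * v * x ∈ V)
    (hn : ∀ k ∈ K, x * k * x⁻¹ ∈ K) (hn' : ∀ k ∈ K, x⁻¹ * k * x ∈ K)
    (hfpf : ∀ y ∈ Subgroup.zpowers x, y ≠ 1 → ∀ k ∈ K, y * k * y⁻¹ = k → k = 1)
    (hcop : ∀ v ∈ V, v ^ Nat.card K = 1 → v = 1)
    (hfix : ∀ v ∈ V, x * v * x⁻¹ = v → v = 1) :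
    ∀ k ∈ K, ∀ v ∈ V, k * v = v * k := by
  haveI : Finite (Subgroup.zpowers x) := by
    rw [← Nat.card_pos_iff.trans ⟨fun h => h.2, fun h => ⟨⟨1, Subgroup.one_mem _⟩, h⟩⟩] <;> exact
      (Nat.card_zpowers x ▸ hx.orderOf_pos)
  -- conjugation by any power of `x` preserves a subgroup preserved by `x` and `x⁻¹`
  have hpow : ∀ (S : Subgroup G), (∀ s ∈ S, x * s * x⁻¹ ∈ S) → (∀ s ∈ S, x⁻¹ * s * x ∈ S) →
      ∀ y ∈ Subgroup.zpowers x, ∀ s ∈ S, y * s * y⁻¹ ∈ S := by
    intro S h1 h2 y hy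
    have hxN : x ∈ Subgroup.normalizer (S : Set G) := by
      rw [Subgroup.mem_normalizer_iff]
      intro s
      constructor
      · exact h1 s
      · intro hs
        have := h2 _ hs
        have e : x⁻¹ * (x * s * x⁻¹) * x = s := by group
        rwa [e] at this
    have hyN : y ∈ Subgroup.normalizer (S : Set G) :=
      (Subgroup.zpowers_le.mpr hxN) hy
    intro s hs
    exact (Subgroup.mem_normalizer_iff.mp hyN s).mp hs
  apply t1_gen_group K (Subgroup.zpowers x) V hVc hKV (hpow V hxV hxV') (hpow K hn hn') hfpf hcop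
  intro v hv hall
  exact hfix v hv (hall x (Subgroup.mem_zpowers x))

end Group

end Cfsg.Agent.Lib.H10.FrobActGen
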