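import Cfsg.Agent.Lib.H1.G85.Defs
import Cfsg.Agent.Lib.H5.Glaub.Main

/-!
S4385 piece (CH23): chain facts for `(q,t) = (2,3)`.  Also general facts on a `Gen` family.
-/
set_option autoImplicit false
open scoped Pointwise
open Cfsg.Agent.Lib.H5.Glaub Cfsg.Agent.Lib.H5.Glaub.Setup Cfsg.Agent.Lib.H1.G85
namespace Cfsg.Agent.Lib.H10.G85

variable {G : Type*} [Group G] [Finite G]

/-- a subgroup of index 2 (by cardinalities) is normalised -/
theorem le_normalizer_of_card_two {A B : Subgroup G} (hAB : A ≤ B) (hc : Nat.card B = 2 * Nat.card A) :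
    B ≤ Subgroup.normalizer (A : Set G) := by
  have hidx : (A.subgroupOf B).index = 2 := by
    have h1 := Subgroup.card_mul_index (A.subgroupOf B)
    have h2 : Nat.card (A.subgroupOf B) = Nat.card A :=
      Nat.card_congr (Subgroup.subgroupOfEquivOfLe hAB).toEquiv
    rw [h2, hc] at h1
    have hpos : 0 < Nat.card A := Nat.card_pos
    have h3 : Nat.card A * (A.subgroupOf B).index = Nat.card A * 2 := by rw [h1, mul_comm]
    exact Nat.eq_of_mul_eq_mul_left hpos h3
  have hn := Subgroup.normal_of_index_eq_two hidx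
  exact (Subgroup.normal_subgroupOf_iff_le_normalizer hAB).1 hn

omit [Finite G] in
theorem gen_mem_X {S : Setup G} {t : ℕ} {x : ℤ → G} (hx : Gen S t x) (k : ℤ) : x k ∈ S.X t k := by
  rw [hx.X_eq k]
  exact Subgroup.mem_zpowers _

omit [Finite G] in
theorem gen_mem_X_iff {S : Setup G} {t : ℕ} {x : ℤ → G} (hx : Gen S t x) (k : ℤ) (g : G) :
    g ∈ S.X t k ↔ g = 1 ∨ g = x k := by
  rw [hx.X_eq k, Subgroup.mem_zpowers_iff]
  constructor
  · rintro ⟨n, rfl⟩
    rcases Int.even_or_odd' n with ⟨m, rfl | rfl⟩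
    · left
      rw [zpow_mul, zpow_two, hx.sq k, one_zpow]
    · right
      rw [zpow_add, zpow_mul, zpow_two, hx.sq k, one_zpow, one_mul, zpow_one]
  · rintro (rfl | rfl)
    · exact ⟨0, zpow_zero _⟩
    · exact ⟨1, zpow_one _⟩

omit [Finite G] in
theorem gen_comm {S : Setup G} {t q : ℕ} {x : ℤ → G} (hx : Gen S t x) (hD : S.Dist t q) (i j : ℤ)
    (h : |i - j| < q) : x i * x j = x j * x i :=
  hD.comm i j h _ (gen_mem_X hx i) _ (gen_mem_X hx j)

omit [Finite G] in
theorem gen_ncomm {S : Setup G} {t q : ℕ} {x : ℤ → G} (hx : Gen S t x) (hD : S.Dist t q) (i j : ℤ)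
    (hj : j = i + q) : x i * x j ≠ x j * x i := by
  subst hj
  intro h
  apply hD.ncomm i
  intro a ha b hb
  rcases (gen_mem_X_iff hx i a).1 ha with rfl | rfl
  · simp
  · rcases (gen_mem_X_iff hx _ b).1 hb with rfl | rfl
    · simp
    · exact h

omit [Finite G] in
/-- a subgroup of order 4 containing two different involutions-or-not `a`, `b` -/
theorem mem_iff_of_card_four (Q : Subgroup G) (hQ : Nat.card Q = 4) (a b : G) (ha : a ∈ Q) (hb : b ∈ Q)
    (ha1 : a ≠ 1) (hb1 : b ≠ 1) (hab : a ≠ b) (ha2 : a * a = 1) (g : G) :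
    g ∈ Q ↔ g = 1 ∨ g = a ∨ g = b ∨ g = a * b := by
  classical
  have hfin : Finite Q := Nat.finite_of_card_ne_zero (by rw [hQ]; norm_num)
  let T : Finset G := {1, a, b, a * b}
  have hTcard : T.card = 4 := by
    have h1 : (1 : G) ∉ ({a, b, a * b} : Finset G) := by
      simp only [Finset.mem_insert, Finset.mem_singleton, not_or]
      refine ⟨fun h => ha1 h.symm, fun h => hb1 h.symm, fun h => ?_⟩
      apply hab
      have : a * b = a * a := by rw [← h, ha2]
      exact (mul_left_cancel this).symm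
    have h2 : a ∉ ({b, a * b} : Finset G) := by
      simp only [Finset.mem_insert, Finset.mem_singleton, not_or]
      refine ⟨hab, fun h => hb1 ?_⟩
      have : a * 1 = a * b := by rw [mul_one]; exact h
      exact (mul_left_cancel this).symm
    have h3 : b ∉ ({a * b} : Finset G) := by
      simp only [Finset.mem_singleton]
      intro h
      apply ha1
      have : 1 * b = a * b := by rw [one_mul]; exact h
      exact (mul_right_cancel this).symm
    show (insert 1 (insert a (insert b {a * b})) : Finset G).card = 4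
    rw [Finset.card_insert_of_notMem h1, Finset.card_insert_of_notMem h2,
      Finset.card_insert_of_notMem h3, Finset.card_singleton]
  have hsub : (T : Set G) ⊆ (Q : Set G) := by
    intro y hy
    have hy' : y ∈ T := hy
    simp only [T, Finset.mem_insert, Finset.mem_singleton] at hy'
    rcases hy' with rfl | rfl | rfl | rfl
    · exact Q.one_mem
    · exact ha
    · exact hb
    · exact Q.mul_mem ha hb
  have hQfin : (Q : Set G).Finite := Set.toFinite _
  have hle : (Q : Set G).ncard ≤ (T : Set G).ncard := by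
    rw [Set.ncard_coe_finset, hTcard]
    have : (Q : Set G).ncard = Nat.card Q := rfl
    rw [this, hQ]
  have heq : (T : Set G) = (Q : Set G) := Set.eq_of_subset_of_ncard_le hsub hle hQfin
  have : g ∈ Q ↔ g ∈ T := by
    rw [← SetLike.mem_coe, ← heq]
    rfl
  rw [this]
  simp only [T, Finset.mem_insert, Finset.mem_singleton]

/-- (CH23) chain facts for `(q,t) = (2,3)` -/
theorem chain23 (S : Setup G) (hp2 : S.p = 2) (hU : S.Uni 3) (hI : S.Ivl 3) (hD : S.Dist 3 2) (hC : S.Cen 3 2)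
    (x : ℤ → G) (hx : Gen S 3 x) (hodd : ¬ 2 ∣ (S.Pj 0).relIndex (H0 S)) :
    (∀ k : ℤ, -3 ≤ k → k ≤ 0 → x k ∈ H0 S) ∧
    (∀ g : G, g ∈ S.Pj (-1) ⊓ S.Pj 0 ↔ g = 1 ∨ g = x (-1) ∨ g = x (-2) ∨ g = x (-1) * x (-2)) ∧
    H0 S ≤ Subgroup.normalizer ((S.Pj (-1) ⊓ S.Pj 0 : Subgroup G) : Set G) ∧
    x (-1) ≠ x (-2) ∧ x (-1) * x (-2) = x (-2) * x (-1) ∧
    x (-3) * x (-2) * (x (-3))⁻¹ = x (-2) ∧ x (-3) * x (-1) * (x (-3))⁻¹ = x (-1) * x (-2) ∧
    x 0 * x (-1) * (x 0)⁻¹ = x (-1) ∧ x 0 * x (-2) * (x 0)⁻¹ = x (-2) * x (-1) ∧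
    ∃ m : ℕ, ¬ 2 ∣ m ∧ Nat.card ↥(H0 S) = 8 * m := by
  -- membership of the generators in the `P_j`
  have hXle : ∀ k j : ℤ, k ≤ j → j ≤ k + 2 → x k ∈ S.Pj j := by
    intro k j h1 h2
    have hle : S.X 3 k ≤ S.Pj j := by
      show S.J k 2 ≤ S.Pj j
      exact S.J_le_Pj h1 (by push_cast; omega)
    exact hle (gen_mem_X hx k)
  -- cardinalities
  have hP0card : Nat.card (S.Pj 0) = 8 := by
    have h := hU.card 0 0 (by norm_num)
    rw [S.J_unfold_zero, hp2] at h
    rw [h]; norm_num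
  have hPm1card : Nat.card (S.Pj (-1)) = 8 := by
    have h := hU.card (-1) 0 (by norm_num)
    rw [S.J_unfold_zero, hp2] at h
    rw [h]; norm_num
  have hQJ : S.Pj (-1) ⊓ S.Pj 0 = S.J (-1) 1 := by
    rw [S.J_unfold_succ, S.J_unfold_zero]
    norm_num
  have hQcard : Nat.card (S.Pj (-1) ⊓ S.Pj 0 : Subgroup G) = 4 := by
    rw [hQJ, hU.card (-1) 1 (by norm_num), hp2]; norm_num
  -- x(-1) ≠ x(-2)
  have hne12 : x (-1) ≠ x (-2) := by
    intro heq
    have hmem : x (-1) ∈ S.J (-2) 3 := by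
      rw [S.mem_J]
      intro j hj1 hj2
      by_cases hj : j = -2
      · subst hj
        rw [heq]
        exact hXle (-2) (-2) (by norm_num) (by norm_num)
      · exact hXle (-1) j (by omega) (by push_cast at hj2; omega)
    rw [Cfsg.Agent.Lib.H13.Glaub.J_top_eq_bot S 3 hU (-2), Subgroup.mem_bot] at hmem
    exact hx.ne_one (-1) hmem
  have ha : x (-1) ∈ S.Pj (-1) ⊓ S.Pj 0 :=
    ⟨hXle (-1) (-1) (by norm_num) (by norm_num), hXle (-1) 0 (by norm_num) (by norm_num)⟩
  have hb : x (-2) ∈ S.Pj (-1) ⊓ S.Pj 0 :=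
    ⟨hXle (-2) (-1) (by norm_num) (by norm_num), hXle (-2) 0 (by norm_num) (by norm_num)⟩
  have hQmem : ∀ g : G, g ∈ S.Pj (-1) ⊓ S.Pj 0 ↔ g = 1 ∨ g = x (-1) ∨ g = x (-2) ∨ g = x (-1) * x (-2) :=
    fun g => mem_iff_of_card_four _ hQcard (x (-1)) (x (-2)) ha hb (hx.ne_one _) (hx.ne_one _) hne12
      (hx.sq _) g
  -- normaliser
  have hN1 : S.Pj (-1) ≤ Subgroup.normalizer ((S.Pj (-1) ⊓ S.Pj 0 : Subgroup G) : Set G) :=
    le_normalizer_of_card_two inf_le_left (by rw [hPm1card, hQcard])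
  have hN0 : S.Pj 0 ≤ Subgroup.normalizer ((S.Pj (-1) ⊓ S.Pj 0 : Subgroup G) : Set G) :=
    le_normalizer_of_card_two inf_le_right (by rw [hP0card, hQcard])
  have hN : H0 S ≤ Subgroup.normalizer ((S.Pj (-1) ⊓ S.Pj 0 : Subgroup G) : Set G) := sup_le hN1 hN0
  -- commutation
  have hc12 : x (-1) * x (-2) = x (-2) * x (-1) := gen_comm hx hD (-1) (-2) (by norm_num)
  have hc32 : x (-3) * x (-2) = x (-2) * x (-3) := gen_comm hx hD (-3) (-2) (by norm_num)
  have hc01 : x 0 * x (-1) = x (-1) * x 0 := gen_comm hx hD 0 (-1) (by norm_num)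
  have hn31 : x (-3) * x (-1) ≠ x (-1) * x (-3) := gen_ncomm hx hD (-3) (-1) (by norm_num)
  have hn20 : x (-2) * x 0 ≠ x 0 * x (-2) := gen_ncomm hx hD (-2) 0 (by norm_num)
  have h6 : x (-3) * x (-2) * (x (-3))⁻¹ = x (-2) := by rw [hc32, mul_inv_cancel_right]
  have h8 : x 0 * x (-1) * (x 0)⁻¹ = x (-1) := by rw [hc01, mul_inv_cancel_right]
  have h7 : x (-3) * x (-1) * (x (-3))⁻¹ = x (-1) * x (-2) := by
    have hmem : x (-3) * x (-1) * (x (-3))⁻¹ ∈ S.Pj (-1) ⊓ S.Pj 0 :=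
      (Subgroup.mem_normalizer_iff.1 (hN1 (hXle (-3) (-1) (by norm_num) (by norm_num))) _).1 ha
    rcases (hQmem _).1 hmem with h | h | h | h
    · exact absurd (conj_eq_one_iff.1 h) (hx.ne_one _)
    · exact absurd (mul_inv_eq_iff_eq_mul.1 h) hn31
    · exfalso
      apply hne12
      rw [← h6] at h
      exact mul_left_cancel (mul_right_cancel h)
    · exact h
  have h9 : x 0 * x (-2) * (x 0)⁻¹ = x (-2) * x (-1) := by
    have hmem : x 0 * x (-2) * (x 0)⁻¹ ∈ S.Pj (-1) ⊓ S.Pj 0 :=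
      (Subgroup.mem_normalizer_iff.1 (hN0 (hXle 0 0 (by norm_num) (by norm_num))) _).1 hb
    rcases (hQmem _).1 hmem with h | h | h | h
    · exact absurd (conj_eq_one_iff.1 h) (hx.ne_one _)
    · exfalso
      apply hne12
      rw [← h8] at h
      exact (mul_left_cancel (mul_right_cancel h)).symm
    · exact absurd (mul_inv_eq_iff_eq_mul.1 h).symm hn20
    · rw [h, hc12]
  refine ⟨?_, hQmem, hN, hne12, hc12, h6, h7, h8, h9, ?_⟩
  · intro k hk1 hk2
    by_cases hk : k ≤ -1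
    · exact Pj_neg_one_le_H0 S (hXle k (-1) hk (by omega))
    · exact Pj_zero_le_H0 S (hXle k 0 (by omega) (by omega))
  · refine ⟨(S.Pj 0).relIndex (H0 S), hodd, ?_⟩
    have h1 := Subgroup.card_mul_index ((S.Pj 0).subgroupOf (H0 S))
    have h2 : Nat.card ((S.Pj 0).subgroupOf (H0 S)) = Nat.card (S.Pj 0) :=
      Nat.card_congr (Subgroup.subgroupOfEquivOfLe (Pj_zero_le_H0 S)).toEquiv
    rw [h2, hP0card] at h1
    exact h1.symm

end Cfsg.Agent.Lib.H10.G85
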