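import Cfsg.Agent.Lib.H1.G85.Defs
import Cfsg.Agent.Lib.H5.Glaub.Main

/-!
S4385 piece (GEN): generators of the subgroups `X_k` of order 2, shifted by `h`.
-/
set_option autoImplicit false
open scoped Pointwise
open Cfsg.Agent.Lib.H5.Glaub Cfsg.Agent.Lib.H5.Glaub.Setup Cfsg.Agent.Lib.H1.G85
namespace Cfsg.Agent.Lib.H10.G85

variable {G : Type*} [Group G] [Finite G]

/-- a subgroup of order 2 is generated by an involution -/
theorem exists_invol_of_card_two {K : Type*} [Group K] (X : Subgroup K) (hX : Nat.card X = 2) :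
    ∃ x0 : K, x0 ≠ 1 ∧ x0 * x0 = 1 ∧ X = Subgroup.zpowers x0 := by
  have hfin : Finite X := Nat.finite_of_card_ne_zero (by rw [hX]; norm_num)
  have hne : X ≠ ⊥ := by
    intro h
    rw [h, Subgroup.card_bot] at hX
    norm_num at hX
  obtain ⟨x0, hx0, hx01⟩ : ∃ x0 : K, x0 ∈ X ∧ x0 ≠ 1 := by
    obtain ⟨a, ha⟩ := (Subgroup.ne_bot_iff_exists_ne_one).mp hne
    exact ⟨(a : K), a.2, fun h => ha (Subtype.ext h)⟩
  have hle : Subgroup.zpowers x0 ≤ X := (Subgroup.zpowers_le).mpr hx0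
  have hdvd : Nat.card (Subgroup.zpowers x0) ∣ 2 := by
    rw [← hX]
    exact Subgroup.card_dvd_of_le hle
  have hcard : Nat.card (Subgroup.zpowers x0) = 2 := by
    rcases (Nat.dvd_prime Nat.prime_two).mp hdvd with h1 | h2
    · exfalso
      rw [Nat.card_zpowers, orderOf_eq_one_iff] at h1
      exact hx01 h1
    · exact h2
  have ho : orderOf x0 = 2 := by rw [← Nat.card_zpowers]; exact hcard
  refine ⟨x0, hx01, ?_, ?_⟩
  · have := pow_orderOf_eq_one x0
    rw [ho, pow_two] at this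
    exact this
  · symm
    apply Subgroup.eq_of_le_of_card_ge hle
    rw [hX, hcard]

theorem conj_smul_zpowers {K : Type*} [Group K] (g a : K) :
    MulAut.conj g • Subgroup.zpowers a = Subgroup.zpowers (g * a * g⁻¹) := by
  ext y
  rw [mem_conj_smul, Subgroup.mem_zpowers_iff, Subgroup.mem_zpowers_iff]
  constructor
  · rintro ⟨n, hn⟩
    refine ⟨n, ?_⟩
    rw [conj_zpow, hn]
    group
  · rintro ⟨n, hn⟩
    refine ⟨n, ?_⟩
    rw [← hn, conj_zpow]
    group

/-- (GEN) generators of the `X_k`. -/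
theorem exists_gen (S : Setup G) (hp2 : S.p = 2) (t : ℕ) (hU : S.Uni t) : ∃ x : ℤ → G, Gen S t x := by
  have hc : Nat.card (S.X t 0) = 2 := by rw [card_X S t hU 0, hp2]
  obtain ⟨x0, hx01, hx0sq, hX0⟩ := exists_invol_of_card_two (S.X t 0) hc
  refine ⟨fun k => S.h ^ k * x0 * (S.h ^ k)⁻¹, ?_, ?_, ?_, ?_⟩
  · intro k
    have h1 := S.conj_X t k 0
    rw [add_zero] at h1
    rw [← h1, hX0, conj_smul_zpowers]
  · intro k hk
    apply hx01
    have : x0 = (S.h ^ k)⁻¹ * (S.h ^ k * x0 * (S.h ^ k)⁻¹) * S.h ^ k := by group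
    rw [this, hk]
    group
  · intro k
    have : S.h ^ k * x0 * (S.h ^ k)⁻¹ * (S.h ^ k * x0 * (S.h ^ k)⁻¹)
        = S.h ^ k * (x0 * x0) * (S.h ^ k)⁻¹ := by group
    rw [this, hx0sq]
    group
  · intro k
    show S.h ^ (k + 1) * x0 * (S.h ^ (k + 1))⁻¹ = S.h * (S.h ^ k * x0 * (S.h ^ k)⁻¹) * S.h⁻¹
    rw [add_comm k 1, zpow_one_add, mul_inv_rev]
    group

end Cfsg.Agent.Lib.H10.G85
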