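import Mathlib
import Cfsg.Agent.Lib.H17.GHDefs

/-!
# S4402 piece G0 (helper10): every Sylow 2-subgroup of `S_8` is isomorphic to the tree group
-/

set_option autoImplicit false
set_option linter.dupNamespace false

namespace Cfsg.Agent.Lib.H10.GH

open Subgroup Cfsg.Agent.Lib.H17.GH Cfsg.Agent.Lib.H14.A8Sylow

/-- G0. Every Sylow 2-subgroup of `S_8` is isomorphic to the tree group `A8Sylow.T`. -/
theorem sylow_equiv_tree (T' : Sylow 2 (Equiv.Perm (Fin 8))) :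
    Nonempty (↥(T' : Subgroup (Equiv.Perm (Fin 8))) ≃* ↥T) := by
  obtain ⟨g, hg⟩ := MulAction.exists_smul_eq (Equiv.Perm (Fin 8)) T' TS
  have e1 : ↥(T' : Subgroup (Equiv.Perm (Fin 8))) ≃* ↥((g • T' : Sylow 2 (Equiv.Perm (Fin 8))) :
      Subgroup (Equiv.Perm (Fin 8))) := Sylow.equivSMul T' g
  have h2 : ((g • T' : Sylow 2 (Equiv.Perm (Fin 8))) : Subgroup (Equiv.Perm (Fin 8))) = T := by
    rw [hg]
    rfl
  exact ⟨e1.trans (MulEquiv.subgroupCongr h2)⟩

end Cfsg.Agent.Lib.H10.GH
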