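import Mathlib
import Cfsg.Agent.Lib.H17.GHDefs

/-!
# S4402 piece K8 (helper10): the derived subgroup of the tree group is not of exponent 2
-/

set_option autoImplicit false
set_option linter.dupNamespace false

namespace Cfsg.Agent.Lib.H10.GH

open Subgroup Cfsg.Agent.Lib.H17.GH Cfsg.Agent.Lib.H14.A8Sylow

theorem hsw_mem_T_k8 : hsw ∈ T := by
  rw [mem_T]
  decide

theorem lsw_mul_qsw_mem_T_k8 : lsw 0 * qsw 0 ∈ T := by
  rw [mem_T]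
  decide

theorem comm_sq_ne_one_k8 :
    (hsw * (lsw 0 * qsw 0) * hsw⁻¹ * (lsw 0 * qsw 0)⁻¹) ^ 2 ≠ 1 := by
  intro H
  rw [pow_two] at H
  have h0 : ((hsw * (lsw 0 * qsw 0) * hsw⁻¹ * (lsw 0 * qsw 0)⁻¹) *
      (hsw * (lsw 0 * qsw 0) * hsw⁻¹ * (lsw 0 * qsw 0)⁻¹)) 0 = (1 : Equiv.Perm (Fin 8)) 0 := by
    rw [H]
  revert h0
  set_option maxRecDepth 100000 in
  decide

/-- K8 (concrete). The derived subgroup of the tree group is not of exponent 2. -/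
theorem exists_comm_sq_ne_one : ∃ g h : ↥T, (g * h * g⁻¹ * h⁻¹) ^ 2 ≠ 1 := by
  refine ⟨⟨hsw, hsw_mem_T_k8⟩, ⟨lsw 0 * qsw 0, lsw_mul_qsw_mem_T_k8⟩, ?_⟩
  intro H
  have H' := congrArg Subtype.val H
  exact comm_sq_ne_one_k8 H'

end Cfsg.Agent.Lib.H10.GH
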