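import Mathlib
import Cfsg.Agent.Lib.H17.GHDefs
import Cfsg.Agent.Lib.H10.GHK8

/-!
# S4402 piece N6b (helper10): commutators of `N_S(P)` cannot all lie in `As`
-/

set_option autoImplicit false
set_option linter.dupNamespace false

namespace Cfsg.Agent.Lib.H10.GH

open Subgroup Cfsg.Agent.Lib.H17.GH Cfsg.Agent.Lib.H14.A8Sylow

/-- N6b. If all commutators of `N_S(P)` lie in `As`, their squares lie in `Z0 = {1, z}` (`D.As_sq`), so the
derived subgroup of `N_S(P) / Z0 ≅ T` has exponent 2, against K8. -/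
theorem false_of_comm_mem_As {S : Type*} [Group S] {P : Subgroup S} (D : Data P) (Z0 : Subgroup S)
    (hZ0 : ∀ y : S, y ∈ Z0 ↔ (y = 1 ∨ y = D.z))
    [hn : (Z0.subgroupOf (normalizer (P : Set S))).Normal]
    (Φ : ↥(normalizer (P : Set S)) ⧸ Z0.subgroupOf (normalizer (P : Set S)) ≃* ↥T)
    (hcomm : ∀ g ∈ normalizer (P : Set S), ∀ h ∈ normalizer (P : Set S),
      g * h * g⁻¹ * h⁻¹ ∈ D.As) : False := by
  obtain ⟨g, h, hgh⟩ := exists_comm_sq_ne_one
  obtain ⟨a', ha'⟩ := Φ.surjective g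
  obtain ⟨b', hb'⟩ := Φ.surjective h
  obtain ⟨a, rfl⟩ := QuotientGroup.mk_surjective a'
  obtain ⟨b, rfl⟩ := QuotientGroup.mk_surjective b'
  apply hgh
  have hmem : ((a * b * a⁻¹ * b⁻¹ : ↥(normalizer (P : Set S))) : S) ∈ D.As := by
    have := hcomm a a.2 b b.2
    simpa using this
  have hsq : ((a * b * a⁻¹ * b⁻¹) ^ 2 : ↥(normalizer (P : Set S))) ∈
      Z0.subgroupOf (normalizer (P : Set S)) := by
    rw [Subgroup.mem_subgroupOf, hZ0]
    rw [pow_two]
    exact D.As_sq _ hmem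
  have hq : (QuotientGroup.mk ((a * b * a⁻¹ * b⁻¹) ^ 2) :
      ↥(normalizer (P : Set S)) ⧸ Z0.subgroupOf (normalizer (P : Set S))) = 1 :=
    (QuotientGroup.eq_one_iff _).2 hsq
  rw [← ha', ← hb']
  rw [← map_inv, ← map_inv, ← map_mul, ← map_mul, ← map_mul, ← map_pow]
  rw [← QuotientGroup.mk_inv, ← QuotientGroup.mk_inv, ← QuotientGroup.mk_mul, ← QuotientGroup.mk_mul,
    ← QuotientGroup.mk_mul, ← QuotientGroup.mk_pow, hq, map_one]

end Cfsg.Agent.Lib.H10.GH
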