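import Mathlib
import Cfsg.Agent.Lib.H17.GHDefs

/-!
# S4402 piece TR (helper10): transport of `Data` along an isomorphism of the subgroups
-/

set_option autoImplicit false
set_option linter.dupNamespace false

namespace Cfsg.Agent.Lib.H10.GH

open Subgroup Cfsg.Agent.Lib.H17.GH

section TR

variable {S S' : Type*} [Group S] [Group S'] {P : Subgroup S} {P' : Subgroup S'} (e : ↥P ≃* ↥P')

/-- the embedding `P' → S` with image `P` -/
def trPsi : ↥P' →* S := P.subtype.comp e.symm.toMonoidHom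

theorem trPsi_inj : Function.Injective (trPsi e) := by
  intro a b h
  apply e.symm.injective
  exact Subtype.ext h

theorem trPsi_mem (y : ↥P') : trPsi e y ∈ P := (e.symm y).2

theorem exists_trPsi_eq {x : S} (hx : x ∈ P) : ∃ y : ↥P', trPsi e y = x :=
  ⟨e ⟨x, hx⟩, by simp [trPsi]⟩

theorem trPsi_eq_iff {a b : ↥P'} : trPsi e a = trPsi e b ↔ (a : S') = (b : S') := by
  rw [(trPsi_inj e).eq_iff, Subtype.ext_iff]

theorem trPsi_eq_one_iff {a : ↥P'} : trPsi e a = 1 ↔ (a : S') = 1 := by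
  rw [← map_one (trPsi e), trPsi_eq_iff]
  rfl

/-- transported subgroup -/
def trPull (H' : Subgroup S') : Subgroup S := (H'.subgroupOf P').map (trPsi e)

theorem mem_trPull {H' : Subgroup S'} {x : S} :
    x ∈ trPull e H' ↔ ∃ y : ↥P', (y : S') ∈ H' ∧ trPsi e y = x := by
  simp only [trPull, Subgroup.mem_map, Subgroup.mem_subgroupOf]

theorem trPsi_mem_trPull {H' : Subgroup S'} {y : ↥P'} :
    trPsi e y ∈ trPull e H' ↔ (y : S') ∈ H' := by
  rw [mem_trPull]
  constructor
  · rintro ⟨y2, h, h2⟩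
    rwa [← trPsi_inj e h2]
  · intro h
    exact ⟨y, h, rfl⟩

theorem trPull_le (H' : Subgroup S') : trPull e H' ≤ P := by
  intro x hx
  obtain ⟨y, -, rfl⟩ := (mem_trPull e).1 hx
  exact trPsi_mem e y

theorem card_trPull {H' : Subgroup S'} (h : H' ≤ P') : Nat.card (trPull e H') = Nat.card H' := by
  rw [trPull, Subgroup.card_map_of_injective (trPsi_inj e)]
  exact Nat.card_congr (Subgroup.subgroupOfEquivOfLe h).toEquiv

/-- transported set -/
def trSet (X' : Set S') : Set S := {x | ∃ y : ↥P', (y : S') ∈ X' ∧ trPsi e y = x}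

theorem trPsi_mem_trSet {X' : Set S'} {y : ↥P'} : trPsi e y ∈ trSet e X' ↔ (y : S') ∈ X' := by
  constructor
  · rintro ⟨y2, h, h2⟩
    rwa [← trPsi_inj e h2]
  · intro h
    exact ⟨y, h, rfl⟩

theorem ncard_trSet {X' : Set S'} (h : X' ⊆ (P' : Set S')) : (trSet e X').ncard = X'.ncard := by
  have h1 : trSet e X' = (trPsi e) '' ((fun y : ↥P' => (y : S')) ⁻¹' X') := by
    ext x
    simp only [trSet, Set.mem_ofPred_eq, Set.mem_image, Set.mem_preimage]
  have h2 : X' = (fun y : ↥P' => (y : S')) '' ((fun y : ↥P' => (y : S')) ⁻¹' X') := by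
    ext x
    simp only [Set.mem_image, Set.mem_preimage]
    constructor
    · intro hx
      exact ⟨⟨x, h hx⟩, hx, rfl⟩
    · rintro ⟨y, hy, rfl⟩
      exact hy
  rw [h1, Set.ncard_image_of_injective _ (trPsi_inj e)]
  conv_rhs => rw [h2]
  rw [Set.ncard_image_of_injective _ Subtype.val_injective]

theorem closure_trSet {X' : Set S'} (h : X' ⊆ (P' : Set S')) :
    Subgroup.closure (trSet e X') = trPull e (Subgroup.closure X') := by
  have h1 : trSet e X' = (trPsi e) '' ((fun y : ↥P' => (y : S')) ⁻¹' X') := by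
    ext x
    simp only [trSet, Set.mem_ofPred_eq, Set.mem_image, Set.mem_preimage]
  have h3 : (Subgroup.closure X').subgroupOf P' =
      Subgroup.closure ((fun y : ↥P' => (y : S')) ⁻¹' X') := by
    apply Subgroup.map_injective (Subgroup.subtype_injective P')
    rw [Subgroup.subgroupOf, Subgroup.map_comap_eq, MonoidHom.map_closure]
    have h4 : (P'.subtype) '' ((fun y : ↥P' => (y : S')) ⁻¹' X') = X' := by
      ext x
      simp only [Set.mem_image, Set.mem_preimage]
      constructor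
      · rintro ⟨y, hy, rfl⟩
        exact hy
      · intro hx
        exact ⟨⟨x, h hx⟩, hx, rfl⟩
    rw [h4, Subgroup.range_subtype]
    apply inf_of_le_right
    exact (Subgroup.closure_le P').2 h
  rw [h1, trPull, h3, MonoidHom.map_closure]

end TR

/-- TR. Transport of the data along an isomorphism of the subgroups. -/
noncomputable def Data.ofEquiv {S S' : Type*} [Group S] [Group S'] {P : Subgroup S} {P' : Subgroup S'}
    (e : ↥P ≃* ↥P') (D' : Data P') : Data P where
  z := trPsi e ⟨D'.z, D'.z_mem⟩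
  A1 := trPull e D'.A1
  A2 := trPull e D'.A2
  As := trPull e D'.As
  Om := trSet e D'.Om
  card_P := by
    rw [Nat.card_congr e.toEquiv]
    exact D'.card_P
  z_mem := trPsi_mem e _
  z_ne := by
    rw [Ne, trPsi_eq_one_iff]
    exact D'.z_ne
  z_sq := by
    rw [← map_mul, trPsi_eq_one_iff]
    exact D'.z_sq
  center_iff := by
    intro x hx
    obtain ⟨y, rfl⟩ := exists_trPsi_eq e hx
    have key := D'.center_iff (y : S') y.2
    have h1 : (∀ w ∈ P, trPsi e y * w = w * trPsi e y) ↔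
        (∀ w' ∈ P', (y : S') * w' = w' * (y : S')) := by
      constructor
      · intro h w' hw'
        have := h (trPsi e ⟨w', hw'⟩) (trPsi_mem e _)
        rw [← map_mul, ← map_mul, trPsi_eq_iff] at this
        exact this
      · intro h w hw
        obtain ⟨v, rfl⟩ := exists_trPsi_eq e hw
        rw [← map_mul, ← map_mul, trPsi_eq_iff]
        exact h (v : S') v.2
    rw [h1, key, trPsi_eq_one_iff, trPsi_eq_iff]
  A1_le := trPull_le e _
  A2_le := trPull_le e _
  A1_conj := by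
    intro g hg a ha
    obtain ⟨y, rfl⟩ := exists_trPsi_eq e hg
    obtain ⟨b, hb, rfl⟩ := (mem_trPull e).1 ha
    rw [← map_inv, ← map_mul, ← map_mul, trPsi_mem_trPull]
    exact D'.A1_conj (y : S') y.2 (b : S') hb
  A2_conj := by
    intro g hg a ha
    obtain ⟨y, rfl⟩ := exists_trPsi_eq e hg
    obtain ⟨b, hb, rfl⟩ := (mem_trPull e).1 ha
    rw [← map_inv, ← map_mul, ← map_mul, trPsi_mem_trPull]
    exact D'.A2_conj (y : S') y.2 (b : S') hb
  A1_sq := by
    intro a ha
    obtain ⟨b, hb, rfl⟩ := (mem_trPull e).1 ha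
    rw [← map_mul, trPsi_eq_one_iff]
    exact D'.A1_sq (b : S') hb
  A2_sq := by
    intro a ha
    obtain ⟨b, hb, rfl⟩ := (mem_trPull e).1 ha
    rw [← map_mul, trPsi_eq_one_iff]
    exact D'.A2_sq (b : S') hb
  A1_card := by
    rw [card_trPull e D'.A1_le]
    exact D'.A1_card
  A2_card := by
    rw [card_trPull e D'.A2_le]
    exact D'.A2_card
  A1_ne_A2 := by
    intro h
    apply D'.A1_ne_A2
    ext a
    constructor
    · intro ha
      have h1 : trPsi e ⟨a, D'.A1_le ha⟩ ∈ trPull e D'.A1 := (trPsi_mem_trPull e).2 ha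
      rw [h] at h1
      exact (trPsi_mem_trPull e).1 h1
    · intro ha
      have h1 : trPsi e ⟨a, D'.A2_le ha⟩ ∈ trPull e D'.A2 := (trPsi_mem_trPull e).2 ha
      rw [← h] at h1
      exact (trPsi_mem_trPull e).1 h1
  good := by
    intro x hx hxx hcomm
    obtain ⟨y, rfl⟩ := exists_trPsi_eq e hx
    rw [trPsi_mem_trPull, trPsi_mem_trPull]
    apply D'.good (y : S') y.2
    · rw [← map_mul, trPsi_eq_one_iff] at hxx
      exact hxx
    · intro g' hg'
      have := hcomm (trPsi e ⟨g', hg'⟩) (trPsi_mem e _)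
      rw [← map_inv, ← map_mul, ← map_mul, ← map_mul, ← map_mul, trPsi_eq_iff] at this
      exact this
  Om_iff := by
    intro x
    constructor
    · intro hx
      obtain ⟨y, hy, rfl⟩ := hx
      obtain ⟨h1, h2, h3⟩ := (D'.Om_iff (y : S')).1 hy
      refine ⟨trPsi_mem e y, ?_, ?_⟩
      · rw [← map_mul, trPsi_eq_one_iff]
        exact h2
      · rintro ⟨a, ha, b, hb, hab⟩
        obtain ⟨a', ha', rfl⟩ := (mem_trPull e).1 ha
        obtain ⟨b', hb', rfl⟩ := (mem_trPull e).1 hb
        rw [← map_mul, trPsi_eq_iff] at hab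
        exact h3 ⟨(a' : S'), ha', (b' : S'), hb', hab⟩
    · rintro ⟨hxP, hxx, hno⟩
      obtain ⟨y, rfl⟩ := exists_trPsi_eq e hxP
      rw [trPsi_mem_trSet]
      rw [D'.Om_iff]
      refine ⟨y.2, ?_, ?_⟩
      · rw [← map_mul, trPsi_eq_one_iff] at hxx
        exact hxx
      · rintro ⟨a, ha, b, hb, hab⟩
        apply hno
        refine ⟨trPsi e ⟨a, D'.A1_le ha⟩, (trPsi_mem_trPull e).2 ha,
          trPsi e ⟨b, D'.A2_le hb⟩, (trPsi_mem_trPull e).2 hb, ?_⟩
        rw [← map_mul, trPsi_eq_iff]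
        exact hab
  Om_card := by
    rw [ncard_trSet e (fun x hx => ((D'.Om_iff x).1 hx).1)]
    exact D'.Om_card
  As_eq := by
    rw [closure_trSet e (fun x hx => ((D'.Om_iff x).1 hx).1), ← D'.As_eq]
  As_card := by
    have hle : D'.As ≤ P' := by
      rw [D'.As_eq]
      exact (Subgroup.closure_le P').2 (fun x hx => ((D'.Om_iff x).1 hx).1)
    rw [card_trPull e hle]
    exact D'.As_card
  z_mem_As := (trPsi_mem_trPull e).2 D'.z_mem_As
  As_sq := by
    intro a ha
    obtain ⟨b, hb, rfl⟩ := (mem_trPull e).1 ha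
    rw [← map_mul, trPsi_eq_one_iff, trPsi_eq_iff]
    exact D'.As_sq (b : S') hb
  As_comm := by
    intro a ha b hb
    obtain ⟨a', ha', rfl⟩ := (mem_trPull e).1 ha
    obtain ⟨b', hb', rfl⟩ := (mem_trPull e).1 hb
    rw [← map_mul, ← map_mul, ← map_mul, trPsi_eq_iff, trPsi_eq_iff]
    exact D'.As_comm (a' : S') ha' (b' : S') hb'
  cent_Om := by
    intro y hy hc
    obtain ⟨y', rfl⟩ := exists_trPsi_eq e hy
    rw [trPsi_eq_one_iff, trPsi_eq_iff]
    apply D'.cent_Om (y' : S') y'.2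
    intro x hx
    have hxP : x ∈ P' := ((D'.Om_iff x).1 hx).1
    have := hc (trPsi e ⟨x, hxP⟩) ((trPsi_mem_trSet e).2 hx)
    rw [← map_mul, ← map_mul, trPsi_eq_iff] at this
    exact this
  prod := by
    intro p hp
    obtain ⟨p', rfl⟩ := exists_trPsi_eq e hp
    have hle : D'.As ≤ P' := by
      rw [D'.As_eq]
      exact (Subgroup.closure_le P').2 (fun x hx => ((D'.Om_iff x).1 hx).1)
    obtain ⟨a, ha, b, hb, c, hc, habc⟩ := D'.prod (p' : S') p'.2
    refine ⟨trPsi e ⟨a, D'.A1_le ha⟩, (trPsi_mem_trPull e).2 ha,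
      trPsi e ⟨b, D'.A2_le hb⟩, (trPsi_mem_trPull e).2 hb,
      trPsi e ⟨c, hle hc⟩, (trPsi_mem_trPull e).2 hc, ?_⟩
    rw [← map_mul, ← map_mul, trPsi_eq_iff]
    exact habc
  A1_idx := by
    intro a ha a' ha' hna hna'
    obtain ⟨b, hb, rfl⟩ := (mem_trPull e).1 ha
    obtain ⟨b', hb', rfl⟩ := (mem_trPull e).1 ha'
    rw [trPsi_mem_trPull] at hna hna'
    rw [← map_inv, ← map_mul, trPsi_mem_trPull]
    exact D'.A1_idx (b : S') hb (b' : S') hb' hna hna'
  A2_idx := by
    intro a ha a' ha' hna hna'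
    obtain ⟨b, hb, rfl⟩ := (mem_trPull e).1 ha
    obtain ⟨b', hb', rfl⟩ := (mem_trPull e).1 ha'
    rw [trPsi_mem_trPull] at hna hna'
    rw [← map_inv, ← map_mul, trPsi_mem_trPull]
    exact D'.A2_idx (b : S') hb (b' : S') hb' hna hna'
  comm_P := by
    intro p hp q hq
    obtain ⟨p', rfl⟩ := exists_trPsi_eq e hp
    obtain ⟨q', rfl⟩ := exists_trPsi_eq e hq
    rw [← map_inv, ← map_inv, ← map_mul, ← map_mul, ← map_mul, trPsi_mem_trPull]
    exact D'.comm_P (p' : S') p'.2 (q' : S') q'.2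

end Cfsg.Agent.Lib.H10.GH
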