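import Mathlib
import Cfsg.Agent.Lib.H6.RootGrpPair
import Cfsg.Agent.Lib.H11.Subf1

/-!
# Subfield subgroups of `SL_n(F)` (part A): rational vectors, transvections in a subgroup
-/

set_option autoImplicit false
set_option linter.unusedSectionVars false
set_option linter.unusedVariables false

namespace Cfsg.Agent.Lib.H10.Sf

open Matrix Cfsg.Agent.Lib.H6.TransvCent Cfsg.Agent.Lib.H6.TransvSL

variable {F : Type*} [Field F] {n : ℕ}


/-- a vector with entries in the subfield -/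
def IsRat (F₀ : Subfield F) (v : Fin n → F) : Prop := ∀ i, v i ∈ F₀

variable {F₀ : Subfield F}

theorem IsRat.add {u v : Fin n → F} (hu : IsRat F₀ u) (hv : IsRat F₀ v) : IsRat F₀ (u + v) :=
  fun i => F₀.add_mem (hu i) (hv i)

theorem IsRat.sub {u v : Fin n → F} (hu : IsRat F₀ u) (hv : IsRat F₀ v) : IsRat F₀ (u - v) :=
  fun i => F₀.sub_mem (hu i) (hv i)

theorem IsRat.neg {u : Fin n → F} (hu : IsRat F₀ u) : IsRat F₀ (-u) :=
  fun i => F₀.neg_mem (hu i)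

theorem IsRat.smul {u : Fin n → F} (hu : IsRat F₀ u) {c : F} (hc : c ∈ F₀) : IsRat F₀ (c • u) :=
  fun i => F₀.mul_mem hc (hu i)

theorem IsRat.zero : IsRat F₀ (0 : Fin n → F) := fun _ => F₀.zero_mem

theorem IsRat.single (i : Fin n) {c : F} (hc : c ∈ F₀) : IsRat F₀ (Pi.single i c) := by
  intro k
  by_cases h : k = i
  · subst h; rw [Pi.single_eq_same]; exact hc
  · rw [Pi.single_eq_of_ne h]; exact F₀.zero_mem

theorem IsRat.dot {u v : Fin n → F} (hu : IsRat F₀ u) (hv : IsRat F₀ v) : u ⬝ᵥ v ∈ F₀ :=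
  F₀.sum_mem fun i _ => F₀.mul_mem (hu i) (hv i)

/-- the rational lift of a rational vector -/
def lift (v : Fin n → F) (hv : IsRat F₀ v) : Fin n → F₀ := fun i => ⟨v i, hv i⟩

theorem coe_lift (v : Fin n → F) (hv : IsRat F₀ v) (i : Fin n) : ((lift v hv i : F₀) : F) = v i := rfl

theorem lift_ne_zero {v : Fin n → F} (hv : IsRat F₀ v) (h0 : v ≠ 0) : lift v hv ≠ 0 := by
  intro h
  apply h0
  ext i
  have := congrFun h i
  have h2 : ((lift v hv i : F₀) : F) = ((0 : F₀) : F) := by rw [this]; rfl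
  exact h2

/-- the subfield subgroup inside `SL` -/
def KK (n : ℕ) (F₀ : Subfield F) : Subgroup (Matrix.SpecialLinearGroup (Fin n) F) :=
  (Cfsg.Geo.subfieldSubgroup F₀ (1 : GL (Fin n) F)).comap
    (Matrix.SpecialLinearGroup.toGL : (Matrix.SpecialLinearGroup (Fin n) F) →* GL (Fin n) F)

theorem mem_KK (y : (Matrix.SpecialLinearGroup (Fin n) F)) :
    y ∈ KK n F₀ ↔ ∃ c : F, c ≠ 0 ∧ ∀ i j, c * (y : Matrix (Fin n) (Fin n) F) i j ∈ F₀ :=
  Cfsg.Agent.Lib.H11.Subf.mem_comap_subfield_iff y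

theorem mem_KK_of_rat {y : (Matrix.SpecialLinearGroup (Fin n) F)} (h : ∀ i j, (y : Matrix (Fin n) (Fin n) F) i j ∈ F₀) :
    y ∈ KK n F₀ := by
  rw [mem_KK]
  exact ⟨1, one_ne_zero, fun i j => by rw [one_mul]; exact h i j⟩

theorem map_mem_KK (g : Matrix.SpecialLinearGroup (Fin n) F₀) :
    Matrix.SpecialLinearGroup.map (F₀.subtype : F₀ →+* F) g ∈ KK n F₀ := by
  apply mem_KK_of_rat
  intro i j
  exact (g.1 i j).2

theorem mk_mem_KK {v φ : Fin n → F} (hv : IsRat F₀ v) (hφ : IsRat F₀ φ) (h : φ ⬝ᵥ v = 0) :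
    mk v φ h ∈ KK n F₀ := by
  apply mem_KK_of_rat
  intro i j
  show (1 + vecMulVec v φ : Matrix (Fin n) (Fin n) F) i j ∈ F₀
  rw [Matrix.add_apply, vecMulVec_apply]
  refine F₀.add_mem ?_ (F₀.mul_mem (hv i) (hφ j))
  by_cases hij : i = j
  · subst hij; rw [Matrix.one_apply_eq]; exact F₀.one_mem
  · rw [Matrix.one_apply_ne hij]; exact F₀.zero_mem

/-- `1 + v φᵀ` lies in `H` -/
def Tv (H : Subgroup (Matrix.SpecialLinearGroup (Fin n) F)) (v φ : Fin n → F) : Prop :=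
  ∃ t ∈ H, (t : (Matrix.SpecialLinearGroup (Fin n) F)).1 = 1 + vecMulVec v φ

variable {H : Subgroup (Matrix.SpecialLinearGroup (Fin n) F)}

theorem Tv.dot {v φ : Fin n → F} (h : Tv H v φ) : φ ⬝ᵥ v = 0 := by
  obtain ⟨t, -, ht⟩ := h
  exact dot_eq_zero_of_val ht

theorem tv_of_mk {v φ : Fin n → F} (h : φ ⬝ᵥ v = 0) (hm : mk v φ h ∈ H) : Tv H v φ :=
  ⟨_, hm, rfl⟩

theorem Tv.mk_mem {v φ : Fin n → F} (h : Tv H v φ) : mk v φ h.dot ∈ H := by
  obtain ⟨t, ht, hv⟩ := h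
  have : t = mk v φ (dot_eq_zero_of_val hv) := Subtype.ext (by rw [hv, mk_val])
  rw [← this]; exact ht

theorem Tv.conj {v φ : Fin n → F} (h : Tv H v φ) {g : (Matrix.SpecialLinearGroup (Fin n) F)} (hg : g ∈ H) :
    Tv H (g.1 *ᵥ v) (φ ᵥ* (g⁻¹).1) := by
  obtain ⟨t, ht, hv⟩ := h
  exact ⟨g * t * g⁻¹, H.mul_mem (H.mul_mem hg ht) (H.inv_mem hg), val_conj hv g⟩

theorem Tv.neg {v φ : Fin n → F} (h : Tv H v φ) : Tv H (-v) φ := by
  obtain ⟨t, ht, hv⟩ := h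
  exact ⟨t⁻¹, H.inv_mem ht, val_inv_of_val hv⟩

theorem Tv.add {v v' φ : Fin n → F} (h : Tv H v φ) (h' : Tv H v' φ) : Tv H (v + v') φ := by
  have hd := h'.dot
  obtain ⟨t, ht, hv⟩ := h
  obtain ⟨t', ht', hv'⟩ := h'
  refine ⟨t * t', H.mul_mem ht ht', ?_⟩
  rw [val_mul', hv, hv', one_add_mul_one_add, hd, zero_smul, vecMulVec_zero, add_zero,
    add_vecMulVec, add_assoc]

theorem Tv.add_right {v φ φ' : Fin n → F} (h : Tv H v φ) (h' : Tv H v φ') : Tv H v (φ + φ') := by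
  have hd := h'.dot
  obtain ⟨t, ht, hv⟩ := h
  obtain ⟨t', ht', hv'⟩ := h'
  refine ⟨t' * t, H.mul_mem ht' ht, ?_⟩
  rw [val_mul', hv, hv', one_add_mul_one_add, hd, zero_smul, vecMulVec_zero, add_zero,
    vecMulVec_add, add_assoc, add_comm (vecMulVec v φ') (vecMulVec v φ)]

theorem Tv.zero (H : Subgroup (Matrix.SpecialLinearGroup (Fin n) F)) (φ : Fin n → F) : Tv H 0 φ :=
  ⟨1, H.one_mem, by rw [zero_vecMulVec, add_zero]; rfl⟩

theorem Tv.congr {v φ v' φ' : Fin n → F} (h : Tv H v φ) (e : vecMulVec v φ = vecMulVec v' φ') :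
    Tv H v' φ' := by
  obtain ⟨t, ht, hv⟩ := h
  exact ⟨t, ht, by rw [hv, e]⟩

theorem Tv.smul_swap {v φ : Fin n → F} {c : F} (h : Tv H (c • v) φ) : Tv H v (c • φ) :=
  h.congr (by rw [smul_vecMulVec, vecMulVec_smul])

theorem Tv.smul_swap' {v φ : Fin n → F} {c : F} (h : Tv H v (c • φ)) : Tv H (c • v) φ :=
  h.congr (by rw [smul_vecMulVec, vecMulVec_smul])

/-- commutator, case `ψ(v) = 0` -/
theorem Tv.comm_beta {v φ w ψ : Fin n → F} (h : Tv H v φ) (h' : Tv H w ψ) (hβ : ψ ⬝ᵥ v = 0) :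
    Tv H ((φ ⬝ᵥ w) • v) ψ := by
  have hd := h.dot
  have hd' := h'.dot
  obtain ⟨a, ha, hav⟩ := h
  obtain ⟨b, hb, hbv⟩ := h'
  refine ⟨a * b * a⁻¹ * b⁻¹, H.mul_mem (H.mul_mem (H.mul_mem ha hb) (H.inv_mem ha)) (H.inv_mem hb), ?_⟩
  have := Cfsg.Agent.Lib.H6.RootGrp.comm_val_beta hd hd' hβ (a := a) (b := b) (c := 1) (d := 1)
    (by rw [one_smul, hav]) (by rw [one_smul, hbv])
  rw [this, one_mul, one_mul, smul_vecMulVec]

/-- commutator, case `φ(w) = 0` -/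
theorem Tv.comm_alpha {v φ w ψ : Fin n → F} (h : Tv H v φ) (h' : Tv H w ψ) (hα : φ ⬝ᵥ w = 0) :
    Tv H ((-(ψ ⬝ᵥ v)) • w) φ := by
  have hd := h.dot
  have hd' := h'.dot
  obtain ⟨a, ha, hav⟩ := h
  obtain ⟨b, hb, hbv⟩ := h'
  refine ⟨a * b * a⁻¹ * b⁻¹, H.mul_mem (H.mul_mem (H.mul_mem ha hb) (H.inv_mem ha)) (H.inv_mem hb), ?_⟩
  have := Cfsg.Agent.Lib.H6.RootGrp.comm_val_alpha hd hd' hα (a := a) (b := b) (c := 1) (d := 1)
    (by rw [one_smul, hav]) (by rw [one_smul, hbv])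
  rw [this, one_mul, one_mul, smul_vecMulVec]

/-- rational transvections lie in every overgroup of `KK` -/
theorem tv_rat (hKH : KK n F₀ ≤ H) {v φ : Fin n → F} (hv : IsRat F₀ v) (hφ : IsRat F₀ φ)
    (h : φ ⬝ᵥ v = 0) : Tv H v φ :=
  tv_of_mk h (hKH (mk_mem_KK hv hφ h))

end Cfsg.Agent.Lib.H10.Sf
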