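import Mathlib
import Cfsg.Agent.Lib.H10.SfA
import Cfsg.Agent.Lib.H2.SLGen

/-!
# Subfield subgroups of `SL_n(F)` (part B): the coefficient subalgebra of an overgroup
-/

set_option autoImplicit false
set_option linter.unusedSectionVars false
set_option linter.unusedVariables false

namespace Cfsg.Agent.Lib.H10.Sf

open Matrix Cfsg.Agent.Lib.H6.TransvCent Cfsg.Agent.Lib.H6.TransvSL

variable {F : Type*} [Field F] {n : ℕ} {F₀ : Subfield F}
variable {H : Subgroup (Matrix.SpecialLinearGroup (Fin n) F)}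

/-- the standard basis vector -/
def ee (i : Fin n) : Fin n → F := Pi.single i 1

theorem ee_dot (i : Fin n) (v : Fin n → F) : ee i ⬝ᵥ v = v i := by
  unfold ee; rw [single_dotProduct, one_mul]

theorem dot_ee (i : Fin n) (v : Fin n → F) : v ⬝ᵥ ee i = v i := by
  unfold ee; rw [dotProduct_single, mul_one]

theorem ee_apply_same (i : Fin n) : (ee i : Fin n → F) i = 1 := by
  unfold ee; rw [Pi.single_eq_same]

theorem ee_apply_ne {i j : Fin n} (h : j ≠ i) : (ee i : Fin n → F) j = 0 := by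
  unfold ee; rw [Pi.single_eq_of_ne h]

theorem ee_rat (i : Fin n) : IsRat F₀ (ee i : Fin n → F) := IsRat.single i F₀.one_mem

theorem ee_ne_zero (i : Fin n) : (ee i : Fin n → F) ≠ 0 := by
  intro h
  have := congrFun h i
  rw [ee_apply_same] at this
  exact one_ne_zero this

/-- `1 + c E_ij ∈ H` -/
def TvE (H : Subgroup (Matrix.SpecialLinearGroup (Fin n) F)) (i j : Fin n) (c : F) : Prop :=
  Tv H (c • ee i) (ee j)

theorem tvE_rat (hKH : KK n F₀ ≤ H) {i j : Fin n} (hij : i ≠ j) {c : F} (hc : c ∈ F₀) :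
    TvE H i j c := by
  apply tv_rat hKH ((ee_rat i).smul hc) (ee_rat j)
  rw [ee_dot, Pi.smul_apply, ee_apply_ne (Ne.symm hij), smul_zero]

/-- change the second index -/
theorem tvE_snd (hKH : KK n F₀ ≤ H) {i j k : Fin n} (hij : i ≠ j) (hik : i ≠ k) (hjk : j ≠ k)
    {c : F} (h : TvE H i j c) : TvE H i k c := by
  have h' : Tv H (ee j) (ee k) := by
    have := tvE_rat hKH hjk F₀.one_mem (H := H)
    unfold TvE at this
    rwa [one_smul] at this
  have := Tv.comm_beta h h' (by rw [ee_dot, Pi.smul_apply, ee_apply_ne (Ne.symm hik), smul_zero])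
  rw [ee_dot, ee_apply_same, one_smul] at this
  exact this

/-- change the first index -/
theorem tvE_fst (hKH : KK n F₀ ≤ H) {i j k : Fin n} (hij : i ≠ j) (hik : i ≠ k) (hjk : j ≠ k)
    {c : F} (h : TvE H j k c) : TvE H i k c := by
  have h' : Tv H (ee i) (ee j) := by
    have := tvE_rat hKH hij F₀.one_mem (H := H)
    unfold TvE at this
    rwa [one_smul] at this
  have := Tv.comm_beta h' h (by rw [ee_dot, ee_apply_ne (Ne.symm hik)])
  rw [ee_dot, Pi.smul_apply, ee_apply_same, smul_eq_mul, mul_one] at this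
  exact this

/-- products -/
theorem tvE_mul {i j k : Fin n} (hij : i ≠ j) (hik : i ≠ k) (hjk : j ≠ k)
    {c d : F} (h : TvE H i j c) (h' : TvE H j k d) : TvE H i k (c * d) := by
  have := Tv.comm_beta h h' (by rw [ee_dot, Pi.smul_apply, ee_apply_ne (Ne.symm hik), smul_zero])
  rw [ee_dot, Pi.smul_apply, ee_apply_same, smul_eq_mul, mul_one, smul_smul, mul_comm] at this
  exact this

theorem exists_ne_ne (hn : 3 ≤ n) (i k : Fin n) : ∃ m : Fin n, m ≠ i ∧ m ≠ k := by
  by_contra hcon
  push Not at hcon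
  have hsub : (Finset.univ : Finset (Fin n)) ⊆ {i, k} := by
    intro m _
    by_cases h : m = i
    · simp [h]
    · simp [hcon m h]
  have := Finset.card_le_card hsub
  rw [Finset.card_univ, Fintype.card_fin] at this
  have h2 : ({i, k} : Finset (Fin n)).card ≤ 2 := Finset.card_le_two
  omega

/-- the coefficient set does not depend on the position -/
theorem tvE_indep (hKH : KK n F₀ ≤ H) (hn : 3 ≤ n) {i j k l : Fin n} (hij : i ≠ j) (hkl : k ≠ l)
    {c : F} (h : TvE H i j c) : TvE H k l c := by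
  -- first a helper: move the second index to any `l ≠ i`
  have snd : ∀ {a b b' : Fin n}, a ≠ b → a ≠ b' → TvE H a b c → TvE H a b' c := by
    intro a b b' hab hab' hh
    by_cases hbb : b = b'
    · rw [← hbb]; exact hh
    · exact tvE_snd hKH hab hab' hbb hh
  have fst : ∀ {a a' b : Fin n}, a ≠ b → a' ≠ b → TvE H a b c → TvE H a' b c := by
    intro a a' b hab hab' hh
    by_cases haa : a = a'
    · rw [← haa]; exact hh
    · exact tvE_fst hKH (Ne.symm haa) hab' hab hh
  by_cases hli : l = i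
  · obtain ⟨m, hmi, hmk⟩ := exists_ne_ne hn i k
    have h1 : TvE H i m c := snd hij (Ne.symm hmi) h
    have h2 : TvE H k m c := fst (Ne.symm hmi) (Ne.symm hmk) h1
    exact snd (Ne.symm hmk) hkl h2
  · have h1 : TvE H i l c := snd hij (Ne.symm hli) h
    exact fst (Ne.symm hli) hkl h1

section alg

variable (F₀ H)

/-- the coefficient subalgebra -/
def Lam (hKH : KK n F₀ ≤ H) (hn : 3 ≤ n) : Subalgebra F₀ F where
  carrier := {c | TvE H (⟨0, by omega⟩ : Fin n) ⟨1, by omega⟩ c}
  mul_mem' := by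
    intro c d hc hd
    have h01 : (⟨0, by omega⟩ : Fin n) ≠ ⟨1, by omega⟩ := by
      intro h; simp [Fin.ext_iff] at h
    have h02 : (⟨0, by omega⟩ : Fin n) ≠ ⟨2, by omega⟩ := by
      intro h; simp [Fin.ext_iff] at h
    have h12 : (⟨1, by omega⟩ : Fin n) ≠ ⟨2, by omega⟩ := by
      intro h; simp [Fin.ext_iff] at h
    have hd' : TvE H (⟨1, by omega⟩ : Fin n) ⟨2, by omega⟩ d := tvE_indep hKH hn h01 h12 hd
    exact tvE_indep hKH hn h02 h01 (tvE_mul h01 h02 h12 hc hd')
  add_mem' := by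
    intro c d hc hd
    show Tv H ((c + d) • ee _) (ee _)
    rw [add_smul]
    exact Tv.add hc hd
  algebraMap_mem' := by
    intro c
    have h01 : (⟨0, by omega⟩ : Fin n) ≠ ⟨1, by omega⟩ := by
      intro h; simp [Fin.ext_iff] at h
    exact tvE_rat hKH h01 c.2

end alg

theorem mem_Lam (hKH : KK n F₀ ≤ H) (hn : 3 ≤ n) (c : F) :
    c ∈ Lam F₀ H hKH hn ↔ TvE H (⟨0, by omega⟩ : Fin n) ⟨1, by omega⟩ c := Iff.rfl

theorem finrank_eq [Fintype F] {r : ℕ} (hcard : Fintype.card F = Nat.card F₀ ^ r) :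
    Module.finrank F₀ F = r := by
  have h1 := Module.natCard_eq_pow_finrank (K := F₀) (V := F)
  rw [Nat.card_eq_fintype_card, hcard] at h1
  have h2 : 2 ≤ Nat.card F₀ := by
    have : 1 < Nat.card F₀ := Finite.one_lt_card
    omega
  exact (Nat.pow_right_injective h2 h1).symm

/-- the dichotomy -/
theorem Lam_dichotomy [Fintype F] (hKH : KK n F₀ ≤ H) (hn : 3 ≤ n) {r : ℕ} (hr : r.Prime)
    (hcard : Fintype.card F = Nat.card F₀ ^ r) :
    (∀ c, TvE H (⟨0, by omega⟩ : Fin n) ⟨1, by omega⟩ c → c ∈ F₀) ∨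
      (∀ c, TvE H (⟨0, by omega⟩ : Fin n) ⟨1, by omega⟩ c) := by
  have hp : (Module.finrank F₀ F).Prime := by rw [finrank_eq hcard]; exact hr
  have := Subalgebra.isSimpleOrder_of_finrank_prime F₀ F hp
  rcases this.eq_bot_or_eq_top (Lam F₀ H hKH hn) with h | h
  · left
    intro c hc
    have : c ∈ Lam F₀ H hKH hn := hc
    rw [h, Algebra.mem_bot] at this
    obtain ⟨x, rfl⟩ := this
    exact x.2
  · right
    intro c
    have : c ∈ Lam F₀ H hKH hn := by rw [h]; exact Algebra.mem_top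
    exact this

/-- if all elementary transvections lie in `H` then `H = ⊤` -/
theorem eq_top_of_all (hKH : KK n F₀ ≤ H) (hn : 3 ≤ n)
    (h : ∀ c, TvE H (⟨0, by omega⟩ : Fin n) ⟨1, by omega⟩ c) : H = ⊤ := by
  haveI : Nontrivial (Fin n) := ⟨⟨⟨0, by omega⟩, ⟨1, by omega⟩, by intro h; simp [Fin.ext_iff] at h⟩⟩
  have h01 : (⟨0, by omega⟩ : Fin n) ≠ ⟨1, by omega⟩ := by
    intro h; simp [Fin.ext_iff] at h
  rw [eq_top_iff]
  intro A _
  refine Cfsg.Agent.Lib.H2.SL_transvection_induction (fun A => A ∈ H) ?_ ?_ A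
  · intro i j hij c
    have h1 : TvE H i j c := tvE_indep hKH hn h01 hij (h c)
    obtain ⟨t, ht, htv⟩ := h1
    have : t = SpecialLinearGroup.transvection hij c := by
      apply Subtype.ext
      rw [htv]
      show _ = Matrix.transvection i j c
      rw [transvection_eq]
      rfl
    rw [← this]; exact ht
  · intro A B hA hB
    exact H.mul_mem hA hB

end Cfsg.Agent.Lib.H10.Sf
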