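import Mathlib
import Cfsg.Agent.Lib.H10.SfB

/-!
# Subfield subgroups of `SL_n(F)` (part C): rational root elements, the two rationality lemmas
-/

set_option autoImplicit false
set_option linter.unusedSectionVars false
set_option linter.unusedVariables false

namespace Cfsg.Agent.Lib.H10.Sf

open Matrix Cfsg.Agent.Lib.H6.TransvCent Cfsg.Agent.Lib.H6.TransvSL

variable {F : Type*} [Field F] {n : ℕ} {F₀ : Subfield F}
variable {H : Subgroup (Matrix.SpecialLinearGroup (Fin n) F)}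

theorem mk_mulVec (v φ : Fin n → F) (h : φ ⬝ᵥ v = 0) (x : Fin n → F) :
    (mk v φ h).1 *ᵥ x = x + (φ ⬝ᵥ x) • v := by
  rw [mk_val, Matrix.add_mulVec, Matrix.one_mulVec, vecMulVec_mulVec, op_smul_eq_smul]

theorem vecMul_mk (v φ : Fin n → F) (h : φ ⬝ᵥ v = 0) (x : Fin n → F) :
    x ᵥ* (mk v φ h).1 = x + (x ⬝ᵥ v) • φ := by
  rw [mk_val, Matrix.vecMul_add, Matrix.vecMul_one, vecMul_vecMulVec]

theorem mk_inv (v φ : Fin n → F) (h : φ ⬝ᵥ v = 0) :
    (mk v φ h)⁻¹ = mk (-v) φ (by rw [dotProduct_neg, h, neg_zero]) := by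
  apply Subtype.ext
  rw [val_inv_of_val (mk_val v φ h), mk_val]

/-- the coercion of a vector over the subfield -/
def co (v : Fin n → F₀) : Fin n → F := fun i => (v i : F)

theorem co_rat (v : Fin n → F₀) : IsRat F₀ (co v) := fun i => (v i).2

theorem co_lift (v : Fin n → F) (hv : IsRat F₀ v) : co (lift v hv) = v := rfl

theorem co_dot (u v : Fin n → F₀) : co u ⬝ᵥ co v = ((u ⬝ᵥ v : F₀) : F) := by
  unfold co dotProduct
  push_cast
  rfl

theorem map_mulVec (g : Matrix.SpecialLinearGroup (Fin n) F₀) (v : Fin n → F₀) :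
    (Matrix.SpecialLinearGroup.map (F₀.subtype : F₀ →+* F) g).1 *ᵥ co v = co (g.1 *ᵥ v) := by
  ext i
  unfold co
  simp only [Matrix.mulVec, dotProduct]
  push_cast
  rfl

theorem vecMul_map (g : Matrix.SpecialLinearGroup (Fin n) F₀) (v : Fin n → F₀) :
    co v ᵥ* (Matrix.SpecialLinearGroup.map (F₀.subtype : F₀ →+* F) g).1 = co (v ᵥ* g.1) := by
  ext i
  unfold co
  simp only [Matrix.vecMul, dotProduct]
  push_cast
  rfl

theorem co_ee (i : Fin n) : co (ee i : Fin n → F₀) = (ee i : Fin n → F) := by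
  ext k
  unfold co ee
  by_cases h : k = i
  · subst h; simp
  · simp [Pi.single_eq_of_ne h]

/-- rational incident pairs are conjugate to the standard one under rational elements -/
theorem exists_rat_map (hn : 3 ≤ n) {v φ : Fin n → F} (hv : IsRat F₀ v) (hφ : IsRat F₀ φ)
    (hv0 : v ≠ 0) (hφ0 : φ ≠ 0) (h : φ ⬝ᵥ v = 0) {i j : Fin n} (hij : i ≠ j) :
    ∃ g : Matrix.SpecialLinearGroup (Fin n) F, g ∈ KK n F₀ ∧ g.1 *ᵥ v = ee i ∧ ee j ᵥ* g.1 = φ := by
  have h0 : lift φ hφ ⬝ᵥ lift v hv = 0 := by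
    have := co_dot (lift φ hφ) (lift v hv)
    rw [co_lift, co_lift, h] at this
    exact_mod_cast this.symm
  have h0' : (ee j : Fin n → F₀) ⬝ᵥ ee i = 0 := by
    rw [ee_dot, ee_apply_ne (Ne.symm hij)]
  obtain ⟨g₀, hg1, hg2⟩ := exists_sl_map (by rw [Fintype.card_fin]; exact hn)
    (lift_ne_zero hv hv0) (lift_ne_zero hφ hφ0) (ee_ne_zero i) (ee_ne_zero j) h0 h0'
  refine ⟨Matrix.SpecialLinearGroup.map (F₀.subtype : F₀ →+* F) g₀, map_mem_KK g₀, ?_, ?_⟩
  · have := map_mulVec g₀ (lift v hv)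
    rw [co_lift, hg1, co_ee] at this
    exact this
  · have := vecMul_map g₀ (ee j)
    rw [co_ee, hg2, co_lift] at this
    exact this

section hyp

variable (hKH : KK n F₀ ≤ H) (hn : 3 ≤ n)
  (hL : ∀ c, TvE H (⟨0, by omega⟩ : Fin n) ⟨1, by omega⟩ c → c ∈ F₀)
include hKH hn hL

/-- coefficients of rational root elements in `H` are rational -/
theorem coeff_mem {v φ : Fin n → F} (hv : IsRat F₀ v) (hφ : IsRat F₀ φ)
    (hv0 : v ≠ 0) (hφ0 : φ ≠ 0) (h : φ ⬝ᵥ v = 0) {c : F} (hc : Tv H (c • v) φ) : c ∈ F₀ := by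
  have h01 : (⟨0, by omega⟩ : Fin n) ≠ ⟨1, by omega⟩ := by
    intro h; simp [Fin.ext_iff] at h
  obtain ⟨g, hgK, hg1, hg2⟩ := exists_rat_map hn hv hφ hv0 hφ0 h h01
  have := hc.conj (hKH hgK)
  apply hL
  unfold TvE
  rw [Matrix.mulVec_smul, hg1] at this
  have e : φ ᵥ* (g⁻¹).1 = ee (⟨1, by omega⟩ : Fin n) := by
    rw [← hg2, vecMul_vecMul, val_mul_inv, vecMul_one]
  rw [e] at this
  exact this

omit hKH hL in
/-- two indices different from a given one -/
theorem exists_two_ne (i : Fin n) : ∃ a b : Fin n, a ≠ i ∧ b ≠ i ∧ a ≠ b := by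
  obtain ⟨a, ha, -⟩ := exists_ne_ne hn i i
  obtain ⟨b, hb, hba⟩ := exists_ne_ne hn i a
  exact ⟨a, b, ha, hb, Ne.symm hba⟩

omit hKH hL in
/-- a non-zero rational vector orthogonal to `f` with vanishing `i`-th coordinate -/
theorem exists_perp (f : Fin n → F) (hf : IsRat F₀ f) (i : Fin n) :
    ∃ u : Fin n → F, IsRat F₀ u ∧ u ≠ 0 ∧ u i = 0 ∧ f ⬝ᵥ u = 0 := by
  obtain ⟨a, b, ha, hb, hab⟩ := exists_two_ne hn i
  by_cases hfa : f a = 0
  · refine ⟨ee a, ee_rat a, ee_ne_zero a, ee_apply_ne (Ne.symm ha), ?_⟩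
    rw [dot_ee, hfa]
  · refine ⟨f b • ee a - f a • ee b, ((ee_rat a).smul (hf b)).sub ((ee_rat b).smul (hf a)), ?_, ?_, ?_⟩
    · intro h0
      have := congrFun h0 b
      simp only [Pi.sub_apply, Pi.smul_apply, smul_eq_mul, Pi.zero_apply] at this
      rw [ee_apply_ne (Ne.symm hab), ee_apply_same] at this
      apply hfa
      simpa using this
    · simp only [Pi.sub_apply, Pi.smul_apply, smul_eq_mul]
      rw [ee_apply_ne (Ne.symm ha), ee_apply_ne (Ne.symm hb)]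
      ring
    · rw [dotProduct_sub, dotProduct_smul, dotProduct_smul, dot_ee, dot_ee]
      simp only [smul_eq_mul]
      ring

/-- **first rationality lemma**: `1 + y fᵀ ∈ H` with `f` rational forces `y` rational -/
theorem rat_left {y f : Fin n → F} (hf : IsRat F₀ f) (hf0 : f ≠ 0) (h : Tv H y f) : IsRat F₀ y := by
  intro i
  obtain ⟨u, hu, hu0, hui, hfu⟩ := exists_perp hn f hf i
  have hd : ee i ⬝ᵥ u = 0 := by rw [ee_dot, hui]
  have hg : mk u (ee i) hd ∈ H := hKH (mk_mem_KK hu (ee_rat i) hd)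
  have h1 := h.conj hg
  rw [mk_mulVec, mk_inv, vecMul_mk, dotProduct_neg, hfu, neg_zero, zero_smul, add_zero, ee_dot] at h1
  have h2 := h1.add h.neg
  rw [add_comm y, add_assoc, add_neg_cancel, add_zero] at h2
  exact coeff_mem hKH hn hL hu hf hu0 hf0 hfu h2

/-- **second rationality lemma**: `1 + u ψᵀ ∈ H` with `u` rational forces `ψ` rational -/
theorem rat_right {u ψ : Fin n → F} (hu : IsRat F₀ u) (hu0 : u ≠ 0) (h : Tv H u ψ) :
    IsRat F₀ ψ := by
  intro i
  obtain ⟨w, hw, hw0, hwi, huw⟩ := exists_perp hn u hu i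
  have hd : w ⬝ᵥ ee i = 0 := by rw [dot_ee, hwi]
  have hwu : w ⬝ᵥ u = 0 := by rw [dotProduct_comm]; exact huw
  have hg : mk (ee i) w hd ∈ H := hKH (mk_mem_KK (ee_rat i) hw hd)
  have h1 := h.conj hg
  rw [mk_mulVec, mk_inv, vecMul_mk, hwu, zero_smul, add_zero, dotProduct_neg, dot_ee] at h1
  have hneg : Tv H u (-ψ) := by
    have := h.neg
    rw [← neg_one_smul F u] at this
    have := this.smul_swap
    rwa [neg_one_smul] at this
  have h2 := h1.add_right hneg
  rw [add_comm ψ, add_assoc, add_neg_cancel, add_zero] at h2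
  have h3 := h2.smul_swap'
  have := coeff_mem hKH hn hL hu hw hu0 hw0 hwu h3
  have := F₀.neg_mem this
  rwa [neg_neg] at this

end hyp

end Cfsg.Agent.Lib.H10.Sf
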