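import Mathlib
import Cfsg.Agent.Lib.H4.Dickson.SL2Main
import Cfsg.Agent.Lib.H4.Dickson.SubfieldForm
import Cfsg.Agent.Lib.H5.DicksonTwo.Generic

/-!
# Subfield subgroups of `SL_n(F)` (part D): a diagonal element from Dickson's theorem
-/

set_option autoImplicit false
set_option linter.unusedSectionVars false
set_option linter.unusedVariables false

namespace Cfsg.Agent.Lib.H10.Sf

open Matrix Cfsg.Agent.Lib.H4.Dickson Cfsg.Agent.Lib.H5.DicksonTwo

variable {K : Type*} [Field K] [Finite K]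

/-- the subfield in the generic case -/
theorem exists_subfield_of_four (L : Subgroup (Matrix.SpecialLinearGroup (Fin 2) K))
    (h1 : ll (1 : K) ∈ L) {a b : K} (ha : a ≠ 0) (hb : b ≠ 0) (hab : a ≠ b) (hab' : a + b ≠ 0)
    (hA : uu a ∈ L) (hB : uu b ∈ L) :
    ∃ S : Subfield K, (∀ c : K, c ∈ S ↔ uu c ∈ L) ∧
      (Matrix.SpecialLinearGroup.map (n := Fin 2) (S.subtype : ↥S →+* K)).range ≤ L := by
  classical
  obtain ⟨p, hp⟩ := CharP.exists K
  haveI := hp
  haveI : Fact p.Prime := ⟨CharP.char_is_prime K p⟩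
  -- four elements of `AA L`
  have h4 : 4 ≤ Nat.card (AA L) := by
    have hab2 : uu (a + b) ∈ L := by rw [uu_add]; exact L.mul_mem hA hB
    let f : Fin 4 → AA L := ![⟨0, (AA L).zero_mem⟩, ⟨a, hA⟩, ⟨b, hB⟩, ⟨a + b, hab2⟩]
    have hf : Function.Injective f := by
      intro i j hij
      have hv : ((f i : AA L) : K) = (f j : AA L) := by rw [hij]
      fin_cases i <;> fin_cases j <;> simp [f] at hv <;> first
        | rfl
        | (exfalso; first
            | exact ha hv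
            | exact ha hv.symm
            | exact hb hv
            | exact hb hv.symm
            | exact hab hv
            | exact hab hv.symm
            | exact hab' hv
            | exact hab' hv.symm)
    have := Nat.card_le_card_of_injective f hf
    simpa using this
  by_cases hp2 : p = 2
  · subst hp2
    have h2 : (2 : K) = 0 := by
      have := CharP.cast_eq_zero K 2
      exact_mod_cast this
    rcases dichotomy2 h2 ha hA one_ne_zero h1 with ⟨hc, -⟩ | ⟨-, hk, hidx⟩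
    · omega
    · obtain ⟨S, hS, -, hL⟩ := generic_structure2 h2 ha hA h1 hk hidx
      exact ⟨S, hS, hL.ge⟩
  · rcases dichotomy p hp2 ha hA one_ne_zero h1 with hidx | ⟨hc, -⟩
    · obtain ⟨S, hS, -, hle, -⟩ := generic_structure p hp2 hidx ha hA h1
      exact ⟨S, hS, hle⟩
    · omega

/-- **a non-trivial diagonal element** -/
theorem exists_diag (L : Subgroup (Matrix.SpecialLinearGroup (Fin 2) K))
    (h1 : ll (1 : K) ∈ L) {a b : K} (ha : a ≠ 0) (hb : b ≠ 0) (hab : a ≠ b) (hab' : a + b ≠ 0)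
    (hA : uu a ∈ L) (hB : uu b ∈ L) :
    ∃ ζ : K, ζ ≠ 0 ∧ ζ ≠ 1 ∧ ∃ A ∈ L, (A : Matrix (Fin 2) (Fin 2) K) = !![ζ, 0; 0, ζ⁻¹] := by
  obtain ⟨S, hS, hle⟩ := exists_subfield_of_four L h1 ha hb hab hab' hA hB
  obtain ⟨ζ, hζS, hζ0, hζ1⟩ : ∃ ζ : K, ζ ∈ S ∧ ζ ≠ 0 ∧ ζ ≠ 1 := by
    by_cases ha1 : a = 1
    · refine ⟨b, (hS b).2 hB, hb, ?_⟩
      rw [← ha1]; exact Ne.symm hab
    · exact ⟨a, (hS a).2 hA, ha, ha1⟩
  refine ⟨ζ, hζ0, hζ1, ?_⟩
  let ζ' : S := ⟨ζ, hζS⟩
  have hζ'0 : ζ' ≠ 0 := by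
    intro h
    apply hζ0
    have : ((ζ' : S) : K) = ((0 : S) : K) := by rw [h]
    exact this
  let A₀ : Matrix.SpecialLinearGroup (Fin 2) S :=
    ⟨!![ζ', 0; 0, ζ'⁻¹], by rw [Matrix.det_fin_two_of]; simp [hζ'0]⟩
  refine ⟨Matrix.SpecialLinearGroup.map (n := Fin 2) (S.subtype : ↥S →+* K) A₀, hle ⟨A₀, rfl⟩, ?_⟩
  have e : ∀ i j, ((Matrix.SpecialLinearGroup.map (n := Fin 2) (S.subtype : ↥S →+* K) A₀ :
      Matrix.SpecialLinearGroup (Fin 2) K) : Matrix (Fin 2) (Fin 2) K) i j =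
      ((A₀.1 i j : S) : K) := fun i j => rfl
  ext i j
  rw [e]
  fin_cases i <;> fin_cases j <;> simp [A₀, ζ']

end Cfsg.Agent.Lib.H10.Sf
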