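import Mathlib
import Cfsg.Agent.Lib.H24.OSfC

/-!
# Unitary-type field-extension subgroups of `Ω(Q)` (part A): the `J`-structure and the sets `W_a`

`J` is a generator of a quadratic field `K = F[J]` of similitudes of `Q` (`J² = tJ - N`,
`Q (J v) = N Q v`, `⟨v, J v⟩ = t Q v`).  For a subgroup `H` and a singular vector `a`,
`InW Q H a y` says that the whole root group `c ↦ sg a (c y)` lies in `H`.
-/

set_option autoImplicit false
set_option linter.unusedSimpArgs false
set_option linter.unusedSectionVars false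
set_option linter.unusedVariables false

namespace Cfsg.Agent.Lib.H10.Gu

open Matrix Module
open Cfsg.Agent.Lib.H28 Cfsg.Agent.Lib.H11.SubspMax
open Cfsg.Agent.Lib.H11.CD Cfsg.Agent.Lib.H11.SiegelGen Cfsg.Agent.Lib.H11.OrMax
open Cfsg.Agent.Lib.H11.OmTs Cfsg.Agent.Lib.H24.OSf

variable {F : Type*} [Field F] {n : ℕ} (Q : QuadraticForm F (Fin n → F))

set_option quotPrecheck false in
local notation "P" => QuadraticMap.polar (⇑Q)

/-- `J` generates a quadratic field of similitudes of `Q`, of unitary kind -/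
structure JS (J : Matrix (Fin n) (Fin n) F) (t N : F) : Prop where
  hQ : (QuadraticMap.polarBilin Q).Nondegenerate
  hn : 13 ≤ n
  sq : ∀ x : Fin n → F, J *ᵥ (J *ᵥ x) = t • (J *ᵥ x) - N • x
  irr : ∀ l : F, l ^ 2 - t * l + N ≠ 0
  QJ : ∀ v : Fin n → F, Q (J *ᵥ v) = N * Q v
  PvJ : ∀ v : Fin n → F, P v (J *ᵥ v) = t * Q v

/-- the full root group `c ↦ sg a (c • y)` lies in `H` -/
def InW (H : Subgroup (GL (Fin n) F)) (a y : Fin n → F) : Prop :=
  P a y = 0 ∧ ∀ c : F, InH Q H a (c • y)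

/-- `H` contains the unitary transvections of the field `F[J]` -/
def HasJ (H : Subgroup (GL (Fin n) F)) (J : Matrix (Fin n) (Fin n) F) : Prop :=
  ∀ v : Fin n → F, Q v = 0 → ∀ c : F, InH Q H v (c • J *ᵥ v)

variable {Q}

section js

variable {J : Matrix (Fin n) (Fin n) F} {t N : F}

theorem JS.PJ' (S : JS Q J t N) (x y : Fin n → F) :
    P x (J *ᵥ y) + P y (J *ᵥ x) = t * P x y := by
  have h := S.PvJ (x + y)
  rw [Matrix.mulVec_add, QuadraticMap.polar_add_left, QuadraticMap.polar_add_right,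
    QuadraticMap.polar_add_right, S.PvJ x, S.PvJ y, Q_add] at h
  linear_combination h

theorem JS.PJ (S : JS Q J t N) (x y : Fin n → F) :
    P (J *ᵥ x) y = t * P x y - P x (J *ᵥ y) := by
  have h := S.PJ' x y
  rw [P_comm Q (J *ᵥ x) y]
  linear_combination h

theorem JS.PJr (S : JS Q J t N) (x y : Fin n → F) :
    P x (J *ᵥ y) = t * P x y - P (J *ᵥ x) y := by
  rw [S.PJ x y]; ring

theorem JS.PJJ (S : JS Q J t N) (x y : Fin n → F) :
    P (J *ᵥ x) (J *ᵥ y) = N * P x y := by
  have h := S.QJ (x + y)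
  rw [Matrix.mulVec_add, Q_add, Q_add, S.QJ x, S.QJ y] at h
  linear_combination h

theorem JS.norm_ne (S : JS Q J t N) {α β : F} (h : α ≠ 0 ∨ β ≠ 0) :
    α ^ 2 + t * α * β + N * β ^ 2 ≠ 0 := by
  by_cases hβ : β = 0
  · subst hβ
    have hα : α ≠ 0 := h.resolve_right (by simp)
    simpa using hα
  · intro h0
    apply S.irr (-α / β)
    field_simp
    linear_combination h0

theorem JS.Q_comb (S : JS Q J t N) (α β : F) (v : Fin n → F) :
    Q (α • v + β • J *ᵥ v) = (α ^ 2 + t * α * β + N * β ^ 2) * Q v := by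
  rw [Q_add, QuadraticMap.map_smul, QuadraticMap.map_smul, S.QJ, QuadraticMap.polar_smul_left,
    QuadraticMap.polar_smul_right, S.PvJ]
  simp only [smul_eq_mul]
  ring

theorem JS.comb_eq_zero (S : JS Q J t N) {v : Fin n → F} (hv : v ≠ 0) {α β : F}
    (h : α • v + β • J *ᵥ v = 0) : α = 0 ∧ β = 0 := by
  have hβ : β = 0 := by
    by_contra hβ
    have h1 : J *ᵥ v = (-α / β) • v := by
      have : β • J *ᵥ v = (-α) • v := by
        rw [neg_smul]; exact eq_neg_of_add_eq_zero_right h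
      rw [div_eq_inv_mul, ← smul_smul, ← this, smul_smul, inv_mul_cancel₀ hβ, one_smul]
    have h2 := S.sq v
    rw [h1, Matrix.mulVec_smul, h1, smul_smul, smul_smul] at h2
    have h3 : ((-α / β) ^ 2 - t * (-α / β) + N) • v = 0 := by
      rw [add_smul, sub_smul, pow_two, h2]; abel
    rcases smul_eq_zero.1 h3 with h4 | h4
    · exact S.irr _ h4
    · exact hv h4
  refine ⟨?_, hβ⟩
  rw [hβ, zero_smul, add_zero] at h
  exact (smul_eq_zero.1 h).resolve_right hv

theorem JS.Jne (S : JS Q J t N) {v : Fin n → F} (hv : v ≠ 0) : J *ᵥ v ≠ 0 := by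
  intro h
  have := S.comb_eq_zero hv (α := 0) (β := 1) (by rw [zero_smul, one_smul, zero_add]; exact h)
  exact one_ne_zero this.2

/-- the `K`-perp is `J`-invariant -/
theorem JS.perp_J (S : JS Q J t N) {a x : Fin n → F} (h1 : P a x = 0) (h2 : P (J *ᵥ a) x = 0) :
    P a (J *ᵥ x) = 0 ∧ P (J *ᵥ a) (J *ᵥ x) = 0 := by
  refine ⟨?_, ?_⟩
  · rw [S.PJr, h1, h2]; ring
  · rw [S.PJJ, h1]; ring

theorem JS.QJ0 (S : JS Q J t N) {v : Fin n → F} (hv : Q v = 0) : Q (J *ᵥ v) = 0 := by
  rw [S.QJ, hv, mul_zero]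

theorem JS.PvJ0 (S : JS Q J t N) {v : Fin n → F} (hv : Q v = 0) : P v (J *ᵥ v) = 0 := by
  rw [S.PvJ, hv, mul_zero]

end js

section inw

variable {H : Subgroup (GL (Fin n) F)}

theorem InW.perp {a y : Fin n → F} (h : InW Q H a y) : P a y = 0 := h.1

theorem InW.inH {a y : Fin n → F} (h : InW Q H a y) : InH Q H a y := by
  have := h.2 1
  rwa [one_smul] at this

theorem InW.add {a y y' : Fin n → F} (ha : Q a = 0) (h : InW Q H a y) (h' : InW Q H a y') :
    InW Q H a (y + y') := by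
  refine ⟨by rw [QuadraticMap.polar_add_right, h.1, h'.1, add_zero], fun c => ?_⟩
  rw [smul_add]
  exact inH_add ha (by rw [QuadraticMap.polar_smul_right, h.1, smul_zero])
    (by rw [QuadraticMap.polar_smul_right, h'.1, smul_zero]) (h.2 c) (h'.2 c)

theorem InW.smul {a y : Fin n → F} (h : InW Q H a y) (d : F) : InW Q H a (d • y) := by
  refine ⟨by rw [QuadraticMap.polar_smul_right, h.1, smul_zero], fun c => ?_⟩
  rw [smul_smul]
  exact h.2 _

theorem InW.neg {a y : Fin n → F} (h : InW Q H a y) : InW Q H a (-y) := by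
  have := h.smul (-1)
  rwa [neg_one_smul] at this

theorem InW.sub {a y y' : Fin n → F} (ha : Q a = 0) (h : InW Q H a y) (h' : InW Q H a y') :
    InW Q H a (y - y') := by
  rw [sub_eq_add_neg]
  exact h.add ha h'.neg

theorem InW.zero (a : Fin n → F) : InW Q H a 0 := by
  refine ⟨by simp, fun c => ?_⟩
  unfold InH
  rw [smul_zero, sg_zero']
  exact H.one_mem

theorem InW.self {a : Fin n → F} (ha : Q a = 0) : InW Q H a a := by
  have haa : P a a = 0 := by rw [P_self, ha, mul_zero]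
  refine ⟨haa, fun c => ?_⟩
  unfold InH
  have : sg Q a (c • a) = 1 := by
    apply el_ext
    intro x
    rw [sg_act Q a (c • a) ha (by rw [QuadraticMap.polar_smul_right, haa, smul_zero]), act_one,
      QuadraticMap.map_smul, ha, QuadraticMap.polar_smul_left]
    simp only [smul_eq_mul, mul_zero, zero_mul, zero_smul, sub_zero, smul_smul]
    rw [mul_comm]; abel
  rw [this]
  exact H.one_mem

theorem InW.conj {a y : Fin n → F} (ha : Q a = 0) (h : InW Q H a y)
    (g : ↥(Cfsg.isometryGroup F ⇑Q)) (hg : (g : GL (Fin n) F) ∈ H) :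
    InW Q H (act Q g a) (act Q g y) := by
  refine ⟨by rw [polar_act, h.1], fun c => ?_⟩
  rw [← Cfsg.Agent.Lib.H24.OSf.act_smul]
  exact inH_conj g hg ha (by rw [QuadraticMap.polar_smul_right, h.1, smul_zero]) (h.2 c)

theorem InW.swap {a b : Fin n → F} (ha : Q a = 0) (hb : Q b = 0) (h : InW Q H a b) :
    InW Q H b a := by
  refine ⟨by rw [P_comm]; exact h.1, fun c => ?_⟩
  have := inH_swap ha hb h.1 (h.2 (-c))
  rwa [neg_neg] at this

/-- the `A₂` commutator relation -/
theorem InW.comm {a a' y y' : Fin n → F} (ha : Q a = 0) (ha' : Q a' = 0) (haa' : P a a' = 0)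
    (h : InW Q H a y) (h' : InW Q H a' y') (hya' : P y a' = 0) (hy'a : P y' a = 0)
    (hyy' : P y y' ≠ 0) : InW Q H a a' := by
  refine ⟨haa', fun c => ?_⟩
  -- conjugate `sg a' y'` by `sg a (d • y)`
  obtain ⟨d, hd⟩ : ∃ d, d = -c / P y y' := ⟨_, rfl⟩
  have hay : P a (d • y) = 0 := by rw [QuadraticMap.polar_smul_right, h.1, smul_zero]
  have h1 := inH_conj (sg Q a (d • y)) (h.2 d) ha' h'.1 h'.inH
  have hga' : act Q (sg Q a (d • y)) a' = a' := by
    rw [sg_act Q a (d • y) ha hay, haa', QuadraticMap.polar_smul_left, hya']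
    simp
  have hgy' : act Q (sg Q a (d • y)) y' = y' - (d * P y y') • a := by
    rw [sg_act Q a (d • y) ha hay, P_comm Q a y', hy'a, QuadraticMap.polar_smul_left]
    simp
  rw [hga', hgy'] at h1
  have ha'a : P a' a = 0 := by rw [P_comm]; exact haa'
  have h2 : P a' (y' - (d * P y y') • a) = 0 := by
    rw [QuadraticMap.polar_sub_right, h'.1, QuadraticMap.polar_smul_right, ha'a]
    simp
  have h3 := inH_add ha' h2 (by rw [QuadraticMap.polar_neg_right, h'.1, neg_zero]) h1
    (inH_neg ha' h'.1 h'.inH)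
  have e1 : y' - (d * P y y') • a + -y' = c • a := by
    have : d * P y y' = -c := by rw [hd, div_mul_cancel₀ _ hyy']
    rw [this]; module
  rw [e1] at h3
  have h4 := inH_swap ha' ha ha'a h3
  -- `sg a ((-c) • a')`; use the inverse
  have h5 := inH_neg ha (by rw [QuadraticMap.polar_smul_right, haa', smul_zero]) h4
  have e2 : -((-c) • a') = c • a' := by module
  rwa [e2] at h5

end inw

section stab

variable {H : Subgroup (GL (Fin n) F)} {J : Matrix (Fin n) (Fin n) F} {t N : F}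

theorem HasJ.inW (S : JS Q J t N) (hJ : HasJ Q H J) {v : Fin n → F} (hv : Q v = 0) :
    InW Q H v (J *ᵥ v) :=
  ⟨S.PvJ0 hv, hJ v hv⟩

/-- the unitary transvection with centre `w` -/
theorem tv_act (S : JS Q J t N) {w : Fin n → F} (hw : Q w = 0) (x : Fin n → F) :
    act Q (sg Q w (J *ᵥ w)) x = x + P w x • J *ᵥ w - P (J *ᵥ w) x • w := by
  rw [sg_act Q w (J *ᵥ w) hw (S.PvJ0 hw), S.QJ0 hw]
  simp

/-- invariance of `W_a` under the unitary transvections fixing `a` -/
theorem InW.stab (S : JS Q J t N) (hJ : HasJ Q H J) {a w y : Fin n → F} (ha : Q a = 0)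
    (hw : Q w = 0) (hwa : P w a = 0) (hwJa : P w (J *ᵥ a) = 0) (h : InW Q H a y) :
    InW Q H a (P w y • J *ᵥ w - P (J *ᵥ w) y • w) := by
  have h1 := h.conj ha (sg Q w (J *ᵥ w)) (hJ.inW S hw).inH
  have hJwa : P (J *ᵥ w) a = 0 := by rw [S.PJ, hwa, hwJa]; ring
  rw [tv_act S hw, tv_act S hw, hwa, hJwa] at h1
  simp only [zero_smul, add_zero, sub_zero] at h1
  have h2 := h1.sub ha h
  have e : y + P w y • J *ᵥ w - P (J *ᵥ w) y • w - y = P w y • J *ᵥ w - P (J *ᵥ w) y • w := by
    abel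
  rwa [e] at h2

end stab

end Cfsg.Agent.Lib.H10.Gu
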