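import Mathlib
import Cfsg.Agent.Lib.H10.GuA
import Cfsg.Agent.Lib.H13.AschEOGen
import Cfsg.Agent.Lib.H13.AschEOB45

/-!
# Unitary-type field-extension subgroups of `Ω(Q)` (part B): the wrapper

The unitary transvections `sg v (c • J v)` normalise `K = F + F J`; an element of `Ω` outside the
normaliser of `K` conjugates `J` outside `K`; assembly of the maximality statement from the pieces
(A) `exists_bad` and (B)+(C) `omega_le`.
-/

set_option autoImplicit false
set_option linter.unusedSimpArgs false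
set_option linter.unusedSectionVars false
set_option linter.unusedVariables false

namespace Cfsg.Agent.Lib.H10.Gu

open Matrix Module
open Cfsg Cfsg.Geo
open Cfsg.Agent.Lib.H28 Cfsg.Agent.Lib.H11.SubspMax
open Cfsg.Agent.Lib.H11.CD Cfsg.Agent.Lib.H11.SiegelGen Cfsg.Agent.Lib.H11.OrMax
open Cfsg.Agent.Lib.H11.OmTs Cfsg.Agent.Lib.H24.OSf

section gen

variable {F : Type*} [Field F] {n : ℕ}

/-- an invertible matrix commuting with a subalgebra normalises it -/
theorem mem_normalizer_of_comm (K : Subalgebra F (Matrix (Fin n) (Fin n) F)) (g : GL (Fin n) F)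
    (h : ∀ k ∈ K, (g : Matrix (Fin n) (Fin n) F) * k = k * (g : Matrix (Fin n) (Fin n) F)) :
    g ∈ subalgebraNormalizer K := by
  have hinv : (g : Matrix (Fin n) (Fin n) F) * ((g⁻¹ : GL (Fin n) F) : Matrix (Fin n) (Fin n) F)
      = 1 := by rw [← Units.val_mul, mul_inv_cancel, Units.val_one]
  have hinv' : ((g⁻¹ : GL (Fin n) F) : Matrix (Fin n) (Fin n) F) * (g : Matrix (Fin n) (Fin n) F)
      = 1 := by rw [← Units.val_mul, inv_mul_cancel, Units.val_one]
  intro k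
  constructor
  · intro hk
    rw [h k hk, mul_assoc, hinv, mul_one]
    exact hk
  · intro hk'
    have h1 := h _ hk'
    -- `g * (g k g⁻¹) = (g k g⁻¹) * g = g k`
    have h2 : (g : Matrix (Fin n) (Fin n) F) * k *
        ((g⁻¹ : GL (Fin n) F) : Matrix (Fin n) (Fin n) F) * (g : Matrix (Fin n) (Fin n) F)
        = (g : Matrix (Fin n) (Fin n) F) * k := by
      rw [mul_assoc _ _ (g : Matrix (Fin n) (Fin n) F), hinv', mul_one]
    rw [h2] at h1
    have h3 : (g : Matrix (Fin n) (Fin n) F) * k *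
        ((g⁻¹ : GL (Fin n) F) : Matrix (Fin n) (Fin n) F) = k := by
      have := congrArg (fun M => ((g⁻¹ : GL (Fin n) F) : Matrix (Fin n) (Fin n) F) * M) h1
      simp only [← mul_assoc, hinv', one_mul] at this
      simpa [mul_assoc] using this
    rw [← h3]
    exact hk'

end gen

section qf

variable {F : Type*} [Field F] {n : ℕ} {Q : QuadraticForm F (Fin n → F)}
  {J : Matrix (Fin n) (Fin n) F} {t N : F}

set_option quotPrecheck false in
local notation "P" => QuadraticMap.polar (⇑Q)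

/-- the unitary transvections commute with `J` -/
theorem tv_comm (S : JS Q J t N) {v : Fin n → F} (hv : Q v = 0) (c : F) (x : Fin n → F) :
    act Q (sg Q v (c • J *ᵥ v)) (J *ᵥ x) = J *ᵥ (act Q (sg Q v (c • J *ᵥ v)) x) := by
  have h0 : P v (c • J *ᵥ v) = 0 := by
    rw [QuadraticMap.polar_smul_right, S.PvJ0 hv, smul_zero]
  have hQ0 : Q (c • J *ᵥ v) = 0 := by rw [QuadraticMap.map_smul, S.QJ0 hv, smul_zero]
  rw [sg_act Q v _ hv h0, sg_act Q v _ hv h0, hQ0]
  simp only [zero_mul, zero_smul, sub_zero, QuadraticMap.polar_smul_left, smul_eq_mul]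
  rw [S.PJJ, S.PJr v x, Matrix.mulVec_sub, Matrix.mulVec_add, Matrix.mulVec_smul,
    Matrix.mulVec_smul, Matrix.mulVec_smul, S.sq v]
  module

theorem tv_comm_mat (S : JS Q J t N) {v : Fin n → F} (hv : Q v = 0) (c : F) :
    (((sg Q v (c • J *ᵥ v) : ↥(Cfsg.isometryGroup F ⇑Q)) : GL (Fin n) F) :
      Matrix (Fin n) (Fin n) F) * J =
    J * (((sg Q v (c • J *ᵥ v) : ↥(Cfsg.isometryGroup F ⇑Q)) : GL (Fin n) F) :
      Matrix (Fin n) (Fin n) F) := by
  apply Matrix.toLin'.injective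
  apply LinearMap.ext
  intro x
  rw [Matrix.toLin'_apply, Matrix.toLin'_apply, ← Matrix.mulVec_mulVec, ← Matrix.mulVec_mulVec]
  exact tv_comm S hv c x

/-- (E) the unitary transvections normalise `K` -/
theorem sg_mem_normalizer (S : JS Q J t N) (K : Subalgebra F (Matrix (Fin n) (Fin n) F))
    (hKJ : ∀ k ∈ K, ∃ α β : F, k = α • (1 : Matrix (Fin n) (Fin n) F) + β • J)
    {v : Fin n → F} (hv : Q v = 0) (c : F) :
    ((sg Q v (c • J *ᵥ v) : ↥(Cfsg.isometryGroup F ⇑Q)) : GL (Fin n) F) ∈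
      subalgebraNormalizer K := by
  apply mem_normalizer_of_comm
  intro k hk
  obtain ⟨α, β, rfl⟩ := hKJ k hk
  rw [mul_add, add_mul, Matrix.mul_smul, Matrix.smul_mul, Matrix.mul_smul, Matrix.smul_mul,
    mul_one, one_mul, tv_comm_mat S hv c]

/-- (F) an isometry outside the normaliser of `K` conjugates `J` outside `K` (itself or its
inverse) -/
theorem exists_conj_not_mem (K : Subalgebra F (Matrix (Fin n) (Fin n) F)) (hJK : J ∈ K)
    (hKJ : ∀ k ∈ K, ∃ α β : F, k = α • (1 : Matrix (Fin n) (Fin n) F) + β • J)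
    {H : Subgroup (GL (Fin n) F)} (g : ↥(Cfsg.isometryGroup F ⇑Q))
    (hgH : (g : GL (Fin n) F) ∈ H) (hg : (g : GL (Fin n) F) ∉ subalgebraNormalizer K) :
    ∃ g₁ : ↥(Cfsg.isometryGroup F ⇑Q), (g₁ : GL (Fin n) F) ∈ H ∧
      ¬ ∃ α β : F, ((g₁ : GL (Fin n) F) : Matrix (Fin n) (Fin n) F) * J *
        (((g₁ : GL (Fin n) F)⁻¹ : GL (Fin n) F) : Matrix (Fin n) (Fin n) F) =
          α • (1 : Matrix (Fin n) (Fin n) F) + β • J := by
  have hmemK : ∀ α β : F, α • (1 : Matrix (Fin n) (Fin n) F) + β • J ∈ K := fun α β =>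
    K.add_mem (K.smul_mem K.one_mem α) (K.smul_mem hJK β)
  -- conjugation by `x` maps `K` into `K` as soon as it maps `J` into `K`
  have key : ∀ x : GL (Fin n) F,
      (∃ α β : F, (x : Matrix (Fin n) (Fin n) F) * J *
        ((x⁻¹ : GL (Fin n) F) : Matrix (Fin n) (Fin n) F) =
          α • (1 : Matrix (Fin n) (Fin n) F) + β • J) →
      ∀ k ∈ K, (x : Matrix (Fin n) (Fin n) F) * k *
        ((x⁻¹ : GL (Fin n) F) : Matrix (Fin n) (Fin n) F) ∈ K := by
    rintro x ⟨α, β, hx⟩ k hk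
    obtain ⟨a, b, rfl⟩ := hKJ k hk
    have hinv : (x : Matrix (Fin n) (Fin n) F) * ((x⁻¹ : GL (Fin n) F) : Matrix (Fin n) (Fin n) F)
        = 1 := by rw [← Units.val_mul, mul_inv_cancel, Units.val_one]
    rw [mul_add, add_mul, Matrix.mul_smul, Matrix.smul_mul, Matrix.mul_smul, Matrix.smul_mul,
      mul_one, hinv, hx]
    exact K.add_mem (K.smul_mem K.one_mem a) (K.smul_mem (hmemK α β) b)
  by_contra hcon
  push Not at hcon
  apply hg
  have h1 := key (g : GL (Fin n) F) (hcon g hgH)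
  have h2 := key ((g⁻¹ : ↥(Cfsg.isometryGroup F ⇑Q)) : GL (Fin n) F) (hcon g⁻¹ (by
    rw [Subgroup.coe_inv]; exact H.inv_mem hgH))
  intro k
  constructor
  · exact h1 k
  · intro hk
    have h3 := h2 _ hk
    rw [Subgroup.coe_inv, inv_inv] at h3
    have hinv' : (((g : GL (Fin n) F)⁻¹ : GL (Fin n) F) : Matrix (Fin n) (Fin n) F) *
        ((g : GL (Fin n) F) : Matrix (Fin n) (Fin n) F) = 1 := by
      rw [← Units.val_mul, inv_mul_cancel, Units.val_one]
    have e : (((g : GL (Fin n) F)⁻¹ : GL (Fin n) F) : Matrix (Fin n) (Fin n) F) *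
        (((g : GL (Fin n) F) : Matrix (Fin n) (Fin n) F) * k *
          (((g : GL (Fin n) F)⁻¹ : GL (Fin n) F) : Matrix (Fin n) (Fin n) F)) *
        ((g : GL (Fin n) F) : Matrix (Fin n) (Fin n) F) = k := by
      rw [← mul_assoc, ← mul_assoc, hinv', one_mul, mul_assoc, hinv', mul_one]
    rwa [e] at h3

/-- the conjugated transvections: `J' a ∈ W_a` for `J' = g J g⁻¹`, `g ∈ H` -/
theorem inW_conj_J (S : JS Q J t N) {H : Subgroup (GL (Fin n) F)} (hJ : HasJ Q H J)
    (g : ↥(Cfsg.isometryGroup F ⇑Q)) (hgH : (g : GL (Fin n) F) ∈ H) {a : Fin n → F}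
    (ha : Q a = 0) :
    InW Q H a ((((g : GL (Fin n) F) : Matrix (Fin n) (Fin n) F) * J *
        (((g : GL (Fin n) F)⁻¹ : GL (Fin n) F) : Matrix (Fin n) (Fin n) F)) *ᵥ a) := by
  have ha' : Q (act Q g⁻¹ a) = 0 := by rw [Q_act, ha]
  have h1 := (hJ.inW S ha').conj ha' g hgH
  rw [Cfsg.Agent.Lib.H11.OmegaTrans.act_inv_act] at h1
  have e : act Q g (J *ᵥ act Q g⁻¹ a) = (((g : GL (Fin n) F) : Matrix (Fin n) (Fin n) F) * J *
        (((g : GL (Fin n) F)⁻¹ : GL (Fin n) F) : Matrix (Fin n) (Fin n) F)) *ᵥ a := by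
    unfold act
    rw [Subgroup.coe_inv, Matrix.mulVec_mulVec, Matrix.mulVec_mulVec]
  rwa [e] at h1

end qf

section final

variable {F : Type*} [Field F] [Fintype F] {n : ℕ}

open Cfsg.Agent.Lib.H29.Orth Cfsg.Agent.Lib.H13.EOP2

/-- assembly: maximality of `N_Ω(K)` from the pieces (A) and (B)+(C) -/
theorem maximal_of (hn : 13 ≤ n) (Q : (Fin n → F) → F) (hQ : IsNondegenerateQuadraticForm Q)
    (K : Subalgebra F (Matrix (Fin n) (Fin n) F)) (hK : IsFieldSubalgebra 2 K)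
    {J : Matrix (Fin n) (Fin n) F} {t N : F} (hJK : J ∈ K)
    (hKJ : ∀ k ∈ K, ∃ α β : F, k = α • (1 : Matrix (Fin n) (Fin n) F) + β • J)
    (S : JS (toQF Q hQ) J t N)
    (hA : ∀ J' : Matrix (Fin n) (Fin n) F,
      (¬ ∃ α β : F, J' = α • (1 : Matrix (Fin n) (Fin n) F) + β • J) →
      ∃ a : Fin n → F, a ≠ 0 ∧ Q a = 0 ∧ ¬ ∃ α β : F, J' *ᵥ a = α • a + β • J *ᵥ a)
    (hC : ∀ H : Subgroup (GL (Fin n) F), HasJ (toQF Q hQ) H J → ∀ a y₀ : Fin n → F, Q a = 0 →
      a ≠ 0 → InW (toQF Q hQ) H a y₀ → (¬ ∃ α β : F, y₀ = α • a + β • J *ᵥ a) →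
      omegaGL Q ≤ H) :
    IsMaximalIn (omegaGL Q) (subalgebraNormalizer K ⊓ omegaGL Q) := by
  have hn7 : 7 ≤ n := by omega
  refine ⟨lt_of_le_of_ne inf_le_right ?_, ?_⟩
  · intro heq
    apply not_omegaGL_le_subalgebraNormalizer Q hQ (by simpa using hn7) 2 (le_refl 2) K hK
    rw [← heq]
    exact inf_le_left
  · intro H hNH hHO
    by_cases hHN : H = subalgebraNormalizer K ⊓ omegaGL Q
    · exact Or.inl hHN
    right
    apply le_antisymm hHO
    -- `H` contains the unitary transvections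
    have hJ : HasJ (toQF Q hQ) H J := by
      intro v hv c
      apply hNH
      refine ⟨sg_mem_normalizer S K hKJ hv c, ?_⟩
      exact sg_mem_omegaGL (toQF Q hQ) S.hQ hn7 v (c • J *ᵥ v) hv (by
        rw [QuadraticMap.polar_smul_right, S.PvJ0 hv, smul_zero])
    -- an element of `H` outside the normaliser
    obtain ⟨g, hgH, hgN⟩ : ∃ g ∈ H, g ∉ subalgebraNormalizer K ⊓ omegaGL Q := by
      by_contra hcon
      push Not at hcon
      exact hHN (le_antisymm hcon hNH)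
    have hgO : g ∈ omegaGL Q := hHO hgH
    have hgN' : g ∉ subalgebraNormalizer K := fun h => hgN ⟨h, hgO⟩
    have hgI : g ∈ Cfsg.isometryGroup F (⇑(toQF Q hQ)) :=
      omegaGL_le_isometryGroup (Q := toQF Q hQ) hgO
    obtain ⟨g₁, hg₁H, hg₁⟩ := exists_conj_not_mem (Q := toQF Q hQ) K hJK hKJ ⟨g, hgI⟩ hgH hgN'
    obtain ⟨a, ha0, hQa, hbad⟩ := hA _ hg₁
    exact hC H hJ a _ hQa ha0 (inW_conj_J S hJ g₁ hg₁H hQa) hbad

end final

end Cfsg.Agent.Lib.H10.Gu
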