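import Cfsg.Agent.Lib.H13.HSDefs

namespace Cfsg.Agent.Lib.H10.HS
open Equiv MulAction Cfsg.Agent.Lib.H13.HS
open scoped Pointwise

section Aux
variable {G : Type*} [Group G] {π : Set ℕ} {H K : Subgroup G}

theorem hall_map_loc {Q : Type*} [Group Q] (φ : G →* Q) (hφ : Function.Surjective φ)
    (hH : Cfsg.IsPiHall π H) : Cfsg.IsPiHall π (H.map φ) := by
  refine ⟨fun p hp hd => hH.1 p hp (hd.trans (Subgroup.card_map_dvd H φ)), fun p hp hpπ hd => ?_⟩
  exact hH.2 p hp hpπ (hd.trans (Subgroup.index_map_dvd H hφ))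

theorem hall_subgroupOf_loc (hH : Cfsg.IsPiHall π H) (hHK : H ≤ K) :
    Cfsg.IsPiHall π (H.subgroupOf K) := by
  refine ⟨fun p hp hd => hH.1 p hp ?_, fun p hp hpπ hd => hH.2 p hp hpπ ?_⟩
  · rwa [Nat.card_congr (Subgroup.subgroupOfEquivOfLe hHK).toEquiv] at hd
  · have h1 : H.relIndex K * K.index = H.index := Subgroup.relIndex_mul_index hHK
    exact hd.trans (Dvd.intro _ h1)

end Aux

section P2
variable {α : Type*} [Finite α] {π : Set ℕ} {H : Subgroup (Perm α)}

theorem card_stabilizer_set (s : Set α) :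
    Nat.card (stabilizer (Perm α) s) = (s.ncard).factorial * (sᶜ.ncard).factorial := by
  classical
  have h1 := DomMulAct.stabilizer_ncard (α := α) (ι := Bool) (fun a => decide (a ∈ s))
  have h2 : ((stabilizer (Perm α) s : Subgroup (Perm α)) : Set (Perm α)) =
      {g : Perm α | (fun a => decide (a ∈ s)) ∘ g = (fun a => decide (a ∈ s))} := by
    ext g
    simp only [SetLike.mem_coe, Set.mem_ofPred_eq, mem_stabilizer_set, funext_iff,
      Function.comp_apply, decide_eq_decide, Perm.smul_def]
  rw [← Nat.card_coe_set_eq] at h1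
  have h3 : Nat.card (stabilizer (Perm α) s) =
      Nat.card ({g : Perm α | (fun a => decide (a ∈ s)) ∘ g = (fun a => decide (a ∈ s))}) := by
    rw [← h2]; rfl
  rw [h3, h1]
  simp only [Fintype.prod_bool, decide_eq_true_eq, decide_eq_false_iff_not]
  rfl

theorem index_stabilizer_set (s : Set α) :
    (stabilizer (Perm α) s).index = (Nat.card α).choose s.ncard := by
  have h1 := (stabilizer (Perm α) s).card_mul_index
  rw [card_stabilizer_set, Nat.card_perm] at h1
  have h2 : sᶜ.ncard + s.ncard = Nat.card α := by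
    rw [add_comm]; exact Set.ncard_add_ncard_compl s
  have h3 := Nat.add_choose_mul_factorial_mul_factorial sᶜ.ncard s.ncard
  rw [h2] at h3
  have hpos : 0 < s.ncard.factorial * sᶜ.ncard.factorial :=
    Nat.mul_pos (Nat.factorial_pos _) (Nat.factorial_pos _)
  apply Nat.eq_of_mul_eq_mul_left hpos
  rw [h1, ← h3]; ring

theorem card_stabilizer_point (a : α) :
    Nat.card (stabilizer (Perm α) a) = (Nat.card α - 1).factorial := by
  rw [← MulAction.stabilizer_singleton, card_stabilizer_set]
  rw [Set.ncard_singleton, Nat.factorial_one, one_mul]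
  congr 1
  have := Set.ncard_add_ncard_compl ({a} : Set α)
  rw [Set.ncard_singleton] at this
  omega

theorem hall_setRes (hH : Cfsg.IsPiHall π H) {s : Set α} (hs : H ≤ stabilizer (Perm α) s) :
    Cfsg.IsPiHall π (setRes H s) := by
  unfold setRes
  exact hall_map_loc _ (Equiv.Perm.stabilizer.surjective_toPerm s) (hall_subgroupOf_loc hH hs)

theorem range_ofSubtype_ne_gen (a : α) [DecidablePred (fun x : α => x ≠ a)] :
    (Equiv.Perm.ofSubtype (p := fun x : α => x ≠ a)).range = stabilizer (Perm α) a := by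
  ext g
  constructor
  · rintro ⟨f, rfl⟩
    rw [mem_stabilizer_iff, Perm.smul_def]
    exact Equiv.Perm.ofSubtype_apply_of_not_mem f (fun h => h rfl)
  · intro hg
    rw [mem_stabilizer_iff, Perm.smul_def] at hg
    have h₁ : ∀ x, g x ≠ a ↔ x ≠ a := fun x => by
      rw [not_iff_not]
      constructor
      · intro h; exact g.injective (h.trans hg.symm)
      · intro h; rw [h, hg]
    refine ⟨g.subtypePerm h₁, ?_⟩
    apply Equiv.Perm.ofSubtype_subtypePerm
    intro x hx hxa
    exact hx (hxa ▸ hg)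

theorem range_ofSubtype_ne (a : α) :
    (@Equiv.Perm.ofSubtype α (fun x => x ≠ a) (Classical.decPred _)).range =
      stabilizer (Perm α) a :=
  @range_ofSubtype_ne_gen α _ a (Classical.decPred _)

theorem index_ptRes (htr : IsPretransitive H α) (a : α) : (ptRes H a).index = H.index := by
  have hne : Nat.card α ≠ 0 := by
    have : Nonempty α := ⟨a⟩
    exact Nat.card_pos.ne'
  set K := stabilizer (Perm α) a with hK
  have e1 : (ptRes H a).index = H.relIndex K := by
    unfold ptRes
    rw [Subgroup.index_comap, range_ofSubtype_ne]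
  have e2 : (H ⊓ K).relIndex K * K.index = (H ⊓ K).index := Subgroup.relIndex_mul_index inf_le_right
  have e3 : (H ⊓ K).relIndex H * H.index = (H ⊓ K).index := Subgroup.relIndex_mul_index inf_le_left
  rw [Subgroup.inf_relIndex_right] at e2
  rw [Subgroup.inf_relIndex_left] at e3
  have e4 : K.index = Nat.card α := MulAction.index_stabilizer_of_transitive (Perm α) a
  have e5 : K.relIndex H = Nat.card α := by
    have : K.subgroupOf H = stabilizer H a := by
      ext x; rfl
    rw [Subgroup.relIndex, this]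
    exact MulAction.index_stabilizer_of_transitive H a
  rw [e1]
  rw [e4] at e2; rw [e5] at e3
  have : H.relIndex K * Nat.card α = Nat.card α * H.index := by rw [e2, e3]
  rw [mul_comm] at this
  exact Nat.eq_of_mul_eq_mul_left (Nat.pos_of_ne_zero hne) this

theorem hall_ptRes (hH : Cfsg.IsPiHall π H) (htr : IsPretransitive H α) (a : α) :
    Cfsg.IsPiHall π (ptRes H a) := by
  refine ⟨fun p hp hd => hH.1 p hp (hd.trans ?_), fun p hp hpπ hd => hH.2 p hp hpπ ?_⟩
  · exact Subgroup.card_comap_dvd_of_injective H _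
      (@Equiv.Perm.ofSubtype_injective _ _ (Classical.decPred _))
  · rwa [index_ptRes htr a] at hd

theorem mem_iff_subtypePerm_mem_ptRes (a : α) (g : Perm α) (hg : g a = a)
    (h₁ : ∀ x, g x ≠ a ↔ x ≠ a) : g ∈ H ↔ g.subtypePerm h₁ ∈ ptRes H a := by
  unfold ptRes
  rw [Subgroup.mem_comap]
  have : @Equiv.Perm.ofSubtype α (fun x => x ≠ a) (Classical.decPred _) (g.subtypePerm h₁) = g := by
    apply @Equiv.Perm.ofSubtype_subtypePerm α (fun x => x ≠ a) (Classical.decPred _)
    intro x hx hxa
    exact hx (hxa ▸ hg)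
  rw [this]

theorem fix_ne_iff {a : α} (g : Perm α) (hg : g a = a) : ∀ x, g x ≠ a ↔ x ≠ a := fun x => by
  rw [not_iff_not]
  constructor
  · intro h; exact g.injective (h.trans hg.symm)
  · intro h; rw [h, hg]

theorem ptRes_eq_stabilizer {a : α} {b : {x : α // x ≠ a}}
    (h : ptRes H a = stabilizer (Perm {x : α // x ≠ a}) b) :
    ∀ g : Perm α, g a = a → (g ∈ H ↔ g (b : α) = b) := by
  intro g hg
  rw [mem_iff_subtypePerm_mem_ptRes a g hg (fix_ne_iff g hg), h, mem_stabilizer_iff, Perm.smul_def,
    Subtype.ext_iff]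
  rfl

theorem ptRes_eq_stabilizer_set {a : α} {t : Set {x : α // x ≠ a}}
    (h : ptRes H a = stabilizer (Perm {x : α // x ≠ a}) t) :
    ∀ g : Perm α, g a = a → (g ∈ H ↔ g • (Subtype.val '' t) = Subtype.val '' t) := by
  intro g hg
  rw [mem_iff_subtypePerm_mem_ptRes a g hg (fix_ne_iff g hg), h, ← mem_stabilizer_iff,
    mem_stabilizer_set, mem_stabilizer_set]
  constructor
  · intro hh y
    by_cases hy : y = a
    · subst hy
      rw [Perm.smul_def, hg]
    · have := hh ⟨y, hy⟩
      constructor
      · rintro ⟨z, hz, hzy⟩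
        refine ⟨⟨y, hy⟩, this.mp ?_, rfl⟩
        have e : (g.subtypePerm (fix_ne_iff g hg) : Perm {x : α // x ≠ a}) •
            (⟨y, hy⟩ : {x : α // x ≠ a}) = z := by
          apply Subtype.ext
          exact hzy.symm
        rw [e]; exact hz
      · rintro ⟨z, hz, hzy⟩
        have e : z = ⟨y, hy⟩ := Subtype.ext hzy
        rw [e] at hz
        exact ⟨_, this.mpr hz, rfl⟩
  · intro hh x
    have := hh (x : α)
    constructor
    · intro hx
      have h1 : g • (x : α) ∈ Subtype.val '' t := ⟨_, hx, rfl⟩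
      obtain ⟨z, hz, hzx⟩ := this.mp h1
      have e : z = x := Subtype.ext hzx
      rwa [e] at hz
    · intro hx
      have h1 : (x : α) ∈ Subtype.val '' t := ⟨x, hx, rfl⟩
      obtain ⟨z, hz, hzx⟩ := this.mpr h1
      have e : z = (g.subtypePerm (fix_ne_iff g hg) : Perm {x : α // x ≠ a}) • x :=
        Subtype.ext hzx
      rwa [e] at hz

end P2
end Cfsg.Agent.Lib.H10.HS
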