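import Cfsg.Agent.Lib.H4.HT.Defs
import Cfsg.Prelude.Def_CaseTheorems

/-!
# S3371 piece NC (`noncyclic_of_pair`) (helper10)
-/

set_option autoImplicit false

namespace Cfsg.Agent.Lib.H10.HT

open Cfsg Cfsg.Agent.Lib.H4.HT

variable {q : ℕ} {V : Type*} [AddCommGroup V] [Module (ZMod q) V] {G : Type*} [Group G]

/-- P12a' (M, pure group theory): such a pair generates a non-cyclic abelian subgroup. -/
theorem noncyclic_of_pair [Finite G] {p : ℕ} [Fact p.Prime] (g z : G) (hg : g ^ p = 1) (hg1 : g ≠ 1)
    (hz : z ∈ Subgroup.center G) (hz1 : z ≠ 1) (hzp : z ^ p = 1) (hgz : g ∉ Subgroup.zpowers z) :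
    ∃ B : Subgroup G, IsMulCommutative B ∧ ¬ IsCyclic B := by
  classical
  have hp : p.Prime := Fact.out
  have hzc : ∀ a : G, a * z = z * a := fun a => Subgroup.mem_center_iff.mp hz a
  refine ⟨Subgroup.closure {g, z}, Subgroup.isMulCommutative_closure ?_, ?_⟩
  · intro a ha b hb
    rcases ha with rfl | ha
    · rcases hb with rfl | hb
      · rfl
      · rw [Set.mem_singleton_iff] at hb
        rw [hb]; exact hzc a
    · rw [Set.mem_singleton_iff] at ha
      rw [ha]; exact (hzc b).symm
  · intro hcyc
    have hgB : g ∈ Subgroup.closure ({g, z} : Set G) := Subgroup.subset_closure (Or.inl rfl)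
    have hzB : z ∈ Subgroup.closure ({g, z} : Set G) := Subgroup.subset_closure (Or.inr rfl)
    let _ : Fintype ↥(Subgroup.closure ({g, z} : Set G)) := Fintype.ofFinite _
    have hle := IsCyclic.card_pow_eq_one_le (α := ↥(Subgroup.closure ({g, z} : Set G))) hp.pos
    have hoz : orderOf z = p := orderOf_eq_prime hzp hz1
    let f : ℕ → ↥(Subgroup.closure ({g, z} : Set G)) := fun i => ⟨z ^ i, Subgroup.pow_mem _ hzB i⟩
    have hinj : Set.InjOn f (Finset.range p : Set ℕ) := by
      intro i hi j hj hij
      have h1 : z ^ i = z ^ j := congrArg Subtype.val hij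
      apply pow_injOn_Iio_orderOf (x := z) _ _ h1
      · rw [hoz]; simpa using hi
      · rw [hoz]; simpa using hj
    have hcardI : ((Finset.range p).image f).card = p := by
      rw [Finset.card_image_of_injOn hinj, Finset.card_range]
    have hgnot : (⟨g, hgB⟩ : ↥(Subgroup.closure ({g, z} : Set G))) ∉ (Finset.range p).image f := by
      intro h
      obtain ⟨i, -, hi⟩ := Finset.mem_image.mp h
      apply hgz
      have : z ^ i = g := congrArg Subtype.val hi
      rw [← this]
      exact Subgroup.pow_mem _ (Subgroup.mem_zpowers z) i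
    have hsub : insert (⟨g, hgB⟩ : ↥(Subgroup.closure ({g, z} : Set G))) ((Finset.range p).image f) ⊆
        Finset.univ.filter (fun a : ↥(Subgroup.closure ({g, z} : Set G)) => a ^ p = 1) := by
      intro a ha
      rw [Finset.mem_filter]
      refine ⟨Finset.mem_univ _, ?_⟩
      rcases Finset.mem_insert.mp ha with rfl | ha
      · exact Subtype.ext hg
      · obtain ⟨i, -, rfl⟩ := Finset.mem_image.mp ha
        apply Subtype.ext
        change (z ^ i) ^ p = 1
        rw [← pow_mul, mul_comm, pow_mul, hzp, one_pow]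
    have := Finset.card_le_card hsub
    rw [Finset.card_insert_of_notMem hgnot, hcardI] at this
    omega

end Cfsg.Agent.Lib.H10.HT
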