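import Cfsg.Agent.Lib.H4.HT.Defs
import Cfsg.Prelude.Def_CaseTheorems

/-!
# S3371 piece NS (`exists_pair_of_not_semireg`) (helper10)
-/

set_option autoImplicit false

namespace Cfsg.Agent.Lib.H10.HT

open Cfsg Cfsg.Agent.Lib.H4.HT

variable {q : ℕ} {V : Type*} [AddCommGroup V] [Module (ZMod q) V] {G : Type*} [Group G]

/-- a non-identity element of a `p`-group has a power of order `p` -/
theorem exists_pow_prime_order {p : ℕ} [Fact p.Prime] (hG : IsPGroup p G) (x : G) (hx : x ≠ 1) :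
    ∃ m : ℕ, (x ^ m) ^ p = 1 ∧ x ^ m ≠ 1 := by
  have hp : p.Prime := Fact.out
  obtain ⟨k, hk⟩ := hG x
  -- choose the least `k`
  classical
  have hex : ∃ k : ℕ, x ^ p ^ k = 1 := ⟨k, hk⟩
  let k₀ := Nat.find hex
  have hk₀ : x ^ p ^ k₀ = 1 := Nat.find_spec hex
  have hk₀pos : k₀ ≠ 0 := by
    intro h0
    rw [h0, pow_zero, pow_one] at hk₀
    exact hx hk₀
  obtain ⟨j, hj⟩ := Nat.exists_eq_succ_of_ne_zero hk₀pos
  refine ⟨p ^ j, ?_, ?_⟩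
  · rw [← pow_mul, ← pow_succ]
    rw [hj] at hk₀
    exact hk₀
  · intro h
    have := Nat.find_min' hex h
    omega

/-- P12a (M). -/
theorem exists_pair_of_not_semireg [Finite G] {p : ℕ} [Fact p.Prime] (hG : IsPGroup p G)
    (ρ : G →* (V ≃ₗ[ZMod q] V)) (hc : CentFpf ρ) (hns : ¬ Semireg ρ) :
    ∃ g z : G, g ^ p = 1 ∧ g ≠ 1 ∧ z ∈ Subgroup.center G ∧ z ≠ 1 ∧ z ^ p = 1 ∧
      g ∉ Subgroup.zpowers z := by
  classical
  unfold Semireg at hns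
  obtain ⟨v, hns⟩ := not_forall.mp hns
  obtain ⟨hv, hns⟩ := Classical.not_imp.mp hns
  obtain ⟨g₀, hns⟩ := not_forall.mp hns
  obtain ⟨hg₀v, hg₀⟩ := Classical.not_imp.mp hns
  obtain ⟨m, hgp, hg1⟩ := exists_pow_prime_order hG g₀ hg₀
  have hgv : ρ (g₀ ^ m) v = v := by
    have : g₀ ^ m ∈ stab ρ v := Subgroup.pow_mem _ (mem_stab.mpr hg₀v) m
    exact mem_stab.mp this
  have hnt : Nontrivial G := ⟨⟨g₀, 1, hg₀⟩⟩
  have hcn : Nontrivial (Subgroup.center G) := hG.center_nontrivial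
  obtain ⟨z₀, hz₀⟩ := exists_ne (1 : Subgroup.center G)
  have hz₀1 : (z₀ : G) ≠ 1 := fun h => hz₀ (Subtype.ext h)
  obtain ⟨m', hzp, hz1⟩ := exists_pow_prime_order hG (z₀ : G) hz₀1
  have hzc : (z₀ : G) ^ m' ∈ Subgroup.center G := Subgroup.pow_mem _ z₀.2 m'
  refine ⟨g₀ ^ m, (z₀ : G) ^ m', hgp, hg1, hzc, hz1, hzp, ?_⟩
  intro hmem
  have hgc : g₀ ^ m ∈ Subgroup.center G := by
    obtain ⟨i, hi⟩ := Subgroup.mem_zpowers_iff.mp hmem
    rw [← hi]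
    exact Subgroup.zpow_mem _ hzc i
  exact hv (hc _ hgc hg1 v hgv)

end Cfsg.Agent.Lib.H10.HT
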