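import Mathlib
import Cfsg.Prelude.Def_ChevStructure
import Cfsg.Agent.Lib.H29.ChevGen39

/-!
# S2174 piece COMB: combinatorics of an involutive linear permutation of the roots

`π` acts linearly on the root coordinates, is an involution, and every fundamental root is either made negative or
fixed.  Then a positive root kept positive is fixed, and its coordinates vanish at the fundamental roots made negative.
-/

set_option autoImplicit false
set_option linter.unusedSectionVars false
set_option linter.unusedVariables false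

namespace Cfsg.Agent.Lib.H10.IC

open Cfsg Cfsg.Lie Matrix Cfsg.Agent.Lib.H29.Chev

variable {D : ChevalleyDatum} {fd : FD} {fx : FX} {fc : FC} {fz : FZ}

/-- the matrix of a linear permutation is read off the images of the fundamental roots -/
theorem comb_lin (C : Cert12 D fd fx fc fz) (π : ℕ → ℕ) (hlin : fd.LinP fx π) (s : ℕ) (hs : s < fd.n)
    (j : ℕ) (hj : j < fd.l) :
    fd.rcZ fx (π s) j =
      ∑ k ∈ Finset.range fd.l, fd.rcZ fx s k * fd.rcZ fx (π (fd.simples.getD k 0)) j := by
  obtain ⟨M, hM⟩ := hlin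
  rw [hM s hs j hj]
  apply Finset.sum_congr rfl
  intro k hk
  rw [Finset.mem_range] at hk
  have h1 := hM (fd.simples.getD k 0) (C.c6.c2.simple_lt k hk) j hj
  rw [Finset.sum_eq_single k] at h1
  · rw [h1, C.rcZ_simple k k hk hk, if_pos rfl]
    ring
  · intro k' hk' hne
    rw [C.rcZ_simple k k' hk (Finset.mem_range.mp hk'), if_neg (Ne.symm hne)]
    ring
  · intro h
    exact absurd (Finset.mem_range.mpr hk) h

/-- one half of `comb`: the coordinates can only decrease, and vanish at the fundamental roots made negative -/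
theorem comb_half (C : Cert12 D fd fx fc fz) (π : ℕ → ℕ) (hlin : fd.LinP fx π) (hlt : ∀ s < fd.n, π s < fd.n)
    (hJ : ∀ i < fd.l, π (fd.simples.getD i 0) < fd.n / 2 ∨ π (fd.simples.getD i 0) = fd.simples.getD i 0)
    (r : ℕ) (hr : r < fd.n) (hpos : fd.n / 2 ≤ r) (hπr : fd.n / 2 ≤ π r) (j : ℕ) (hj : j < fd.l) :
    fd.rcZ fx (π r) j ≤ fd.rcZ fx r j ∧
      (π (fd.simples.getD j 0) < fd.n / 2 → fd.rcZ fx (π r) j = 0) := by
  have hc : ∀ k < fd.l, 0 ≤ fd.rcZ fx r k := C.rcZ_nonneg r hr hpos
  have hd : 0 ≤ fd.rcZ fx (π r) j := C.rcZ_nonneg (π r) (hlt r hr) hπr j hj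
  have hsum := comb_lin C π hlin r hr j hj
  have hA : ∀ k < fd.l, k ≠ j → fd.rcZ fx (π (fd.simples.getD k 0)) j ≤ 0 := by
    intro k hk hkj
    rcases hJ k hk with h | h
    · exact C.rcZ_nonpos _ (hlt _ (C.c6.c2.simple_lt k hk)) h j hj
    · rw [h, C.rcZ_simple k j hk hj, if_neg hkj]
  constructor
  · rw [hsum]
    have hsplit : ∑ k ∈ Finset.range fd.l, fd.rcZ fx r k * fd.rcZ fx (π (fd.simples.getD k 0)) j ≤
        fd.rcZ fx r j * fd.rcZ fx (π (fd.simples.getD j 0)) j := by
      rw [← Finset.add_sum_erase _ _ (Finset.mem_range.mpr hj)]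
      have hrest : ∑ k ∈ (Finset.range fd.l).erase j,
          fd.rcZ fx r k * fd.rcZ fx (π (fd.simples.getD k 0)) j ≤ 0 := by
        apply Finset.sum_nonpos
        intro k hk
        rw [Finset.mem_erase, Finset.mem_range] at hk
        exact mul_nonpos_of_nonneg_of_nonpos (hc k hk.2) (hA k hk.2 hk.1)
      linarith
    have hAjj : fd.rcZ fx (π (fd.simples.getD j 0)) j ≤ 1 := by
      rcases hJ j hj with h | h
      · have := C.rcZ_nonpos _ (hlt _ (C.c6.c2.simple_lt j hj)) h j hj
        omega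
      · rw [h, C.rcZ_simple j j hj hj, if_pos rfl]
    have hcj := hc j hj
    nlinarith [mul_le_mul_of_nonneg_left hAjj hcj]
  · intro hneg
    have hle : fd.rcZ fx (π r) j ≤ 0 := by
      rw [hsum]
      apply Finset.sum_nonpos
      intro k hk
      rw [Finset.mem_range] at hk
      apply mul_nonpos_of_nonneg_of_nonpos (hc k hk)
      by_cases hkj : k = j
      · rw [hkj]
        exact C.rcZ_nonpos _ (hlt _ (C.c6.c2.simple_lt j hj)) hneg j hj
      · exact hA k hk hkj
    omega

/-- **COMB** (combinatorics of an involutive linear permutation with `π p_i < 0 ∨ π p_i = p_i`): a positive root kept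
positive is fixed, and its coordinates vanish at the fundamental roots made negative. -/
theorem comb (C : Cert12 D fd fx fc fz) (π : ℕ → ℕ) (hlin : fd.LinP fx π) (hlt : ∀ s < fd.n, π s < fd.n)
    (hinv : ∀ s < fd.n, π (π s) = s)
    (hJ : ∀ i < fd.l, π (fd.simples.getD i 0) < fd.n / 2 ∨ π (fd.simples.getD i 0) = fd.simples.getD i 0)
    (r : ℕ) (hr : r < fd.n) (hpos : fd.n / 2 ≤ r) (hπr : fd.n / 2 ≤ π r) :
    π r = r ∧ ∀ j < fd.l, π (fd.simples.getD j 0) < fd.n / 2 → fd.rcZ fx r j = 0 := by
  have h1 := comb_half C π hlin hlt hJ r hr hpos hπr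
  have h2 := comb_half C π hlin hlt hJ (π r) (hlt r hr) hπr (by rw [hinv r hr]; exact hpos)
  rw [hinv r hr] at h2
  have heq : ∀ j < fd.l, fd.rcZ fx (π r) j = fd.rcZ fx r j :=
    fun j hj => le_antisymm (h1 j hj).1 (h2 j hj).1
  refine ⟨?_, fun j hj hneg => ?_⟩
  · apply C.fL_inj _ _ (hlt r hr) hr
    unfold FD.fL
    congr 1
    apply List.map_congr_left
    intro j hj
    rw [heq j (List.mem_range.mp hj)]
  · rw [← heq j hj]
    exact (h1 j hj).2 hneg

end Cfsg.Agent.Lib.H10.IC
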