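import Mathlib
import Cfsg.Prelude.Def_Blocks
import Cfsg.Prelude.Def_BlockLocal
import Cfsg.Prelude.Def_BlockRank
import Cfsg.Agent.Lib.H10.BKFIB

/-!
# S4640 piece (FIB) `card_extensions`, exact signature of `tools/blueprints/S4640_sigs.lean` (helper10)
-/

set_option autoImplicit false

namespace Cfsg.Agent.Lib.H10.KK

variable {G : Type*} [Group G] [Fintype G]

/-- (FIB) the fibre of restriction over `χ₀|_N` has `|G : N|` elements -/
theorem card_extensions (N : Subgroup G) [N.Normal] [Fintype N]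
    (hab : ∀ a b : G, a * b * a⁻¹ * b⁻¹ ∈ N) (χ₀ : Cfsg.IrrCharacter G)
    (hirr : Cfsg.IsIrrCharacter N (fun n : N => (χ₀ : G → ℂ) n))
    (hno : ∀ β : G →* ℂˣ, (∀ n ∈ N, β n = 1) →
      (∀ g, (χ₀ : G → ℂ) g * ((β g : ℂˣ) : ℂ) = (χ₀ : G → ℂ) g) → β = 1) :
    Nat.card {χ : Cfsg.IrrCharacter G // ∀ n : N, (χ : G → ℂ) n = (χ₀ : G → ℂ) n} = N.index := by
  have h := Cfsg.Agent.Lib.H10.BK.card_fibre N hab Set.univ
    (⟨fun n : N => (χ₀ : G → ℂ) n, hirr⟩ : Cfsg.IrrCharacter N) χ₀ (fun _ => rfl)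
    (fun _ _ => Set.mem_univ _) hno
  rw [← h]
  exact Nat.card_congr (Equiv.subtypeEquivRight (fun χ =>
    ⟨fun hχ => ⟨Set.mem_univ _, hχ⟩, fun hχ => hχ.2⟩))

/-- (CNT) fibres of constant size give conclusion (5) -/
theorem card_eq_index_mul (N : Subgroup G) (B : Set (Cfsg.IrrCharacter G))
    (b : Set (Cfsg.IrrCharacter N))
    (h3 : ∀ χ ∈ B, ∃ θ ∈ b, ∀ n : N, (χ : G → ℂ) n = (θ : N → ℂ) n)
    (h4 : ∀ θ ∈ b, Nat.card {χ : Cfsg.IrrCharacter G //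
      χ ∈ B ∧ ∀ n : N, (χ : G → ℂ) n = (θ : N → ℂ) n} = N.index) :
    Nat.card B = N.index * Nat.card b :=
  Cfsg.Agent.Lib.H10.BK.card_eq_mul_of_fibres N B b N.index h3 h4

end Cfsg.Agent.Lib.H10.KK
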