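import Mathlib

/-!
# S4541 piece E1 (helper10): Ramanujan sum of a root of unity of 2-power order over the units of `ZMod m`.
-/

set_option autoImplicit false

namespace Cfsg.Agent.Lib.H10.KZ

theorem e1_pow_eq_of_modEq {m : ℕ} {w : ℂ} (hwm : w ^ m = 1) {a b : ℕ} (h : a ≡ b [MOD m]) :
    w ^ a = w ^ b := by
  rw [pow_eq_pow_mod a hwm, pow_eq_pow_mod b hwm]
  have h' : a % m = b % m := h
  rw [h']

theorem e1_unit_val_odd {m : ℕ} (h2m : 2 ∣ m) (k : (ZMod m)ˣ) : Odd (k : ZMod m).val := by
  have hc : Nat.gcd (k : ZMod m).val m = 1 := ZMod.val_coe_unit_coprime k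
  rcases Nat.even_or_odd (k : ZMod m).val with he | ho
  · exfalso
    have h2 : 2 ∣ Nat.gcd (k : ZMod m).val m := Nat.dvd_gcd he.two_dvd h2m
    rw [hc] at h2
    omega
  · exact ho

theorem sum_units_pow_eq (m : ℕ) [NeZero m] (w : ℂ) (hwm : w ^ m = 1) (j : ℕ)
    (hwj : w ^ (2 ^ j) = 1) :
    ∃ ε : ℤ, (∑ k : (ZMod m)ˣ, w ^ (k : ZMod m).val) = (Fintype.card (ZMod m)ˣ : ℂ) * (ε : ℂ) ∧
      (w = 1 → ε = 1) := by
  obtain ⟨i, hij, hi⟩ := (Nat.dvd_prime_pow Nat.prime_two).1 (orderOf_dvd_of_pow_eq_one hwj)
  have hom : orderOf w ∣ m := orderOf_dvd_of_pow_eq_one hwm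
  rcases Nat.lt_or_ge i 1 with h0 | h1
  · have hi0 : i = 0 := by omega
    subst hi0
    have hw1 : w = 1 := by rwa [pow_zero, orderOf_eq_one_iff] at hi
    refine ⟨1, ?_, fun _ => rfl⟩
    subst hw1
    simp
  · have h2m : 2 ∣ m := by
      refine dvd_trans ?_ hom
      rw [hi]
      exact dvd_pow_self 2 (by omega)
    have hodd : ∀ k : (ZMod m)ˣ, Odd (k : ZMod m).val := e1_unit_val_odd h2m
    have hneg : w ^ (2 ^ (i - 1)) = -1 := by
      have hsq : w ^ (2 ^ (i - 1)) * w ^ (2 ^ (i - 1)) = 1 := by
        rw [← pow_add, ← two_mul, ← pow_succ', Nat.sub_add_cancel h1, ← hi, pow_orderOf_eq_one]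
      have hne : w ^ (2 ^ (i - 1)) ≠ 1 := by
        intro h
        have hd := orderOf_dvd_of_pow_eq_one h
        rw [hi] at hd
        have hle := (Nat.pow_dvd_pow_iff_le_right (by norm_num : 1 < 2)).1 hd
        omega
      rcases mul_self_eq_one_iff.1 hsq with h | h
      · exact absurd h hne
      · exact h
    rcases Nat.lt_or_ge i 2 with hlt | h2
    · -- i = 1 : w = -1
      have hi1 : i = 1 := by omega
      subst hi1
      have hw : w = -1 := by simpa using hneg
      refine ⟨-1, ?_, ?_⟩
      · have : ∀ k : (ZMod m)ˣ, w ^ (k : ZMod m).val = -1 := by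
          intro k
          rw [hw]
          exact (hodd k).neg_one_pow
        simp [this]
      · intro h1'
        exfalso
        rw [hw] at h1'
        norm_num at h1'
    · -- i ≥ 2 : the sum vanishes
      refine ⟨0, ?_, ?_⟩
      · obtain ⟨a, m', hm'odd, hmeq⟩ := Nat.exists_eq_two_pow_mul_odd (NeZero.ne m)
        set T : ℕ := 1 + 2 ^ (i - 1) * m' with hT
        have hTodd : Odd T := by
          rw [hT]
          have : Even (2 ^ (i - 1) * m') := by
            apply Even.mul_right
            exact (Nat.even_pow' (by omega)).2 even_two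
          exact (odd_one).add_even this |> fun h => by simpa [add_comm] using h
        have hcop : Nat.Coprime T m := by
          rw [hmeq]
          apply Nat.Coprime.mul_right
          · exact Nat.Coprime.pow_right _ (Nat.coprime_two_right.2 hTodd)
          · rw [hT]
            rw [Nat.coprime_add_mul_right_left]
            exact Nat.coprime_one_left m'
        set t : (ZMod m)ˣ := ZMod.unitOfCoprime T hcop with ht
        have hwT : w ^ T = -w := by
          rw [hT, pow_add, pow_one, pow_mul, hneg, hm'odd.neg_one_pow]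
          ring
        have hre : ∑ k : (ZMod m)ˣ, w ^ (k : ZMod m).val
            = ∑ k : (ZMod m)ˣ, w ^ ((t * k : (ZMod m)ˣ) : ZMod m).val :=
          ((Group.mulLeft_bijective t).sum_comp (fun k : (ZMod m)ˣ => w ^ (k : ZMod m).val)).symm
        have hterm : ∀ k : (ZMod m)ˣ, w ^ ((t * k : (ZMod m)ˣ) : ZMod m).val
            = - w ^ (k : ZMod m).val := by
          intro k
          have hmod : ((t * k : (ZMod m)ˣ) : ZMod m).val ≡ T * (k : ZMod m).val [MOD m] := by
            rw [← ZMod.natCast_eq_natCast_iff]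
            simp [ht]
          rw [e1_pow_eq_of_modEq hwm hmod, pow_mul, hwT, neg_pow, (hodd k).neg_one_pow]
          ring
        have hS : ∑ k : (ZMod m)ˣ, w ^ (k : ZMod m).val
            = - ∑ k : (ZMod m)ˣ, w ^ (k : ZMod m).val := by
          conv_lhs => rw [hre]
          rw [← Finset.sum_neg_distrib]
          exact Finset.sum_congr rfl (fun k _ => hterm k)
        have h0 : ∑ k : (ZMod m)ˣ, w ^ (k : ZMod m).val = 0 := by
          have := hS
          linear_combination (1/2 : ℂ) * this
        rw [h0]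
        simp
      · intro h1'
        exfalso
        rw [h1', one_pow] at hneg
        norm_num at hneg

end Cfsg.Agent.Lib.H10.KZ
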