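import Mathlib
import Cfsg.Agent.Lib.H23.LSDefs
import Cfsg.Agent.Lib.H23.LSTreeBasic

/-!
# S5286 piece CONV: convexity of the orbit of the base vertex
-/

set_option autoImplicit false

namespace Cfsg.Agent.Lib.H10.LS

open Cfsg Cfsg.Agent.Lib.H23.LS

universe u v

variable {X : Type u} [DecidableEq X] {Q : Type v} [Group Q] [MulAction Q X]

theorem left_eq_aff_one (g : Amb X Q) : g.left = aff g 1 := (aff_one_right g).symm

/-- (CONV) convexity of the orbit of the base vertex. -/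
theorem conv (G : Subgroup (Amb X Q))
    (hpref : ∀ g ∈ G, ∀ n : ℕ, ∃ g' ∈ G, g'.left = FreeGroup.mk (g.left.toWord.take n))
    (g₁ g₂ : Amb X Q) (h₁ : g₁ ∈ G) (h₂ : g₂ ∈ G) (l : X × Bool)
    (hl : (g₁.left⁻¹ * g₂.left).toWord.head? = some l) :
    ∃ g' ∈ G, g'.left = g₁.left * letter l := by
  have hk : g₁⁻¹ * g₂ ∈ G := G.mul_mem (G.inv_mem h₁) h₂
  obtain ⟨g'', hg'', hleft⟩ := hpref _ hk 1
  -- the left component of `g₁⁻¹ * g₂`
  have hkl : (g₁⁻¹ * g₂).left = actAut X Q g₁.right⁻¹ (g₁.left⁻¹ * g₂.left) := by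
    rw [SemidirectProduct.mul_left, SemidirectProduct.inv_left, SemidirectProduct.inv_right, map_mul]
  have hword : (g₁⁻¹ * g₂).left.toWord.take 1 = [(g₁.right⁻¹ • l.1, l.2)] := by
    rw [hkl, toWord_actAut]
    rcases hW : (g₁.left⁻¹ * g₂.left).toWord with _ | ⟨hd, tl⟩
    · rw [hW] at hl
      simp at hl
    · rw [hW] at hl
      have : hd = l := by simpa using hl
      subst this
      simp
  rw [hword] at hleft
  refine ⟨g₁ * g'', G.mul_mem h₁ hg'', ?_⟩
  rw [SemidirectProduct.mul_left, hleft]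
  have : (FreeGroup.mk [(g₁.right⁻¹ • l.1, l.2)] : FreeGroup X) = letter (g₁.right⁻¹ • l.1, l.2) := rfl
  rw [this, actAut_letter]
  simp

end Cfsg.Agent.Lib.H10.LS
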