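import Mathlib
import Cfsg.Agent.Lib.H23.LSDefs

/-!
# S5286 piece TREEA (with local copies of the word lemmas W1, W2)

Two minimisers of the sum of squared distances to a finite family of vertices of the Cayley tree of a free group
(each minimal with respect to the first step towards the other one) are at distance at most one.
-/

set_option autoImplicit false

namespace Cfsg.Agent.Lib.H10.LS

open Cfsg Cfsg.Agent.Lib.H23.LS

universe u v

variable {X : Type u} [DecidableEq X]

/-- (W1), local copy. -/
theorem w1_toWord_letter_inv_mul (l : X × Bool) (w : FreeGroup X) :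
    ((letter l)⁻¹ * w).toWord =
      if w.toWord.head? = some l then w.toWord.tail else (l.1, !l.2) :: w.toWord := by
  have h1 : (letter l)⁻¹ = FreeGroup.mk [(l.1, !l.2)] := by
    unfold letter
    rw [FreeGroup.inv_mk]
    rfl
  rw [h1, FreeGroup.toWord_mul, FreeGroup.toWord_mk, FreeGroup.reduce_singleton]
  show FreeGroup.reduce ((l.1, !l.2) :: w.toWord) = _
  rw [FreeGroup.reduce.cons, FreeGroup.reduce_toWord]
  rcases hw : w.toWord with _ | ⟨hd, tl⟩
  · simp
  · obtain ⟨l1, l2⟩ := l
    obtain ⟨h1, h2⟩ := hd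
    by_cases hh : (h1, h2) = (l1, l2)
    · obtain ⟨rfl, rfl⟩ := Prod.mk.inj hh
      simp
    · have : ¬ (l1 = h1 ∧ (!l2) = !h2) := by
        rintro ⟨rfl, h⟩
        apply hh
        have : l2 = h2 := by simpa using h
        rw [this]
      simp only [List.head?_cons, Option.some.injEq, hh, if_false]
      simp only [this, if_false]

theorem w1_norm_of_head (l : X × Bool) (w : FreeGroup X) (h : w.toWord.head? = some l) :
    ((letter l)⁻¹ * w).norm + 1 = w.norm := by
  unfold FreeGroup.norm
  rw [w1_toWord_letter_inv_mul, if_pos h]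
  rcases hw : w.toWord with _ | ⟨hd, tl⟩
  · rw [hw] at h
    simp at h
  · simp

theorem w1_norm_of_head_ne (l : X × Bool) (w : FreeGroup X) (h : w.toWord.head? ≠ some l) :
    ((letter l)⁻¹ * w).norm = w.norm + 1 := by
  unfold FreeGroup.norm
  rw [w1_toWord_letter_inv_mul, if_neg h]
  simp

/-- (W2), local copy. -/
theorem w2_norm_inv_mul_of_head_ne (u w : FreeGroup X) (l : X × Bool) (hu : u.toWord.head? = some l)
    (hw : w.toWord.head? ≠ some l) :
    (u⁻¹ * w).norm = u.norm + w.norm ∧ (u⁻¹ * w).toWord.head? = (u⁻¹).toWord.head? := by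
  have hred : FreeGroup.IsReduced (FreeGroup.invRev u.toWord ++ w.toWord) := by
    rcases hU : u.toWord with _ | ⟨hd, tl⟩
    · rw [hU] at hu
      simp at hu
    · rw [hU] at hu
      have hhd : hd = l := by simpa using hu
      subst hhd
      have hUr : FreeGroup.IsReduced (FreeGroup.invRev u.toWord) := by
        rw [← FreeGroup.toWord_inv]
        exact FreeGroup.isReduced_toWord
      rw [hU, FreeGroup.invRev_cons] at hUr
      rw [FreeGroup.invRev_cons]
      rcases hW : w.toWord with _ | ⟨hd', tl'⟩
      · simpa using hUr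
      · have hWr : FreeGroup.IsReduced (hd' :: tl') := by
          rw [← hW]
          exact FreeGroup.isReduced_toWord
        have hne : hd' ≠ hd := by
          intro h
          apply hw
          rw [hW, h]
          rfl
        have hmid : FreeGroup.IsReduced (FreeGroup.invRev [hd] ++ hd' :: tl') := by
          show FreeGroup.IsReduced ((hd.1, !hd.2) :: hd' :: tl')
          rw [FreeGroup.isReduced_cons_cons]
          refine ⟨?_, hWr⟩
          intro h1 
          by_contra h2
          apply hne
          have h3 : hd'.2 = hd.2 := by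
            have : (!hd.2) ≠ hd'.2 := h2
            cases hb : hd.2 <;> cases hb' : hd'.2 <;> simp_all
          exact Prod.ext h1.symm h3
        have := FreeGroup.IsReduced.append_overlap hUr hmid (by simp [FreeGroup.invRev])
        simpa using this
  have htw : (u⁻¹ * w).toWord = FreeGroup.invRev u.toWord ++ w.toWord := by
    rw [FreeGroup.toWord_mul, FreeGroup.toWord_inv, hred.reduce_eq]
  constructor
  · unfold FreeGroup.norm
    rw [htw, List.length_append, FreeGroup.invRev_length]
  · rw [htw, FreeGroup.toWord_inv]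
    have hne : FreeGroup.invRev u.toWord ≠ [] := by
      intro h
      have := congrArg List.length h
      rw [FreeGroup.invRev_length] at this
      rcases hU : u.toWord with _ | ⟨hd, tl⟩
      · rw [hU] at hu
        simp at hu
      · rw [hU] at this
        simp at this
    rcases hI : FreeGroup.invRev u.toWord with _ | ⟨hd, tl⟩
    · exact absurd hI hne
    · simp

theorem dist_mul_letter (a c : FreeGroup X) (l : X × Bool) :
    dist (a * letter l) c = ((letter l)⁻¹ * (a⁻¹ * c)).norm := by
  unfold Cfsg.Agent.Lib.H23.LS.dist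
  rw [mul_inv_rev, mul_assoc]

theorem exists_head_of_ne_one (u : FreeGroup X) (hu : u ≠ 1) : ∃ l, u.toWord.head? = some l := by
  rcases hU : u.toWord with _ | ⟨hd, tl⟩
  · exact absurd (FreeGroup.toWord_eq_nil_iff.mp hU) hu
  · exact ⟨hd, rfl⟩

/-- The per-point estimate behind TREEA. -/
theorem treea_point (a b c : FreeGroup X) (l l' : X × Bool)
    (hl : (a⁻¹ * b).toWord.head? = some l) (hl' : (b⁻¹ * a).toWord.head? = some l') :
    (dist (a * letter l) c) ^ 2 + (dist (b * letter l') c) ^ 2 + 2 * dist a b ≤
      (dist a c) ^ 2 + (dist b c) ^ 2 + 2 := by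
  rw [dist_mul_letter, dist_mul_letter]
  have hDD : dist b a = dist a b := by
    unfold Cfsg.Agent.Lib.H23.LS.dist
    rw [← FreeGroup.norm_inv_eq (x := b⁻¹ * a)]
    congr 1
    group
  by_cases hA : (a⁻¹ * c).toWord.head? = some l
  · by_cases hB : (b⁻¹ * c).toWord.head? = some l'
    · -- case C
      have h1 := w1_norm_of_head l (a⁻¹ * c) hA
      have h2 := w1_norm_of_head l' (b⁻¹ * c) hB
      have h3 : dist a b ≤ dist a c + dist b c := by
        unfold Cfsg.Agent.Lib.H23.LS.dist
        have : a⁻¹ * b = (a⁻¹ * c) * (b⁻¹ * c)⁻¹ := by group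
        rw [this]
        refine (FreeGroup.norm_mul_le _ _).trans ?_
        rw [FreeGroup.norm_inv_eq]
      unfold Cfsg.Agent.Lib.H23.LS.dist at h3 ⊢
      nlinarith
    · -- case B
      have h1 := w1_norm_of_head l (a⁻¹ * c) hA
      have h2 := w1_norm_of_head_ne l' (b⁻¹ * c) hB
      have h3 := (w2_norm_inv_mul_of_head_ne (b⁻¹ * a) (b⁻¹ * c) l' hl' hB).1
      have h4 : (b⁻¹ * a)⁻¹ * (b⁻¹ * c) = a⁻¹ * c := by group
      rw [h4] at h3
      unfold Cfsg.Agent.Lib.H23.LS.dist at hDD ⊢
      nlinarith
  · -- case A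
    have h1 := w1_norm_of_head_ne l (a⁻¹ * c) hA
    have h3 := w2_norm_inv_mul_of_head_ne (a⁻¹ * b) (a⁻¹ * c) l hl hA
    have h4 : (a⁻¹ * b)⁻¹ * (a⁻¹ * c) = b⁻¹ * c := by group
    have h5 : (a⁻¹ * b)⁻¹ = b⁻¹ * a := by group
    rw [h4, h5] at h3
    have hB : (b⁻¹ * c).toWord.head? = some l' := h3.2.trans hl'
    have h2 := w1_norm_of_head l' (b⁻¹ * c) hB
    have h6 := h3.1
    unfold Cfsg.Agent.Lib.H23.LS.dist at hDD ⊢
    nlinarith

/-- (TREEA) two minimisers of the sum of squared distances to a finite family of points, over a set closed under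
taking the first step towards each other, are at distance at most one. -/
theorem dist_le_one_of_minimizers {H : Type*} [Fintype H] [Nonempty H] (c : H → FreeGroup X)
    (a b : FreeGroup X) (hab : a ≠ b)
    (ha : ∀ l, (a⁻¹ * b).toWord.head? = some l →
      ∑ h, (dist a (c h)) ^ 2 ≤ ∑ h, (dist (a * letter l) (c h)) ^ 2)
    (hb : ∀ l, (b⁻¹ * a).toWord.head? = some l →
      ∑ h, (dist b (c h)) ^ 2 ≤ ∑ h, (dist (b * letter l) (c h)) ^ 2) :
    dist a b ≤ 1 := by
  have hu : a⁻¹ * b ≠ 1 := by
    intro h
    apply hab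
    exact (inv_mul_eq_one.mp h)
  have hv : b⁻¹ * a ≠ 1 := by
    intro h
    apply hab
    exact (inv_mul_eq_one.mp h).symm
  obtain ⟨l, hl⟩ := exists_head_of_ne_one _ hu
  obtain ⟨l', hl'⟩ := exists_head_of_ne_one _ hv
  have hsum := Finset.sum_le_sum (s := (Finset.univ : Finset H))
    (fun h _ => treea_point a b (c h) l l' hl hl')
  simp only [Finset.sum_add_distrib, Finset.sum_const, Finset.card_univ, smul_eq_mul] at hsum
  have h1 := ha l hl
  have h2 := hb l' hl'
  have hpos : 0 < Fintype.card H := Fintype.card_pos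
  by_contra hcon
  have hD : 2 ≤ dist a b := by omega
  have : Fintype.card H * 2 * 2 ≤ Fintype.card H * (2 * dist a b) :=
    by nlinarith
  nlinarith

end Cfsg.Agent.Lib.H10.LS
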