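import Mathlib
import Cfsg.Agent.Lib.H23.LSDefs
import Cfsg.Agent.Lib.H23.LSTreeBasic
import Cfsg.Agent.Lib.H10.LSTREEA
import Cfsg.Agent.Lib.H10.LSCONV

/-!
# S5286 piece TFP: a finite subgroup of `FreeGroup X ⋊ Q` fixes a vertex of the orbit of the base vertex
-/

set_option autoImplicit false

namespace Cfsg.Agent.Lib.H10.LS

open Cfsg Cfsg.Agent.Lib.H23.LS

universe u v

variable {X : Type u} [DecidableEq X] {Q : Type v} [Group Q] [MulAction Q X]

/-- The energy of a vertex with respect to a finite family of vertices. -/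
def energy {H : Type*} [Fintype H] (c : H → FreeGroup X) (v : FreeGroup X) : ℕ :=
  ∑ h, (dist v (c h)) ^ 2

theorem dist_self_eq_zero (a : FreeGroup X) : dist a a = 0 := by
  unfold Cfsg.Agent.Lib.H23.LS.dist
  rw [inv_mul_cancel]
  exact FreeGroup.norm_one

/-- Two minimisers of the energy on the orbit of the base vertex are at distance at most one. -/
theorem tfp_dist_le_one (G : Subgroup (Amb X Q))
    (hpref : ∀ g ∈ G, ∀ n : ℕ, ∃ g' ∈ G, g'.left = FreeGroup.mk (g.left.toWord.take n))
    {H : Type*} [Fintype H] [Nonempty H] (c : H → FreeGroup X)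
    (g₁ g₂ : Amb X Q) (h₁ : g₁ ∈ G) (h₂ : g₂ ∈ G)
    (hmin₁ : ∀ g' ∈ G, energy c g₁.left ≤ energy c g'.left)
    (hmin₂ : ∀ g' ∈ G, energy c g₂.left ≤ energy c g'.left) :
    dist g₁.left g₂.left ≤ 1 := by
  by_cases hab : g₁.left = g₂.left
  · rw [hab, dist_self_eq_zero]
    exact Nat.zero_le _
  · apply dist_le_one_of_minimizers c g₁.left g₂.left hab
    · intro l hl
      obtain ⟨g', hg', hleft⟩ := conv G hpref g₁ g₂ h₁ h₂ l hl
      have := hmin₁ g' hg'
      rw [hleft] at this
      exact this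
    · intro l hl
      obtain ⟨g', hg', hleft⟩ := conv G hpref g₂ g₁ h₂ h₁ l hl
      have := hmin₂ g' hg'
      rw [hleft] at this
      exact this

theorem eq_mul_letter_of_dist_le_one (a b : FreeGroup X) (hab : a ≠ b) (h : dist a b ≤ 1) :
    ∃ l, b = a * letter l := by
  unfold Cfsg.Agent.Lib.H23.LS.dist FreeGroup.norm at h
  rcases hW : (a⁻¹ * b).toWord with _ | ⟨hd, tl⟩
  · exfalso
    apply hab
    have := FreeGroup.toWord_eq_nil_iff.mp hW
    exact inv_mul_eq_one.mp this
  · rw [hW] at h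
    have htl : tl = [] := by
      rcases tl with _ | ⟨x, y⟩
      · rfl
      · simp at h
    subst htl
    refine ⟨hd, ?_⟩
    have h2 : a⁻¹ * b = letter hd := by
      rw [← FreeGroup.mk_toWord (x := a⁻¹ * b), hW]
      rfl
    rw [← h2]
    group

theorem dist_two_letters (a : FreeGroup X) (l l₂ : X × Bool) (h : l.2 = l₂.2) :
    dist a (a * letter l * letter l₂) = 2 := by
  unfold Cfsg.Agent.Lib.H23.LS.dist FreeGroup.norm
  have h1 : a⁻¹ * (a * letter l * letter l₂) = FreeGroup.mk [l, l₂] := by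
    have : a⁻¹ * (a * letter l * letter l₂) = letter l * letter l₂ := by group
    rw [this]
    rfl
  rw [h1, FreeGroup.toWord_mk]
  have hr : FreeGroup.IsReduced [l, l₂] := by
    rw [FreeGroup.isReduced_cons_cons]
    exact ⟨fun _ => h, FreeGroup.IsReduced.singleton⟩
  rw [hr.reduce_eq]
  rfl

/-- (TFP) the fixed point theorem for finite subgroups acting on the Cayley tree. -/
theorem exists_fixed_point (G : Subgroup (Amb X Q))
    (hpref : ∀ g ∈ G, ∀ n : ℕ, ∃ g' ∈ G, g'.left = FreeGroup.mk (g.left.toWord.take n))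
    (H : Subgroup (Amb X Q)) (hHG : H ≤ G) [Finite H] :
    ∃ g ∈ G, ∀ h ∈ H, (g⁻¹ * h * g).left = 1 := by
  classical
  have : Fintype H := Fintype.ofFinite H
  let c : H → FreeGroup X := fun h => (h : Amb X Q).left
  -- invariance of the energy
  have hinv : ∀ (k : Amb X Q), k ∈ H → ∀ v : FreeGroup X, energy c (aff k v) = energy c v := by
    intro k hk v
    unfold energy
    have hc : ∀ h : H, c (⟨k, hk⟩ * h) = aff k (c h) := by
      intro h
      show ((k * (h : Amb X Q)) : Amb X Q).left = aff k (h : Amb X Q).left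
      rw [← aff_one_right (k * (h : Amb X Q)), aff_mul, aff_one_right]
    rw [← Equiv.sum_comp (Equiv.mulLeft (⟨k, hk⟩ : H))]
    apply Finset.sum_congr rfl
    intro h _
    rw [Equiv.coe_mulLeft, hc, dist_aff]
  -- a minimiser
  have hne : ({n | ∃ g ∈ G, energy c g.left = n} : Set ℕ).Nonempty := ⟨_, 1, G.one_mem, rfl⟩
  obtain ⟨n, ⟨g, hg, rfl⟩, hmin⟩ := WellFounded.has_min Nat.lt_wfRel.wf _ hne
  have hmin' : ∀ g' ∈ G, energy c g.left ≤ energy c g'.left := by
    intro g' hg'
    exact Nat.le_of_not_lt (hmin _ ⟨g', hg', rfl⟩)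
  have hleft : ∀ k g' : Amb X Q, (k * g').left = aff k g'.left := by
    intro k g'
    rw [← aff_one_right (k * g'), aff_mul, aff_one_right]
  have hmink : ∀ k ∈ H, ∀ g₁ ∈ G, (∀ g' ∈ G, energy c g₁.left ≤ energy c g'.left) →
      ∀ g' ∈ G, energy c (k * g₁).left ≤ energy c g'.left := by
    intro k hk g₁ _ hm g' hg'
    rw [hleft, hinv k hk]
    exact hm g' hg'
  refine ⟨g, hg, ?_⟩
  intro k hk
  have hkG : k ∈ G := hHG hk
  have hfix : (k * g).left = g.left := by
    by_contra hne'
    have hab : g.left ≠ (k * g).left := fun h => hne' h.symm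
    have hkg : k * g ∈ G := G.mul_mem hkG hg
    have hkkg : k * (k * g) ∈ G := G.mul_mem hkG hkg
    have hm1 := hmink k hk g hg hmin'
    have hm2 := hmink k hk (k * g) hkg hm1
    have hd1 := tfp_dist_le_one G hpref c g (k * g) hg hkg hmin' hm1
    obtain ⟨l, hl⟩ := eq_mul_letter_of_dist_le_one _ _ hab hd1
    have hb2 : (k * (k * g)).left = g.left * letter l * letter (k.right • l.1, l.2) := by
      rw [hleft k (k * g), hl, aff_mul_letter, ← hleft k g, hl]
    have hd2 := tfp_dist_le_one G hpref c g (k * (k * g)) hg hkkg hmin' hm2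
    rw [hb2, dist_two_letters g.left l (k.right • l.1, l.2) rfl] at hd2
    omega
  have : g⁻¹ * k * g = g⁻¹ * (k * g) := by group
  rw [this, SemidirectProduct.mul_left, SemidirectProduct.inv_left, SemidirectProduct.inv_right, hfix,
    ← map_mul, inv_mul_cancel, map_one]

end Cfsg.Agent.Lib.H10.LS
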