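import Mathlib
import Cfsg.Agent.Lib.H1.M11U.Defs

/-!
# S0420 piece ACT, core (helper10)

The action of a simple group of order 7920 on the 11 conjugates of a closed 10-clique of the rank 3
graph on the Sylow 3-subgroups is sharply 4-transitive.  The earlier pieces of the blueprint enter
through the structure `ActBB` (their exact statements).
-/

set_option autoImplicit false
open scoped Pointwise

universe u

namespace Cfsg.Agent.Lib.H10.M11U

open Cfsg.Agent.Lib.H1.M11U

variable {G : Type u} [Group G] [Finite G]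

/-- closed 10-cliques -/
def IsCl (C : Set (Sylow 3 G)) : Prop :=
  C.ncard = 10 ∧ (∀ x ∈ C, ∀ y ∈ C, x ≠ y → Adj x y) ∧
    ∀ x ∈ C, ∀ u ∈ (x : Subgroup G), ∀ y ∈ C, u • y ∈ C

/-- the black boxes used by ACT, in the exact statements of the blueprint -/
structure ActBB (G : Type u) [Group G] [Finite G] : Prop where
  card : Nat.card G = 7920
  smul_eq_iff : ∀ (g : G) (P : Sylow 3 G), g • P = P ↔ g ∈ Nrm P
  adj_smul : ∀ (g : G) {P P' : Sylow 3 G}, Adj (g • P) (g • P') ↔ Adj P P'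
  semireg : ∀ {P P' : Sylow 3 G}, P' ≠ P → ∀ {u : G}, u ∈ (P : Subgroup G) → u ≠ 1 → u • P' ≠ P'
  card_sub : ∀ P : Sylow 3 G, Nat.card (P : Subgroup G) = 9
  card_syl : Nat.card (Sylow 3 G) = 55
  clique : ∃ C : Set (Sylow 3 G), IsCl C
  stab : ∀ {C : Set (Sylow 3 G)}, IsCl C → Nat.card (MulAction.stabilizer G C) = 720
  fix3 : ∀ {x y : Sylow 3 G}, Adj x y → ∀ {u : G}, u ∈ (x : Subgroup G) → u ≠ 1 →
    ∀ {g : G}, g • x = x → g • y = y → g • (u • y) = u • y → g = 1

omit [Finite G] in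
theorem mem_smul_sylow (g u : G) (x : Sylow 3 G) :
    u ∈ ((g • x : Sylow 3 G) : Subgroup G) ↔ g⁻¹ * u * g ∈ (x : Subgroup G) := by
  rw [Sylow.coe_subgroup_smul, Subgroup.mem_pointwise_smul_iff_inv_smul_mem]
  simp [MulAut.smul_def, mul_assoc]

/-- transport of closed cliques -/
theorem IsCl.smul (b : ActBB G) {C : Set (Sylow 3 G)} (hC : IsCl C) (g : G) : IsCl (g • C) := by
  obtain ⟨h10, hcl, hst⟩ := hC
  refine ⟨?_, ?_, ?_⟩
  · rw [← Set.image_smul, Set.ncard_image_of_injective _ (MulAction.injective g)]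
    exact h10
  · rintro _ ⟨x, hx, rfl⟩ _ ⟨y, hy, rfl⟩ hne
    show Adj (g • x) (g • y)
    rw [b.adj_smul]
    apply hcl x hx y hy
    intro h
    apply hne
    show g • x = g • y
    rw [h]
  · rintro _ ⟨x, hx, rfl⟩ u hu _ ⟨y, hy, rfl⟩
    have hu' : g⁻¹ * u * g ∈ (x : Subgroup G) := (mem_smul_sylow g u x).1 hu
    have := hst x hx _ hu' y hy
    refine ⟨(g⁻¹ * u * g) • y, this, ?_⟩
    show g • (g⁻¹ * u * g) • y = u • g • y
    rw [← mul_smul, ← mul_smul]
    congr 1
    group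

/-- (I) a closed clique is determined by two of its points -/
theorem IsCl.eq_insert_orb (b : ActBB G) {D : Set (Sylow 3 G)} (hD : IsCl D) {x y : Sylow 3 G}
    (hx : x ∈ D) (hy : y ∈ D) (hxy : x ≠ y) : D = insert x (orb x y) := by
  obtain ⟨h10, hcl, hst⟩ := hD
  have hfix : ∀ u ∈ (x : Subgroup G), u • x = x := by
    intro u hu
    rw [b.smul_eq_iff]
    exact Subgroup.le_normalizer hu
  have hsub : orb x y ⊆ D \ {x} := by
    rintro _ ⟨u, hu, rfl⟩
    refine ⟨hst x hx u hu y hy, ?_⟩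
    intro h
    rw [Set.mem_singleton_iff] at h
    apply hxy
    have h2 : u • y = u • x := by rw [h, hfix u hu]
    exact (MulAction.injective u h2).symm
  have hfin : (D \ {x}).Finite := Set.toFinite _
  have hcardD : (D \ {x}).ncard = 9 := by
    rw [Set.ncard_sdiff_singleton_of_mem hx, h10]
  have hcardO : (orb x y).ncard = 9 := by
    have hinj : Function.Injective (fun u : ↥(x : Subgroup G) => (u : G) • y) := by
      intro u v huv
      by_contra hne
      have h1 : ((v : G)⁻¹ * (u : G)) • y = y := by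
        rw [mul_smul]
        show (v : G)⁻¹ • ((u : G) • y) = y
        rw [show (u : G) • y = (v : G) • y from huv, inv_smul_smul]
      have h2 : (v : G)⁻¹ * (u : G) ∈ (x : Subgroup G) :=
        Subgroup.mul_mem _ (Subgroup.inv_mem _ v.2) u.2
      have h3 : (v : G)⁻¹ * (u : G) ≠ 1 := by
        intro h
        apply hne
        apply Subtype.ext
        have := inv_mul_eq_one.1 h
        exact this.symm
      exact b.semireg hxy.symm h2 h3 h1
    have hrange : orb x y = Set.range (fun u : ↥(x : Subgroup G) => (u : G) • y) := by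
      ext z
      constructor
      · rintro ⟨u, hu, rfl⟩
        exact ⟨⟨u, hu⟩, rfl⟩
      · rintro ⟨u, rfl⟩
        exact ⟨u, u.2, rfl⟩
    rw [hrange, Set.ncard_range_of_injective hinj, b.card_sub x]
  have heq : orb x y = D \ {x} :=
    Set.eq_of_subset_of_ncard_le hsub (by rw [hcardD, hcardO]) hfin
  rw [heq, Set.insert_sdiff_singleton, Set.insert_eq_of_mem hx]

/-- two closed cliques sharing two points are equal -/
theorem IsCl.eq_of_two (b : ActBB G) {D D' : Set (Sylow 3 G)} (hD : IsCl D) (hD' : IsCl D')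
    {x y : Sylow 3 G} (hx : x ∈ D) (hy : y ∈ D) (hx' : x ∈ D') (hy' : y ∈ D') (hxy : x ≠ y) :
    D = D' := by
  rw [hD.eq_insert_orb b hx hy hxy, ← hD'.eq_insert_orb b hx' hy' hxy]


/-- members of the orbit of a closed clique are closed cliques -/
theorem isCl_of_mem_orbit (b : ActBB G) {C : Set (Sylow 3 G)} (hC : IsCl C) {D : Set (Sylow 3 G)}
    (hD : D ∈ MulAction.orbit G C) : IsCl D := by
  obtain ⟨g, rfl⟩ := hD
  exact hC.smul b g

/-- the orbit of a closed clique has 11 members -/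
theorem ncard_orbit (b : ActBB G) {C : Set (Sylow 3 G)} (hC : IsCl C) :
    (MulAction.orbit G C).ncard = 11 := by
  rw [← MulAction.index_stabilizer]
  have h1 := Subgroup.card_mul_index (MulAction.stabilizer G C)
  rw [b.stab hC, b.card] at h1
  omega

/-- the number of members of the orbit through a point -/
noncomputable def rnum (C : Set (Sylow 3 G)) (x : Sylow 3 G) : ℕ :=
  {D | D ∈ MulAction.orbit G C ∧ x ∈ D}.ncard

omit [Finite G] in
theorem rnum_smul (C : Set (Sylow 3 G)) (g : G) (x : Sylow 3 G) : rnum C (g • x) = rnum C x := by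
  unfold rnum
  have himg : (fun D : Set (Sylow 3 G) => g • D) '' {D | D ∈ MulAction.orbit G C ∧ x ∈ D} =
      {D | D ∈ MulAction.orbit G C ∧ g • x ∈ D} := by
    ext D
    constructor
    · rintro ⟨D0, ⟨hD0, hx⟩, rfl⟩
      refine ⟨?_, Set.smul_mem_smul_set hx⟩
      obtain ⟨k, rfl⟩ := hD0
      exact ⟨g * k, by simp [mul_smul]⟩
    · rintro ⟨hD, hx⟩
      refine ⟨g⁻¹ • D, ⟨?_, ?_⟩, by simp⟩
      · obtain ⟨k, rfl⟩ := hD
        exact ⟨g⁻¹ * k, by simp [mul_smul]⟩
      · rw [Set.mem_inv_smul_set_iff]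
        exact hx
  rw [← himg, Set.ncard_image_of_injective _ (MulAction.injective g)]

/-- (II) every point lies in exactly two members of the orbit -/
theorem rnum_eq_two (b : ActBB G) {C : Set (Sylow 3 G)} (hC : IsCl C) (x : Sylow 3 G) :
    rnum C x = 2 := by
  classical
  have : Fact (Nat.Prime 3) := ⟨by norm_num⟩
  let _ : Fintype (Sylow 3 G) := Fintype.ofFinite _
  have hconst : ∀ y : Sylow 3 G, rnum C y = rnum C x := by
    intro y
    obtain ⟨g, rfl⟩ := MulAction.exists_smul_eq G x y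
    exact rnum_smul C g x
  have hOfin : (MulAction.orbit G C).Finite := Set.toFinite _
  have hdc := Finset.sum_card_bipartiteAbove_eq_sum_card_bipartiteBelow
    (s := (Finset.univ : Finset (Sylow 3 G))) (t := hOfin.toFinset)
    (fun (y : Sylow 3 G) (D : Set (Sylow 3 G)) => y ∈ D)
  have hL : ∀ y ∈ (Finset.univ : Finset (Sylow 3 G)),
      (hOfin.toFinset.bipartiteAbove (fun (y : Sylow 3 G) (D : Set (Sylow 3 G)) => y ∈ D) y).card
        = rnum C x := by
    intro y _
    rw [← hconst y, rnum, ← Set.ncard_coe_finset, Finset.coe_bipartiteAbove]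
    congr 1
    ext D
    simp
  have hR : ∀ D ∈ hOfin.toFinset,
      ((Finset.univ : Finset (Sylow 3 G)).bipartiteBelow
        (fun (y : Sylow 3 G) (D : Set (Sylow 3 G)) => y ∈ D) D).card = 10 := by
    intro D hD
    have hD' : D ∈ MulAction.orbit G C := by simpa using hD
    rw [← (isCl_of_mem_orbit b hC hD').1, ← Set.ncard_coe_finset, Finset.coe_bipartiteBelow]
    congr 1
    ext y
    simp
  rw [Finset.sum_congr rfl hL, Finset.sum_congr rfl hR, Finset.sum_const, Finset.sum_const,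
    Finset.card_univ, Fintype.card_eq_nat_card, b.card_syl, ← Set.ncard_coe_finset,
    Set.Finite.coe_toFinset, ncard_orbit b hC] at hdc
  simp only [smul_eq_mul] at hdc
  omega


/-- (III) two distinct members of the orbit meet -/
theorem exists_mem_inter (b : ActBB G) {C : Set (Sylow 3 G)} (hC : IsCl C)
    {D D' : Set (Sylow 3 G)} (hD : D ∈ MulAction.orbit G C) (hD' : D' ∈ MulAction.orbit G C)
    (hne : D ≠ D') : ∃ x, x ∈ D ∧ x ∈ D' := by
  classical
  by_contra hno
  have hex : ∀ x : Sylow 3 G, ∃ E : Set (Sylow 3 G), x ∈ D →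
      (E ∈ MulAction.orbit G C ∧ x ∈ E) ∧ E ≠ D := by
    intro x
    by_cases hx : x ∈ D
    · have h2 : 1 < {E | E ∈ MulAction.orbit G C ∧ x ∈ E}.ncard := by
        have := rnum_eq_two b hC x
        unfold rnum at this
        omega
      obtain ⟨E, hE, hED⟩ := Set.exists_ne_of_one_lt_ncard h2 D
      exact ⟨E, fun _ => ⟨hE, hED⟩⟩
    · exact ⟨D, fun h => (hx h).elim⟩
  choose φ hφ using hex
  have hOfin : (MulAction.orbit G C).Finite := Set.toFinite _
  have hpair : ({D, D'} : Set (Set (Sylow 3 G))) ⊆ MulAction.orbit G C := by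
    intro E hE
    rcases hE with rfl | hE
    · exact hD
    · rw [Set.mem_singleton_iff] at hE
      rw [hE]; exact hD'
  have hT : (MulAction.orbit G C \ {D, D'}).ncard = 9 := by
    rw [Set.ncard_sdiff hpair, ncard_orbit b hC, Set.ncard_pair hne]
  have hmaps : ∀ x ∈ D, φ x ∈ MulAction.orbit G C \ {D, D'} := by
    intro x hx
    obtain ⟨⟨h1, h2⟩, h3⟩ := hφ x hx
    refine ⟨h1, ?_⟩
    intro h
    rcases h with h | h
    · exact h3 h
    · rw [Set.mem_singleton_iff] at h
      apply hno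
      exact ⟨x, hx, h ▸ h2⟩
  have hlt : (MulAction.orbit G C \ {D, D'}).ncard < D.ncard := by
    rw [hT, (isCl_of_mem_orbit b hC hD).1]
    norm_num
  obtain ⟨x, hx, y, hy, hxy, hφxy⟩ := Set.exists_ne_map_eq_of_ncard_lt_of_maps_to hlt hmaps
  obtain ⟨⟨h1, h2⟩, h3⟩ := hφ x hx
  obtain ⟨⟨_, h2'⟩, _⟩ := hφ y hy
  rw [← hφxy] at h2'
  exact h3 ((isCl_of_mem_orbit b hC h1).eq_of_two b (isCl_of_mem_orbit b hC hD) h2 h2' hx hy hxy)

/-- an element fixing four distinct members of the orbit is trivial -/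
theorem eq_one_of_fix_four (b : ActBB G) {C : Set (Sylow 3 G)} (hC : IsCl C)
    {D₁ D₂ D₃ D₄ : Set (Sylow 3 G)} (h₁ : D₁ ∈ MulAction.orbit G C) (h₂ : D₂ ∈ MulAction.orbit G C)
    (h₃ : D₃ ∈ MulAction.orbit G C) (h₄ : D₄ ∈ MulAction.orbit G C)
    (h12 : D₁ ≠ D₂) (h13 : D₁ ≠ D₃) (h14 : D₁ ≠ D₄) (h23 : D₂ ≠ D₃) (h24 : D₂ ≠ D₄)
    (h34 : D₃ ≠ D₄) {g : G} (hg₁ : g • D₁ = D₁) (hg₂ : g • D₂ = D₂) (hg₃ : g • D₃ = D₃)
    (hg₄ : g • D₄ = D₄) : g = 1 := by
  have c₁ := isCl_of_mem_orbit b hC h₁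
  -- a fixed point in each intersection
  have key : ∀ {D : Set (Sylow 3 G)}, D ∈ MulAction.orbit G C → D₁ ≠ D → g • D = D →
      ∃ x, x ∈ D₁ ∧ x ∈ D ∧ g • x = x := by
    intro D hD hne hgD
    obtain ⟨x, hx1, hxD⟩ := exists_mem_inter b hC h₁ hD hne
    refine ⟨x, hx1, hxD, ?_⟩
    by_contra hgx
    have hg1 : g • x ∈ D₁ := by rw [← hg₁]; exact Set.smul_mem_smul_set hx1
    have hgD' : g • x ∈ D := by rw [← hgD]; exact Set.smul_mem_smul_set hxD
    exact hne (c₁.eq_of_two b (isCl_of_mem_orbit b hC hD) hg1 hx1 hgD' hxD hgx)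
  obtain ⟨x₂, hx₂, hx₂', hgx₂⟩ := key h₂ h12 hg₂
  obtain ⟨x₃, hx₃, hx₃', hgx₃⟩ := key h₃ h13 hg₃
  obtain ⟨x₄, hx₄, hx₄', hgx₄⟩ := key h₄ h14 hg₄
  -- the three points are distinct
  have hthree : ∀ {D D' : Set (Sylow 3 G)}, D ∈ MulAction.orbit G C → D' ∈ MulAction.orbit G C →
      D₁ ≠ D → D₁ ≠ D' → D ≠ D' → ∀ x, x ∈ D₁ → x ∈ D → x ∈ D' → False := by
    intro D D' hD hD' hn1 hn2 hn3 x hx1 hxD hxD'
    have hsub : ({D₁, D, D'} : Set (Set (Sylow 3 G))) ⊆ {E | E ∈ MulAction.orbit G C ∧ x ∈ E} := by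
      intro E hE
      rcases hE with rfl | rfl | hE
      · exact ⟨h₁, hx1⟩
      · exact ⟨hD, hxD⟩
      · rw [Set.mem_singleton_iff] at hE
        rw [hE]; exact ⟨hD', hxD'⟩
    have h3 : ({D₁, D, D'} : Set (Set (Sylow 3 G))).ncard = 3 :=
      Set.ncard_eq_three.2 ⟨D₁, D, D', hn1, hn2, hn3, rfl⟩
    have hle := Set.ncard_le_ncard hsub (Set.toFinite _)
    have h2 := rnum_eq_two b hC x
    unfold rnum at h2
    omega
  have hx23 : x₂ ≠ x₃ := by
    intro h
    exact hthree h₂ h₃ h12 h13 h23 x₂ hx₂ hx₂' (h ▸ hx₃')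
  have hx24 : x₂ ≠ x₄ := by
    intro h
    exact hthree h₂ h₄ h12 h14 h24 x₂ hx₂ hx₂' (h ▸ hx₄')
  have hx34 : x₃ ≠ x₄ := by
    intro h
    exact hthree h₃ h₄ h13 h14 h34 x₃ hx₃ hx₃' (h ▸ hx₄')
  -- x₄ is in the x₂-orbit of x₃
  have hins : x₄ ∈ insert x₂ (orb x₂ x₃) := by
    rw [← c₁.eq_insert_orb b hx₂ hx₃ hx23]
    exact hx₄
  rcases hins with h | ⟨u, hu, hux⟩
  · exact (hx24 h.symm).elim
  have hu1 : u ≠ 1 := by
    rintro rfl
    rw [one_smul] at hux
    exact hx34 hux
  have hadj : Adj x₂ x₃ := c₁.2.1 x₂ hx₂ x₃ hx₃ hx23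
  exact b.fix3 hadj hu hu1 hgx₂ hgx₃ (by rw [hux]; exact hgx₄)


omit [Finite G] in
/-- a free action on a finite set with as many elements as the group is transitive -/
theorem isPretransitive_of_free_of_card {X : Type*} [MulAction G X] [Finite X]
    (hcard : Nat.card X = Nat.card G) (hfree : ∀ x : X, MulAction.stabilizer G x = ⊥) :
    MulAction.IsPretransitive G X := by
  constructor
  intro x y
  have h1 : (MulAction.orbit G x).ncard = Nat.card G := by
    rw [← MulAction.index_stabilizer, hfree x, Subgroup.index_bot]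
  have h2 : MulAction.orbit G x = Set.univ := by
    apply Set.eq_of_subset_of_ncard_le (Set.subset_univ _) _ (Set.toFinite _)
    rw [Set.ncard_univ, h1, hcard]
  have h3 : y ∈ MulAction.orbit G x := by rw [h2]; trivial
  exact h3

/-- **ACT**, core form on the black boxes -/
theorem act_core (b : ActBB G) :
    ∃ (α : Type u) (_ : Fintype α) (_ : DecidableEq α) (_ : MulAction G α), Fintype.card α = 11 ∧
      MulAction.IsMultiplyPretransitive G α 4 ∧ ∀ x : Fin 4 ↪ α, MulAction.stabilizer G x = ⊥ := by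
  classical
  obtain ⟨C, hC⟩ := b.clique
  let _ : Fintype ↥(MulAction.orbit G C) := Fintype.ofFinite _
  have hcard : Fintype.card ↥(MulAction.orbit G C) = 11 := by
    rw [Fintype.card_eq_nat_card, Nat.card_coe_set_eq, ncard_orbit b hC]
  have hstab : ∀ x : Fin 4 ↪ ↥(MulAction.orbit G C), MulAction.stabilizer G x = ⊥ := by
    intro x
    rw [Subgroup.eq_bot_iff_forall]
    intro g hg
    rw [MulAction.mem_stabilizer_iff] at hg
    have hfix : ∀ i, g • ((x i : ↥(MulAction.orbit G C)) : Set (Sylow 3 G)) =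
        ((x i : ↥(MulAction.orbit G C)) : Set (Sylow 3 G)) := by
      intro i
      have h1 : (g • x) i = x i := by rw [hg]
      rw [Function.Embedding.smul_apply] at h1
      have h2 := congrArg (Subtype.val) h1
      rw [MulAction.orbit.coe_smul] at h2
      exact h2
    have hne : ∀ i j, i ≠ j → ((x i : ↥(MulAction.orbit G C)) : Set (Sylow 3 G)) ≠
        ((x j : ↥(MulAction.orbit G C)) : Set (Sylow 3 G)) := by
      intro i j hij h
      exact hij (x.injective (Subtype.ext h))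
    exact eq_one_of_fix_four b hC (x 0).2 (x 1).2 (x 2).2 (x 3).2
      (hne 0 1 (by decide)) (hne 0 2 (by decide)) (hne 0 3 (by decide)) (hne 1 2 (by decide))
      (hne 1 3 (by decide)) (hne 2 3 (by decide)) (hfix 0) (hfix 1) (hfix 2) (hfix 3)
  refine ⟨↥(MulAction.orbit G C), inferInstance, inferInstance, inferInstance, hcard, ?_, hstab⟩
  apply isPretransitive_of_free_of_card _ hstab
  rw [Nat.card_eq_fintype_card, Fintype.card_embedding_eq, hcard, Fintype.card_fin, b.card]
  rfl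

end Cfsg.Agent.Lib.H10.M11U
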