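import Mathlib
import Cfsg.Agent.Lib.H1.M11U.Base
import Cfsg.Agent.Lib.H9.M11SUB
import Cfsg.Agent.Lib.H19.M11CLOSEsig
import Cfsg.Agent.Lib.H5.M11ACT1
import Cfsg.Agent.Lib.H18.M11ACT2
import Cfsg.Agent.Lib.H10.M11ACTC

/-!
# S0420 piece ACT = `act` in the EXACT signature of `tools/blueprints/S0420_sigs.lean` (helper10)

Core: `Lib/H10/M11ACTC.lean` (`act_core` on the black boxes `ActBB`); the black boxes are the landed
exact-sig twins: API (helper1, `H1.M11U.Base`), SUB `semireg` (helper9), CLOSE `exists_clique`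
(helper19), ACT1 `card_stabilizer_clique` (helper5), ACT2 `eq_one_of_fix_three` (helper18).
-/

set_option autoImplicit false
open scoped Pointwise

universe u

namespace Cfsg.Agent.Lib.H10.M11U

open Cfsg.Agent.Lib.H1.M11U

variable {G : Type u} [Group G] [Finite G]

/-- the black boxes of ACT from the landed pieces -/
theorem actBB_of_hyp (h : Hyp G) : ActBB G where
  card := h.card
  smul_eq_iff := fun g P => Cfsg.Agent.Lib.H1.M11U.smul_eq_iff g P
  adj_smul := fun g {_ _} => Cfsg.Agent.Lib.H1.M11U.adj_smul g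
  semireg := fun {_ _} hne {_} hu hu1 => Cfsg.Agent.Lib.H9.M11U.semireg h hne hu hu1
  card_sub := fun P => Cfsg.Agent.Lib.H1.M11U.card_sylow3_sub h P
  card_syl := Cfsg.Agent.Lib.H1.M11U.card_sylow3 h
  clique := Cfsg.Agent.Lib.H19.M11U.exists_clique h
  stab := fun {_} hC => Cfsg.Agent.Lib.H5.M11U.card_stabilizer_clique h hC.1 hC.2.1 hC.2.2
  fix3 := fun {_ _} hadj {_} hu hu1 {_} hgx hgy hguy =>
    Cfsg.Agent.Lib.H18.M11U.eq_one_of_fix_three h hadj hu hu1 hgx hgy hguy

/-- (ACT) the action on the 11 conjugates of `C`: each Sylow 3-subgroup lies in exactly 2 of them, two of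
them share exactly one Sylow 3-subgroup; an element fixing 4 of them fixes `x = C₁ ∩ C₂`, `C₁ ∩ C₃`,
`C₁ ∩ C₄` (the last two in one `x`-orbit), so it is `1` by ACT2; `11 * 10 * 9 * 8 = 7920` gives 4-transitivity. -/
theorem act (h : Hyp G) :
    ∃ (α : Type u) (_ : Fintype α) (_ : DecidableEq α) (_ : MulAction G α), Fintype.card α = 11 ∧
      MulAction.IsMultiplyPretransitive G α 4 ∧ ∀ x : Fin 4 ↪ α, MulAction.stabilizer G x = ⊥ :=
  act_core (actBB_of_hyp h)

end Cfsg.Agent.Lib.H10.M11U
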