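import Mathlib

/-!
# S4429 piece (F12a): `extra11` (helper10), PURE arithmetic

The characters outside the 11-block in pattern (A): degrees 11, 44, 55.
-/

set_option autoImplicit false

namespace Cfsg.Agent.Lib.H10.M7920

open scoped BigOperators

universe u

theorem extra11 {ι : Type u} [DecidableEq ι] (T : Finset ι) (B : ι → ℤ) (d : ι → ℕ)
    (h11 : ∀ i ∈ T, 11 ∣ d i) (hdvd : ∀ i ∈ T, d i ∣ 7920) (hpos : ∀ i ∈ T, 0 < d i)
    (hcong : ∀ i ∈ T, ∃ c : ℕ, (d i : ℤ) = B i + 5 * c)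
    (hB2 : ∑ i ∈ T, B i ^ 2 = 2) (hlin : ∑ i ∈ T, (d i : ℤ) * B i = -33)
    (hsq : ∑ i ∈ T, d i ^ 2 = 5082) :
    ∃ t₁ t₂ t₃ : ι, t₁ ∈ T ∧ t₂ ∈ T ∧ t₃ ∈ T ∧ t₁ ≠ t₂ ∧ t₁ ≠ t₃ ∧ t₂ ≠ t₃ ∧
      d t₁ = 11 ∧ d t₂ = 44 ∧ d t₃ = 55 ∧ ∀ i ∈ T, i = t₁ ∨ i = t₂ ∨ i = t₃ := by
  -- bound on `d`
  have hdle : ∀ i ∈ T, d i ≤ 71 := by
    intro i hi
    have h1 : d i ^ 2 ≤ ∑ j ∈ T, d j ^ 2 :=
      Finset.single_le_sum (f := fun j => d j ^ 2) (fun j _ => Nat.zero_le _) hi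
    rw [hsq] at h1
    nlinarith
  have hcls : ∀ i ∈ T, d i = 11 ∨ d i = 22 ∨ d i = 33 ∨ d i = 44 ∨ d i = 55 ∨ d i = 66 := by
    intro i hi
    obtain ⟨k, hk⟩ := h11 i hi
    have h1 := hdle i hi
    have h2 := hpos i hi
    omega
  -- bound on `B`
  have hBle : ∀ i ∈ T, B i = -1 ∨ B i = 0 ∨ B i = 1 := by
    intro i hi
    have h1 : B i ^ 2 ≤ ∑ j ∈ T, B j ^ 2 :=
      Finset.single_le_sum (f := fun j => B j ^ 2) (fun j _ => sq_nonneg _) hi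
    rw [hB2] at h1
    have h2 : -1 ≤ B i := by nlinarith
    have h3 : B i ≤ 1 := by nlinarith
    omega
  -- joint classification
  have hjoint : ∀ i ∈ T, (B i = 0 ∧ d i = 55) ∨ (B i = 1 ∧ (d i = 11 ∨ d i = 66)) ∨
      (B i = -1 ∧ d i = 44) := by
    intro i hi
    obtain ⟨c, hc⟩ := hcong i hi
    have h1 := hcls i hi
    have h2 := hBle i hi
    omega
  -- first index with `B ≠ 0`
  obtain ⟨j₁, hj₁T, hj₁⟩ : ∃ j ∈ T, B j ≠ 0 := by
    by_contra hcon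
    have h0 : ∀ j ∈ T, B j ^ 2 = 0 := by
      intro j hj
      have : B j = 0 := by
        by_contra hne
        exact hcon ⟨j, hj, hne⟩
      rw [this]; norm_num
    rw [Finset.sum_eq_zero h0] at hB2
    norm_num at hB2
  have hB1sq : B j₁ ^ 2 = 1 := by
    rcases hBle j₁ hj₁T with h | h | h
    · rw [h]; norm_num
    · exact absurd h hj₁
    · rw [h]; norm_num
  have hsplitB := Finset.add_sum_erase T (fun j => B j ^ 2) hj₁T
  have hsplitL := Finset.add_sum_erase T (fun j => (d j : ℤ) * B j) hj₁T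
  have hsplitS := Finset.add_sum_erase T (fun j => d j ^ 2) hj₁T
  rw [hB2, hB1sq] at hsplitB
  rw [hlin] at hsplitL
  rw [hsq] at hsplitS
  have hB2' : ∑ j ∈ T.erase j₁, B j ^ 2 = 1 := by linarith
  obtain ⟨j₂, hj₂T₁, hj₂⟩ : ∃ j ∈ T.erase j₁, B j ≠ 0 := by
    by_contra hcon
    have h0 : ∀ j ∈ T.erase j₁, B j ^ 2 = 0 := by
      intro j hj
      have : B j = 0 := by
        by_contra hne
        exact hcon ⟨j, hj, hne⟩
      rw [this]; norm_num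
    rw [Finset.sum_eq_zero h0] at hB2'
    norm_num at hB2'
  have hj₂T : j₂ ∈ T := Finset.mem_of_mem_erase hj₂T₁
  have hj₂ne : j₂ ≠ j₁ := Finset.ne_of_mem_erase hj₂T₁
  have hB2sq : B j₂ ^ 2 = 1 := by
    rcases hBle j₂ hj₂T with h | h | h
    · rw [h]; norm_num
    · exact absurd h hj₂
    · rw [h]; norm_num
  have hsplitB2 := Finset.add_sum_erase (T.erase j₁) (fun j => B j ^ 2) hj₂T₁
  have hsplitL2 := Finset.add_sum_erase (T.erase j₁) (fun j => (d j : ℤ) * B j) hj₂T₁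
  have hsplitS2 := Finset.add_sum_erase (T.erase j₁) (fun j => d j ^ 2) hj₂T₁
  rw [hB2', hB2sq] at hsplitB2
  have hB2'' : ∑ j ∈ (T.erase j₁).erase j₂, B j ^ 2 = 0 := by linarith
  have hBzero : ∀ j ∈ (T.erase j₁).erase j₂, B j = 0 := by
    intro j hj
    have h1 := (Finset.sum_eq_zero_iff_of_nonneg (fun i _ => sq_nonneg (B i))).1 hB2'' j hj
    exact pow_eq_zero_iff (two_ne_zero) |>.1 h1
  have hmemT : ∀ j ∈ (T.erase j₁).erase j₂, j ∈ T := fun j hj =>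
    Finset.mem_of_mem_erase (Finset.mem_of_mem_erase hj)
  have hd55 : ∀ j ∈ (T.erase j₁).erase j₂, d j = 55 := by
    intro j hj
    have h1 := hjoint j (hmemT j hj)
    have h2 := hBzero j hj
    omega
  have hL0 : ∑ j ∈ (T.erase j₁).erase j₂, (d j : ℤ) * B j = 0 := by
    apply Finset.sum_eq_zero
    intro j hj
    rw [hBzero j hj, mul_zero]
  have hS55 : ∑ j ∈ (T.erase j₁).erase j₂, d j ^ 2 = ((T.erase j₁).erase j₂).card * 3025 := by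
    rw [Finset.sum_congr rfl (fun j hj => by rw [hd55 j hj])]
    rw [Finset.sum_const, smul_eq_mul]
    norm_num
  rw [hL0, add_zero] at hsplitL2
  rw [hS55] at hsplitS2
  have hL : (d j₁ : ℤ) * B j₁ + (d j₂ : ℤ) * B j₂ = -33 := by linarith
  have hS : d j₁ ^ 2 + (d j₂ ^ 2 + ((T.erase j₁).erase j₂).card * 3025) = 5082 := by
    rw [hsplitS2]; exact hsplitS
  have hJ1 := hjoint j₁ hj₁T
  have hJ2 := hjoint j₂ hj₂T
  -- the two possible configurations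
  have hconf : (d j₁ = 11 ∧ d j₂ = 44) ∨ (d j₁ = 44 ∧ d j₂ = 11) := by
    rcases hJ1 with ⟨h, _⟩ | ⟨hb1, hd1 | hd1⟩ | ⟨hb1, hd1⟩
    · exact absurd h hj₁
    · rcases hJ2 with ⟨h, _⟩ | ⟨hb2, hd2 | hd2⟩ | ⟨hb2, hd2⟩
      · exact absurd h hj₂
      · rw [hb1, hb2, hd1, hd2] at hL; norm_num at hL
      · rw [hb1, hb2, hd1, hd2] at hL; norm_num at hL
      · exact Or.inl ⟨hd1, hd2⟩
    · rcases hJ2 with ⟨h, _⟩ | ⟨hb2, hd2 | hd2⟩ | ⟨hb2, hd2⟩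
      · exact absurd h hj₂
      · rw [hb1, hb2, hd1, hd2] at hL; norm_num at hL
      · rw [hb1, hb2, hd1, hd2] at hL; norm_num at hL
      · rw [hb1, hb2, hd1, hd2] at hL; norm_num at hL
    · rcases hJ2 with ⟨h, _⟩ | ⟨hb2, hd2 | hd2⟩ | ⟨hb2, hd2⟩
      · exact absurd h hj₂
      · exact Or.inr ⟨hd1, hd2⟩
      · rw [hb1, hb2, hd1, hd2] at hL; norm_num at hL
      · rw [hb1, hb2, hd1, hd2] at hL; norm_num at hL
  have hcard : ((T.erase j₁).erase j₂).card = 1 := by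
    rcases hconf with ⟨h1, h2⟩ | ⟨h1, h2⟩
    · rw [h1, h2] at hS; omega
    · rw [h1, h2] at hS; omega
  obtain ⟨t₃, ht₃⟩ := Finset.card_eq_one.1 hcard
  have ht₃mem : t₃ ∈ (T.erase j₁).erase j₂ := by rw [ht₃]; exact Finset.mem_singleton_self _
  have ht₃T : t₃ ∈ T := hmemT t₃ ht₃mem
  have ht₃ne2 : t₃ ≠ j₂ := Finset.ne_of_mem_erase ht₃mem
  have ht₃ne1 : t₃ ≠ j₁ := Finset.ne_of_mem_erase (Finset.mem_of_mem_erase ht₃mem)
  have hall : ∀ i ∈ T, i = j₁ ∨ i = j₂ ∨ i = t₃ := by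
    intro i hi
    by_cases h1 : i = j₁
    · exact Or.inl h1
    · by_cases h2 : i = j₂
      · exact Or.inr (Or.inl h2)
      · have : i ∈ (T.erase j₁).erase j₂ :=
          Finset.mem_erase.2 ⟨h2, Finset.mem_erase.2 ⟨h1, hi⟩⟩
        rw [ht₃] at this
        exact Or.inr (Or.inr (Finset.mem_singleton.1 this))
  rcases hconf with ⟨h1, h2⟩ | ⟨h1, h2⟩
  · exact ⟨j₁, j₂, t₃, hj₁T, hj₂T, ht₃T, hj₂ne.symm, ht₃ne1.symm, ht₃ne2.symm, h1, h2,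
      hd55 t₃ ht₃mem, hall⟩
  · refine ⟨j₂, j₁, t₃, hj₂T, hj₁T, ht₃T, hj₂ne, ht₃ne2.symm, ht₃ne1.symm, h2, h1,
      hd55 t₃ ht₃mem, ?_⟩
    intro i hi
    rcases hall i hi with h | h | h
    · exact Or.inr (Or.inl h)
    · exact Or.inl h
    · exact Or.inr (Or.inr h)

end Cfsg.Agent.Lib.H10.M7920
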