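import Mathlib
import Cfsg.Agent.Lib.H26.MC3Defs
import Cfsg.Agent.Lib.H19.MetaPow

/-!
# S4079 piece G3: in a metacyclic `p`-group (`p` odd) without cyclic subgroups of index `p`, every element of order
dividing `p` is a `p`-th power

Coordinates `L = ⟨a⟩⟨b⟩`, `N = ⟨a⟩`, `b y b⁻¹ = y^r`.  With `|L:N| = p^s`, `b^(p^s) = a^w`, the index of `⟨b⟩` is
`gcd(o(a), w)`, so `p² ∣ o(a)`, `p² ∣ w`, `s ≥ 2`; the power formula does the rest.
-/

set_option autoImplicit false

namespace Cfsg.Agent.Lib.H10.MC3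

open Cfsg.Agent.Lib.H26.MC3 Cfsg.Agent.Lib.H19.MC

universe u

variable {p : ℕ} [Fact p.Prime] {L : Type u} [Group L] [Finite L]

/-- under `Hyp` the group is not cyclic -/
theorem not_isCyclic_of_hyp (h : Hyp p L) : ¬ IsCyclic L := by
  intro hc
  have hp := (Fact.out : p.Prime)
  have hnt := h.hnt
  obtain ⟨m, hm⟩ := h.hL.exists_card_eq
  have hm0 : m ≠ 0 := by
    intro h0
    rw [h0, pow_zero] at hm
    have := Finite.one_lt_card (α := L)
    omega
  obtain ⟨m', rfl⟩ : ∃ m', m = m' + 1 := ⟨m - 1, by omega⟩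
  obtain ⟨K, hK⟩ := Sylow.exists_subgroup_card_pow_prime p (G := L) (n := m')
    (by rw [hm]; exact pow_dvd_pow p (Nat.le_succ _))
  have hKc : IsCyclic ↥K := inferInstance
  refine h.hnc K hKc ?_
  have h1 := K.index_mul_card
  rw [hK, hm, pow_succ] at h1
  have hpos : 0 < p ^ m' := pow_pos hp.pos _
  have : K.index * p ^ m' = p * p ^ m' := by rw [h1]; ring
  exact Nat.eq_of_mul_eq_mul_right hpos this

/-- the numerical facts on the coordinates: `s ≥ 2`, `b^(p^s) = a^w`, `p² ∣ o(a)`, `p² ∣ w` -/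
theorem coords_facts (h : Hyp p L) (N : Subgroup L) [N.Normal] (hNc : IsCyclic ↥N) {a b : L} {r : ℕ}
    (c : Coords p N a b r) :
    ∃ s w : ℕ, N.index = p ^ (s + 2) ∧ b ^ (p ^ (s + 2)) = a ^ w ∧ p ^ 2 ∣ orderOf a ∧ p ^ 2 ∣ w ∧
      N ⊔ Subgroup.zpowers b = ⊤ := by
  have hp := (Fact.out : p.Prime)
  have hncyc := not_isCyclic_of_hyp h
  obtain ⟨s, hs⟩ := h.hL.index N
  have hx : N ⊔ Subgroup.zpowers b = ⊤ := by
    rw [eq_top_iff]
    intro g _
    obtain ⟨j, i, rfl⟩ := c.hgen g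
    exact Subgroup.mul_mem_sup (c.pow_mem j) (Subgroup.pow_mem _ (Subgroup.mem_zpowers b) i)
  have hmem := fun n => pow_mem_iff_index_dvd hx n
  -- `s ≥ 2`
  have hs2 : 2 ≤ s := by
    by_contra hlt
    have h01 : s = 0 ∨ s = 1 := by omega
    rcases h01 with h0 | h1
    · rw [h0, pow_zero] at hs
      have hN : N = ⊤ := Subgroup.index_eq_one.mp hs
      apply hncyc
      refine ⟨⟨a, fun g => ?_⟩⟩
      obtain ⟨t, ht⟩ := c.hN g (hN ▸ Subgroup.mem_top g)
      exact ⟨(t : ℤ), by simp [ht]⟩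
    · rw [h1, pow_one] at hs
      exact h.hnc N hNc hs
  obtain ⟨s', rfl⟩ : ∃ s', s = s' + 2 := ⟨s - 2, by omega⟩
  have hbN : b ^ (p ^ (s' + 2)) ∈ N := (hmem _).mpr (by rw [hs])
  obtain ⟨w, hw⟩ := c.hN _ hbN
  refine ⟨s', w, hs, hw, ?_⟩
  -- cardinalities
  have hNz : N = Subgroup.zpowers a := by
    apply le_antisymm
    · intro y hy
      obtain ⟨t, rfl⟩ := c.hN y hy
      exact Subgroup.pow_mem _ (Subgroup.mem_zpowers a) t
    · exact (Subgroup.zpowers_le).mpr c.haN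
  have hcardN : Nat.card ↥N = orderOf a := by rw [hNz, Nat.card_zpowers]
  have hcardL : Nat.card L = orderOf a * p ^ (s' + 2) := by
    rw [← N.card_mul_index, hcardN, hs]
  have hApos : 0 < orderOf a := orderOf_pos a
  have hps : p ^ (s' + 2) ≠ 0 := (pow_pos hp.pos _).ne'
  have hdvdb : p ^ (s' + 2) ∣ orderOf b := by
    have : b ^ orderOf b ∈ N := by rw [pow_orderOf_eq_one]; exact N.one_mem
    have := (hmem _).mp this
    rwa [hs] at this
  have ho1 : orderOf (b ^ p ^ (s' + 2)) = orderOf b / p ^ (s' + 2) := orderOf_pow_of_dvd hps hdvdb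
  have ho2 : orderOf (a ^ w) = orderOf a / Nat.gcd (orderOf a) w := orderOf_pow a
  rw [hw, ho2] at ho1
  have hob : orderOf b = p ^ (s' + 2) * (orderOf a / Nat.gcd (orderOf a) w) := by
    rw [ho1]
    exact (Nat.mul_div_cancel' hdvdb).symm
  set g := Nat.gcd (orderOf a) w with hg
  have hgA : g ∣ orderOf a := Nat.gcd_dvd_left _ _
  have hgw : g ∣ w := Nat.gcd_dvd_right _ _
  have hgpos : 0 < g := Nat.gcd_pos_of_pos_left _ hApos
  have hqpos : 0 < orderOf a / g := Nat.div_pos (Nat.le_of_dvd hApos hgA) hgpos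
  have hidx : (Subgroup.zpowers b).index = g := by
    have h1 := (Subgroup.zpowers b).index_mul_card
    rw [Nat.card_zpowers, hcardL, hob] at h1
    have h2 : orderOf a = g * (orderOf a / g) := (Nat.mul_div_cancel' hgA).symm
    have h3 : (Subgroup.zpowers b).index * (p ^ (s' + 2) * (orderOf a / g)) =
        g * (p ^ (s' + 2) * (orderOf a / g)) := by
      rw [h1]
      conv_lhs => rw [h2]
      ring
    exact Nat.eq_of_mul_eq_mul_right (Nat.mul_pos (pow_pos hp.pos _) hqpos) h3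
  -- `g` is a power of `p`, not `1`, not `p`
  obtain ⟨α, hα⟩ := h.hL.exists_card_eq
  have hAα : orderOf a ∣ p ^ α := by
    rw [← hα]
    exact orderOf_dvd_natCard a
  obtain ⟨β, _, hβ⟩ := (Nat.dvd_prime_pow hp).mp (hgA.trans hAα)
  have hβ0 : β ≠ 0 := by
    intro h0
    rw [h0, pow_zero] at hβ
    rw [hβ] at hidx
    have htop : Subgroup.zpowers b = ⊤ := Subgroup.index_eq_one.mp hidx
    have hall : ∀ x : L, x ∈ Subgroup.zpowers b := fun x => by rw [htop]; exact Subgroup.mem_top x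
    exact hncyc ⟨⟨b, hall⟩⟩
  have hβ1 : β ≠ 1 := by
    intro h1
    rw [h1, pow_one] at hβ
    rw [hβ] at hidx
    exact h.hnc _ inferInstance hidx
  have hp2g : p ^ 2 ∣ g := by
    rw [hβ]
    exact pow_dvd_pow p (by omega)
  exact ⟨hp2g.trans hgA, hp2g.trans hgw, hx⟩

/-- **G3** -/
theorem exists_pow_eq (h : Hyp p L) {e : L} (he : e ^ p = 1) : ∃ x : L, x ^ p = e := by
  have hp := (Fact.out : p.Prime)
  obtain ⟨N, hNn, hNc, hQ⟩ := h.hmc
  obtain ⟨a, b, r, c⟩ := exists_coordsR h.hL N hNc hQ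
  obtain ⟨s, w, hs, hw, hA2, hw2, hx⟩ := coords_facts h N hNc c
  have hmem := fun n => pow_mem_iff_index_dvd hx n
  obtain ⟨j, i, rfl⟩ := c.hgen e
  have hpf := c.pow_formula j i p
  rw [he] at hpf
  -- `b^(i p) ∈ N`
  have hbip : b ^ (i * p) ∈ N := by
    have h1 := eq_inv_of_mul_eq_one_right hpf.symm
    rw [h1]
    exact N.inv_mem (c.pow_mem _)
  have hdv := (hmem _).mp hbip
  rw [hs] at hdv
  obtain ⟨t, ht⟩ := hdv
  -- `i = p * k`
  have hik : i = p * (p ^ s * t) := by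
    have h1 : p * i = p * (p * (p ^ s * t)) := by
      rw [mul_comm p i, ht]
      ring
    exact Nat.eq_of_mul_eq_mul_left hp.pos h1
  set k := p ^ s * t with hk
  -- `b^(i p) = a^(w t)`
  have hbw : b ^ (i * p) = a ^ (w * t) := by
    rw [ht, pow_mul, hw, ← pow_mul]
  rw [hbw, ← pow_add] at hpf
  have hAd : orderOf a ∣ j * geomSum (r ^ i) p + w * t := orderOf_dvd_of_pow_eq_one hpf.symm
  obtain ⟨ui, hGi, hui⟩ := geomSum_prime_pow h.hp2 (pow_mod_prime_eq_one hp.one_lt c.hr i) 1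
  rw [pow_one] at hGi
  -- `p ∣ j`
  have hpj : p ∣ j := by
    have h1 : p ^ 2 ∣ j * geomSum (r ^ i) p + w * t := hA2.trans hAd
    have h2 : p ^ 2 ∣ w * t := Dvd.dvd.mul_right hw2 t
    have h3 : p ^ 2 ∣ j * geomSum (r ^ i) p := (Nat.dvd_add_left h2).mp h1
    rw [hGi] at h3
    have h4 : p * p ∣ p * (j * ui) := by
      have : j * (p * ui) = p * (j * ui) := by ring
      rw [← this, ← pow_two]
      exact h3
    have h5 : p ∣ j * ui := Nat.dvd_of_mul_dvd_mul_left hp.pos h4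
    rcases (Nat.Prime.dvd_mul hp).mp h5 with h6 | h6
    · exact h6
    · exact absurd h6 hui
  obtain ⟨j', rfl⟩ := hpj
  -- the inverse of `u_k` modulo `o(a)`
  obtain ⟨uk, hGk, huk⟩ := geomSum_prime_pow h.hp2 (pow_mod_prime_eq_one hp.one_lt c.hr k) 1
  rw [pow_one] at hGk
  obtain ⟨α, hα⟩ := h.hL.exists_card_eq
  have hAα : orderOf a ∣ p ^ α := by
    rw [← hα]
    exact orderOf_dvd_natCard a
  obtain ⟨γ, _, hγ⟩ := (Nat.dvd_prime_pow hp).mp hAα
  have hcop : Nat.Coprime uk (orderOf a) := by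
    rw [hγ]
    exact Nat.Coprime.pow_right _ ((Nat.Prime.coprime_iff_not_dvd hp).mpr huk).symm
  have hA1 : 1 < orderOf a := by
    have h1 : p ^ 2 ≤ orderOf a := Nat.le_of_dvd (orderOf_pos a) hA2
    have h2 : 2 ≤ p := hp.two_le
    nlinarith
  obtain ⟨v, _, hv⟩ := Nat.exists_mul_mod_eq_one_of_coprime hcop hA1
  refine ⟨a ^ (j' * v) * b ^ k, ?_⟩
  rw [c.pow_formula, hGk, hik]
  congr 1
  · rw [pow_eq_pow_iff_modEq]
    have h1 : uk * v ≡ 1 [MOD orderOf a] := by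
      rw [Nat.ModEq, hv, Nat.mod_eq_of_lt hA1]
    calc j' * v * (p * uk) = (uk * v) * (p * j') := by ring
      _ ≡ 1 * (p * j') [MOD orderOf a] := h1.mul_right _
      _ = p * j' := one_mul _
  · rw [mul_comm]

end Cfsg.Agent.Lib.H10.MC3
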