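import Mathlib
import Cfsg.Agent.Lib.H26.MC3Defs
import Cfsg.Agent.Lib.H26.MC3G1

/-!
# S4079 piece G7: `(g k)^p = g^p k^p d^p` with `d ∈ L'` in a metacyclic `p`-group, `p` odd

Modulo the subgroup `M` of `p`-th powers of the cyclic group `L'` the commutators are central (every element acts on
`L'` as a power map `≡ 1 (mod p)`) of order dividing `p`, so the class-two formula gives `(ḡ k̄)^p = ḡ^p k̄^p`.
-/

set_option autoImplicit false

namespace Cfsg.Agent.Lib.H10.MC3

open Cfsg.Agent.Lib.H26.MC3 Cfsg.Agent.Lib.H19.MC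

universe u

variable {p : ℕ} [Fact p.Prime] {L : Type u} [Group L]

/-- the subgroup of `p`-th powers of the elements of a commutative subgroup -/
def powSub (p : ℕ) (C : Subgroup L) (hC : ∀ x ∈ C, ∀ y ∈ C, x * y = y * x) : Subgroup L where
  carrier := {y | ∃ d ∈ C, d ^ p = y}
  one_mem' := ⟨1, C.one_mem, one_pow p⟩
  mul_mem' := by
    rintro _ _ ⟨d1, h1, rfl⟩ ⟨d2, h2, rfl⟩
    exact ⟨d1 * d2, C.mul_mem h1 h2, (show Commute d1 d2 from hC d1 h1 d2 h2).mul_pow p⟩
  inv_mem' := by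
    rintro _ ⟨d, h, rfl⟩
    exact ⟨d⁻¹, C.inv_mem h, inv_pow d p⟩

theorem mem_powSub (p : ℕ) (C : Subgroup L) (hC : ∀ x ∈ C, ∀ y ∈ C, x * y = y * x) (y : L) :
    y ∈ powSub p C hC ↔ ∃ d ∈ C, d ^ p = y := Iff.rfl

theorem powSub_normal (p : ℕ) (C : Subgroup L) [hn : C.Normal] (hC : ∀ x ∈ C, ∀ y ∈ C, x * y = y * x) :
    (powSub p C hC).Normal := by
  constructor
  rintro _ ⟨d, hd, rfl⟩ g
  exact ⟨g * d * g⁻¹, hn.conj_mem d hd g, conj_pow⟩

variable [Finite L]

/-- **G7** -/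
theorem mul_pow_mod (hp2 : p ≠ 2) (hL : IsPGroup p L) (hmc : Cfsg.IsMetacyclic L) (g k : L) :
    ∃ d ∈ commutator L, (g * k) ^ p = g ^ p * k ^ p * d ^ p := by
  have hp := (Fact.out : p.Prime)
  have hcyc : IsCyclic ↥(commutator L) := isCyclic_commutator hmc
  have hcm : IsMulCommutative ↥(commutator L) := hcyc.isMulCommutative
  have hC : ∀ x ∈ commutator L, ∀ y ∈ commutator L, x * y = y * x := fun x hx y hy =>
    congrArg Subtype.val (hcm.is_comm.comm ⟨x, hx⟩ ⟨y, hy⟩)
  have hMn : (powSub p (commutator L) hC).Normal := powSub_normal p _ hC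
  -- commutators are central modulo `M`
  have hcent : ∀ x c : L, c ∈ commutator L → x * c * x⁻¹ * c⁻¹ ∈ powSub p (commutator L) hC := by
    intro x c hc
    obtain ⟨ρ, hρ, hconj⟩ := exists_pow_conj hL (commutator L) hcyc x
    rw [hconj c hc]
    obtain ⟨t, ht⟩ : ∃ t, ρ = p * t + 1 := ⟨ρ / p, by
      have := Nat.div_add_mod ρ p
      rw [hρ] at this
      omega⟩
    refine ⟨c ^ t, Subgroup.pow_mem _ hc t, ?_⟩
    rw [ht, pow_add, pow_one, mul_assoc, mul_inv_cancel, mul_one, ← pow_mul, mul_comm t p]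
  -- the commutator of `k` and `g`
  have hw : k * g * k⁻¹ * g⁻¹ ∈ commutator L := by
    rw [commutator_eq_closure]
    exact Subgroup.subset_closure ⟨k, g, commutatorElement_def k g⟩
  have hwp : (k * g * k⁻¹ * g⁻¹) ^ p ∈ powSub p (commutator L) hC := ⟨_, hw, rfl⟩
  -- pass to the quotient
  have hcentQ : ∀ q : L ⧸ powSub p (commutator L) hC,
      q * ((k : L ⧸ powSub p (commutator L) hC) * (g : L ⧸ powSub p (commutator L) hC) *
        (k : L ⧸ powSub p (commutator L) hC)⁻¹ * (g : L ⧸ powSub p (commutator L) hC)⁻¹) =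
      ((k : L ⧸ powSub p (commutator L) hC) * (g : L ⧸ powSub p (commutator L) hC) *
        (k : L ⧸ powSub p (commutator L) hC)⁻¹ * (g : L ⧸ powSub p (commutator L) hC)⁻¹) * q := by
    intro q
    obtain ⟨x, rfl⟩ := QuotientGroup.mk_surjective q
    have h1 := (QuotientGroup.eq_one_iff (N := powSub p (commutator L) hC) _).mpr
      (hcent x _ hw)
    simp only [QuotientGroup.mk_mul, QuotientGroup.mk_inv] at h1
    have h2 := mul_inv_eq_one.mp h1
    rw [mul_inv_eq_iff_eq_mul] at h2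
    exact h2
  have hpow := Cfsg.Agent.Lib.H22.mul_pow_of_central hcentQ p
  have hodd : Odd p := hp.eq_two_or_odd'.resolve_left hp2
  obtain ⟨t, ht⟩ := hodd
  have htri : p * (p - 1) / 2 = p * t := by
    have : p - 1 = 2 * t := by omega
    rw [this, ← mul_assoc, mul_comm p 2, mul_assoc, Nat.mul_div_cancel_left _ two_pos]
  have hwQ : ((k : L ⧸ powSub p (commutator L) hC) * (g : L ⧸ powSub p (commutator L) hC) *
        (k : L ⧸ powSub p (commutator L) hC)⁻¹ * (g : L ⧸ powSub p (commutator L) hC)⁻¹) ^ p = 1 := by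
    have h1 := (QuotientGroup.eq_one_iff (N := powSub p (commutator L) hC) _).mpr hwp
    simpa only [QuotientGroup.mk_mul, QuotientGroup.mk_inv, QuotientGroup.mk_pow] using h1
  rw [htri, pow_mul, hwQ, one_pow, mul_one] at hpow
  -- back to `L`
  have hmem : (g ^ p * k ^ p)⁻¹ * (g * k) ^ p ∈ powSub p (commutator L) hC := by
    rw [← QuotientGroup.eq_one_iff]
    simp only [QuotientGroup.mk_mul, QuotientGroup.mk_inv, QuotientGroup.mk_pow]
    rw [hpow]
    exact inv_mul_cancel _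
  obtain ⟨d, hd, hdp⟩ := hmem
  refine ⟨d, hd, ?_⟩
  rw [hdp]
  group

end Cfsg.Agent.Lib.H10.MC3
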