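import Mathlib
import Cfsg.Agent.Lib.H26.NGPDefs

/-!
# S1904 piece CASEI (`caseI_false`), version with the inputs HC (roots), X1, NU as hypotheses (helper10)

Counting-free: the involution `t = x * c⁻¹ * e²` is written down explicitly
(`x * x = c * c`, `e ^ 4 = cm c x`).
-/

set_option autoImplicit false

namespace Cfsg.Agent.Lib.H10.NGP

open Cfsg.Agent.Lib.H26.NGP

universe u

variable {X : Type u} [Group X] [Finite X]

omit [Finite X] in
/-- elements of `U` square to one -/
theorem usetup_sq {A : Subgroup (MulAut X)} {ρ : MulAut X} {z : X} {U : Subgroup X}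
    (hU : USetup A ρ z U) : ∀ v ∈ U, v * v = 1 := by
  intro v hv
  rcases (hU.memU v).mp hv with rfl | rfl | rfl | rfl
  · exact one_mul 1
  · exact hU.zz
  · rw [← map_mul, hU.zz, map_one]
  · rw [← map_mul, ← map_mul, hU.zz, map_one, map_one]

omit [Finite X] in
/-- CASEI from its inputs. -/
theorem caseI_false_of {A : Subgroup (MulAut X)} {ρ : MulAut X} {z : X}
    {U B : Subgroup X} {n : ℕ} (hU : USetup A ρ z U) (hB : BSetup A U B n) (hn : 3 ≤ n)
    (hroot : ∀ k : ℕ, k ≤ n → ∀ b ∈ B, b ^ 2 ^ k = 1 → ∃ c ∈ B, c ^ 2 ^ (n - k) = b)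
    (hx1 : ∀ y : X, (∀ b ∈ B, cm b y ∈ U) → (∀ g : X, cm g y ∈ B) ∧ y * y ∈ B)
    (hnu : ∀ N : Subgroup X, N.Normal → Ab N → ∀ t ∈ N, t * t = 1 → t ∈ U)
    (x : X) (hxB : x ∉ B) (hx : ∀ b ∈ B, cm b x ∈ U)
    (hinj : ∀ b ∈ B, cm b x = 1 → ∃ c ∈ B, b = c * c) : False := by
  have hab := hB.homo.ab
  have hsqU := usetup_sq hU
  have hcen : ∀ v ∈ U, ∀ g : X, g * v = v * g := fun v hv g =>
    Subgroup.mem_center_iff.mp (hU.central hv) g
  -- roots: fourth roots of involutions, square roots of elements of order dividing 4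
  have hroot4 : ∀ v ∈ B, v * v = 1 → ∃ e ∈ B, (e * e) * (e * e) = v := by
    intro v hv hvv
    obtain ⟨e₀, he₀, he⟩ := hroot 1 (by omega) v hv (by rw [pow_one, pow_two]; exact hvv)
    refine ⟨e₀ ^ 2 ^ (n - 3), B.pow_mem he₀ _, ?_⟩
    rw [← he, ← pow_two, ← pow_two, ← pow_mul, ← pow_mul]
    congr 1
    have : n - 1 = (n - 3) + 2 := by omega
    rw [this, pow_add]
    ring
  have hroot2 : ∀ v ∈ B, (v * v) * (v * v) = 1 → ∃ d ∈ B, d * d = v := by
    intro v hv hvv
    obtain ⟨d₀, hd₀, hd⟩ := hroot 2 (by omega) v hv (by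
      rw [show (2 : ℕ) ^ 2 = 2 * 2 by norm_num, pow_mul, pow_two, pow_two]; exact hvv)
    refine ⟨d₀ ^ 2 ^ (n - 3), B.pow_mem hd₀ _, ?_⟩
    rw [← hd, ← pow_two, ← pow_mul]
    congr 1
    have : n - 2 = (n - 3) + 1 := by omega
    rw [this, pow_add]
    ring
  -- the general facts about `θ_y b = cm b y` for `y` acting trivially on `B` modulo `U`
  have hmul : ∀ y : X, (∀ b ∈ B, cm b y ∈ U) → ∀ a ∈ B, ∀ b ∈ B,
      cm (a * b) y = cm a y * cm b y := by
    intro y hy a ha b hb
    have h1 : cm (a * b) y = a * cm b y * a⁻¹ * cm a y := by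
      simp only [cm_def]; group
    rw [h1, hcen _ (hy b hb) a, mul_inv_cancel_right]
    exact (hcen _ (hy b hb) _).symm
  have hsqker : ∀ y : X, (∀ b ∈ B, cm b y ∈ U) → ∀ d ∈ B, cm (d * d) y = 1 := by
    intro y hy d hd
    rw [hmul y hy d hd d hd]
    exact hsqU _ (hy d hd)
  -- `(y * b) * (y * b) = cm b y * (y * y) * (b * b)`
  have hsq : ∀ y : X, (∀ b ∈ B, cm b y ∈ U) → ∀ b ∈ B,
      (y * b) * (y * b) = cm b y * (y * y) * (b * b) := by
    intro y hy b hb
    have h1 : b * y = cm b y * (y * b) := by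
      simp only [cm_def]; group
    have h2 : y * cm b y = cm b y * y := hcen _ (hy b hb) y
    calc (y * b) * (y * b) = y * (b * y) * b := by group
      _ = (y * cm b y) * (y * b) * b := by rw [h1]; group
      _ = (cm b y * y) * (y * b) * b := by rw [h2]
      _ = cm b y * (y * y) * (b * b) := by group
  -- kernel of `λ_y b = cm b y * (b * b)` lies in `U`
  have hker : ∀ y : X, (∀ b ∈ B, cm b y ∈ U) → ∀ b ∈ B, cm b y * (b * b) = 1 → b ∈ U := by
    intro y hy b hb h
    have hbb : b * b = (cm b y)⁻¹ := (mul_eq_one_iff_inv_eq.mp h).symm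
    have hbbU : b * b ∈ U := by rw [hbb]; exact U.inv_mem (hy b hb)
    obtain ⟨d, hd, hdd⟩ := hroot2 b hb (hsqU _ hbbU)
    have h1 : cm b y = 1 := by rw [← hdd]; exact hsqker y hy d hd
    rw [h1, one_mul] at h
    exact hB.invol b hb h
  -- `x * x = c * c`
  obtain ⟨hgx, hxx⟩ := hx1 x hx
  obtain ⟨c, hc, hxc⟩ := hinj (x * x) hxx (by simp only [cm_def]; group)
  obtain ⟨e, he, hee⟩ := hroot4 (cm c x) (hB.UB (hx c hc)) (hsqU _ (hx c hc))
  -- the involution `t`
  have hb0 : c⁻¹ * (e * e) ∈ B := B.mul_mem (B.inv_mem hc) (B.mul_mem he he)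
  have hθc : cm c⁻¹ x = cm c x := by
    have h1 : cm (c⁻¹ * c) x = cm c⁻¹ x * cm c x := hmul x hx _ (B.inv_mem hc) _ hc
    rw [inv_mul_cancel] at h1
    have h2 : cm (1 : X) x = 1 := by simp only [cm_def]; group
    rw [h2] at h1
    have h3 : cm c x * cm c x = 1 := hsqU _ (hx c hc)
    calc cm c⁻¹ x = cm c⁻¹ x * (cm c x * cm c x) := by rw [h3, mul_one]
      _ = (cm c⁻¹ x * cm c x) * cm c x := by group
      _ = cm c x := by rw [← h1, one_mul]
  have hθb : cm (c⁻¹ * (e * e)) x = cm c x := by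
    rw [hmul x hx _ (B.inv_mem hc) _ (B.mul_mem he he), hsqker x hx e he, mul_one, hθc]
  have htt : (x * (c⁻¹ * (e * e))) * (x * (c⁻¹ * (e * e))) = 1 := by
    rw [hsq x hx _ hb0, hθb, hxc]
    have h1 : (c⁻¹ * (e * e)) * (c⁻¹ * (e * e)) = (c⁻¹ * c⁻¹) * ((e * e) * (e * e)) := by
      have := hab _ (B.mul_mem he he) _ (B.inv_mem hc)
      calc (c⁻¹ * (e * e)) * (c⁻¹ * (e * e)) = c⁻¹ * ((e * e) * c⁻¹) * (e * e) := by group
        _ = c⁻¹ * (c⁻¹ * (e * e)) * (e * e) := by rw [this]
        _ = (c⁻¹ * c⁻¹) * ((e * e) * (e * e)) := by group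
    rw [h1, hee]
    have h2 : cm c x * (c * c) * (c⁻¹ * c⁻¹ * cm c x) = cm c x * cm c x := by group
    rw [h2]
    exact hsqU _ (hx c hc)
  set t := x * (c⁻¹ * (e * e)) with ht
  have htB : t ∉ B := by
    intro h
    apply hxB
    have : x = t * (c⁻¹ * (e * e))⁻¹ := by rw [ht]; group
    rw [this]
    exact B.mul_mem h (B.inv_mem hb0)
  have hθt : ∀ b ∈ B, cm b t = cm b x := by
    intro b hb
    have h1 : cm b t = b * x * ((c⁻¹ * (e * e)) * b⁻¹) * (c⁻¹ * (e * e))⁻¹ * x⁻¹ := by
      rw [ht]; simp only [cm_def]; group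
    rw [h1, hab _ hb0 _ (B.inv_mem hb)]
    simp only [cm_def]; group
  have htU : ∀ b ∈ B, cm b t ∈ U := fun b hb => by rw [hθt b hb]; exact hx b hb
  obtain ⟨hgt, -⟩ := hx1 t htU
  -- conjugates of `t` lie in `U t`
  have hconj : ∀ g : X, cm g t ∈ U := by
    intro g
    have hb' := hgt g
    apply hker t htU _ hb'
    -- `(b' t)(b' t) = 1` with `b' = cm g t`
    have h1 : cm g t * t = g * t * g⁻¹ := by simp only [cm_def]; group
    have h2 : (cm g t * t) * (cm g t * t) = 1 := by
      rw [h1]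
      have : g * t * g⁻¹ * (g * t * g⁻¹) = g * (t * t) * g⁻¹ := by group
      rw [this, htt]; group
    -- expand
    have h3 : cm g t * t = cm (cm g t) t * (t * cm g t) := by
      simp only [cm_def]; group
    have h4 : (cm g t * t) * (cm g t * t) = cm (cm g t) t * (cm g t * cm g t) := by
      have e1 : (cm g t * t) * (cm g t * t) = cm g t * (t * cm g t) * t := by group
      have e2 : t * cm g t = (cm (cm g t) t)⁻¹ * (cm g t * t) := by
        rw [h3]; group
      rw [e1, e2]
      have hz := hcen _ (U.inv_mem (htU _ hb')) (cm g t)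
      calc cm g t * ((cm (cm g t) t)⁻¹ * (cm g t * t)) * t
          = (cm g t * (cm (cm g t) t)⁻¹) * cm g t * (t * t) := by group
        _ = ((cm (cm g t) t)⁻¹ * cm g t) * cm g t * (t * t) := by rw [hz]
        _ = (cm (cm g t) t)⁻¹ * (cm g t * cm g t) := by rw [htt]; group
        _ = cm (cm g t) t * (cm g t * cm g t) := by
            congr 1
            rw [inv_eq_iff_mul_eq_one]
            exact hsqU _ (htU _ hb')
    rw [h4] at h2
    exact h2
  -- the normal abelian subgroup `U ∪ U t`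
  let N : Subgroup X := Subgroup.closure ((U : Set X) ∪ {t})
  have hUN : U ≤ N := fun v hv => Subgroup.subset_closure (Or.inl hv)
  have htN : t ∈ N := Subgroup.subset_closure (Or.inr rfl)
  have hNn : N.Normal := by
    constructor
    intro a ha g
    induction ha using Subgroup.closure_induction with
    | mem a ha =>
      rcases ha with ha | ha
      · rw [hcen a ha g, mul_inv_cancel_right]
        exact hUN ha
      · rw [Set.mem_singleton_iff] at ha
        subst ha
        have : g * t * g⁻¹ = cm g t * t := by simp only [cm_def]; group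
        rw [this]
        exact N.mul_mem (hUN (hconj g)) htN
    | one => simp [N.one_mem]
    | mul a b _ _ iha ihb =>
      have : g * (a * b) * g⁻¹ = (g * a * g⁻¹) * (g * b * g⁻¹) := by group
      rw [this]
      exact N.mul_mem iha ihb
    | inv a _ iha =>
      have : g * a⁻¹ * g⁻¹ = (g * a * g⁻¹)⁻¹ := by group
      rw [this]
      exact N.inv_mem iha
  have hNab : Ab N := by
    have hcomm : ∀ a ∈ ((U : Set X) ∪ {t}), ∀ b ∈ ((U : Set X) ∪ {t}), a * b = b * a := by
      intro a ha b hb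
      rcases ha with ha | ha
      · exact (hcen a ha b).symm
      · rcases hb with hb | hb
        · exact hcen b hb a
        · rw [Set.mem_singleton_iff] at ha hb
          rw [ha, hb]
    intro a ha b hb
    have := (Subgroup.isMulCommutative_closure hcomm).is_comm.comm ⟨a, ha⟩ ⟨b, hb⟩
    exact congrArg Subtype.val this
  exact htB (hB.UB (hnu N hNn hNab t htN htt))

end Cfsg.Agent.Lib.H10.NGP
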