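import Mathlib
import Cfsg.Agent.Lib.H26.NGPDefs

/-!
# S1904: root extraction in a homocyclic group `Z_{2^n} × Z_{2^n}` (helper10; own copy of the HC fact
`homo_exists_root`, used by my pieces CASEI and IDEM)
-/

set_option autoImplicit false

namespace Cfsg.Agent.Lib.H10.NGP

open Cfsg.Agent.Lib.H26.NGP

universe u

variable {X : Type u} [Group X]

/-- Elements of order dividing `2^k` are `2^(n-k)`-th powers. -/
theorem homo_root {B : Subgroup X} {n : ℕ} (h : Homo B n) (k : ℕ) (hk : k ≤ n) :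
    ∀ b ∈ B, b ^ 2 ^ k = 1 → ∃ c ∈ B, c ^ 2 ^ (n - k) = b := by
  obtain ⟨x, y, hx, hy, -, -, hind, hgen⟩ := h.gen
  have hcomm : ∀ i j : ℕ, Commute (x ^ i) (y ^ j) := fun i j =>
    h.ab _ (B.pow_mem hx i) _ (B.pow_mem hy j)
  intro b hb hbk
  obtain ⟨i, j, rfl⟩ := hgen b hb
  rw [(hcomm i j).mul_pow, ← pow_mul, ← pow_mul] at hbk
  obtain ⟨hi, hj⟩ := hind _ _ hbk
  have hsplit : 2 ^ n = 2 ^ (n - k) * 2 ^ k := by
    rw [← pow_add]
    congr 1
    omega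
  rw [hsplit] at hi hj
  have hi' : 2 ^ (n - k) ∣ i := Nat.dvd_of_mul_dvd_mul_right (by positivity) hi
  have hj' : 2 ^ (n - k) ∣ j := Nat.dvd_of_mul_dvd_mul_right (by positivity) hj
  obtain ⟨i', rfl⟩ := hi'
  obtain ⟨j', rfl⟩ := hj'
  refine ⟨x ^ i' * y ^ j', B.mul_mem (B.pow_mem hx _) (B.pow_mem hy _), ?_⟩
  rw [(hcomm i' j').mul_pow, ← pow_mul, ← pow_mul, mul_comm i', mul_comm j']

end Cfsg.Agent.Lib.H10.NGP
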