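import Mathlib
import Cfsg.Agent.Lib.H26.NGPDefs
import Cfsg.Agent.Lib.H26.NGPNU
import Cfsg.Agent.Lib.H15.NGPX1
import Cfsg.Agent.Lib.H10.NGPRoot
import Cfsg.Agent.Lib.H10.NGPCASEIof

/-!
# S1904 piece CASEI (`caseI_false`), exact signature (helper10)
-/

set_option autoImplicit false

namespace Cfsg.Agent.Lib.H10.NGP

open Cfsg.Agent.Lib.H26.NGP

universe u

variable {X : Type u} [Group X] [Finite X]

/-- PIECE CASEI. -/
theorem caseI_false {A : Subgroup (MulAut X)} (hC : Ctx A) {ρ : MulAut X} {z : X}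
    {U B : Subgroup X} {n : ℕ} (hU : USetup A ρ z U) (hB : BSetup A U B n) (hn : 3 ≤ n)
    (x : X) (hxB : x ∉ B) (hx : ∀ b ∈ B, cm b x ∈ U)
    (hinj : ∀ b ∈ B, cm b x = 1 → ∃ c ∈ B, b = c * c) : False :=
  caseI_false_of hU hB hn (homo_root hB.homo)
    (fun y hy => Cfsg.Agent.Lib.H15.NGP.x1_props hB hU.central (usetup_sq hU) y hy)
    (fun N hNn hNab t ht htt => Cfsg.Agent.Lib.H26.NGP.invol_mem_U hC.ne hU N hNn hNab t ht htt)
    x hxB hx hinj

end Cfsg.Agent.Lib.H10.NGP
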