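import Mathlib
import Cfsg.Agent.Lib.H26.NGPDefs

/-!
# S1904 piece IDEM (`idem`), version with the root extraction of HC as a hypothesis (helper10)
-/

set_option autoImplicit false

namespace Cfsg.Agent.Lib.H10.NGP

open Cfsg.Agent.Lib.H26.NGP

universe u

variable {X : Type u} [Group X]

/-- `θ b = cm b x` on a normal abelian `B` with `x * x ∈ B`: values in `B`, multiplicative,
`θ (θ b) = θ b * θ b`. -/
theorem theta_facts {B : Subgroup X} (hBn : B.Normal) (hab : Ab B) (x : X) (hxx : x * x ∈ B) :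
    (∀ b ∈ B, cm b x ∈ B) ∧ (∀ a ∈ B, ∀ b ∈ B, cm (a * b) x = cm a x * cm b x) ∧
      (∀ b ∈ B, cm (cm b x) x = cm b x * cm b x) := by
  have hmem : ∀ b ∈ B, cm b x ∈ B := fun b hb => by
    rw [cm_def]
    have : b * x * b⁻¹ * x⁻¹ = b * (x * b⁻¹ * x⁻¹) := by group
    rw [this]
    exact B.mul_mem hb (hBn.conj_mem _ (B.inv_mem hb) x)
  refine ⟨hmem, ?_, ?_⟩
  · intro a ha b hb
    have h1 : cm (a * b) x = a * cm b x * a⁻¹ * cm a x := by
      simp only [cm_def]; group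
    have h2 : a * cm b x * a⁻¹ = cm b x := by
      rw [hab a ha _ (hmem b hb), mul_inv_cancel_right]
    rw [h1, h2]
    exact hab _ (hmem b hb) _ (hmem a ha)
  · intro b hb
    have hc : x * x * b = b * (x * x) := hab _ hxx _ hb
    have e1 : x * b * x⁻¹ = x⁻¹ * b * x := by
      have : x * b * x⁻¹ = x⁻¹ * (x * x * b) * x⁻¹ := by group
      rw [this, hc]
      group
    have l : cm (cm b x) x = b * x * b⁻¹ * (x * b * x⁻¹) * b⁻¹ * x⁻¹ := by
      simp only [cm_def]; group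
    have r : cm b x * cm b x = b * x * b⁻¹ * (x⁻¹ * b * x) * b⁻¹ * x⁻¹ := by
      simp only [cm_def]; group
    rw [l, r, e1]

/-- IDEM from the root extraction. -/
theorem idem_of {A : Subgroup (MulAut X)} {U B : Subgroup X} {n : ℕ} (hB : BSetup A U B n)
    (hn : 3 ≤ n) (hUc : U ≤ Subgroup.center X)
    (hroot : ∀ k : ℕ, k ≤ n → ∀ b ∈ B, b ^ 2 ^ k = 1 → ∃ c ∈ B, c ^ 2 ^ (n - k) = b)
    (x : X) (hxx : x * x ∈ B) :
    ∀ w ∈ B, w ^ 4 = 1 → ∃ c ∈ B, c ^ 4 = 1 ∧ c * c = cm w x ∧ cm c x = c * c := by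
  obtain ⟨hmem, hmul, hTT⟩ := theta_facts hB.normal hB.homo.ab x hxx
  intro w hw hw4
  obtain ⟨c₀, hc₀, hc⟩ := hroot 2 (by omega) w hw (by rw [show (2 : ℕ) ^ 2 = 4 by norm_num]; exact hw4)
  have hbB : c₀ ^ 2 ^ (n - 3) ∈ B := B.pow_mem hc₀ _
  have hbb : c₀ ^ 2 ^ (n - 3) * c₀ ^ 2 ^ (n - 3) = w := by
    rw [← hc, ← pow_two, ← pow_mul]
    congr 1
    have : n - 2 = (n - 3) + 1 := by omega
    rw [this, pow_add]
    ring
  set b := c₀ ^ 2 ^ (n - 3) with hb
  -- `b ^ 4` is an involution of `B`, hence central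
  have hb4 : (b * b) * (b * b) ∈ U := by
    apply hB.invol _ (B.mul_mem (B.mul_mem hbB hbB) (B.mul_mem hbB hbB))
    rw [hbb]
    have : w * w * (w * w) = w ^ 4 := by
      simp only [pow_succ, pow_zero, one_mul, mul_assoc]
    rw [this, hw4]
  have hθ4 : cm ((b * b) * (b * b)) x = 1 := by
    have := Subgroup.mem_center_iff.mp (hUc hb4) x
    simp only [cm_def]
    rw [← this]
    group
  refine ⟨cm b x, hmem b hbB, ?_, ?_, hTT b hbB⟩
  · have h1 : cm ((b * b) * (b * b)) x = (cm b x * cm b x) * (cm b x * cm b x) := by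
      rw [hmul _ (B.mul_mem hbB hbB) _ (B.mul_mem hbB hbB), hmul _ hbB _ hbB]
    rw [hθ4] at h1
    rw [h1]
    simp only [pow_succ, pow_zero, one_mul, mul_assoc]
  · rw [← hmul _ hbB _ hbB, hbb]

end Cfsg.Agent.Lib.H10.NGP
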