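import Mathlib
import Cfsg.Agent.Lib.H26.NGPDefs
import Cfsg.Agent.Lib.H10.NGPRoot
import Cfsg.Agent.Lib.H10.NGPIDEMof

/-!
# S1904 piece IDEM (`idem`), exact signature (helper10)
-/

set_option autoImplicit false

namespace Cfsg.Agent.Lib.H10.NGP

open Cfsg.Agent.Lib.H26.NGP

universe u

variable {X : Type u} [Group X] [Finite X]

/-- PIECE IDEM. -/
theorem idem {A : Subgroup (MulAut X)} {U B : Subgroup X} {n : ℕ} (hB : BSetup A U B n) (hn : 3 ≤ n)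
    (hUc : U ≤ Subgroup.center X) (x : X) (hxx : x * x ∈ B) :
    ∀ w ∈ B, w ^ 4 = 1 → ∃ c ∈ B, c ^ 4 = 1 ∧ c * c = cm w x ∧ cm c x = c * c :=
  idem_of hB hn hUc (homo_root hB.homo) x hxx

end Cfsg.Agent.Lib.H10.NGP
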