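import Mathlib
import Cfsg.Agent.Lib.H26.NGPDefs

/-!
# S1904 piece LVL (`lvl_collapse`) (helper10)

`B` homocyclic normal abelian, `x * x ∈ B`, `θ b = cm b x`.  If `θ B ≤ B⁴` then `θ B ≤ U`.
Counting-free proof: with `η = 2 - θ` (additively) one has `θ η = 0`, and every `2 b` is a value of `η`
(successive approximation, the error term `2^j θ e` dies because `B` is a finite `2`-group).
-/

set_option autoImplicit false

namespace Cfsg.Agent.Lib.H10.NGP

open Cfsg.Agent.Lib.H26.NGP

universe u

/-- the additive core of LVL -/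
theorem lvl_add_key {M : Type*} [AddCommGroup M] (T : M →+ M)
    (hTT : ∀ m, T (T m) = 2 • T m) (h4 : ∀ m, ∃ c, T m = 4 • c) (N : ℕ)
    (hN : ∀ m : M, 2 ^ N • m = 0) : ∀ m, 2 • T m = 0 := by
  have step : ∀ j : ℕ, ∀ m : M, ∃ m' e : M, 2 • m' - T m' = 2 • m - 2 ^ j • T e := by
    intro j
    induction j with
    | zero =>
      intro m
      exact ⟨m, m, by simp⟩
    | succ j ih =>
      intro m
      obtain ⟨m', e, h⟩ := ih m
      obtain ⟨c, hc⟩ := h4 e
      refine ⟨m' + (2 * 2 ^ j) • c, c, ?_⟩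
      have e1 : T (m' + (2 * 2 ^ j) • c) = T m' + (2 * 2 ^ j) • T c := by
        rw [map_add, map_nsmul]
      have e2 : 2 • (m' + (2 * 2 ^ j) • c) - (T m' + (2 * 2 ^ j) • T c) =
          (2 • m' - T m') + ((4 * 2 ^ j) • c - (2 * 2 ^ j) • T c) := by
        have : (4 * 2 ^ j) • c = 2 • ((2 * 2 ^ j) • c) := by
          rw [smul_smul]
          congr 1
          ring
        rw [this, smul_add]
        abel
      have e3 : 2 ^ j • T e = (4 * 2 ^ j) • c := by
        rw [hc, smul_smul]
        congr 1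
        ring
      rw [e1, e2, h, e3, pow_succ]
      have : (2 ^ j * 2 : ℕ) = 2 * 2 ^ j := by ring
      rw [this]
      abel
  intro m
  obtain ⟨m', e, h⟩ := step N m
  rw [hN, sub_zero] at h
  have h2 := congrArg T h
  rw [map_sub, map_nsmul, hTT, sub_self, map_nsmul] at h2
  exact h2.symm

variable {X : Type u} [Group X] [Finite X]

/-- PIECE LVL. -/
theorem lvl_collapse {A : Subgroup (MulAut X)} {U B : Subgroup X} {n : ℕ} (hB : BSetup A U B n)
    (x : X) (hxx : x * x ∈ B)
    (h4 : ∀ b ∈ B, ∃ c ∈ B, cm b x = (c * c) * (c * c)) : ∀ b ∈ B, cm b x ∈ U := by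
  have hab := hB.homo.ab
  have hBn := hB.normal
  let _ : CommGroup ↥B :=
    { (inferInstance : Group ↥B) with
      mul_comm := fun a b => Subtype.ext (hab a a.2 b b.2) }
  have hmem : ∀ b ∈ B, cm b x ∈ B := fun b hb => by
    rw [cm_def]
    have : b * x * b⁻¹ * x⁻¹ = b * (x * b⁻¹ * x⁻¹) := by group
    rw [this]
    exact B.mul_mem hb (hBn.conj_mem _ (B.inv_mem hb) x)
  have hmul : ∀ a ∈ B, ∀ b ∈ B, cm (a * b) x = cm a x * cm b x := by
    intro a ha b hb
    have h1 : cm (a * b) x = a * cm b x * a⁻¹ * cm a x := by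
      simp only [cm_def]; group
    have h2 : a * cm b x * a⁻¹ = cm b x := by
      rw [hab a ha _ (hmem b hb), mul_inv_cancel_right]
    rw [h1, h2]
    exact hab _ (hmem b hb) _ (hmem a ha)
  have hTT : ∀ b ∈ B, cm (cm b x) x = cm b x * cm b x := by
    intro b hb
    have hc : x * x * b = b * (x * x) := hab _ hxx _ hb
    have e1 : x * b * x⁻¹ = x⁻¹ * b * x := by
      have : x * b * x⁻¹ = x⁻¹ * (x * x * b) * x⁻¹ := by group
      rw [this, hc]
      group
    have l : cm (cm b x) x = b * x * b⁻¹ * (x * b * x⁻¹) * b⁻¹ * x⁻¹ := by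
      simp only [cm_def]; group
    have r : cm b x * cm b x = b * x * b⁻¹ * (x⁻¹ * b * x) * b⁻¹ * x⁻¹ := by
      simp only [cm_def]; group
    rw [l, r, e1]
  let T : ↥B →* ↥B := MonoidHom.mk' (fun b => ⟨cm (b : X) x, hmem b b.2⟩)
    (fun a b => Subtype.ext (hmul a a.2 b b.2))
  have hcard : Nat.card ↥B = 2 ^ (n + n) := by rw [hB.homo.card, pow_add]
  have key := lvl_add_key (MonoidHom.toAdditive T)
    (fun m => by
      have := hTT (Additive.toMul m : ↥B) (Additive.toMul m : ↥B).2
      apply Additive.toMul.injective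
      apply Subtype.ext
      simpa [T, two_nsmul] using this)
    (fun m => by
      obtain ⟨c, hc, hcx⟩ := h4 (Additive.toMul m : ↥B) (Additive.toMul m : ↥B).2
      refine ⟨Additive.ofMul ⟨c, hc⟩, ?_⟩
      apply Additive.toMul.injective
      apply Subtype.ext
      simp only [T, MonoidHom.toAdditive_apply_apply, toMul_ofMul, MonoidHom.mk'_apply, toMul_nsmul,
        Subgroup.coe_pow]
      rw [hcx]
      simp only [pow_succ, pow_zero, one_mul, mul_assoc])
    (n + n)
    (fun m => by
      apply Additive.toMul.injective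
      rw [toMul_nsmul, toMul_zero, ← hcard]
      exact pow_card_eq_one')
  intro b hb
  apply hB.invol _ (hmem b hb)
  have h := key (Additive.ofMul ⟨b, hb⟩)
  have h' := congrArg (fun m => ((Additive.toMul m : ↥B) : X)) h
  simpa [T, two_nsmul] using h'

end Cfsg.Agent.Lib.H10.NGP
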