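import Mathlib
import Cfsg.Agent.Lib.H26.NGPDefs
import Cfsg.Agent.Lib.H10.NGPRoot

/-!
# S1904 piece X1INJ (`exists_x1_inj`) (helper10)
-/

set_option autoImplicit false

namespace Cfsg.Agent.Lib.H10.NGP

open Cfsg.Agent.Lib.H26.NGP

universe u

variable {X : Type u} [Group X]

/-- the structure of the four-group `U` seen from any of its involutions -/
theorem usetup_orbit {A : Subgroup (MulAut X)} {ρ : MulAut X} {z : X} {U : Subgroup X}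
    (hU : USetup A ρ z U) :
    ∀ v ∈ U, v ≠ 1 → ρ (ρ (ρ v)) = v ∧ ρ v ≠ v ∧ ρ v ∈ U ∧ ρ v ≠ 1 ∧
      (∀ w ∈ U, w = 1 ∨ w = v ∨ w = ρ v ∨ w = ρ (ρ v)) ∧ v * ρ v = ρ (ρ v) := by
  have hinj : Function.Injective ρ := ρ.injective
  have hzU : z ∈ U := (hU.memU z).mpr (Or.inr (Or.inl rfl))
  have hρ1 : ∀ w : X, ρ w = 1 → w = 1 := fun w hw => hinj (by rw [hw, map_one])
  -- the base point
  have hz : ρ (ρ (ρ z)) = z ∧ ρ z ≠ z ∧ ρ z ∈ U ∧ ρ z ≠ 1 ∧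
      (∀ w ∈ U, w = 1 ∨ w = z ∨ w = ρ z ∨ w = ρ (ρ z)) ∧ z * ρ z = ρ (ρ z) := by
    have hρzU : ρ z ∈ U := hU.ainv ρ hU.mem z hzU
    have hρz1 : ρ z ≠ 1 := fun h => hU.z1 (hρ1 z h)
    refine ⟨hU.cube, hU.ne, hρzU, hρz1, fun w hw => (hU.memU w).mp hw, ?_⟩
    have hmem : z * ρ z ∈ U := U.mul_mem hzU hρzU
    rcases (hU.memU _).mp hmem with h | h | h | h
    · exfalso
      apply hU.ne
      have h1 : ρ z = z⁻¹ := (eq_inv_of_mul_eq_one_right h)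
      rw [h1]
      exact inv_eq_of_mul_eq_one_left hU.zz
    · exfalso
      exact hρz1 (mul_eq_left.mp h)
    · exfalso
      exact hU.z1 (mul_eq_right.mp h)
    · exact h
  -- the step
  have hstep : ∀ v : X, (ρ (ρ (ρ v)) = v ∧ ρ v ≠ v ∧ ρ v ∈ U ∧ ρ v ≠ 1 ∧
      (∀ w ∈ U, w = 1 ∨ w = v ∨ w = ρ v ∨ w = ρ (ρ v)) ∧ v * ρ v = ρ (ρ v)) →
      (ρ (ρ (ρ (ρ v))) = ρ v ∧ ρ (ρ v) ≠ ρ v ∧ ρ (ρ v) ∈ U ∧ ρ (ρ v) ≠ 1 ∧
      (∀ w ∈ U, w = 1 ∨ w = ρ v ∨ w = ρ (ρ v) ∨ w = ρ (ρ (ρ v))) ∧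
        ρ v * ρ (ρ v) = ρ (ρ (ρ v))) := by
    rintro v ⟨h3, hne, hU1, hne1, hcov, hkl⟩
    refine ⟨by rw [h3], fun h => hne (hinj h), hU.ainv ρ hU.mem _ hU1,
      fun h => hne1 (hρ1 _ h), ?_, by rw [← map_mul, hkl]⟩
    intro w hw
    rcases hcov w hw with h | h | h | h
    · exact Or.inl h
    · exact Or.inr (Or.inr (Or.inr (by rw [h3]; exact h)))
    · exact Or.inr (Or.inl h)
    · exact Or.inr (Or.inr (Or.inl h))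
  intro v hv hv1
  rcases (hU.memU v).mp hv with h | h | h | h
  · exact absurd h hv1
  · rw [h]; exact hz
  · rw [h]; exact hstep z hz
  · rw [h]; exact hstep (ρ z) (hstep z hz)

variable [Finite X]

/-- PIECE X1INJ. -/
theorem exists_x1_inj {A : Subgroup (MulAut X)} (hC : Ctx A) {ρ : MulAut X} {z : X}
    {U B : Subgroup X} {n : ℕ} (hU : USetup A ρ z U) (hB : BSetup A U B n)
    (x₀ : X) (hx₀ : x₀ ∉ B) (h₀ : ∀ b ∈ B, cm b x₀ ∈ U) :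
    ∃ x : X, x ∉ B ∧ (∀ b ∈ B, cm b x ∈ U) ∧ ∀ b ∈ B, cm b x = 1 → ∃ c ∈ B, b = c * c := by
  classical
  by_cases hgood : ∀ b ∈ B, cm b x₀ = 1 → ∃ c ∈ B, b = c * c
  · exact ⟨x₀, hx₀, h₀, hgood⟩
  obtain ⟨b₁, hgood⟩ := not_forall.mp hgood
  obtain ⟨hb₁, hgood⟩ := Classical.not_imp.mp hgood
  obtain ⟨hθb₁, hb₁sq⟩ := Classical.not_imp.mp hgood
  have hab := hB.homo.ab
  have hn2 := hB.two_le
  have horb := usetup_orbit hU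
  have hsqU : ∀ v ∈ U, v * v = 1 := by
    intro v hv
    rcases (hU.memU v).mp hv with rfl | rfl | rfl | rfl
    · exact one_mul 1
    · exact hU.zz
    · rw [← map_mul, hU.zz, map_one]
    · rw [← map_mul, ← map_mul, hU.zz, map_one, map_one]
  have hcen : ∀ v ∈ U, ∀ g : X, g * v = v * g := fun v hv g =>
    Subgroup.mem_center_iff.mp (hU.central hv) g
  -- `π b = b ^ 2 ^ (n - 1)`
  have hexp : ∀ b ∈ B, b ^ 2 ^ n = 1 := by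
    intro b hb
    obtain ⟨x, y, hx, hy, hxn, hyn, -, hgen⟩ := hB.homo.gen
    obtain ⟨i, j, rfl⟩ := hgen b hb
    have hcomm : Commute (x ^ i) (y ^ j) := hab _ (B.pow_mem hx i) _ (B.pow_mem hy j)
    rw [hcomm.mul_pow, ← pow_mul, ← pow_mul, mul_comm i, mul_comm j, pow_mul, pow_mul, hxn, hyn,
      one_pow, one_pow, one_mul]
  have hπU : ∀ b ∈ B, b ^ 2 ^ (n - 1) ∈ U := by
    intro b hb
    apply hB.invol _ (B.pow_mem hb _)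
    rw [← pow_two, ← pow_mul, ← pow_succ]
    have : n - 1 + 1 = n := by omega
    rw [this]
    exact hexp b hb
  have hπmul : ∀ a ∈ B, ∀ b ∈ B, (a * b) ^ 2 ^ (n - 1) = a ^ 2 ^ (n - 1) * b ^ 2 ^ (n - 1) :=
    fun a ha b hb => (show Commute a b from hab a ha b hb).mul_pow _
  have hπker : ∀ b ∈ B, b ^ 2 ^ (n - 1) = 1 → ∃ c ∈ B, b = c * c := by
    intro b hb h
    obtain ⟨c, hc, hcb⟩ := homo_root hB.homo (n - 1) (by omega) b hb h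
    refine ⟨c, hc, ?_⟩
    have : n - (n - 1) = 1 := by omega
    rw [this, pow_one, pow_two] at hcb
    exact hcb.symm
  have hπsq : ∀ c ∈ B, (c * c) ^ 2 ^ (n - 1) = 1 := by
    intro c hc
    rw [← pow_two, ← pow_mul, ← pow_succ']
    have : n - 1 + 1 = n := by omega
    rw [this]
    exact hexp c hc
  have hπρ : ∀ (σ : MulAut X) (b : X), (σ b) ^ 2 ^ (n - 1) = σ (b ^ 2 ^ (n - 1)) :=
    fun σ b => (map_pow σ b _).symm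
  -- facts about `θ_y`
  have hmul : ∀ y : X, (∀ b ∈ B, cm b y ∈ U) → ∀ a ∈ B, ∀ b ∈ B,
      cm (a * b) y = cm a y * cm b y := by
    intro y hy a ha b hb
    have h1 : cm (a * b) y = a * cm b y * a⁻¹ * cm a y := by
      simp only [cm_def]; group
    rw [h1, hcen _ (hy b hb) a, mul_inv_cancel_right]
    exact (hcen _ (hy b hb) _).symm
  have hsqker : ∀ y : X, (∀ b ∈ B, cm b y ∈ U) → ∀ d ∈ B, cm (d * d) y = 1 := by
    intro y hy d hd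
    rw [hmul y hy d hd d hd]
    exact hsqU _ (hy d hd)
  -- `θ_y` factors through `π`
  have hfac : ∀ y : X, (∀ b ∈ B, cm b y ∈ U) → ∀ a ∈ B, ∀ b ∈ B,
      a ^ 2 ^ (n - 1) = b ^ 2 ^ (n - 1) → cm a y = cm b y := by
    intro y hy a ha b hb h
    have h1 : (a⁻¹ * b) ^ 2 ^ (n - 1) = 1 := by
      rw [hπmul _ (B.inv_mem ha) _ hb, ← h, inv_pow, inv_mul_cancel]
    obtain ⟨c, hc, hcc⟩ := hπker _ (B.mul_mem (B.inv_mem ha) hb) h1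
    have h2 : b = a * (c * c) := by rw [← hcc]; group
    rw [h2, hmul y hy a ha _ (B.mul_mem hc hc), hsqker y hy c hc, mul_one]
  -- the data `v`, `u`
  set v := b₁ ^ 2 ^ (n - 1) with hv
  have hvU : v ∈ U := hπU b₁ hb₁
  have hv1 : v ≠ 1 := by
    intro h
    obtain ⟨c, hc, hcc⟩ := hπker b₁ hb₁ h
    exact hb₁sq ⟨c, hc, hcc⟩
  obtain ⟨hv3, hvne, hρvU, hρv1, hcov, hkl⟩ := horb v hvU hv1
  have hρB : ∀ b ∈ B, ρ b ∈ B := fun b hb => hB.ainv ρ hU.mem b hb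
  have hρiB : ∀ b ∈ B, ρ⁻¹ b ∈ B := fun b hb => hB.ainv ρ⁻¹ (A.inv_mem hU.mem) b hb
  have hρb₁ := hρB b₁ hb₁
  have hρρb₁ := hρB _ hρb₁
  have hπ1 : (ρ b₁) ^ 2 ^ (n - 1) = ρ v := hπρ ρ b₁
  have hπ2 : (ρ (ρ b₁)) ^ 2 ^ (n - 1) = ρ (ρ v) := by rw [hπρ ρ (ρ b₁), hπ1]
  -- `θ (ρ b₁) = θ (ρ² b₁) =: u`
  have hprod : (b₁ * (ρ b₁ * ρ (ρ b₁))) ^ 2 ^ (n - 1) = 1 := by
    rw [hπmul _ hb₁ _ (B.mul_mem hρb₁ hρρb₁), hπmul _ hρb₁ _ hρρb₁, hπ1, hπ2, ← hv,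
      ← mul_assoc, hkl]
    exact hsqU _ (hU.ainv ρ hU.mem _ hρvU)
  obtain ⟨c₀, hc₀, hcc₀⟩ := hπker _ (B.mul_mem hb₁ (B.mul_mem hρb₁ hρρb₁)) hprod
  have hu_eq : cm (ρ b₁) x₀ = cm (ρ (ρ b₁)) x₀ := by
    have h1 : cm (b₁ * (ρ b₁ * ρ (ρ b₁))) x₀ = 1 := by rw [hcc₀]; exact hsqker x₀ h₀ c₀ hc₀
    rw [hmul x₀ h₀ _ hb₁ _ (B.mul_mem hρb₁ hρρb₁), hθb₁, one_mul, hmul x₀ h₀ _ hρb₁ _ hρρb₁] at h1
    have h2 := hsqU _ (h₀ _ hρρb₁)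
    calc cm (ρ b₁) x₀ = cm (ρ b₁) x₀ * (cm (ρ (ρ b₁)) x₀ * cm (ρ (ρ b₁)) x₀) := by
          rw [h2, mul_one]
      _ = (cm (ρ b₁) x₀ * cm (ρ (ρ b₁)) x₀) * cm (ρ (ρ b₁)) x₀ := by group
      _ = cm (ρ (ρ b₁)) x₀ := by rw [h1, one_mul]
  set uu := cm (ρ b₁) x₀ with huu
  have huU : uu ∈ U := h₀ _ hρb₁
  -- the value of `θ` on each class
  have hval : ∀ b ∈ B, (b ^ 2 ^ (n - 1) = 1 → cm b x₀ = 1) ∧ (b ^ 2 ^ (n - 1) = v → cm b x₀ = 1) ∧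
      (b ^ 2 ^ (n - 1) = ρ v → cm b x₀ = uu) ∧ (b ^ 2 ^ (n - 1) = ρ (ρ v) → cm b x₀ = uu) := by
    intro b hb
    refine ⟨fun h => ?_, fun h => ?_, fun h => ?_, fun h => ?_⟩
    · obtain ⟨c, hc, hcc⟩ := hπker b hb h
      rw [hcc]; exact hsqker x₀ h₀ c hc
    · rw [hfac x₀ h₀ b hb b₁ hb₁ h, hθb₁]
    · rw [hfac x₀ h₀ b hb _ hρb₁ (h.trans hπ1.symm)]
    · rw [hfac x₀ h₀ b hb _ hρρb₁ (h.trans hπ2.symm), ← hu_eq]
  have hu1 : uu ≠ 1 := by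
    intro hu
    apply hx₀
    apply hB.cent
    intro b hb
    have hθ : cm b x₀ = 1 := by
      obtain ⟨h1, h2, h3, h4⟩ := hval b hb
      rcases hcov _ (hπU b hb) with h | h | h | h
      · exact h1 h
      · exact h2 h
      · rw [h3 h, hu]
      · rw [h4 h, hu]
    have : x₀ * b = (cm b x₀)⁻¹ * (b * x₀) := by simp only [cm_def]; group
    rw [this, hθ, inv_one, one_mul]
  obtain ⟨hu3, hune, hρuU, hρu1, -, hukl⟩ := horb uu huU hu1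
  -- `θ_{ρ x₀}`
  have hθρ : ∀ b : X, cm b (ρ x₀) = ρ (cm (ρ⁻¹ b) x₀) := by
    intro b
    simp only [cm_def, map_mul, map_inv, MulAut.apply_inv_self]
  have hρx₀U : ∀ b ∈ B, cm b (ρ x₀) ∈ U := by
    intro b hb
    rw [hθρ b]
    exact hU.ainv ρ hU.mem _ (h₀ _ (hρiB b hb))
  have hθx : ∀ b ∈ B, cm b (x₀ * ρ x₀) = cm b x₀ * ρ (cm (ρ⁻¹ b) x₀) := by
    intro b hb
    have h1 : cm b (x₀ * ρ x₀) = cm b x₀ * (x₀ * cm b (ρ x₀) * x₀⁻¹) := by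
      simp only [cm_def]; group
    rw [h1, hcen _ (hρx₀U b hb) x₀, mul_inv_cancel_right, hθρ b]
  have hπi : ∀ b : X, (ρ⁻¹ b) ^ 2 ^ (n - 1) = ρ⁻¹ (b ^ 2 ^ (n - 1)) := fun b => hπρ ρ⁻¹ b
  have hiv : ρ⁻¹ v = ρ (ρ v) := by
    rw [← hv3, MulAut.inv_apply_self, hv3]
  refine ⟨x₀ * ρ x₀, ?_, ?_, ?_⟩
  · -- `x ∉ B`: `θ_x b₁ = ρ u ≠ 1`
    intro hxB
    have h1 : cm b₁ (x₀ * ρ x₀) = 1 := by
      have := hab b₁ hb₁ _ hxB
      simp only [cm_def]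
      rw [this]; group
    rw [hθx b₁ hb₁, hθb₁, one_mul] at h1
    have h2 : cm (ρ⁻¹ b₁) x₀ = uu :=
      (hval _ (hρiB b₁ hb₁)).2.2.2 (by rw [hπi, ← hv, hiv])
    rw [h2] at h1
    exact hρu1 h1
  · intro b hb
    rw [hθx b hb]
    exact U.mul_mem (h₀ b hb) (hU.ainv ρ hU.mem _ (h₀ _ (hρiB b hb)))
  · intro b hb hθ
    rw [hθx b hb] at hθ
    obtain ⟨h1, h2, h3, h4⟩ := hval b hb
    obtain ⟨i1, i2, i3, i4⟩ := hval _ (hρiB b hb)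
    rcases hcov _ (hπU b hb) with h | h | h | h
    · exact hπker b hb h
    · -- class `v`: value `ρ u`
      exfalso
      have e1 : (ρ⁻¹ b) ^ 2 ^ (n - 1) = ρ (ρ v) := by rw [hπi, h, hiv]
      rw [h2 h, i4 e1, one_mul] at hθ
      exact hρu1 hθ
    · -- class `ρ v`: value `u`
      exfalso
      have e1 : (ρ⁻¹ b) ^ 2 ^ (n - 1) = v := by rw [hπi, h, MulAut.inv_apply_self]
      rw [h3 h, i2 e1, map_one, mul_one] at hθ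
      exact hu1 hθ
    · -- class `ρ² v`: value `u * ρ u = ρ² u`
      exfalso
      have e1 : (ρ⁻¹ b) ^ 2 ^ (n - 1) = ρ v := by rw [hπi, h, MulAut.inv_apply_self]
      rw [h4 h, i3 e1, hukl] at hθ
      have : ρ uu = 1 := ρ.injective (by rw [hθ, map_one])
      exact hρu1 this

end Cfsg.Agent.Lib.H10.NGP
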