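import Mathlib
import Cfsg.Prelude.Def_Sporadic
import Cfsg.Agent.Lib.H14.M7920STRUCT
import Cfsg.Agent.Lib.H10.M7920F0

/-!
# S3592 piece CENT (helper10): centralizers of elements of order 5 and 11 and the number of Sylow
11-subgroups in a simple group of order 7920, exact statements of `tools/blueprints/S3592_sigs.lean`
-/

set_option autoImplicit false

universe u

namespace Cfsg.Agent.Lib.H10.NSE11

/-- centralizers of conjugate elements have the same order -/
theorem card_centralizer_conj {X : Type*} [Group X] (g t : X) :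
    Nat.card (Subgroup.centralizer ({g⁻¹ * t * g} : Set X)) =
      Nat.card (Subgroup.centralizer ({t} : Set X)) := by
  have hmap : Subgroup.centralizer ({t} : Set X) =
      (Subgroup.centralizer ({g⁻¹ * t * g} : Set X)).map (MulAut.conj g).toMonoidHom := by
    ext x
    simp only [Subgroup.mem_map, MulEquiv.coe_toMonoidHom, MulAut.conj_apply,
      Subgroup.mem_centralizer_singleton_iff]
    constructor
    · intro hx
      refine ⟨g⁻¹ * x * g, ?_, by group⟩
      calc g⁻¹ * x * g * (g⁻¹ * t * g) = g⁻¹ * (x * t) * g := by group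
        _ = g⁻¹ * (t * x) * g := by rw [hx]
        _ = g⁻¹ * t * g * (g⁻¹ * x * g) := by group
    · rintro ⟨c, hc, rfl⟩
      calc g * c * g⁻¹ * t = g * (c * (g⁻¹ * t * g)) * g⁻¹ := by group
        _ = g * ((g⁻¹ * t * g) * c) * g⁻¹ := by rw [hc]
        _ = t * (g * c * g⁻¹) := by group
  rw [hmap]
  exact (Nat.card_congr ((Subgroup.centralizer ({g⁻¹ * t * g} : Set X)).equivMapOfInjective _
    (MulAut.conj g).injective).toEquiv)

/-- if the Sylow `p`-subgroups have order `p`, all elements of order `p` have centralizers of the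
same order -/
theorem card_centralizer_eq_of_orderOf_eq_prime {X : Type*} [Group X] [Finite X] {p : ℕ}
    [Fact p.Prime] (hsyl : ∀ P : Sylow p X, Nat.card (P : Subgroup X) = p) {y t : X}
    (hy : orderOf y = p) (ht : orderOf t = p) :
    Nat.card (Subgroup.centralizer ({t} : Set X)) =
      Nat.card (Subgroup.centralizer ({y} : Set X)) := by
  have hp : p.Prime := Fact.out
  have hz : ∀ w : X, orderOf w = p → ∃ P : Sylow p X, Subgroup.zpowers w = (P : Subgroup X) := by
    intro w hw
    have hpg : IsPGroup p (Subgroup.zpowers w) := by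
      apply IsPGroup.of_card (n := 1)
      rw [Nat.card_zpowers, hw, pow_one]
    obtain ⟨P, hP⟩ := hpg.exists_le_sylow
    refine ⟨P, Subgroup.eq_of_le_of_card_ge hP ?_⟩
    rw [hsyl P, Nat.card_zpowers, hw]
  obtain ⟨P, hP⟩ := hz y hy
  obtain ⟨Q, hQ⟩ := hz t ht
  obtain ⟨g, hg⟩ := MulAction.exists_smul_eq X P Q
  set s := g⁻¹ * t * g with hs
  have hsP : s ∈ Subgroup.zpowers y := by
    rw [hP]
    have h1 : t ∈ (Q : Subgroup X) := by rw [← hQ]; exact Subgroup.mem_zpowers t
    rw [← hg, Sylow.coe_subgroup_smul, Subgroup.mem_pointwise_smul_iff_inv_smul_mem] at h1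
    have h2 : g⁻¹ * (t * g) ∈ (P : Subgroup X) := by
      simpa [MulAut.smul_def, mul_assoc] using h1
    rw [hs, mul_assoc]
    exact h2
  have hos : orderOf s = p := by
    have := (MulAut.conj g⁻¹).orderOf_eq t
    rw [MulAut.conj_apply, inv_inv] at this
    rw [hs, this, ht]
  have hzz : Subgroup.zpowers s = Subgroup.zpowers y := by
    apply Subgroup.eq_of_le_of_card_ge
    · rw [Subgroup.zpowers_le]; exact hsP
    · rw [Nat.card_zpowers, Nat.card_zpowers, hos, hy]
  have hcc : Subgroup.centralizer ({s} : Set X) = Subgroup.centralizer ({y} : Set X) := by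
    have key : ∀ a b : X, b ∈ Subgroup.zpowers a →
        Subgroup.centralizer ({a} : Set X) ≤ Subgroup.centralizer ({b} : Set X) := by
      intro a b hb c hc
      rw [Subgroup.mem_centralizer_singleton_iff] at hc ⊢
      obtain ⟨k, rfl⟩ := Subgroup.mem_zpowers_iff.1 hb
      have hcomm : Commute c a := hc
      exact (hcomm.zpow_right k)
    apply le_antisymm
    · exact key s y (by rw [hzz]; exact Subgroup.mem_zpowers y)
    · exact key y s hsP
  rw [← hcc, hs, card_centralizer_conj]


theorem factorization_7920_five : (7920 : ℕ).factorization 5 = 1 := by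
  have h : (7920 : ℕ) = 5 ^ 1 * 1584 := by norm_num
  rw [h, Nat.factorization_mul (by norm_num) (by norm_num),
    Nat.Prime.factorization_pow (by norm_num)]
  simp [Nat.factorization_eq_zero_of_not_dvd]

theorem factorization_7920_eleven : (7920 : ℕ).factorization 11 = 1 := by
  have h : (7920 : ℕ) = 11 ^ 1 * 720 := by norm_num
  rw [h, Nat.factorization_mul (by norm_num) (by norm_num),
    Nat.Prime.factorization_pow (by norm_num)]
  simp [Nat.factorization_eq_zero_of_not_dvd]

variable {M : Type u} [Group M] [Finite M]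

omit [Finite M] in
/-- an element whose centralizer has prime order `p < |M|` has order `p` -/
theorem orderOf_eq_of_card_centralizer {p : ℕ} (hp : p.Prime) (hlt : p < Nat.card M) {y : M}
    (hc : Nat.card (Subgroup.centralizer ({y} : Set M)) = p) : orderOf y = p := by
  have hy : y ∈ Subgroup.centralizer ({y} : Set M) := Subgroup.mem_centralizer_singleton_iff.2 rfl
  have hdvd : orderOf y ∣ p := by
    have h1 : orderOf (⟨y, hy⟩ : ↥(Subgroup.centralizer ({y} : Set M))) ∣ p := by
      rw [← hc]; exact orderOf_dvd_natCard _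
    rwa [Subgroup.orderOf_mk] at h1
  rcases (Nat.dvd_prime hp).1 hdvd with h | h
  · exfalso
    rw [orderOf_eq_one_iff] at h
    subst h
    have htop : Subgroup.centralizer ({(1 : M)} : Set M) = ⊤ := by
      ext x
      simp [Subgroup.mem_centralizer_singleton_iff]
    rw [htop, Subgroup.card_top] at hc
    omega
  · exact h

/-- (CENT5) -/
theorem cent5_of_isM11 (hM : Cfsg.IsM11 M) (t : M) (ht : orderOf t = 5) :
    Nat.card (Subgroup.centralizer ({t} : Set M)) = 5 := by
  classical
  let _ : Fintype M := Fintype.ofFinite M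
  have : IsSimpleGroup M := hM.1
  have : Fact (Nat.Prime 5) := ⟨by norm_num⟩
  obtain ⟨x, y, ψ, ψ₄, χ₁, χ₂, θ, θ', φ, -, -, hy, -⟩ :=
    Cfsg.Agent.Lib.H14.M7920.structure_7920 hM.2
  have hoy : orderOf y = 5 :=
    orderOf_eq_of_card_centralizer (by norm_num) (by rw [hM.2]; norm_num) hy
  have hsyl : ∀ P : Sylow 5 M, Nat.card (P : Subgroup M) = 5 := by
    intro P
    rw [Sylow.card_eq_multiplicity, hM.2, factorization_7920_five, pow_one]
  rw [card_centralizer_eq_of_orderOf_eq_prime hsyl hoy ht, hy]

/-- (CENT11) -/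
theorem cent11_of_isM11 (hM : Cfsg.IsM11 M) (t : M) (ht : orderOf t = 11) :
    Nat.card (Subgroup.centralizer ({t} : Set M)) = 11 := by
  classical
  let _ : Fintype M := Fintype.ofFinite M
  have : IsSimpleGroup M := hM.1
  have : Fact (Nat.Prime 11) := ⟨by norm_num⟩
  obtain ⟨x, y, ψ, ψ₄, χ₁, χ₂, θ, θ', φ, -, hx, -⟩ :=
    Cfsg.Agent.Lib.H14.M7920.structure_7920 hM.2
  have hox : orderOf x = 11 :=
    orderOf_eq_of_card_centralizer (by norm_num) (by rw [hM.2]; norm_num) hx
  have hsyl : ∀ P : Sylow 11 M, Nat.card (P : Subgroup M) = 11 := by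
    intro P
    rw [Sylow.card_eq_multiplicity, hM.2, factorization_7920_eleven, pow_one]
  rw [card_centralizer_eq_of_orderOf_eq_prime hsyl hox ht, hx]

/-- (SYL11M) -/
theorem card_sylow11_of_isM11 (hM : Cfsg.IsM11 M) : Nat.card (Sylow 11 M) = 144 := by
  have : IsSimpleGroup M := hM.1
  have : Fact (Nat.Prime 11) := ⟨by norm_num⟩
  obtain ⟨K, hK, -, hN⟩ := Cfsg.Agent.Lib.H10.M7920.sylow11_data hM.2
  have hKc : Nat.card K = 11 ^ (Nat.card M).factorization 11 := by
    rw [hM.2, factorization_7920_eleven, pow_one, hK]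
  let P : Sylow 11 M := Sylow.ofCard K hKc
  have h1 := Sylow.card_eq_index_normalizer P
  have h2 : Nat.card (Subgroup.normalizer ((P : Subgroup M) : Set M)) *
      (Subgroup.normalizer ((P : Subgroup M) : Set M)).index = Nat.card M :=
    Subgroup.card_mul_index _
  have h3 : ((P : Subgroup M)) = K := rfl
  rw [h3, hN, hM.2] at h2
  rw [h1]
  show (Subgroup.normalizer ((K : Subgroup M) : Set M)).index = 144
  omega

end Cfsg.Agent.Lib.H10.NSE11
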