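import Mathlib
import Cfsg.Prelude.Def_Blocks
import Cfsg.Prelude.Def_CharExt
import Cfsg.Agent.Lib.H21.AD.Defs
import Cfsg.Agent.Lib.H28.NT.Defs
import Cfsg.Agent.Lib.H23.ExtGeneral
import Cfsg.Agent.Lib.H23.RelMGroup
import Cfsg.Agent.Lib.H23.DetChar
import Cfsg.Agent.Lib.L0.CharOps
import Cfsg.Agent.Lib.L0.CharBasic

/-!
# S4892 piece (RESTR): the canonical extension restricts to the canonical extension (helper10)
-/

set_option autoImplicit false
open Cfsg.Agent.Lib.H21.AD Cfsg.Agent.Lib.H28.NT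

namespace Cfsg.Agent.Lib.H10.NT

variable {G : Type*} [Group G] [Finite G] {p : ℕ} {M : Ideal Cfsg.AlgInt} {N Q : Subgroup G} {θ : G → ℂ}

/-- (RESTR) -/
theorem goodE_restrict [N.Normal] (h : Hyp p M N Q θ) (K H : Subgroup G) (hNK : N ≤ K) (hKH : K ≤ H)
    (f : G → ℂ) (hf : GoodE p N θ H f) : GoodE p N θ K f := by
  obtain ⟨⟨hirrH, hfN⟩, hii, hiii⟩ := hf
  have hcharH : Cfsg.IsCharacter H (fun y : H => f y) :=
    Cfsg.Agent.Lib.L0.isCharacter_of_irr hirrH
  have hcharK : Cfsg.IsCharacter K (fun y : K => f y) :=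
    Cfsg.Agent.Lib.L0.isCharacter_comp (Subgroup.inclusion hKH) hcharH
  -- irreducibility from the restriction to `N`
  have hirrN : Cfsg.IsIrrCharacter N (fun n : N => f n) := by
    have : (fun n : N => f n) = (fun n : N => θ n) := by
      funext n
      exact hfN n n.2
    rw [this]
    exact h.hirr
  have hirrK : Cfsg.IsIrrCharacter K (fun y : K => f y) := by
    refine Cfsg.Agent.Lib.H23.isIrrCharacter_of_restrict_irr (N.subgroupOf K) hcharK ?_
    exact (Cfsg.Agent.Lib.H23.isIrrCharacter_restrict_subgroupOf_iff hNK f).mpr hirrN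
  refine ⟨⟨hirrK, hfN⟩, fun c hc hpc => hii c (hKH hc) hpc, ?_⟩
  intro x hx
  have hdet := Cfsg.Agent.Lib.H23.detChar_comp (Subgroup.inclusion hKH) hcharH
  have hx' : ∃ k : ℕ, orderOf (Subgroup.inclusion hKH x) = p ^ k := by
    obtain ⟨k, hk⟩ := hx
    refine ⟨k, ?_⟩
    rw [orderOf_injective (Subgroup.inclusion hKH) (Subgroup.inclusion_injective hKH) x, hk]
  have h1 := hiii (Subgroup.inclusion hKH x) hx'
  have h2 : Cfsg.detChar (fun y : K => f y) x =
      Cfsg.detChar (fun y : H => f y) (Subgroup.inclusion hKH x) := by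
    have := congrFun hdet x
    exact this
  rw [h2, h1]

end Cfsg.Agent.Lib.H10.NT
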