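import Mathlib
import Cfsg.Prelude.Def_Local
import Cfsg.Agent.Lib.H10.CentralSylow
import Cfsg.Agent.Lib.H10.PResidual
import Cfsg.Agent.Lib.H22.PPrimeCoreSub
import Cfsg.Agent.Lib.H14.PIrr
import Cfsg.Agent.Lib.H20.SylowExtra

/-! A finite group with a normal Sylow `p`-subgroup `T` and `O_{p'} = 1` has `C(T) ≤ T` (helper10). -/

set_option autoImplicit false

namespace Cfsg.Agent.Lib.H10

open Cfsg

theorem centralizer_le_of_normal_sylow {H : Type*} [Group H] [Finite H] {p : ℕ} [Fact p.Prime]
    (T : Sylow p H) [hTn : (T : Subgroup H).Normal] (hO : pPrimeCore p H = ⊥) :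
    Subgroup.centralizer ((T : Subgroup H) : Set H) ≤ (T : Subgroup H) := by
  set C : Subgroup H := Subgroup.centralizer ((T : Subgroup H) : Set H) with hC
  have hCn : C.Normal := Subgroup.normal_centralizer
  set Z : Subgroup C := ((T : Subgroup H) ⊓ C).subgroupOf C with hZ
  have hZc : Z ≤ Subgroup.center C := by
    intro z hz
    rw [Subgroup.mem_center_iff]
    intro c
    have hzT : (z : H) ∈ (T : Subgroup H) := (Subgroup.mem_subgroupOf.mp hz).1
    exact Subtype.ext (c.2 (z : H) hzT).symm
  have hZp : IsPGroup p Z := (T.2.to_le inf_le_left).comap_subtype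
  have hZi : ¬ p ∣ Z.index := by
    intro h
    have h1 : Z.index = (T : Subgroup H).relIndex C := by
      rw [← Subgroup.inf_relIndex_right]; rfl
    rw [h1] at h
    exact T.not_dvd_index (h.trans (Cfsg.Agent.Lib.H14.relIndex_dvd_index_of_normal_right _ C))
  have hres := not_dvd_card_pResidual_of_central_sylow p Z hZc hZp hZi
  have hresn : (pResidual p C).Normal := pResidual_normal p C
  set R : Subgroup H := (pResidual p C).map C.subtype with hR
  have hRsub : R.IsSubnormal := by
    refine Subgroup.IsSubnormal.step _ C (Subgroup.map_subtype_le _) hCn.isSubnormal ?_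
    have : R.subgroupOf C = pResidual p C := by
      ext x
      simp [hR, Subgroup.mem_subgroupOf]
    rw [this]
    exact hresn
  have hRcard : Nat.card R = Nat.card (pResidual p C) :=
    (Nat.card_congr ((pResidual p C).equivMapOfInjective C.subtype
      (Subgroup.subtype_injective C)).toEquiv).symm
  have hRc : (Nat.card R).Coprime p := by
    rw [hRcard]
    exact ((Nat.Prime.coprime_iff_not_dvd (Fact.out : p.Prime)).mpr hres).symm
  have hRbot : R = ⊥ := by
    have := Cfsg.Agent.Lib.H22.subnormal_coprime_le_pPrimeCore p hRsub hRc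
    rw [hO] at this
    exact le_bot_iff.mp this
  have hresbot : pResidual p C = ⊥ := by
    rw [hR] at hRbot
    exact (Subgroup.map_eq_bot_iff_of_injective _ (Subgroup.subtype_injective C)).mp hRbot
  have hCp : IsPGroup p C := by
    intro m
    obtain ⟨k, hk⟩ := exists_pow_mem_pResidual p m
    rw [hresbot, Subgroup.mem_bot] at hk
    exact ⟨k, hk⟩
  exact Cfsg.Agent.Lib.H20.le_sylow_of_le_normalizer T C hCp
    (by rw [Subgroup.normalizer_eq_top]; exact le_top)

end Cfsg.Agent.Lib.H10
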