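import Mathlib
import Cfsg.Prelude.Def_Characters

/-!
# S0980 piece (E5) `key_identity` (helper10): pure field algebra
-/

set_option autoImplicit false

namespace Cfsg.Agent.Lib.H10.O5760

/-- (E5) PURE field algebra: the key identity. -/
theorem key_identity (ε δ : ℤ) (hε : ε = 1 ∨ ε = -1) (hδ : δ = 1 ∨ δ = -1) (α β dχ d u τ : ℂ)
    (hαβ : α + β = -1) (hdχ : dχ ≠ 0) (hd : d ≠ 0)
    (h1 : 1 + (ε : ℂ) * dχ - (δ : ℂ) * d = 0) (hz : 1 + (ε : ℂ) * u - (δ : ℂ) * τ = 0) :
    (1 + u * u * (ε : ℂ) / dχ + τ * τ * ((δ : ℂ) * α) / d + τ * τ * ((δ : ℂ) * β) / d) *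
      ((δ : ℂ) * (ε : ℂ) * d * dχ) = (d - τ) ^ 2 := by
  have hβ : β = -1 - α := by linear_combination hαβ
  subst hβ
  rcases hε with rfl | rfl <;> rcases hδ with rfl | rfl
  · push_cast at h1 hz ⊢
    have e1 : dχ = d - 1 := by linear_combination h1
    have e2 : u = τ - 1 := by linear_combination hz
    subst e2
    have hd1 : d - 1 ≠ 0 := e1 ▸ hdχ
    rw [e1]
    field_simp
    ring
  · push_cast at h1 hz ⊢
    have e1 : dχ = -d - 1 := by linear_combination h1
    have e2 : u = -τ - 1 := by linear_combination hz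
    subst e2
    have hd1 : -d - 1 ≠ 0 := e1 ▸ hdχ
    rw [e1]
    field_simp
    ring
  · push_cast at h1 hz ⊢
    have e1 : dχ = 1 - d := by linear_combination -h1
    have e2 : u = 1 - τ := by linear_combination -hz
    subst e2
    have hd1 : 1 - d ≠ 0 := e1 ▸ hdχ
    rw [e1]
    field_simp
    ring
  · push_cast at h1 hz ⊢
    have e1 : dχ = 1 + d := by linear_combination -h1
    have e2 : u = 1 + τ := by linear_combination -hz
    subst e2
    have hd1 : 1 + d ≠ 0 := e1 ▸ hdχ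
    rw [e1]
    field_simp
    ring

end Cfsg.Agent.Lib.H10.O5760
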