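import Mathlib
import Cfsg.Prelude.Def_Characters
import Cfsg.Agent.Lib.H10.O5760E5
import Cfsg.Agent.Lib.H15.O5760A
import Cfsg.Agent.Lib.H24.CharOrth
import Cfsg.Agent.Lib.H24.CharBasic
import Cfsg.Agent.Lib.H23.ClassProduct
import Cfsg.Agent.Lib.L0.CharOps

/-!
# S0980 piece (E6) `pairs_formula` (helper10): class multiplication at an involution
-/

set_option autoImplicit false

namespace Cfsg.Agent.Lib.H10.O5760

open Cfsg Cfsg.Agent.Lib.L0 Cfsg.Agent.Lib.H24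
open scoped ComplexConjugate BigOperators

universe u

/-- (E6) class multiplication at `z`, given the structure (E4). -/
theorem pairs_formula {G : Type u} [Group G] [Fintype G] [DecidableEq G] {x z : G}
    (ζ : ℂ) (hζ : IsPrimitiveRoot ζ 5)
    (χ θ θ' : IrrCharacter G) (ε δ : ℤ) (hε : ε = 1 ∨ ε = -1) (hδ : δ = 1 ∨ δ = -1)
    (h1χ : (χ : G → ℂ) ≠ 1) (h1θ : (θ : G → ℂ) ≠ 1) (h1θ' : (θ' : G → ℂ) ≠ 1)
    (hχθ : χ ≠ θ) (hχθ' : χ ≠ θ') (hθθ' : θ ≠ θ')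
    (hχx : (χ : G → ℂ) x = ε) (hθx : (θ : G → ℂ) x = δ * (ζ + ζ ^ 4))
    (hθ'x : (θ' : G → ℂ) x = δ * (ζ ^ 2 + ζ ^ 3))
    (hvan : ∀ ψ : IrrCharacter G, (ψ : G → ℂ) ≠ 1 → ψ ≠ χ → ψ ≠ θ → ψ ≠ θ' → (ψ : G → ℂ) x = 0)
    (hrel1 : (θ : G → ℂ) 1 = (θ' : G → ℂ) 1 ∧
      1 + (ε : ℂ) * (χ : G → ℂ) 1 - (δ : ℂ) * (θ : G → ℂ) 1 = 0)
    (hrelz : (θ : G → ℂ) z = (θ' : G → ℂ) z ∧
      1 + (ε : ℂ) * (χ : G → ℂ) z - (δ : ℂ) * (θ : G → ℂ) z = 0) :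
    (∑ s : G, ∑ t : G, if (s * z * s⁻¹) * (t * z * t⁻¹) = x then (1 : ℂ) else 0) *
        ((δ : ℂ) * (ε : ℂ) * (θ : G → ℂ) 1 * (χ : G → ℂ) 1) =
      (Nat.card G : ℂ) * ((θ : G → ℂ) 1 - (θ : G → ℂ) z) ^ 2 := by
  classical
  have : Fintype (IrrCharacter G) := Fintype.ofFinite _
  -- the trivial character
  obtain ⟨triv, htriv⟩ : ∃ triv : IrrCharacter G, triv =
      ⟨(1 : G → ℂ), Cfsg.Agent.Lib.L0.isIrrCharacter_one⟩ := ⟨_, rfl⟩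
  have htv : ∀ g, (triv : G → ℂ) g = 1 := fun g => by rw [htriv]; rfl
  have ht1 : triv ≠ χ := fun h => h1χ (by rw [← h, htriv])
  have ht2 : triv ≠ θ := fun h => h1θ (by rw [← h, htriv])
  have ht3 : triv ≠ θ' := fun h => h1θ' (by rw [← h, htriv])
  -- the four characters
  obtain ⟨S, hS⟩ : ∃ S : Finset (IrrCharacter G), S = insert triv (insert χ (insert θ {θ'})) :=
    ⟨_, rfl⟩
  have hsumS : ∀ f : IrrCharacter G → ℂ, ∑ ψ ∈ S, f ψ = f triv + (f χ + (f θ + f θ')) := by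
    intro f
    rw [hS, Finset.sum_insert, Finset.sum_insert, Finset.sum_insert, Finset.sum_singleton]
    · simpa using hθθ'
    · simp only [Finset.mem_insert, Finset.mem_singleton, not_or]
      exact ⟨hχθ, hχθ'⟩
    · simp only [Finset.mem_insert, Finset.mem_singleton, not_or]
      exact ⟨ht1, ht2, ht3⟩
  have hvanS : ∀ ψ : IrrCharacter G, ψ ∉ S → (ψ : G → ℂ) x = 0 := by
    intro ψ hψ
    rw [hS] at hψ
    simp only [Finset.mem_insert, Finset.mem_singleton, not_or] at hψ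
    apply hvan ψ _ hψ.2.1 hψ.2.2.1 hψ.2.2.2
    intro h
    apply hψ.1
    rw [htriv]
    exact Subtype.ext h
  -- values at `x⁻¹`
  have hinv : ∀ ψ : IrrCharacter G, (ψ : G → ℂ) x⁻¹ = conj ((ψ : G → ℂ) x) := fun ψ => irr_inv ψ x
  have hεr : conj (ε : ℂ) = (ε : ℂ) := by simp
  have hδr : conj (δ : ℂ) = (δ : ℂ) := by simp
  have hχi : (χ : G → ℂ) x⁻¹ = ε := by rw [hinv, hχx, hεr]
  have hθi : (θ : G → ℂ) x⁻¹ = δ * (ζ + ζ ^ 4) := by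
    rw [hinv, hθx, map_mul, hδr, Cfsg.Agent.Lib.H15.O5760.conj_al hζ]
  have hθ'i : (θ' : G → ℂ) x⁻¹ = δ * (ζ ^ 2 + ζ ^ 3) := by
    rw [hinv, hθ'x, map_mul, hδr, Cfsg.Agent.Lib.H15.O5760.conj_be hζ]
  -- the class multiplication formula
  have h1 := Cfsg.Agent.Lib.H23.sum_sum_ite_conj_mul_eq (G := G) z z x
  have h2 : ∑ ψ : IrrCharacter G,
      (ψ : G → ℂ) z * (ψ : G → ℂ) z * (ψ : G → ℂ) x⁻¹ / (ψ : G → ℂ) 1 =
      ∑ ψ ∈ S, (ψ : G → ℂ) z * (ψ : G → ℂ) z * (ψ : G → ℂ) x⁻¹ / (ψ : G → ℂ) 1 := by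
    symm
    apply Finset.sum_subset (Finset.subset_univ S)
    intro ψ _ hψ
    rw [hinv, hvanS ψ hψ, map_zero, mul_zero, zero_div]
  rw [h2, hsumS, hχi, hθi, hθ'i] at h1
  simp only [htv] at h1
  rw [← hrelz.1, ← hrel1.1] at h1
  -- degrees are nonzero
  have hdχ : (χ : G → ℂ) 1 ≠ 0 := by
    obtain ⟨n, hn, h⟩ := irr_one_eq χ
    rw [h]
    exact_mod_cast hn.ne'
  have hd : (θ : G → ℂ) 1 ≠ 0 := by
    obtain ⟨n, hn, h⟩ := irr_one_eq θ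
    rw [h]
    exact_mod_cast hn.ne'
  have key := key_identity ε δ hε hδ (ζ + ζ ^ 4) (ζ ^ 2 + ζ ^ 3) ((χ : G → ℂ) 1) ((θ : G → ℂ) 1)
    ((χ : G → ℂ) z) ((θ : G → ℂ) z) (Cfsg.Agent.Lib.H15.O5760.al_add_be hζ) hdχ hd hrel1.2 hrelz.2
  rw [h1, mul_assoc, ← key]
  congr 1
  congr 1
  ring

end Cfsg.Agent.Lib.H10.O5760
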