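import Mathlib
import Cfsg.Agent.Lib.H5.Ord.GenTests
import Cfsg.Agent.Lib.L0.CyclicSylowTwo
import Cfsg.Agent.S0904

/-!
# S0983 filler: no simple group of order 4212 = 2^2 * 3^4 * 13 (helper10)

`n_13 = 27`, `C(P) = P` (S0904), so `|N(P)| = 156` and `N(P)/P` embeds in the cyclic group
`Aut(C_13)`: a Sylow 2-subgroup of `N(P)` (order 4 = `|G|_2`) is cyclic, so `G` has a normal
2-complement.

Also: the general lemma `isCyclic_of_inf_centralizer_eq_bot` (a subgroup of `N(P)` meeting
`C(P)` trivially, `P` cyclic of prime order, is cyclic).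
-/

set_option autoImplicit false

namespace Cfsg.Agent.Lib.H10.O983

open Subgroup MulAction Cfsg.Agent.Lib.H5 Cfsg.Agent.Lib.H5.SylPrime Cfsg.Agent.Lib.H5.GenTests

/-- `P` of prime order, `T ≤ N(P)` with `T ⊓ C(P) = ⊥`: `T` is cyclic (it embeds in `Aut(P)`). -/
theorem isCyclic_of_inf_centralizer_eq_bot {G : Type*} [Group G] [Finite G] (P : Subgroup G)
    {p : ℕ} [hp : Fact p.Prime] (hP : Nat.card P = p) (T : Subgroup G)
    (hTN : T ≤ normalizer (P : Set G)) (hTC : T ⊓ centralizer (P : Set G) = ⊥) :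
    IsCyclic T := by
  have hcycP : IsCyclic P := isCyclic_of_prime_card hP
  have : Fact (Nat.card P).Prime := ⟨hP ▸ hp.out⟩
  have hcycA : IsCyclic (MulAut P) :=
    isCyclic_of_injective (IsCyclic.mulAutMulEquiv P).toMonoidHom
      (IsCyclic.mulAutMulEquiv P).injective
  let φ : T →* MulAut P := P.normalizerMonoidHom.comp (Subgroup.inclusion hTN)
  have hφ : Function.Injective φ := by
    rw [injective_iff_map_eq_one]
    intro t ht
    have h1 : (Subgroup.inclusion hTN t) ∈ P.normalizerMonoidHom.ker := ht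
    rw [normalizerMonoidHom_ker, mem_subgroupOf] at h1
    have h2 : (t : G) ∈ T ⊓ centralizer (P : Set G) := ⟨t.2, h1⟩
    rw [hTC, mem_bot] at h2
    exact Subtype.ext h2
  exact isCyclic_of_injective φ hφ

theorem not_simple_4212 {G : Type*} [Group G] [Finite G] [IsSimpleGroup G] : Nat.card G ≠ 4212 := by
  intro hn
  have hnc : ¬ IsMulCommutative G :=
    not_isMulCommutative_of_card_not_prime (by rw [hn]; norm_num)
  have h13 : Fact (Nat.Prime 13) := ⟨by norm_num⟩
  have h2p : Fact (Nat.Prime 2) := ⟨by norm_num⟩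
  obtain ⟨P⟩ : Nonempty (Sylow 13 G) := inferInstance
  obtain ⟨h1, h2, h3, -, h5, -, h7, -, hP, hNd, -, -, hcr, -⟩ :=
    prime_data_explicit hnc hn (p := 13) (m := 324) (by norm_num) (by norm_num) (by norm_num) P
  have hd : Nat.card (Sylow 13 G) = 27 := by
    have hmem : Nat.card (Sylow 13 G) ∈ (Nat.divisors 324).filter (fun d => d % 13 = 1) := by
      rw [Finset.mem_filter, Nat.mem_divisors]
      exact ⟨⟨h1, by norm_num⟩, h2⟩
    have hfil : (Nat.divisors 324).filter (fun d => d % 13 = 1) = {1, 27} := by decide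
    rw [hfil] at hmem
    simp only [Finset.mem_insert, Finset.mem_singleton] at hmem
    rcases hmem with h | h
    · exact absurd h h3
    · exact h
  have hC : centralizer ((P : Subgroup G) : Set G) = (P : Subgroup G) :=
    Cfsg.Agent.S0904.result 2 3 13 2 4 (by norm_num) (by norm_num) (by norm_num) (by norm_num)
      (by norm_num) (by rw [hn]; norm_num) P
  have hN : Nat.card (normalizer ((P : Subgroup G) : Set G)) = 156 := by
    rw [hd] at hNd
    omega
  -- a subgroup of order 4 of `N(P)`
  obtain ⟨K₀, hK₀⟩ := Sylow.exists_subgroup_card_pow_prime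
    (G := normalizer ((P : Subgroup G) : Set G)) 2 (n := 2) (by rw [hN]; exact ⟨39, by norm_num⟩)
  set T : Subgroup G := K₀.map (normalizer ((P : Subgroup G) : Set G)).subtype with hT
  have hTc : Nat.card T = 2 ^ 2 := by rw [hT, Subgroup.card_subtype, hK₀]
  have hTN : T ≤ normalizer ((P : Subgroup G) : Set G) := Subgroup.map_subtype_le K₀
  have hTC : T ⊓ centralizer ((P : Subgroup G) : Set G) = ⊥ := by
    rw [hC]
    apply disjoint_iff.1
    apply Subgroup.disjoint_of_coprime_natCard
    rw [hTc, hP]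
    norm_num
  have hcyc : IsCyclic T := isCyclic_of_inf_centralizer_eq_bot (P : Subgroup G) hP T hTN hTC
  have hcardT : Nat.card T = 2 ^ (Nat.card G).factorization 2 := by
    rw [hTc, hn]
    have : (4212 : ℕ) = 2 ^ 2 * 1053 := by norm_num
    rw [this, Nat.factorization_mul (by norm_num) (by norm_num)]
    simp only [Finsupp.coe_add, Pi.add_apply]
    rw [Nat.Prime.factorization_pow Nat.prime_two,
      Nat.factorization_eq_zero_of_not_dvd (by norm_num : ¬ 2 ∣ 1053)]
    simp
  let Q : Sylow 2 G := Sylow.ofCard T hcardT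
  have hQ : (Q : Subgroup G) = T := rfl
  obtain ⟨K, hKn, hKc, -⟩ := Cfsg.Agent.Lib.L0.exists_odd_normal_complement_of_cyclic_sylow Q
    (by rw [hQ]; exact hcyc) (by rw [hn]; norm_num)
  have hKcard : Nat.card K * Nat.card (Q : Subgroup G) = Nat.card G := hKc.card_mul_card
  rw [hQ, hTc, hn] at hKcard
  rcases hKn.eq_bot_or_eq_top with hb | ht
  · rw [hb, Subgroup.card_bot] at hKcard
    omega
  · rw [ht, Subgroup.card_top, hn] at hKcard
    omega

end Cfsg.Agent.Lib.H10.O983
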