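import Mathlib
import Cfsg.Agent.Lib.H5.Ord.GenTests
import Cfsg.Agent.Lib.H5.EmbedAlt

/-!
# S0983 filler: no simple group of order 4284 (helper10)

`n_17 = 18` is forced (`= p + 1`), so `G` embeds in `A_18` and `2 |N(P)|` divides
`17 * 16`, but `|N(P)| = 238`.
-/

set_option autoImplicit false

namespace Cfsg.Agent.Lib.H10.O983

open Subgroup MulAction Cfsg.Agent.Lib.H5 Cfsg.Agent.Lib.H5.SylPrime Cfsg.Agent.Lib.H5.GenTests

theorem not_simple_4284 {G : Type*} [Group G] [Finite G] [IsSimpleGroup G] : Nat.card G ≠ 4284 := by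
  intro hn
  have hnc : ¬ IsMulCommutative G :=
    not_isMulCommutative_of_card_not_prime (by rw [hn]; norm_num)
  have : Fact (Nat.Prime 17) := ⟨by norm_num⟩
  obtain ⟨P⟩ : Nonempty (Sylow 17 G) := inferInstance
  obtain ⟨h1, h2, h3, -, -, -, -, -, hP, hNd, -, -, -, -⟩ :=
    prime_data_explicit hnc hn (p := 17) (m := 252) (by norm_num) (by norm_num) (by norm_num) P
  have hd : Nat.card (Sylow 17 G) = 18 := by
    have hmem : Nat.card (Sylow 17 G) ∈ (Nat.divisors 252).filter (fun d => d % 17 = 1) := by
      rw [Finset.mem_filter, Nat.mem_divisors]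
      exact ⟨⟨h1, by norm_num⟩, h2⟩
    have hfil : (Nat.divisors 252).filter (fun d => d % 17 = 1) = {1, 18} := by decide
    rw [hfil] at hmem
    simp only [Finset.mem_insert, Finset.mem_singleton] at hmem
    rcases hmem with h | h
    · exact absurd h h3
    · exact h
  have hidx : (normalizer ((P : Subgroup G) : Set G)).index = 18 := by
    rw [index_normalizer_eq_card_sylow P, hd]
  have h2N := two_mul_card_normalizer_dvd hnc (p := 17) (by norm_num)
    (normalizer ((P : Subgroup G) : Set G)) (Or.inr hidx) P hP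
  have hN : Nat.card (normalizer ((P : Subgroup G) : Set G)) = 238 := by
    rw [hd] at hNd
    omega
  rw [hN] at h2N
  omega

end Cfsg.Agent.Lib.H10.O983
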