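import Mathlib
import Cfsg.Agent.Lib.H5.Ord.GenTests3
import Cfsg.Agent.Lib.H5.Ord.SylPrime
import Cfsg.Agent.Lib.H5.SubgroupCard
import Cfsg.Agent.Lib.L0.CyclicSylowTwo
import Cfsg.Agent.Lib.H10.O983x4212
import Cfsg.Agent.S0215

/-!
# S0983 filler: no simple group of order 5460 = 2^2 * 3 * 5 * 7 * 13 (helper10)

Only the prime `13` is needed.  `n_13 = 105`, `|N(P)| = 52`, `|C(P)| ∈ {13, 26}`.
* `|C(P)| = 13`: a subgroup of order `4` of `N(P)` meets `C(P)` trivially, so it embeds in
  `Aut(C_13)`: cyclic Sylow 2.
* `|C(P)| = 26`: a Sylow 2-subgroup `S` of `N(P)` (order `4`, abelian) is a Sylow 2 of `G` and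
  contains an involution `z ∈ C(P)`; `N(P) = P S ≤ C(z)`; the number `f` of fixed cosets of `N(P)`
  is `≡ 1 mod 52`, so `f ∈ {1, 53}`, and `53 * 52 = |C(z)| * k` with `k ≤ 52`, `|C(z)| ∣ 5460` is
  impossible: `f = 1`, `z` is isolated in `S`, Glauberman's `Z*` (S0215).
(The second case is the route of helper26's `not_simple_3960`.)
-/

set_option autoImplicit false

namespace Cfsg.Agent.Lib.H10.O983

open Subgroup MulAction Cfsg.Agent.Lib.H5 Cfsg.Agent.Lib.H5.SylPrime Cfsg.Agent.Lib.H5.GenTests

theorem not_simple_5460 {G : Type*} [Group G] [Finite G] [IsSimpleGroup G] :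
    Nat.card G ≠ 5460 := by
  intro hn
  have hnc : ¬ IsMulCommutative G :=
    not_isMulCommutative_of_card_not_prime (by rw [hn]; norm_num)
  have h13 : Fact (Nat.Prime 13) := ⟨by norm_num⟩
  have h2p : Fact (Nat.Prime 2) := ⟨by norm_num⟩
  obtain ⟨P⟩ : Nonempty (Sylow 13 G) := inferInstance
  obtain ⟨h1, h2, h3, -, h5, h6, h7, h8, hP, hNd, hNtop, hPC, hcr, hfp⟩ :=
    prime_data_explicit hnc hn (p := 13) (m := 420) (by norm_num) (by norm_num) (by norm_num) P
  set N := normalizer ((P : Subgroup G) : Set G) with hNdef
  set C := centralizer ((P : Subgroup G) : Set G) with hCdef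
  set r := C.relIndex N with hr
  set c₀ := Nat.card C with hc₀
  have hd : Nat.card (Sylow 13 G) = 14 ∨ Nat.card (Sylow 13 G) = 105 := by
    have hmem : Nat.card (Sylow 13 G) ∈ (Nat.divisors 420).filter (fun d => d % 13 = 1) := by
      rw [Finset.mem_filter, Nat.mem_divisors]
      exact ⟨⟨h1, by norm_num⟩, h2⟩
    have hfil : (Nat.divisors 420).filter (fun d => d % 13 = 1) = {1, 14, 105} := by
      decide +kernel
    rw [hfil] at hmem
    simp only [Finset.mem_insert, Finset.mem_singleton] at hmem
    rcases hmem with h | h | h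
    · exact absurd h h3
    · exact Or.inl h
    · exact Or.inr h
  have hr12 : r ≤ 12 := Nat.le_of_dvd (by norm_num) h5
  rcases hd with hd | hd
  · -- n_13 = 14 : the fixed point test kills every possible |C(P)|
    exfalso
    rw [hd] at h7 hfp
    have hcases : (r = 2 ∧ c₀ = 195) ∨ (r = 3 ∧ c₀ = 130) ∨ (r = 6 ∧ c₀ = 65) := by
      have hcr' : c₀ * r = 390 := by omega
      clear h7
      interval_cases r <;> omega
    rcases hcases with ⟨-, hc⟩ | ⟨-, hc⟩ | ⟨-, hc⟩
    · obtain ⟨f, hf1, hf2, hf3, -⟩ := hfp 3 (by norm_num) (by rw [hc]; norm_num)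
      omega
    · obtain ⟨f, hf1, hf2, hf3, hf4⟩ := hfp 2 (by norm_num) (by rw [hc]; norm_num)
      have := hf4 rfl
      omega
    · obtain ⟨f, hf1, hf2, hf3, -⟩ := hfp 5 (by norm_num) (by rw [hc]; norm_num)
      omega
  · rw [hd] at h7 hNd
    have hNcard : Nat.card N = 52 := by omega
    have hCN : C ≤ N := centralizer_le_normalizer _
    have hrc : (c₀ = 26 ∧ r = 2) ∨ (c₀ = 13 ∧ r = 4) := by
      have hcr' : c₀ * r = 52 := by omega
      clear h7
      interval_cases r <;> omega
    have hG4 : Nat.card G = 2 ^ 2 * 1365 := by rw [hn]; norm_num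
    -- a Sylow 2-subgroup of G inside N
    obtain ⟨S, hSN⟩ : ∃ S : Sylow 2 G, (S : Subgroup G) ≤ N := by
      let S0 : Sylow 2 N := default
      have hS0 : Nat.card (S0 : Subgroup N) = 2 ^ 2 :=
        (sylow_card_and_index S0 (k := 2) (m := 13) (by rw [hNcard]; norm_num) (by norm_num)).1
      set T : Subgroup G := (S0 : Subgroup N).map N.subtype with hT
      have hTc : Nat.card T = 2 ^ 2 := by
        rw [hT, Subgroup.card_map_of_injective N.subtype_injective]; exact hS0
      have hTp : IsPGroup 2 T := IsPGroup.of_card hTc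
      obtain ⟨S, hTS⟩ := hTp.exists_le_sylow
      have hSc : Nat.card (S : Subgroup G) = 2 ^ 2 :=
        (sylow_card_and_index S (k := 2) (m := 1365) hG4 (by norm_num)).1
      have hTS' : T = (S : Subgroup G) :=
        Subgroup.eq_of_le_of_card_ge hTS (by rw [hTc, hSc])
      refine ⟨S, ?_⟩
      rw [← hTS', hT]
      exact Subgroup.map_subtype_le _
    have hSc : Nat.card (S : Subgroup G) = 4 :=
      (sylow_card_and_index S (k := 2) (m := 1365) hG4 (by norm_num)).1
    rcases hrc with ⟨hc26, hr2⟩ | ⟨hc13, hr4⟩
    · -- |C(P)| = 26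
      have hQne : (S : Subgroup G) ⊓ C ≠ ⊥ := by
        intro hbot
        have hle : C.relIndex (S : Subgroup G) ≤ C.relIndex N :=
          relIndex_le_of_le_right hSN (by rw [← hr, hr2]; norm_num)
        have h1' := Cfsg.Agent.Lib.H5.card_mul_relIndex_of_le
          (inf_le_left : (S : Subgroup G) ⊓ C ≤ (S : Subgroup G))
        rw [Subgroup.inf_relIndex_left, hbot, Subgroup.card_bot, hSc, one_mul] at h1'
        rw [h1', ← hr, hr2] at hle
        omega
      have hQp : IsPGroup 2 ((S : Subgroup G) ⊓ C : Subgroup G) := S.2.to_le inf_le_left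
      have h2Q : 2 ∣ Nat.card ((S : Subgroup G) ⊓ C : Subgroup G) := by
        obtain ⟨k, hk⟩ := IsPGroup.iff_card.mp hQp
        rw [hk]
        rcases Nat.eq_zero_or_pos k with h0 | h0
        · exfalso
          rw [h0, pow_zero] at hk
          exact hQne ((Subgroup.card_eq_one).mp hk)
        · exact dvd_pow_self 2 h0.ne'
      obtain ⟨z0, hz0⟩ := exists_prime_orderOf_dvd_card'
        (G := ((S : Subgroup G) ⊓ C : Subgroup G)) 2 h2Q
      set z : G := (z0 : G) with hz
      have hzo : orderOf z = 2 := by
        rw [hz, Subgroup.orderOf_coe]; exact hz0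
      have hzS : z ∈ (S : Subgroup G) := (Subgroup.mem_inf.mp z0.2).1
      have hzC : z ∈ C := (Subgroup.mem_inf.mp z0.2).2
      have hScomm : IsMulCommutative (S : Subgroup G) :=
        IsPGroup.isMulCommutative_of_card_eq_prime_sq (p := 2) (by rw [hSc]; norm_num)
      have hzcomm : ∀ s ∈ (S : Subgroup G), s * z = z * s := by
        intro s hs
        have := hScomm.is_comm.comm (⟨s, hs⟩ : (S : Subgroup G)) ⟨z, hzS⟩
        exact congrArg Subtype.val this
      -- N ≤ C(z)
      have hNz : N ≤ centralizer ({z} : Set G) := by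
        have hPN : (P : Subgroup G) ≤ N := le_normalizer
        have hsup : (P : Subgroup G) ⊔ (S : Subgroup G) ≤ N := sup_le hPN hSN
        have h13d : 13 ∣ Nat.card ((P : Subgroup G) ⊔ (S : Subgroup G) : Subgroup G) := by
          have := Subgroup.card_dvd_of_le
            (le_sup_left : (P : Subgroup G) ≤ (P : Subgroup G) ⊔ (S : Subgroup G))
          rwa [hP] at this
        have h4d : 4 ∣ Nat.card ((P : Subgroup G) ⊔ (S : Subgroup G) : Subgroup G) := by
          have := Subgroup.card_dvd_of_le
            (le_sup_right : (S : Subgroup G) ≤ (P : Subgroup G) ⊔ (S : Subgroup G))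
          rwa [hSc] at this
        have h52 : 52 ∣ Nat.card ((P : Subgroup G) ⊔ (S : Subgroup G) : Subgroup G) := by omega
        have hpos : 0 < Nat.card ((P : Subgroup G) ⊔ (S : Subgroup G) : Subgroup G) :=
          Nat.card_pos
        have hge : Nat.card N ≤ Nat.card ((P : Subgroup G) ⊔ (S : Subgroup G) : Subgroup G) := by
          rw [hNcard]; exact Nat.le_of_dvd hpos h52
        have heq : (P : Subgroup G) ⊔ (S : Subgroup G) = N :=
          Subgroup.eq_of_le_of_card_ge hsup hge
        rw [← heq]
        apply sup_le
        · intro x hx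
          rw [Subgroup.mem_centralizer_iff]
          intro y hy
          rw [Set.mem_singleton_iff] at hy
          subst hy
          rw [hCdef, Subgroup.mem_centralizer_iff] at hzC
          exact (hzC x hx).symm
        · intro x hx
          rw [Subgroup.mem_centralizer_iff]
          intro y hy
          rw [Set.mem_singleton_iff] at hy
          subst hy
          exact (hzcomm x hx).symm
      -- z fixes exactly one coset of N
      have hidx : N.index = 105 := by rw [hNdef, index_normalizer_eq_card_sylow P, hd]
      have hzN : z ∈ N := hSN hzS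
      have hf1 : Nat.card (fixedBy (G ⧸ N) z) = 1 := by
        have e1 := card_fixedBy_modEq_one 13 P hP hzC
        have e2 := four_dvd_index_sub_card_fixedBy (by rw [hn]; norm_num) N hzo
        have e3 := card_fixedBy_le_index N z
        have e4 : Nat.card (fixedBy (G ⧸ N) z) ≠ N.index := by
          intro h
          have := eq_one_of_card_fixedBy_eq N hNtop h
          rw [this, orderOf_one] at hzo
          omega
        rw [hidx] at e2 e3 e4
        have e1' : Nat.card (fixedBy (G ⧸ N) z) % 13 = 1 := e1
        have hcases : Nat.card (fixedBy (G ⧸ N) z) = 1 ∨ Nat.card (fixedBy (G ⧸ N) z) = 53 := by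
          omega
        rcases hcases with h | h
        · exact h
        · exfalso
          have e5 := card_fixedBy_mul_card N hzN
          rw [h, hNcard] at e5
          have hk : Nat.card {g : G // IsConj z g ∧ g ∈ N} ≤ 52 := by
            rw [← hNcard]
            exact Nat.card_le_card_of_injective
              (fun x : {g : G // IsConj z g ∧ g ∈ N} => (⟨x.1, x.2.2⟩ : N))
              (fun a b hab => Subtype.ext (congrArg (fun t : N => (t : G)) hab))
          have hcd : Nat.card (centralizer ({z} : Set G)) ∣ 5460 := by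
            rw [← hn]; exact Subgroup.card_subgroup_dvd_card _
          have hcd2 : Nat.card (centralizer ({z} : Set G)) ∣ 53 * 52 := ⟨_, e5⟩
          have hg := Nat.dvd_gcd hcd hcd2
          have hgcd : Nat.gcd 5460 (53 * 52) = 52 := by norm_num
          rw [hgcd] at hg
          have hcle : Nat.card (centralizer ({z} : Set G)) ≤ 52 :=
            Nat.le_of_dvd (by norm_num) hg
          have := Nat.mul_le_mul hcle hk
          omega
      by_cases hiso : ∀ g : G, g * z * g⁻¹ ∈ S → g * z * g⁻¹ = z
      · obtain ⟨N0, hN0n, hN0odd, hN0⟩ := Cfsg.Agent.S0215.result S z hzo hzS hiso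
        rcases hN0n.eq_bot_or_eq_top with hb | ht
        · have hzcen : z ∈ Subgroup.center G := by
            rw [Subgroup.mem_center_iff]
            intro g
            have := hN0 g
            rw [hb, Subgroup.mem_bot] at this
            have h' : z * g = g * z := by
              have := congrArg (fun w => w * g * z) this
              simpa [mul_assoc] using this
            exact h'.symm
          rcases (Subgroup.center G).normal_of_characteristic.eq_bot_or_eq_top with hcb | hct
          · rw [hcb, Subgroup.mem_bot] at hzcen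
            rw [hzcen, orderOf_one] at hzo
            omega
          · apply hnc
            exact ⟨⟨fun a b => by
              have : a ∈ Subgroup.center G := by rw [hct]; exact Subgroup.mem_top a
              exact (Subgroup.mem_center_iff.mp this b).symm⟩⟩
        · rw [ht, Subgroup.card_top, hn] at hN0odd
          exact absurd hN0odd (by decide)
      · rw [not_forall] at hiso
        obtain ⟨g, hg⟩ := hiso
        rw [Classical.not_imp] at hg
        obtain ⟨hgS, hgne⟩ := hg
        apply hgne
        have hfix1 : (QuotientGroup.mk 1 : G ⧸ N) ∈ fixedBy (G ⧸ N) z := by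
          rw [mem_fixedBy, MulAction.Quotient.smul_mk, QuotientGroup.eq]
          simpa using hSN hzS
        have hfix2 : (QuotientGroup.mk g⁻¹ : G ⧸ N) ∈ fixedBy (G ⧸ N) z := by
          rw [mem_fixedBy, MulAction.Quotient.smul_mk, QuotientGroup.eq]
          have := N.inv_mem (hSN hgS)
          simpa [mul_assoc] using this
        have hsub : (⟨_, hfix1⟩ : fixedBy (G ⧸ N) z) = ⟨_, hfix2⟩ := by
          have := (Nat.card_eq_one_iff_unique.mp hf1).1
          exact Subsingleton.elim _ _
        have hgN : g ∈ N := by
          have := congrArg Subtype.val hsub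
          rw [QuotientGroup.eq] at this
          simpa using this
        have := hNz hgN
        rw [Subgroup.mem_centralizer_iff] at this
        have h' := this z (Set.mem_singleton z)
        rw [← h', mul_inv_cancel_right]
    · -- |C(P)| = 13 : S ⊓ C(P) = ⊥, so S is cyclic
      have hTC : (S : Subgroup G) ⊓ C = ⊥ := by
        apply disjoint_iff.1
        apply Subgroup.disjoint_of_coprime_natCard
        rw [hSc, ← hc₀, hc13]
        norm_num
      have hcyc : IsCyclic (S : Subgroup G) :=
        isCyclic_of_inf_centralizer_eq_bot (P : Subgroup G) hP (S : Subgroup G) hSN hTC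
      obtain ⟨K, hKn, hKc, -⟩ := Cfsg.Agent.Lib.L0.exists_odd_normal_complement_of_cyclic_sylow S
        hcyc (by rw [hn]; norm_num)
      have hKcard : Nat.card K * Nat.card (S : Subgroup G) = Nat.card G := hKc.card_mul_card
      rw [hSc, hn] at hKcard
      rcases hKn.eq_bot_or_eq_top with hb | ht
      · rw [hb, Subgroup.card_bot] at hKcard
        omega
      · rw [ht, Subgroup.card_top, hn] at hKcard
        omega

end Cfsg.Agent.Lib.H10.O983
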