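import Mathlib
import Cfsg.Agent.Lib.H5.Ord.GenTests

/-!
# S0983 filler: no simple group of order 5880 (helper10)

`5880 = 2^3 * 3 * 5 * 7^2`.  `n_7 ∈ {1, 8, 15, 120}`; `8` dies by the minimal index test, `120`
by Burnside's transfer theorem (a Sylow 7 has order `49`, so it is abelian).  For `n_7 = 15`:
two different Sylow 7's meet in a subgroup of order `7`, a subgroup `D` of order `7` lying in two
Sylow 7's lies in exactly `8` of them, and the `15 * 14 = 210` ordered pairs `(P, R)`, `P ≠ R`,
are partitioned by `P ⊓ R` into fibres of size `8 * 7 = 56`; but `56 ∤ 210`.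
-/

set_option autoImplicit false

namespace Cfsg.Agent.Lib.H10.O983

open Subgroup MulAction Cfsg.Agent.Lib.H5 Cfsg.Agent.Lib.H5.SylPrime Cfsg.Agent.Lib.H5.GenTests

section general

variable {G : Type*} [Group G] {p : ℕ}

/-- If two Sylow `p`-subgroups `P`, `R` meet trivially, the orbit map `P → Syl_p` at `R` is
injective, so `|P| ≤ n_p`. -/
theorem card_le_card_sylow_of_inf_eq_bot [Finite G] [Fact p.Prime] (P R : Sylow p G)
    (h : (P : Subgroup G) ⊓ (R : Subgroup G) = ⊥) :
    Nat.card (P : Subgroup G) ≤ Nat.card (Sylow p G) := by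
  apply Nat.card_le_card_of_injective (fun g : (P : Subgroup G) => (g : G) • R)
  intro g k hgk
  have hgk' : (g : G) • R = (k : G) • R := hgk
  have h1 : ((k : G)⁻¹ * (g : G)) • R = R := by
    rw [mul_smul, hgk', inv_smul_smul]
  rw [Sylow.smul_eq_iff_mem_normalizer] at h1
  have h2 : (k : G)⁻¹ * (g : G) ∈ (P : Subgroup G) ⊓ (R : Subgroup G) := by
    rw [← IsPGroup.inf_normalizer_sylow P.2 R]
    exact ⟨(P : Subgroup G).mul_mem ((P : Subgroup G).inv_mem k.2) g.2, h1⟩
  rw [h, mem_bot] at h2
  ext
  exact (inv_mul_eq_one.mp h2).symm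

/-- The number of Sylow `p`-subgroups containing a given `p`-subgroup `D` is congruent to `n_p`
modulo `p`. -/
theorem card_sylow_ge_modEq [Finite G] [Fact p.Prime] (D : Subgroup G) (hD : IsPGroup p D) :
    Nat.card {Q : Sylow p G // D ≤ (Q : Subgroup G)} ≡ Nat.card (Sylow p G) [MOD p] := by
  have h := (hD.card_modEq_card_fixedPoints (Sylow p G)).symm
  have hset : fixedPoints D (Sylow p G) = {Q : Sylow p G | D ≤ (Q : Subgroup G)} := by
    ext Q
    exact hD.sylow_mem_fixedPoints_iff
  rw [hset] at h
  exact h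

/-- A nontrivial subgroup lying in every Sylow `p`-subgroup of a simple group forces the
Sylow `p`-subgroups to be the whole group. -/
theorem sylow_eq_top_of_forall_le [IsSimpleGroup G] (D : Subgroup G) (hD : D ≠ ⊥)
    (hall : ∀ Q : Sylow p G, D ≤ (Q : Subgroup G)) (P : Sylow p G) : (P : Subgroup G) = ⊤ := by
  have hle : D ≤ (P : Subgroup G).normalCore := by
    intro a ha b
    have h1 : a ∈ ((b⁻¹ • P : Sylow p G) : Subgroup G) := hall _ ha
    rw [Sylow.coe_subgroup_smul, Subgroup.mem_pointwise_smul_iff_inv_smul_mem] at h1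
    simpa using h1
  have hne : (P : Subgroup G).normalCore ≠ ⊥ := fun h => hD (le_bot_iff.mp (h ▸ hle))
  have htop : (P : Subgroup G).normalCore = ⊤ :=
    ((P : Subgroup G).normalCore_normal.eq_bot_or_eq_top).resolve_left hne
  exact top_le_iff.mp (htop ▸ (P : Subgroup G).normalCore_le)

end general

theorem not_simple_5880 {G : Type*} [Group G] [Finite G] [IsSimpleGroup G] :
    Nat.card G ≠ 5880 := by
  intro hn
  classical
  have hnc : ¬ IsMulCommutative G :=
    not_isMulCommutative_of_card_not_prime (by rw [hn]; norm_num)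
  have : Fact (Nat.Prime 7) := ⟨by norm_num⟩
  have : Fintype (Sylow 7 G) := Fintype.ofFinite _
  obtain ⟨P₀⟩ : Nonempty (Sylow 7 G) := inferInstance
  have hdata := fun P : Sylow 7 G =>
    sylow_data hnc hn (p := 7) (k := 2) (m := 120) (by norm_num) (by norm_num) (by norm_num)
      (by norm_num) P
  obtain ⟨h1, h2, h3, h4, hNd, -, -⟩ := hdata P₀
  have hcardP : ∀ P : Sylow 7 G, Nat.card (P : Subgroup G) = 49 := fun P => by
    have := (hdata P).2.2.2.2.2.1
    simpa using this
  have hd : Nat.card (Sylow 7 G) = 15 := by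
    have hmem : Nat.card (Sylow 7 G) ∈ (Nat.divisors 120).filter (fun d => d % 7 = 1) := by
      rw [Finset.mem_filter, Nat.mem_divisors]
      exact ⟨⟨h1, by norm_num⟩, h2⟩
    have hfil : (Nat.divisors 120).filter (fun d => d % 7 = 1) = {1, 8, 15, 120} := by decide
    rw [hfil] at hmem
    simp only [Finset.mem_insert, Finset.mem_singleton] at hmem
    rcases hmem with h | h | h | h
    · exact absurd h h3
    · exfalso
      rw [h] at h4
      revert h4
      decide
    · exact h
    · exfalso
      -- `N(P₀) = P₀` is abelian: Burnside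
      have hN49 : Nat.card (normalizer ((P₀ : Subgroup G) : Set G)) = 49 := by
        rw [h] at hNd
        omega
      have hNP : (P₀ : Subgroup G) = normalizer ((P₀ : Subgroup G) : Set G) :=
        Subgroup.eq_of_le_of_card_ge le_normalizer (by rw [hN49, hcardP])
      have hcomm : IsMulCommutative (P₀ : Subgroup G) :=
        IsPGroup.isMulCommutative_of_card_eq_prime_sq (p := 7) (by rw [hcardP]; norm_num)
      have hnp : ¬ IsPGroup 7 G :=
        Cfsg.Agent.S0493.not_isPGroup_of_card hn (p := 7) (k := 2) (m := 120) (by norm_num)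
          (by norm_num) (by norm_num)
      refine not_normalizer_le_centralizer_of_simple (p := 7) (by rw [hn]; norm_num) hnp P₀ ?_
      intro g hg
      have hg' : g ∈ (P₀ : Subgroup G) := by
        rw [hNP]
        exact hg
      rw [mem_centralizer_iff]
      intro x hx
      have := hcomm.is_comm.comm (⟨x, hx⟩ : (P₀ : Subgroup G)) ⟨g, hg'⟩
      exact congrArg Subtype.val this
  -- (A) two different Sylow 7's meet in a subgroup of order 7
  have hA : ∀ P R : Sylow 7 G, P ≠ R →
      Nat.card ((P : Subgroup G) ⊓ (R : Subgroup G) : Subgroup G) = 7 := by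
    intro P R hPR
    have hdvd : Nat.card ((P : Subgroup G) ⊓ (R : Subgroup G) : Subgroup G) ∣ 49 := by
      rw [← hcardP P]
      exact Subgroup.card_dvd_of_le inf_le_left
    have hne1 : Nat.card ((P : Subgroup G) ⊓ (R : Subgroup G) : Subgroup G) ≠ 1 := by
      intro h1'
      have hbot : (P : Subgroup G) ⊓ (R : Subgroup G) = ⊥ := Subgroup.card_eq_one.mp h1'
      have := card_le_card_sylow_of_inf_eq_bot P R hbot
      rw [hcardP, hd] at this
      omega
    have hne49 : Nat.card ((P : Subgroup G) ⊓ (R : Subgroup G) : Subgroup G) ≠ 49 := by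
      intro h49
      have h' : (P : Subgroup G) ⊓ (R : Subgroup G) = P :=
        Subgroup.eq_of_le_of_card_ge inf_le_left (by rw [h49, hcardP])
      have hle : (P : Subgroup G) ≤ R := inf_eq_left.mp h'
      have h'' : (P : Subgroup G) = R :=
        Subgroup.eq_of_le_of_card_ge hle (by rw [hcardP, hcardP])
      exact hPR (Sylow.ext h'')
    have hmem : Nat.card ((P : Subgroup G) ⊓ (R : Subgroup G) : Subgroup G) ∈ Nat.divisors 49 :=
      Nat.mem_divisors.mpr ⟨hdvd, by norm_num⟩
    have hdiv : Nat.divisors 49 = {1, 7, 49} := by decide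
    rw [hdiv] at hmem
    simp only [Finset.mem_insert, Finset.mem_singleton] at hmem
    rcases hmem with h | h | h
    · exact absurd h hne1
    · exact h
    · exact absurd h hne49
  -- (B) such an intersection lies in exactly 8 Sylow 7's
  have hB : ∀ P R : Sylow 7 G, P ≠ R →
      (Finset.univ.filter (fun Q : Sylow 7 G =>
        (P : Subgroup G) ⊓ (R : Subgroup G) ≤ (Q : Subgroup G))).card = 8 := by
    intro P R hPR
    have hDp : IsPGroup 7 ((P : Subgroup G) ⊓ (R : Subgroup G) : Subgroup G) :=
      P.2.to_le inf_le_left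
    have hmod := card_sylow_ge_modEq _ hDp
    rw [hd, Nat.card_eq_fintype_card, Fintype.card_subtype] at hmod
    have hc15 : (Finset.univ.filter (fun Q : Sylow 7 G =>
        (P : Subgroup G) ⊓ (R : Subgroup G) ≤ (Q : Subgroup G))).card ≤ 15 := by
      rw [← hd, Nat.card_eq_fintype_card]
      exact Finset.card_le_univ _
    have hc2 : 2 ≤ (Finset.univ.filter (fun Q : Sylow 7 G =>
        (P : Subgroup G) ⊓ (R : Subgroup G) ≤ (Q : Subgroup G))).card := by
      have hsub : ({P, R} : Finset (Sylow 7 G)) ⊆ Finset.univ.filter (fun Q : Sylow 7 G =>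
          (P : Subgroup G) ⊓ (R : Subgroup G) ≤ (Q : Subgroup G)) := by
        intro Q hQ
        rw [Finset.mem_insert, Finset.mem_singleton] at hQ
        rw [Finset.mem_filter]
        rcases hQ with rfl | rfl
        · exact ⟨Finset.mem_univ _, inf_le_left⟩
        · exact ⟨Finset.mem_univ _, inf_le_right⟩
      calc 2 = ({P, R} : Finset (Sylow 7 G)).card := (Finset.card_pair hPR).symm
        _ ≤ _ := Finset.card_le_card hsub
    have hc15' : (Finset.univ.filter (fun Q : Sylow 7 G =>
        (P : Subgroup G) ⊓ (R : Subgroup G) ≤ (Q : Subgroup G))).card ≠ 15 := by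
      intro h15
      have huniv : Finset.univ.filter (fun Q : Sylow 7 G =>
          (P : Subgroup G) ⊓ (R : Subgroup G) ≤ (Q : Subgroup G)) = Finset.univ :=
        Finset.eq_univ_of_card _ (by rw [h15, ← hd, Nat.card_eq_fintype_card])
      have hall : ∀ Q : Sylow 7 G, (P : Subgroup G) ⊓ (R : Subgroup G) ≤ (Q : Subgroup G) := by
        intro Q
        have := Finset.mem_univ Q
        rw [← huniv, Finset.mem_filter] at this
        exact this.2
      have hDne : (P : Subgroup G) ⊓ (R : Subgroup G) ≠ ⊥ := by
        intro hb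
        have := hA P R hPR
        rw [hb, Subgroup.card_bot] at this
        omega
      have htop := sylow_eq_top_of_forall_le _ hDne hall P
      have := hcardP P
      rw [htop, Subgroup.card_top, hn] at this
      omega
    unfold Nat.ModEq at hmod
    omega
  -- (C) the count of ordered pairs
  have hcount : (Finset.univ : Finset (Sylow 7 G)).offDiag.card = 210 := by
    rw [Finset.offDiag_card, Finset.card_univ, ← Nat.card_eq_fintype_card, hd]
  let f : Sylow 7 G × Sylow 7 G → Subgroup G := fun x => (x.1 : Subgroup G) ⊓ (x.2 : Subgroup G)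
  have hfib := Finset.card_eq_sum_card_fiberwise
    (s := (Finset.univ : Finset (Sylow 7 G)).offDiag)
    (t := (Finset.univ : Finset (Sylow 7 G)).offDiag.image f) (f := f)
    (fun x hx => Finset.mem_coe.mpr (Finset.mem_image_of_mem f (Finset.mem_coe.mp hx)))
  have hfibre : ∀ D ∈ (Finset.univ : Finset (Sylow 7 G)).offDiag.image f,
      (((Finset.univ : Finset (Sylow 7 G)).offDiag).filter (fun x => f x = D)).card = 56 := by
    intro D hD
    obtain ⟨⟨P, R⟩, hPR, rfl⟩ := Finset.mem_image.mp hD
    have hPR' : P ≠ R := by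
      rw [Finset.mem_offDiag] at hPR
      exact hPR.2.2
    have hset : ((Finset.univ : Finset (Sylow 7 G)).offDiag).filter (fun x => f x = f (P, R)) =
        (Finset.univ.filter (fun Q : Sylow 7 G =>
          (P : Subgroup G) ⊓ (R : Subgroup G) ≤ (Q : Subgroup G))).offDiag := by
      ext ⟨P', R'⟩
      simp only [Finset.mem_filter, Finset.mem_offDiag, Finset.mem_univ, true_and]
      constructor
      · rintro ⟨hne, heq⟩
        have heq' : (P' : Subgroup G) ⊓ (R' : Subgroup G) = (P : Subgroup G) ⊓ (R : Subgroup G) :=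
          heq
        exact ⟨heq' ▸ inf_le_left, heq' ▸ inf_le_right, hne⟩
      · rintro ⟨hP', hR', hne⟩
        refine ⟨hne, ?_⟩
        show (P' : Subgroup G) ⊓ (R' : Subgroup G) = (P : Subgroup G) ⊓ (R : Subgroup G)
        symm
        exact Subgroup.eq_of_le_of_card_ge (le_inf hP' hR') (by rw [hA P' R' hne, hA P R hPR'])
    rw [hset, Finset.offDiag_card, hB P R hPR']
  rw [Finset.sum_congr rfl hfibre, Finset.sum_const, smul_eq_mul, hcount] at hfib
  omega

end Cfsg.Agent.Lib.H10.O983
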