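import Mathlib
import Cfsg.Agent.Lib.H24.ElusSpForm

set_option autoImplicit false

/-!
# Symmetric bilinear forms relative to subspaces (helper10)

Port of the elementary part of `Lib/H24/ElusSpForm` (alternating forms) to symmetric forms,
plus nonsingular vectors and chains of nondegenerate subspaces in characteristic `≠ 2`.
-/

namespace Cfsg.Agent.Lib.H10.OrtNd

open Module
open Cfsg.Agent.Lib.H24.Elus

section form

variable {F : Type*} [Field F] {V : Type*} [AddCommGroup V] [Module F V]

variable (B : LinearMap.BilinForm F V)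

theorem symZ (hS : ∀ x y, B x y = B y x) {v w : V} (h : B v w = 0) : B w v = 0 :=
  (hS w v).trans h

theorem isRefl_of_symS (hS : ∀ x y, B x y = B y x) : B.IsRefl :=
  fun _ _ h => symZ B hS h

theorem disjoint_orth_of_NDonS (hS : ∀ x y, B x y = B y x) (D : Submodule F V) (hD : NDon B D) :
    Disjoint D (B.orthogonal D) := by
  rw [Submodule.disjoint_def]
  intro x hx hx'
  apply hD x hx
  intro v hv
  exact symZ B hS (hx' v hv)

theorem inf_eq_bot_of_orthS (hS : ∀ x y, B x y = B y x) (A A' : Submodule F V) (hA : NDon B A)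
    (horth : ∀ u ∈ A, ∀ v ∈ A', B u v = 0) : A ⊓ A' = ⊥ := by
  rw [eq_bot_iff]
  intro x hx
  rw [Submodule.mem_inf] at hx
  rw [Submodule.mem_bot]
  apply hA x hx.1
  intro v hv
  exact symZ B hS (horth v hv x hx.2)

/-- the orthogonal sum of nondegenerate subspaces is nondegenerate -/
theorem NDon_supS (hS : ∀ x y, B x y = B y x) (A A' : Submodule F V) (hA : NDon B A)
    (hA' : NDon B A') (horth : ∀ u ∈ A, ∀ v ∈ A', B u v = 0) : NDon B (A ⊔ A') := by
  intro u hu h
  obtain ⟨a, ha, a', ha', rfl⟩ := Submodule.mem_sup.mp hu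
  have h1 : a = 0 := by
    apply hA a ha
    intro v hv
    have := h v (Submodule.mem_sup_left hv)
    rw [map_add, LinearMap.add_apply, symZ B hS (horth v hv a' ha'), add_zero] at this
    exact this
  have h2 : a' = 0 := by
    apply hA' a' ha'
    intro v hv
    have := h v (Submodule.mem_sup_right hv)
    rw [map_add, LinearMap.add_apply, horth a ha v hv, zero_add] at this
    exact this
  rw [h1, h2, add_zero]

/-- a nondegenerate subspace which is an orthogonal sum has nondegenerate summands -/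
theorem NDon_of_sup_orthS (U A A' : Submodule F V) (hU : NDon B U) (hAU : A ≤ U)
    (hsup : U ≤ A ⊔ A') (horth : ∀ u ∈ A, ∀ v ∈ A', B u v = 0) : NDon B A := by
  intro u hu h
  apply hU u (hAU hu)
  intro v hv
  obtain ⟨a, ha, a', ha', rfl⟩ := Submodule.mem_sup.mp (hsup hv)
  rw [map_add, h a ha, horth u hu a' ha', add_zero]

section fd

variable [FiniteDimensional F V]

theorem isCompl_orth_of_NDonS (hS : ∀ x y, B x y = B y x) (D : Submodule F V) (hD : NDon B D) :
    IsCompl D (B.orthogonal D) :=
  (LinearMap.BilinForm.isCompl_orthogonal_iff_disjoint (isRefl_of_symS B hS)).mpr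
    (disjoint_orth_of_NDonS B hS D hD)

theorem sup_perp_inS (hS : ∀ x y, B x y = B y x) (U D : Submodule F V) (hD : NDon B D)
    (hDU : D ≤ U) : D ⊔ (U ⊓ B.orthogonal D) = U := by
  have h1 := (isCompl_orth_of_NDonS B hS D hD).sup_eq_top
  have h2 := sup_inf_assoc_of_le (B.orthogonal D) hDU
  rw [h1, top_inf_eq, inf_comm] at h2
  exact h2.symm

theorem inf_perp_inS (hS : ∀ x y, B x y = B y x) (U D : Submodule F V) (hD : NDon B D) :
    D ⊓ (U ⊓ B.orthogonal D) = ⊥ := by
  have h1 := (isCompl_orth_of_NDonS B hS D hD).inf_eq_bot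
  rw [eq_bot_iff, ← h1]
  exact inf_le_inf_left D inf_le_right

theorem finrank_perp_inS (hS : ∀ x y, B x y = B y x) (U D : Submodule F V) (hD : NDon B D)
    (hDU : D ≤ U) : finrank F D + finrank F ↥(U ⊓ B.orthogonal D) = finrank F U := by
  have h := Submodule.finrank_sup_add_finrank_inf_eq D (U ⊓ B.orthogonal D)
  rw [sup_perp_inS B hS U D hD hDU, inf_perp_inS B hS U D hD, finrank_bot, add_zero] at h
  exact h.symm

theorem NDon_perp_inS (hS : ∀ x y, B x y = B y x) (U D : Submodule F V) (hU : NDon B U)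
    (hD : NDon B D) (hDU : D ≤ U) : NDon B (U ⊓ B.orthogonal D) := by
  apply NDon_of_sup_orthS B U (U ⊓ B.orthogonal D) D hU inf_le_left
  · rw [sup_comm, sup_perp_inS B hS U D hD hDU]
  · intro u hu v hv
    exact symZ B hS ((Submodule.mem_inf.mp hu).2 v hv)

end fd

/-- pairwise orthogonal nondegenerate subspaces are independent -/
theorem iSupIndep_of_orthS (hS : ∀ x y, B x y = B y x) {κ : Type*} (E : κ → Submodule F V)
    (hnd : ∀ k, NDon B (E k))
    (horth : ∀ k k', k ≠ k' → ∀ u ∈ E k, ∀ v ∈ E k', B u v = 0) : iSupIndep E := by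
  rw [iSupIndep_def]
  intro k
  rw [Submodule.disjoint_def]
  intro x hx hx'
  apply hnd k x hx
  intro v hv
  apply symZ B hS
  have h2 : ∀ u ∈ ⨆ j, ⨆ (_ : j ≠ k), E j, B v u = 0 := by
    intro u hu
    apply symZ B hS
    revert u
    apply orth_iSup B (fun j => ⨆ (_ : j ≠ k), E j) v
    intro j
    apply orth_iSup B (fun _ : j ≠ k => E j) v
    intro hjk u hu
    exact horth j k hjk u hu v hv
  exact h2 x hx'

/-- the supremum of a finite family of pairwise orthogonal nondegenerate subspaces -/
theorem NDon_iSupS (hS : ∀ x y, B x y = B y x) {κ : Type*} [Fintype κ] [DecidableEq κ]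
    (E : κ → Submodule F V) (hnd : ∀ k, NDon B (E k))
    (horth : ∀ k k', k ≠ k' → ∀ u ∈ E k, ∀ v ∈ E k', B u v = 0) : NDon B (⨆ k, E k) := by
  intro u hu h
  rw [← range_sumMap] at hu
  obtain ⟨w, rfl⟩ := hu
  have hw : ∀ k, (w k : V) = 0 := by
    intro k
    apply hnd k _ (w k).2
    intro v hv
    have h1 := h v (Submodule.mem_iSup_of_mem k hv)
    rw [sumMap_apply, map_sum, LinearMap.sum_apply, Finset.sum_eq_single k] at h1
    · exact h1
    · intro j _ hjk
      exact horth j k hjk _ (w j).2 v hv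
    · intro hk
      exact absurd (Finset.mem_univ k) hk
  rw [sumMap_apply]
  exact Finset.sum_eq_zero (fun k _ => hw k)


end form

end Cfsg.Agent.Lib.H10.OrtNd
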