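import Mathlib
import Cfsg.Agent.Lib.H10.OrtNdA
import Cfsg.Agent.S0756

set_option autoImplicit false

/-!
# Nondegenerate subspaces of quadratic spaces in characteristic `≠ 2` (helper10)

`PB Q` is the polar form; nonsingular vectors, chains of nondegenerate subspaces, universality
of nondegenerate subspaces of dimension `≥ 2` over finite fields.
-/

namespace Cfsg.Agent.Lib.H10.OrtNd

open Module
open Cfsg.Agent.Lib.H24.Elus

variable {F : Type*} [Field F] {V : Type*} [AddCommGroup V] [Module F V]

/-- the polar form of a quadratic form as a bilinear form -/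
abbrev PB (Q : QuadraticForm F V) : LinearMap.BilinForm F V := QuadraticMap.polarBilin Q

variable (Q : QuadraticForm F V)

theorem PB_apply (u v : V) : PB Q u v = QuadraticMap.polar (⇑Q) u v := rfl

theorem PB_symm : ∀ x y, PB Q x y = PB Q y x := fun x y => QuadraticMap.polar_comm (⇑Q) x y

theorem PB_self (v : V) : PB Q v v = 2 * Q v := by
  rw [PB_apply, QuadraticMap.polar_self, two_smul, two_mul]

/-- totally singular subspaces -/
def TS (W : Submodule F V) : Prop := ∀ w ∈ W, Q w = 0

/-- plus type: a totally singular subspace of half the dimension -/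
def PlusOn (W : Submodule F V) : Prop :=
  ∃ U : Submodule F V, U ≤ W ∧ TS Q U ∧ 2 * finrank F U = finrank F W

theorem TS.polar_eq_zero {W : Submodule F V} (h : TS Q W) {u v : V} (hu : u ∈ W) (hv : v ∈ W) :
    PB Q u v = 0 := by
  rw [PB_apply]
  unfold QuadraticMap.polar
  rw [h _ (W.add_mem hu hv), h u hu, h v hv]
  ring

theorem TS_of_isotropic (h2 : (2 : F) ≠ 0) {W : Submodule F V}
    (h : ∀ u ∈ W, ∀ v ∈ W, PB Q u v = 0) : TS Q W := by
  intro w hw
  have := h w hw w hw
  rw [PB_self] at this
  exact (mul_eq_zero.mp this).resolve_left h2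

theorem TS_mono {W W' : Submodule F V} (h : W ≤ W') (hW' : TS Q W') : TS Q W :=
  fun w hw => hW' w (h hw)

/-- a nonzero nondegenerate subspace contains a nonsingular vector -/
theorem exists_nonsing {U : Submodule F V} (hU : NDon (PB Q) U) (hne : U ≠ ⊥) :
    ∃ u ∈ U, Q u ≠ 0 := by
  by_contra hcon
  push Not at hcon
  obtain ⟨u, hu, hu0⟩ := (Submodule.ne_bot_iff U).mp hne
  apply hu0
  apply hU u hu
  intro v hv
  exact TS.polar_eq_zero Q (W := U) hcon hu hv

/-- a line spanned by a nonsingular vector is nondegenerate -/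
theorem NDon_span_singleton (h2 : (2 : F) ≠ 0) {u : V} (hu : Q u ≠ 0) :
    NDon (PB Q) (Submodule.span F {u}) := by
  intro x hx h
  obtain ⟨a, rfl⟩ := Submodule.mem_span_singleton.mp hx
  have := h u (Submodule.mem_span_singleton_self u)
  rw [map_smul, LinearMap.smul_apply, PB_self, smul_eq_mul] at this
  have ha : a = 0 := by
    rcases mul_eq_zero.mp this with h | h
    · exact h
    · exact absurd h (mul_ne_zero h2 hu)
  rw [ha, zero_smul]

theorem finrank_span_singleton_of_nonsing {u : V} (hu : Q u ≠ 0) :
    finrank F (Submodule.span F {u}) = 1 := by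
  apply finrank_span_singleton
  rintro rfl
  exact hu (map_zero Q)

variable [FiniteDimensional F V]

/-- nondegenerate subspaces of every dimension inside a nondegenerate subspace, with nondegenerate
relative orthogonal complement -/
theorem exists_nd_sub (h2 : (2 : F) ≠ 0) {U : Submodule F V} (hU : NDon (PB Q) U) (e : ℕ)
    (he : e ≤ finrank F U) :
    ∃ W : Submodule F V, W ≤ U ∧ NDon (PB Q) W ∧ finrank F W = e := by
  induction e with
  | zero => exact ⟨⊥, bot_le, NDon_bot _, finrank_bot F V⟩
  | succ e ih =>
    obtain ⟨W, hWU, hW, hWe⟩ := ih (by omega)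
    set W' := U ⊓ (PB Q).orthogonal W with hW'
    have hW'nd : NDon (PB Q) W' := NDon_perp_inS (PB Q) (PB_symm Q) U W hU hW hWU
    have hdim := finrank_perp_inS (PB Q) (PB_symm Q) U W hW hWU
    have hne : W' ≠ ⊥ := by
      intro h
      rw [← hW', h, finrank_bot] at hdim
      omega
    obtain ⟨u, hu, hQu⟩ := exists_nonsing Q hW'nd hne
    have hu' := Submodule.mem_inf.mp hu
    refine ⟨W ⊔ Submodule.span F {u}, sup_le hWU ?_, ?_, ?_⟩
    · rw [Submodule.span_singleton_le_iff_mem]; exact hu'.1
    · apply NDon_supS (PB Q) (PB_symm Q) W _ hW (NDon_span_singleton Q h2 hQu)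
      intro a ha b hb
      obtain ⟨c, rfl⟩ := Submodule.mem_span_singleton.mp hb
      rw [map_smul, smul_eq_mul, hu'.2 a ha, mul_zero]
    · have hdisj : W ⊓ Submodule.span F {u} = ⊥ := by
        apply inf_eq_bot_of_orthS (PB Q) (PB_symm Q) W _ hW
        intro a ha b hb
        obtain ⟨c, rfl⟩ := Submodule.mem_span_singleton.mp hb
        rw [map_smul, smul_eq_mul, hu'.2 a ha, mul_zero]
      have h := Submodule.finrank_sup_add_finrank_inf_eq W (Submodule.span F {u})
      rw [hdisj, finrank_bot, add_zero, hWe, finrank_span_singleton_of_nonsing Q hQu] at h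
      exact h

end Cfsg.Agent.Lib.H10.OrtNd
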