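import Mathlib
import Cfsg.Agent.Lib.H10.OrtNdB
import Cfsg.Agent.Lib.H11.Disc

set_option autoImplicit false

/-!
# Discriminant classes of nondegenerate subspaces and the plus-type criterion (helper10)
-/

namespace Cfsg.Agent.Lib.H10.OrtNd

open Module
open Cfsg.Agent.Lib.H24.Elus

variable {F : Type*} [Field F] {V : Type*} [AddCommGroup V] [Module F V]

variable (Q : QuadraticForm F V)

/-- Gram matrix of a family of vectors -/
def gram {ι : Type*} (v : ι → V) : Matrix ι ι F := Matrix.of fun i j => PB Q (v i) (v j)

theorem gram_apply {ι : Type*} (v : ι → V) (i j : ι) : gram Q v i j = PB Q (v i) (v j) := rfl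

/-- the basis of a subspace given by a linearly independent spanning family -/
noncomputable def famBasis {ι : Type*} {v : ι → V} (hli : LinearIndependent F v)
    {W : Submodule F V} (hW : Submodule.span F (Set.range v) = W) : Basis ι F ↥W :=
  (Basis.span hli).map (LinearEquiv.ofEq _ _ hW)

theorem famBasis_apply {ι : Type*} {v : ι → V} (hli : LinearIndependent F v)
    {W : Submodule F V} (hW : Submodule.span F (Set.range v) = W) (i : ι) :
    ((famBasis hli hW i : ↥W) : V) = v i := by
  unfold famBasis
  rw [Basis.map_apply, Basis.span_apply]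
  rfl

theorem toMatrix_famBasis {ι : Type*} [Fintype ι] [DecidableEq ι] {v : ι → V}
    (hli : LinearIndependent F v) {W : Submodule F V}
    (hW : Submodule.span F (Set.range v) = W) :
    LinearMap.BilinForm.toMatrix (famBasis hli hW) ((PB Q).restrict W) = gram Q v := by
  ext i j
  rw [LinearMap.BilinForm.toMatrix_apply, gram_apply]
  show PB Q (famBasis hli hW i : ↥W) (famBasis hli hW j : ↥W) = _
  rw [famBasis_apply, famBasis_apply]

theorem restrict_nondegenerate_of_NDon {W : Submodule F V} (hW : NDon (PB Q) W) :
    ((PB Q).restrict W).Nondegenerate := by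
  constructor
  · intro x hx
    apply Subtype.ext
    apply hW x x.2
    intro v hv
    exact hx ⟨v, hv⟩
  · intro y hy
    apply Subtype.ext
    apply hW y y.2
    intro v hv
    have := hy ⟨v, hv⟩
    exact (PB_symm Q _ _).trans this

theorem gram_det_ne_zero {ι : Type*} [Fintype ι] [DecidableEq ι] {v : ι → V}
    (hli : LinearIndependent F v) {W : Submodule F V}
    (hW : Submodule.span F (Set.range v) = W) (hnd : NDon (PB Q) W) : (gram Q v).det ≠ 0 := by
  rw [← toMatrix_famBasis Q hli hW]
  exact (LinearMap.BilinForm.nondegenerate_iff_det_ne_zero (famBasis hli hW)).mp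
    (restrict_nondegenerate_of_NDon Q hnd)

theorem gram_det_change {ι κ : Type*} [Fintype ι] [DecidableEq ι] [Fintype κ] [DecidableEq κ]
    {v : ι → V} {v' : κ → V} (hli : LinearIndependent F v) (hli' : LinearIndependent F v')
    {W : Submodule F V} (hW : Submodule.span F (Set.range v) = W)
    (hW' : Submodule.span F (Set.range v') = W) :
    ∃ d : F, d ≠ 0 ∧ (gram Q v').det = d ^ 2 * (gram Q v).det := by
  obtain ⟨d, hd, h⟩ := Cfsg.Agent.Lib.H11.Disc.det_gram_change ((PB Q).restrict W)
    (famBasis hli hW) (famBasis hli' hW')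
  rw [toMatrix_famBasis, toMatrix_famBasis] at h
  exact ⟨d, hd, h⟩

/-- the discriminant of `W` is a square -/
def DSq (W : Submodule F V) : Prop :=
  ∃ (ι : Type) (_ : Fintype ι) (_ : DecidableEq ι) (v : ι → V), LinearIndependent F v ∧
    Submodule.span F (Set.range v) = W ∧ IsSquare (gram Q v).det

theorem isSquare_sq_mul {d a : F} (hd : d ≠ 0) : IsSquare (d ^ 2 * a) ↔ IsSquare a := by
  constructor
  · rintro ⟨s, hs⟩
    refine ⟨s / d, ?_⟩
    field_simp
    linear_combination hs
  · rintro ⟨s, hs⟩
    exact ⟨d * s, by rw [hs]; ring⟩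

theorem DSq_iff {ι : Type} [Fintype ι] [DecidableEq ι] {v : ι → V}
    (hli : LinearIndependent F v) {W : Submodule F V}
    (hW : Submodule.span F (Set.range v) = W) : DSq Q W ↔ IsSquare (gram Q v).det := by
  constructor
  · rintro ⟨κ, _, _, v', hli', hW', hsq⟩
    obtain ⟨d, hd, h⟩ := gram_det_change Q hli' hli hW' hW
    rw [h, isSquare_sq_mul hd]
    exact hsq
  · intro h
    exact ⟨ι, inferInstance, inferInstance, v, hli, hW, h⟩

/-- every subspace of a finite-dimensional space is spanned by a family indexed by `Fin` -/
theorem exists_fam [FiniteDimensional F V] (W : Submodule F V) :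
    ∃ v : Fin (finrank F W) → V, LinearIndependent F v ∧ Submodule.span F (Set.range v) = W := by
  let b := Module.finBasis F W
  refine ⟨fun i => (b i : V), ?_, ?_⟩
  · exact b.linearIndependent.map' W.subtype (Submodule.ker_subtype W)
  · have h1 : Set.range (fun i => (b i : V)) = W.subtype '' Set.range b := by
      rw [← Set.range_comp]; rfl
    rw [h1, Submodule.span_image, b.span_eq, Submodule.map_top, Submodule.range_subtype]

end Cfsg.Agent.Lib.H10.OrtNd
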