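import Mathlib
import Cfsg.Agent.Lib.H10.OrtNdC

set_option autoImplicit false

/-!
# Plus type via discriminants; orthogonal sums; both types occur (helper10)
-/

namespace Cfsg.Agent.Lib.H10.OrtNd

open Module
open Cfsg.Agent.Lib.H24.Elus

variable {F : Type*} [Field F] {V : Type*} [AddCommGroup V] [Module F V]

variable (Q : QuadraticForm F V)

/-- the plus-type criterion -/
theorem plus_iff_isSquare [Finite F] [FiniteDimensional F V] (h2 : (2 : F) ≠ 0)
    {W : Submodule F V} (hnd : NDon (PB Q) W) {N : ℕ} (hdim : finrank F W = 2 * N)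
    {ι : Type} [Fintype ι] [DecidableEq ι] {v : ι → V} (hli : LinearIndependent F v)
    (hW : Submodule.span F (Set.range v) = W) :
    PlusOn Q W ↔ IsSquare ((-1) ^ N * (gram Q v).det) := by
  have hS : ∀ x y : ↥W, (PB Q).restrict W x y = (PB Q).restrict W y x :=
    fun x y => PB_symm Q _ _
  constructor
  · rintro ⟨U, hUW, hUts, hUdim⟩
    have h := Cfsg.Agent.Lib.H11.Disc.isSquare_of_isotropic ((PB Q).restrict W) hS
      (famBasis hli hW) N (U.comap W.subtype)
      (by
        rw [(Submodule.comapSubtypeEquivOfLe hUW).finrank_eq]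
        omega) hdim
      (by
        intro x hx y hy
        exact TS.polar_eq_zero Q hUts hx hy)
    rw [toMatrix_famBasis] at h
    exact h
  · intro h
    rw [← toMatrix_famBasis Q hli hW] at h
    obtain ⟨X, hX, hiso⟩ := Cfsg.Agent.Lib.H11.Disc.exists_isotropic_of_isSquare h2
      ((PB Q).restrict W) hS (restrict_nondegenerate_of_NDon Q hnd) (famBasis hli hW) N hdim h
    refine ⟨X.map W.subtype, ?_, ?_, ?_⟩
    · rintro _ ⟨x, _, rfl⟩
      exact x.2
    · apply TS_of_isotropic Q h2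
      rintro _ ⟨x, hx, rfl⟩ _ ⟨y, hy, rfl⟩
      exact hiso x hx y hy
    · rw [Submodule.finrank_map_subtype_eq, hX, hdim]

/-! ### square classes in a finite field -/

theorem isSquare_mul_iff [Fintype F] (h2 : (2 : F) ≠ 0) {a b : F} (ha : a ≠ 0) (hb : b ≠ 0) :
    IsSquare (a * b) ↔ (IsSquare a ↔ IsSquare b) := by
  have hch : ringChar F ≠ 2 := by
    intro h
    apply h2
    have := CharP.cast_eq_zero F (ringChar F)
    rw [h] at this
    exact_mod_cast this
  rw [FiniteField.isSquare_iff hch (mul_ne_zero ha hb), FiniteField.isSquare_iff hch ha,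
    FiniteField.isSquare_iff hch hb, mul_pow]
  have hneg : (-1 : F) ≠ 1 := by
    intro h
    apply h2
    have : (2 : F) = 1 - (-1) := by ring
    rw [this, h, sub_self]
  rcases FiniteField.pow_dichotomy hch ha with h | h <;>
    rcases FiniteField.pow_dichotomy hch hb with h' | h' <;> rw [h, h']
  · simp
  · simp [hneg]
  · simp [hneg]
  · simp [hneg]

/-! ### orthogonal sums -/

theorem gram_sum_elim {ι κ : Type*} (v : ι → V) (w : κ → V)
    (horth : ∀ i j, PB Q (v i) (w j) = 0) :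
    gram Q (Sum.elim v w) = Matrix.fromBlocks (gram Q v) 0 0 (gram Q w) := by
  ext (i | i) (j | j)
  · rfl
  · simp only [gram_apply, Sum.elim_inl, Sum.elim_inr, Matrix.fromBlocks_apply₁₂,
      Matrix.zero_apply]
    exact horth i j
  · simp only [gram_apply, Sum.elim_inl, Sum.elim_inr, Matrix.fromBlocks_apply₂₁,
      Matrix.zero_apply]
    exact (PB_symm Q _ _).trans (horth j i)
  · rfl

/-- the discriminant class of an orthogonal sum -/
theorem DSq_sup [Fintype F] [FiniteDimensional F V] (h2 : (2 : F) ≠ 0) {W₁ W₂ : Submodule F V}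
    (h₁ : NDon (PB Q) W₁) (h₂ : NDon (PB Q) W₂)
    (horth : ∀ u ∈ W₁, ∀ v ∈ W₂, PB Q u v = 0) :
    DSq Q (W₁ ⊔ W₂) ↔ (DSq Q W₁ ↔ DSq Q W₂) := by
  classical
  obtain ⟨v, hv, hvW⟩ := exists_fam W₁
  obtain ⟨w, hw, hwW⟩ := exists_fam W₂
  have hdisj : Disjoint (Submodule.span F (Set.range v)) (Submodule.span F (Set.range w)) := by
    rw [hvW, hwW, disjoint_iff]
    exact inf_eq_bot_of_orthS (PB Q) (PB_symm Q) W₁ W₂ h₁ horth
  have hli : LinearIndependent F (Sum.elim v w) := hv.sum_type hw hdisj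
  have hspan : Submodule.span F (Set.range (Sum.elim v w)) = W₁ ⊔ W₂ := by
    rw [Set.Sum.elim_range, Submodule.span_union, hvW, hwW]
  rw [DSq_iff Q hli hspan, DSq_iff Q hv hvW, DSq_iff Q hw hwW, gram_sum_elim Q v w
    (fun i j => horth _ (hvW ▸ Submodule.subset_span (Set.mem_range_self i)) _
      (hwW ▸ Submodule.subset_span (Set.mem_range_self j))),
    Matrix.det_fromBlocks_zero₂₁]
  exact isSquare_mul_iff h2 (gram_det_ne_zero Q hv hvW h₁) (gram_det_ne_zero Q hw hwW h₂)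

/-- the discriminant class of a nonsingular line -/
theorem DSq_span_singleton {u : V} (hu : Q u ≠ 0) :
    DSq Q (Submodule.span F {u}) ↔ IsSquare (2 * Q u) := by
  have hu0 : u ≠ 0 := by
    rintro rfl
    exact hu (map_zero Q)
  have hli : LinearIndependent F (fun _ : Unit => u) :=
    LinearIndependent.of_subsingleton () hu0
  have hspan : Submodule.span F (Set.range (fun _ : Unit => u)) = Submodule.span F {u} := by
    rw [Set.range_const]
  rw [DSq_iff Q hli hspan]
  have : (gram Q (fun _ : Unit => u)).det = 2 * Q u := by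
    rw [Matrix.det_unique, gram_apply, PB_self]
  rw [this]

/-- plus type in terms of the discriminant class -/
theorem plus_iff_DSq [Fintype F] [FiniteDimensional F V] (h2 : (2 : F) ≠ 0)
    {W : Submodule F V} (hnd : NDon (PB Q) W) {N : ℕ} (hdim : finrank F W = 2 * N) :
    PlusOn Q W ↔ (IsSquare ((-1 : F) ^ N) ↔ DSq Q W) := by
  classical
  obtain ⟨v, hv, hvW⟩ := exists_fam W
  rw [plus_iff_isSquare Q h2 hnd hdim hv hvW, DSq_iff Q hv hvW]
  exact isSquare_mul_iff h2 (pow_ne_zero _ (neg_ne_zero.mpr one_ne_zero))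
    (gram_det_ne_zero Q hv hvW hnd)

/-- types multiply in orthogonal sums -/
theorem plus_sup_iff [Fintype F] [FiniteDimensional F V] (h2 : (2 : F) ≠ 0)
    {W₁ W₂ : Submodule F V} (h₁ : NDon (PB Q) W₁) (h₂ : NDon (PB Q) W₂)
    (horth : ∀ u ∈ W₁, ∀ v ∈ W₂, PB Q u v = 0) {N₁ N₂ : ℕ} (hd₁ : finrank F W₁ = 2 * N₁)
    (hd₂ : finrank F W₂ = 2 * N₂) :
    PlusOn Q (W₁ ⊔ W₂) ↔ (PlusOn Q W₁ ↔ PlusOn Q W₂) := by
  have hnd : NDon (PB Q) (W₁ ⊔ W₂) := NDon_supS (PB Q) (PB_symm Q) W₁ W₂ h₁ h₂ horth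
  have hdim : finrank F ↥(W₁ ⊔ W₂) = 2 * (N₁ + N₂) := by
    have h := Submodule.finrank_sup_add_finrank_inf_eq W₁ W₂
    rw [inf_eq_bot_of_orthS (PB Q) (PB_symm Q) W₁ W₂ h₁ horth, finrank_bot, add_zero] at h
    rw [h, hd₁, hd₂]; ring
  rw [plus_iff_DSq Q h2 hnd hdim, plus_iff_DSq Q h2 h₁ hd₁, plus_iff_DSq Q h2 h₂ hd₂,
    DSq_sup Q h2 h₁ h₂ horth, pow_add,
    isSquare_mul_iff h2 (pow_ne_zero _ (neg_ne_zero.mpr one_ne_zero))
      (pow_ne_zero _ (neg_ne_zero.mpr one_ne_zero))]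
  tauto

end Cfsg.Agent.Lib.H10.OrtNd
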