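import Mathlib
import Cfsg.Agent.Lib.H10.OrtNdD

set_option autoImplicit false

/-!
# Universality and existence of nondegenerate subspaces of both types (helper10)
-/

namespace Cfsg.Agent.Lib.H10.OrtNd

open Module
open Cfsg.Agent.Lib.H24.Elus

variable {F : Type*} [Field F] {V : Type*} [AddCommGroup V] [Module F V]

variable (Q : QuadraticForm F V)

/-- a nondegenerate subspace of dimension at least two represents every nonzero scalar -/
theorem universal [Finite F] [FiniteDimensional F V] (h2 : (2 : F) ≠ 0) {U : Submodule F V}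
    (hU : NDon (PB Q) U) (hdim : 2 ≤ finrank F U) (c : F) (hc : c ≠ 0) :
    ∃ v ∈ U, Q v = c := by
  let B : LinearMap.BilinForm F ↥U := (2 * c)⁻¹ • (PB Q).restrict U
  have hk : (2 * c)⁻¹ ≠ 0 := inv_ne_zero (mul_ne_zero h2 hc)
  have hBapp : ∀ x y : ↥U, B x y = (2 * c)⁻¹ * PB Q (x : V) (y : V) := fun x y => rfl
  have hS : B.IsSymm := ⟨fun x y => by
    rw [hBapp, hBapp, PB_symm Q]⟩
  have hnd := restrict_nondegenerate_of_NDon Q hU
  have hB : B.Nondegenerate := by
    constructor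
    · intro x hx
      apply hnd.1 x
      intro y
      have := hx y
      rw [hBapp] at this
      exact (mul_eq_zero.1 this).resolve_left hk
    · intro x hx
      apply hnd.2 x
      intro y
      have := hx y
      rw [hBapp] at this
      exact (mul_eq_zero.1 this).resolve_left hk
  obtain ⟨v, hv⟩ := Cfsg.Agent.S0756.exists_norm_one h2 B hS hB hdim
  refine ⟨(v : V), v.2, ?_⟩
  rw [hBapp, PB_self] at hv
  field_simp at hv
  linear_combination hv

/-- extend a nondegenerate subspace by a nonsingular orthogonal vector -/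
theorem NDon_sup_span (h2 : (2 : F) ≠ 0) {W : Submodule F V} (hW : NDon (PB Q) W) {u : V}
    (hu : Q u ≠ 0) (horth : ∀ a ∈ W, PB Q a u = 0) :
    NDon (PB Q) (W ⊔ Submodule.span F {u}) := by
  apply NDon_supS (PB Q) (PB_symm Q) W _ hW (NDon_span_singleton Q h2 hu)
  intro a ha b hb
  obtain ⟨c, rfl⟩ := Submodule.mem_span_singleton.mp hb
  rw [map_smul, smul_eq_mul, horth a ha, mul_zero]

theorem finrank_sup_span [FiniteDimensional F V] {W : Submodule F V} (hW : NDon (PB Q) W)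
    {u : V} (hu : Q u ≠ 0) (horth : ∀ a ∈ W, PB Q a u = 0) :
    finrank F ↥(W ⊔ Submodule.span F {u}) = finrank F W + 1 := by
  have hdisj : W ⊓ Submodule.span F {u} = ⊥ := by
    apply inf_eq_bot_of_orthS (PB Q) (PB_symm Q) W _ hW
    intro a ha b hb
    obtain ⟨c, rfl⟩ := Submodule.mem_span_singleton.mp hb
    rw [map_smul, smul_eq_mul, horth a ha, mul_zero]
  have h := Submodule.finrank_sup_add_finrank_inf_eq W (Submodule.span F {u})
  rw [hdisj, finrank_bot, add_zero, finrank_span_singleton_of_nonsing Q hu] at h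
  exact h

/-- inside a nondegenerate subspace there are nondegenerate subspaces of every intermediate
dimension with prescribed discriminant class -/
theorem exists_nd_sub_DSq [Fintype F] [FiniteDimensional F V] (h2 : (2 : F) ≠ 0)
    {Y : Submodule F V} (hY : NDon (PB Q) Y) (e : ℕ) (he0 : 0 < e) (he : e < finrank F Y)
    (P : Prop) :
    ∃ W : Submodule F V, W ≤ Y ∧ NDon (PB Q) W ∧ finrank F W = e ∧ (DSq Q W ↔ P) := by
  obtain ⟨e', rfl⟩ : ∃ e', e = e' + 1 := ⟨e - 1, by omega⟩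
  obtain ⟨W₀, hW₀Y, hW₀, hW₀e⟩ := exists_nd_sub Q h2 hY e' (by omega)
  set Y' := Y ⊓ (PB Q).orthogonal W₀ with hY'
  have hY'nd : NDon (PB Q) Y' := NDon_perp_inS (PB Q) (PB_symm Q) Y W₀ hY hW₀ hW₀Y
  have hdim := finrank_perp_inS (PB Q) (PB_symm Q) Y W₀ hW₀ hW₀Y
  have hY'2 : 2 ≤ finrank F Y' := by rw [← hY'] at hdim; omega
  have hch : ringChar F ≠ 2 := by
    intro h
    apply h2
    have := CharP.cast_eq_zero F (ringChar F)
    rw [h] at this
    exact_mod_cast this
  obtain ⟨ν, hν⟩ := FiniteField.exists_nonsquare hch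
  have hν0 : ν ≠ 0 := by
    rintro rfl
    exact hν ⟨0, by ring⟩
  -- choose the class of `2 Q u`
  obtain ⟨c, hc0, hc⟩ : ∃ c : F, c ≠ 0 ∧ (IsSquare (2 * c) ↔ (DSq Q W₀ ↔ P)) := by
    by_cases hP : (DSq Q W₀ ↔ P)
    · refine ⟨2⁻¹, inv_ne_zero h2, ?_⟩
      rw [mul_inv_cancel₀ h2]
      exact ⟨fun _ => hP, fun _ => ⟨1, by ring⟩⟩
    · refine ⟨2⁻¹ * ν, mul_ne_zero (inv_ne_zero h2) hν0, ?_⟩
      rw [← mul_assoc, mul_inv_cancel₀ h2, one_mul]
      exact ⟨fun h => absurd h hν, fun h => absurd h hP⟩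
  obtain ⟨u, hu, hQu⟩ := universal Q h2 hY'nd hY'2 c hc0
  have hu' := Submodule.mem_inf.mp hu
  have hQu0 : Q u ≠ 0 := by rw [hQu]; exact hc0
  have horth : ∀ a ∈ W₀, PB Q a u = 0 := fun a ha => hu'.2 a ha
  refine ⟨W₀ ⊔ Submodule.span F {u}, sup_le hW₀Y ?_, NDon_sup_span Q h2 hW₀ hQu0 horth, ?_, ?_⟩
  · rw [Submodule.span_singleton_le_iff_mem]; exact hu'.1
  · rw [finrank_sup_span Q hW₀ hQu0 horth, hW₀e]
  · rw [DSq_sup Q h2 hW₀ (NDon_span_singleton Q h2 hQu0)
      (by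
        intro a ha b hb
        obtain ⟨k, rfl⟩ := Submodule.mem_span_singleton.mp hb
        rw [map_smul, smul_eq_mul, horth a ha, mul_zero]),
      DSq_span_singleton Q hQu0, hQu, hc]
    tauto

/-- nondegenerate subspaces of both types -/
theorem exists_nd_sub_type [Fintype F] [FiniteDimensional F V] (h2 : (2 : F) ≠ 0)
    {Y : Submodule F V} (hY : NDon (PB Q) Y) (N : ℕ) (he0 : 0 < N) (he : 2 * N < finrank F Y)
    (P : Prop) :
    ∃ W : Submodule F V, W ≤ Y ∧ NDon (PB Q) W ∧ finrank F W = 2 * N ∧ (PlusOn Q W ↔ P) := by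
  obtain ⟨W, hWY, hW, hWe, hWd⟩ := exists_nd_sub_DSq Q h2 hY (2 * N) (by omega) he
    (IsSquare ((-1 : F) ^ N) ↔ P)
  refine ⟨W, hWY, hW, hWe, ?_⟩
  rw [plus_iff_DSq Q h2 hW hWe, hWd]
  tauto

end Cfsg.Agent.Lib.H10.OrtNd
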