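import Mathlib
import Cfsg.Agent.Lib.H10.OrtNdA
import Cfsg.Agent.Lib.H24.ElusSpStruct

set_option autoImplicit false

/-!
# Isometries of odd prime order of a symmetric form (helper10)

For a symmetric form `B` and an isometry `y` with `y ^ r = 1`, `r` an odd prime different from the
characteristic, the form `B₂ u w = B u ((y - y⁻¹) w)` is alternating and `y`-invariant, and on
`ker Φ_r(y)` it has the same nondegenerate invariant subspaces and the same orthogonal complements
of invariant subspaces as `B`.  This transfers helper24's structure theory of isometries of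
alternating forms (`Lib/H24/ElusSp*`) to symmetric forms.
-/

namespace Cfsg.Agent.Lib.H10.OrtNd

open Module Polynomial
open Cfsg.Agent.Lib.H24.Elus
open Cfsg.Agent.Lib.H13

section skew

variable {F : Type*} [Field F] {V : Type*} [AddCommGroup V] [Module F V]
variable (B : LinearMap.BilinForm F V) (y : End F V)

/-- `y - y⁻¹` for `y ^ r = 1` -/
def skw (r : ℕ) : End F V := y - y ^ (r - 1)

theorem skw_apply (r : ℕ) (v : V) : skw y r v = y v - (y ^ (r - 1)) v := rfl

/-- the alternating form attached to `B` and `y` -/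
def B₂ (r : ℕ) : LinearMap.BilinForm F V := B.compRight (skw y r)

theorem B₂_apply (r : ℕ) (u w : V) : B₂ B y r u w = B u (y w) - B u ((y ^ (r - 1)) w) := by
  show B u (skw y r w) = _
  rw [skw_apply, map_sub]

variable {B y}

theorem skw_mem_of_invariant {r : ℕ} (U : Submodule F V) (hU : ∀ v ∈ U, y v ∈ U) (v : V)
    (hv : v ∈ U) : skw y r v ∈ U :=
  Submodule.sub_mem _ (hU v hv) (pow_mem_of_invariant y U hU (r - 1) v hv)

theorem skw_comm (r : ℕ) (v : V) : skw y r (y v) = y (skw y r v) := by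
  rw [skw_apply, skw_apply, map_sub]
  congr 1
  rw [← Module.End.mul_apply, ← Module.End.mul_apply, ← pow_succ, ← pow_succ']

theorem B₂_alt (hS : ∀ x y, B x y = B y x) (hiso : ∀ u v, B (y u) (y v) = B u v) {r : ℕ}
    (hr : 0 < r) (hy : y ^ r = 1) (v : V) : B₂ B y r v v = 0 := by
  rw [B₂_apply, ← adj_pow_pred hiso hr hy, hS (y v) v, sub_self]

theorem B₂_iso (hiso : ∀ u v, B (y u) (y v) = B u v) (r : ℕ) (u w : V) :
    B₂ B y r (y u) (y w) = B₂ B y r u w := by
  show B (y u) (skw y r (y w)) = B u (skw y r w)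
  rw [skw_comm, hiso]

/-- `y - y⁻¹` is skew-adjoint -/
theorem B₂_eq_neg (hiso : ∀ u v, B (y u) (y v) = B u v) {r : ℕ}
    (hr : 0 < r) (hy : y ^ r = 1) (u w : V) : B₂ B y r u w = - B (skw y r u) w := by
  rw [B₂_apply, skw_apply, map_sub, LinearMap.sub_apply, adj_pow_pred hiso hr hy u w,
    adj_pow_pred' hiso hr hy u w]
  ring

/-- `y - y⁻¹` is injective on `ker Φ_r(y)` -/
theorem skw_eq_zero {r : ℕ} [Fact r.Prime] (hr2 : r ≠ 2) (hr0 : (r : F) ≠ 0) (hy : y ^ r = 1)
    (v : V) (hv : v ∈ LinearMap.ker (aeval y (cyclotomic r F))) (h : skw y r v = 0) : v = 0 := by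
  have hr : r.Prime := Fact.out
  rw [skw_apply, sub_eq_zero] at h
  have h3 : y (y v) = v := by
    rw [h, pow_pred_mul hr.pos hy]
  have h4 : ∀ m : ℕ, (y ^ (2 * m)) v = v := by
    intro m
    induction m with
    | zero => rfl
    | succ m ih =>
      rw [Nat.mul_succ, pow_add, Module.End.mul_apply, pow_two, Module.End.mul_apply, h3, ih]
  have h5 : y v = v := by
    have hodd : r % 2 = 1 := by
      rcases hr.eq_two_or_odd with h | h
      · exact absurd h hr2
      · exact h
    have hrm : r = 2 * (r / 2) + 1 := by omega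
    have h6 : (y ^ r) v = v := by rw [hy, Module.End.one_apply]
    rw [hrm, pow_succ', Module.End.mul_apply, h4] at h6
    exact h6
  have h7 : v ∈ LinearMap.ker (aeval y (X - 1 : F[X])) ⊓
      LinearMap.ker (aeval y (cyclotomic r F)) :=
    Submodule.mem_inf.mpr ⟨(mem_fix_iff v).mpr h5, hv⟩
  rw [fix_inf_cyc hr0] at h7
  exact (Submodule.mem_bot F).mp h7

variable [FiniteDimensional F V]

/-- `y - y⁻¹` is surjective on invariant subspaces of `ker Φ_r(y)` -/
theorem skw_surj_on {r : ℕ} [Fact r.Prime] (hr2 : r ≠ 2) (hr0 : (r : F) ≠ 0) (hy : y ^ r = 1)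
    (A : Submodule F V) (hA : ∀ v ∈ A, y v ∈ A)
    (hAc : A ≤ LinearMap.ker (aeval y (cyclotomic r F))) (a : V) (ha : a ∈ A) :
    ∃ a' ∈ A, skw y r a' = a := by
  let f : A →ₗ[F] A := (skw y r).restrict (skw_mem_of_invariant A hA)
  have hinj : Function.Injective f := by
    rw [← LinearMap.ker_eq_bot, LinearMap.ker_eq_bot']
    intro x hx
    apply Subtype.ext
    apply skw_eq_zero hr2 hr0 hy x.1 (hAc x.2)
    exact congrArg Subtype.val hx
  obtain ⟨x, hx⟩ := (LinearMap.injective_iff_surjective.mp hinj) ⟨a, ha⟩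
  exact ⟨x.1, x.2, congrArg Subtype.val hx⟩

theorem NDon_B₂_iff {r : ℕ} [Fact r.Prime] (hr2 : r ≠ 2)
    (hr0 : (r : F) ≠ 0) (hy : y ^ r = 1) (A : Submodule F V) (hA : ∀ v ∈ A, y v ∈ A)
    (hAc : A ≤ LinearMap.ker (aeval y (cyclotomic r F))) :
    NDon (B₂ B y r) A ↔ NDon B A := by
  constructor
  · intro h u hu hu'
    apply h u hu
    intro v hv
    exact hu' _ (skw_mem_of_invariant A hA v hv)
  · intro h u hu hu'
    apply h u hu
    intro a ha
    obtain ⟨a', ha', rfl⟩ := skw_surj_on hr2 hr0 hy A hA hAc a ha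
    exact hu' a' ha'

theorem orth_B₂_eq (hiso : ∀ u v, B (y u) (y v) = B u v) {r : ℕ} [Fact r.Prime] (hr2 : r ≠ 2)
    (hr0 : (r : F) ≠ 0) (hy : y ^ r = 1) (A : Submodule F V) (hA : ∀ v ∈ A, y v ∈ A)
    (hAc : A ≤ LinearMap.ker (aeval y (cyclotomic r F))) :
    (B₂ B y r).orthogonal A = B.orthogonal A := by
  have hr : r.Prime := Fact.out
  ext v
  constructor
  · intro hv a ha
    obtain ⟨a', ha', rfl⟩ := skw_surj_on hr2 hr0 hy A hA hAc a ha
    have := hv a' ha'
    show B (skw y r a') v = 0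
    have h2 : B₂ B y r a' v = 0 := this
    rw [B₂_eq_neg hiso hr.pos hy, neg_eq_zero] at h2
    exact h2
  · intro hv a ha
    show B₂ B y r a v = 0
    rw [B₂_eq_neg hiso hr.pos hy, neg_eq_zero]
    exact hv _ (skw_mem_of_invariant A hA a ha)

end skew

end Cfsg.Agent.Lib.H10.OrtNd
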