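import Mathlib
import Cfsg.Agent.Lib.H10.OrtNdF

set_option autoImplicit false

/-!
# Structure of isometries of odd prime order of symmetric forms over finite fields (helper10)

* `fix_orth_cycS`, `NDon_fix_partS`, `NDon_cyc_partS`: the orthogonal splitting
  `U = (U ⊓ Fix y) ⊥ (U ⊓ ker Φ_r(y))`.
* `cdvd_cycS`: `c ∣ dim (U ⊓ ker Φ_r(y))` for nondegenerate invariant `U`.
* `exists_sub_cycS`: nondegenerate invariant subspaces of every dimension `k c` inside a
  nondegenerate invariant subspace of `ker Φ_r(y)`.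
-/

namespace Cfsg.Agent.Lib.H10.OrtNd

open Module Polynomial
open Cfsg.Agent.Lib.H24.Elus
open Cfsg.Agent.Lib.H13

section sym

variable {F : Type*} [Field F] {V : Type*} [AddCommGroup V] [Module F V]
variable {B : LinearMap.BilinForm F V} {y : End F V}

/-- the fixed space is orthogonal to `ker Φ_r(y)` -/
theorem fix_orth_cycS (hiso : ∀ u v, B (y u) (y v) = B u v) {r : ℕ}
    [Fact r.Prime] (hr0 : (r : F) ≠ 0) (u w : V)
    (hu : u ∈ LinearMap.ker (aeval y (X - 1 : F[X])))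
    (hw : w ∈ LinearMap.ker (aeval y (cyclotomic r F))) : B u w = 0 := by
  have hu' : y u = u := (mem_fix_iff u).mp hu
  have hpow : ∀ k : ℕ, B u ((y ^ k) w) = B u w := by
    intro k
    conv_rhs => rw [← pow_iso hiso k u w, pow_apply_of_fix u hu' k]
  have hpoly : ∀ g : F[X], B u (aeval y g w) = g.eval 1 * B u w := by
    intro g
    induction g using Polynomial.induction_on' with
    | add g h hg hh => rw [map_add, LinearMap.add_apply, map_add, hg, hh, eval_add, add_mul]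
    | monomial n a =>
      rw [← C_mul_X_pow_eq_monomial, map_mul, aeval_C, map_pow, aeval_X, Module.End.mul_apply,
        Module.algebraMap_end_apply, map_smul, hpow, smul_eq_mul, eval_mul, eval_C, eval_pow,
        eval_X, one_pow, mul_one]
  have h1 := hpoly (cyclotomic r F)
  rw [LinearMap.mem_ker.mp hw, map_zero, eval_one_cyclotomic_prime] at h1
  exact (mul_eq_zero.mp h1.symm).resolve_left hr0

variable [FiniteDimensional F V]

theorem NDon_fix_partS (hiso : ∀ u v, B (y u) (y v) = B u v) {r : ℕ}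
    [Fact r.Prime] (hr0 : (r : F) ≠ 0) (hy : y ^ r = 1) (U : Submodule F V)
    (hU : ∀ v ∈ U, y v ∈ U) (hnd : NDon B U) :
    NDon B (U ⊓ LinearMap.ker (aeval y (X - 1 : F[X]))) := by
  apply NDon_of_sup_orth B U _ (U ⊓ LinearMap.ker (aeval y (cyclotomic r F))) hnd inf_le_left
    (split_fix hr0 hy U hU)
  intro u hu w hw
  exact fix_orth_cycS hiso hr0 u w (Submodule.mem_inf.mp hu).2 (Submodule.mem_inf.mp hw).2

theorem NDon_cyc_partS (hS : ∀ x y, B x y = B y x) (hiso : ∀ u v, B (y u) (y v) = B u v) {r : ℕ}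
    [Fact r.Prime] (hr0 : (r : F) ≠ 0) (hy : y ^ r = 1) (U : Submodule F V)
    (hU : ∀ v ∈ U, y v ∈ U) (hnd : NDon B U) :
    NDon B (U ⊓ LinearMap.ker (aeval y (cyclotomic r F))) := by
  apply NDon_of_sup_orth B U _ (U ⊓ LinearMap.ker (aeval y (X - 1 : F[X]))) hnd inf_le_left
  · rw [sup_comm]
    exact split_fix hr0 hy U hU
  · intro u hu w hw
    exact symZ B hS (fix_orth_cycS hiso hr0 w u (Submodule.mem_inf.mp hw).2
      (Submodule.mem_inf.mp hu).2)

end sym

section fin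

variable {F : Type*} [Field F] [Fintype F] {p q : ℕ} [Fact p.Prime] [CharP F p]
  {V : Type*} [AddCommGroup V] [Module F V] [Module.Finite F V]
  {B : LinearMap.BilinForm F V} {y : End F V}

/-- membership in helper24's class for `B₂` in terms of `B` -/
theorem peel_mem_iff {r : ℕ} [Fact r.Prime] (hrp : r ≠ p) (hr2 : r ≠ 2) (hy : y ^ r = 1)
    (A : Submodule F V) :
    (A ≤ LinearMap.ker (aeval y (cyclotomic r F)) ∧ (∀ v ∈ A, y v ∈ A) ∧ NDon (B₂ B y r) A) ↔
      (A ≤ LinearMap.ker (aeval y (cyclotomic r F)) ∧ (∀ v ∈ A, y v ∈ A) ∧ NDon B A) := by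
  classical
  have hr : r.Prime := Fact.out
  have hr0 : (r : F) ≠ 0 := CycFactor.natCast_ne_zero hr hrp
  constructor
  · rintro ⟨h1, h2, h3⟩
    exact ⟨h1, h2, (NDon_B₂_iff hr2 hr0 hy A h2 h1).mp h3⟩
  · rintro ⟨h1, h2, h3⟩
    exact ⟨h1, h2, (NDon_B₂_iff hr2 hr0 hy A h2 h1).mpr h3⟩

/-- `c` divides the dimension of the part without fixed vectors -/
theorem cdvd_cycS (hF : Fintype.card F = q) {r : ℕ} [Fact r.Prime] (hrp : r ≠ p)
    (hr2 : r ≠ 2) (hS : ∀ x y, B x y = B y x) (hiso : ∀ u v, B (y u) (y v) = B u v)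
    (hy : y ^ r = 1) (U : Submodule F V) (hU : ∀ v ∈ U, y v ∈ U) (hnd : NDon B U) :
    cOf (orderOf (q : ZMod r)) ∣
      finrank F ↥(U ⊓ LinearMap.ker (aeval y (cyclotomic r F))) := by
  classical
  have hr : r.Prime := Fact.out
  have hr0 : (r : F) ≠ 0 := CycFactor.natCast_ne_zero hr hrp
  have halt : ∀ v, B₂ B y r v v = 0 := B₂_alt hS hiso hr.pos hy
  have hiso2 : ∀ u v, B₂ B y r (y u) (y v) = B₂ B y r u v := B₂_iso hiso r
  apply peel_dvd halt (peelClass_cyc hF hrp hr2 halt hiso2 hy) _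
  rw [peel_mem_iff hrp hr2 hy]
  exact ⟨inf_le_right, inf_ker_invariant U hU _, NDon_cyc_partS hS hiso hr0 hy U hU hnd⟩

theorem finrank_fix_modS (hF : Fintype.card F = q) {r : ℕ} [Fact r.Prime] (hrp : r ≠ p)
    (hr2 : r ≠ 2) (hS : ∀ x y, B x y = B y x) (hiso : ∀ u v, B (y u) (y v) = B u v)
    (hy : y ^ r = 1) (U : Submodule F V) (hU : ∀ v ∈ U, y v ∈ U) (hnd : NDon B U) :
    finrank F U % cOf (orderOf (q : ZMod r)) =
      finrank F ↥(U ⊓ LinearMap.ker (aeval y (X - 1 : F[X]))) % cOf (orderOf (q : ZMod r)) := by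
  classical
  have hr : r.Prime := Fact.out
  obtain ⟨m, hm⟩ := cdvd_cycS hF hrp hr2 hS hiso hy U hU hnd
  rw [← finrank_split_fix (CycFactor.natCast_ne_zero hr hrp) hy U hU, hm,
    Nat.add_mul_mod_self_left]

/-- nondegenerate invariant subspaces of all admissible dimensions -/
theorem exists_sub_cycS (hF : Fintype.card F = q) {r : ℕ} [Fact r.Prime] (hrp : r ≠ p)
    (hr2 : r ≠ 2) (hS : ∀ x y, B x y = B y x) (hiso : ∀ u v, B (y u) (y v) = B u v)
    (hy : y ^ r = 1) (U : Submodule F V) (hU : ∀ v ∈ U, y v ∈ U) (hnd : NDon B U)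
    (hUc : U ≤ LinearMap.ker (aeval y (cyclotomic r F))) (k : ℕ)
    (hk : k * cOf (orderOf (q : ZMod r)) ≤ finrank F U) :
    ∃ A : Submodule F V, A ≤ U ∧ (∀ v ∈ A, y v ∈ A) ∧ NDon B A ∧
      finrank F A = k * cOf (orderOf (q : ZMod r)) := by
  classical
  have hr : r.Prime := Fact.out
  have halt : ∀ v, B₂ B y r v v = 0 := B₂_alt hS hiso hr.pos hy
  have hiso2 : ∀ u v, B₂ B y r (y u) (y v) = B₂ B y r u v := B₂_iso hiso r
  obtain ⟨A, hAU, hA, hAdim⟩ := peel_exists halt (peelClass_cyc hF hrp hr2 halt hiso2 hy) k U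
    ((peel_mem_iff hrp hr2 hy U).mpr ⟨hUc, hU, hnd⟩) hk
  rw [peel_mem_iff hrp hr2 hy] at hA
  exact ⟨A, hAU, hA.2.1, hA.2.2, hAdim⟩

end fin

end Cfsg.Agent.Lib.H10.OrtNd
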