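import Mathlib
import Cfsg.Agent.Lib.H10.OrtNdE
import Cfsg.Agent.Lib.H13.OrthEmbed
import Cfsg.Agent.S0750

set_option autoImplicit false

/-!
# The abstract isometry group and its action on plus-type subspaces (helper10)
-/

namespace Cfsg.Agent.Lib.H10.OrtNd

open Module
open Cfsg.Agent.Lib.H24.Elus

variable {F : Type*} [Field F] {V : Type*} [AddCommGroup V] [Module F V]

variable (Q : QuadraticForm F V)

/-- the isometry group of a quadratic space -/
def IsoG : Subgroup (V ≃ₗ[F] V) where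
  carrier := {g | ∀ v, Q (g v) = Q v}
  one_mem' := fun _ => rfl
  mul_mem' := by
    intro a b ha hb v
    show Q (a (b v)) = Q v
    rw [ha, hb]
  inv_mem' := by
    intro a ha v
    have h1 := ha (a⁻¹ v)
    have h2 : a (a⁻¹ v) = v := a.apply_symm_apply v
    rw [h2] at h1
    exact h1.symm

theorem mem_IsoG (g : V ≃ₗ[F] V) : g ∈ IsoG Q ↔ ∀ v, Q (g v) = Q v := Iff.rfl

variable {Q}

theorem IsoG_polar {g : V ≃ₗ[F] V} (hg : g ∈ IsoG Q) (u v : V) :
    PB Q (g u) (g v) = PB Q u v := by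
  rw [PB_apply, PB_apply]
  unfold QuadraticMap.polar
  rw [← map_add, hg, hg, hg]

theorem NDon_map {g : V ≃ₗ[F] V} (hg : g ∈ IsoG Q) {W : Submodule F V} (hW : NDon (PB Q) W) :
    NDon (PB Q) (W.map (g : V →ₗ[F] V)) := by
  rintro _ ⟨u, hu, rfl⟩ h
  have : u = 0 := by
    apply hW u hu
    intro v hv
    have := h (g v) ⟨v, hv, rfl⟩
    rwa [LinearEquiv.coe_coe, IsoG_polar hg] at this
  rw [this, map_zero]

theorem TS_map {g : V ≃ₗ[F] V} (hg : g ∈ IsoG Q) {W : Submodule F V} (hW : TS Q W) :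
    TS Q (W.map (g : V →ₗ[F] V)) := by
  rintro _ ⟨u, hu, rfl⟩
  rw [LinearEquiv.coe_coe, hg]
  exact hW u hu

theorem finrank_map_equiv (g : V ≃ₗ[F] V) (W : Submodule F V) :
    finrank F ↥(W.map (g : V →ₗ[F] V)) = finrank F W :=
  LinearEquiv.finrank_map_eq g W

theorem PlusOn_map {g : V ≃ₗ[F] V} (hg : g ∈ IsoG Q) {W : Submodule F V} (hW : PlusOn Q W) :
    PlusOn Q (W.map (g : V →ₗ[F] V)) := by
  obtain ⟨U, hUW, hU, hdim⟩ := hW
  refine ⟨U.map (g : V →ₗ[F] V), Submodule.map_mono hUW, TS_map hg hU, ?_⟩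
  rw [finrank_map_equiv, finrank_map_equiv, hdim]

variable (Q)

/-- the set of nondegenerate plus-type subspaces of a given dimension -/
def PlusSet (m : ℕ) : Set (Submodule F V) :=
  {W | finrank F W = m ∧ NDon (PB Q) W ∧ PlusOn Q W}

instance plusSetAction (m : ℕ) : MulAction ↥(IsoG Q) ↥(PlusSet Q m) where
  smul g W := ⟨W.1.map ((g : V ≃ₗ[F] V) : V →ₗ[F] V),
    by rw [finrank_map_equiv]; exact W.2.1, NDon_map g.2 W.2.2.1, PlusOn_map g.2 W.2.2.2⟩
  one_smul W := by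
    apply Subtype.ext
    show W.1.map (((1 : ↥(IsoG Q)) : V ≃ₗ[F] V) : V →ₗ[F] V) = W.1
    exact Submodule.map_id W.1
  mul_smul g h W := by
    apply Subtype.ext
    show W.1.map (((g * h : ↥(IsoG Q)) : V ≃ₗ[F] V) : V →ₗ[F] V) =
      (W.1.map ((h : V ≃ₗ[F] V) : V →ₗ[F] V)).map ((g : V ≃ₗ[F] V) : V →ₗ[F] V)
    rw [← Submodule.map_comp]
    rfl

theorem plusSet_smul_coe (m : ℕ) (g : ↥(IsoG Q)) (W : ↥(PlusSet Q m)) :
    ((g • W : ↥(PlusSet Q m)) : Submodule F V) = W.1.map ((g : V ≃ₗ[F] V) : V →ₗ[F] V) := rfl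

theorem polar_comp_subtype (W : Submodule F V) (x y : ↥W) :
    QuadraticMap.polar (⇑(Q.comp W.subtype)) x y = QuadraticMap.polar (⇑Q) (x : V) (y : V) := rfl

theorem nondeg_comp_subtype {W : Submodule F V} (hW : NDon (PB Q) W) :
    (QuadraticMap.polarBilin (Q.comp W.subtype)).Nondegenerate := by
  constructor
  · intro x hx
    apply Subtype.ext
    apply hW x x.2
    intro v hv
    exact hx ⟨v, hv⟩
  · intro y hy
    apply Subtype.ext
    apply hW y y.2
    intro v hv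
    have := hy ⟨v, hv⟩
    exact (PB_symm Q _ _).trans this

/-- a standard hyperbolic basis of a nondegenerate plus-type subspace -/
theorem exists_plus_basis_sub [FiniteDimensional F V] {W : Submodule F V} (hW : NDon (PB Q) W)
    (hplus : PlusOn Q W) {N : ℕ} (hdim : finrank F W = 2 * N) :
    ∃ b : Basis (Fin N ⊕ Fin N) F ↥W, ∀ v : ↥W, Q (v : V) = Cfsg.quadFormPlus N F (b.equivFun v) := by
  obtain ⟨U, hUW, hU, hUdim⟩ := hplus
  have h := Cfsg.Agent.Lib.H13.exists_plus_basis (Q.comp W.subtype) (nondeg_comp_subtype Q hW)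
    hdim (U.comap W.subtype)
    (by
      rw [(Submodule.comapSubtypeEquivOfLe hUW).finrank_eq]
      omega)
    (by
      intro u hu
      exact hU _ hu)
  exact h

/-- Witt: the isometry group is transitive on nondegenerate plus-type subspaces of a given
dimension -/
theorem exists_IsoG_map [Finite F] [FiniteDimensional F V]
    (hQ : (QuadraticMap.polarBilin Q).Nondegenerate) {N : ℕ}
    (W₁ W₂ : ↥(PlusSet Q (2 * N))) : ∃ g : ↥(IsoG Q), g • W₁ = W₂ := by
  obtain ⟨b₁, hb₁⟩ := exists_plus_basis_sub Q W₁.2.2.1 W₁.2.2.2 W₁.2.1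
  obtain ⟨b₂, hb₂⟩ := exists_plus_basis_sub Q W₂.2.2.1 W₂.2.2.2 W₂.2.1
  let e : ↥W₁.1 ≃ₗ[F] ↥W₂.1 := b₁.equivFun.trans b₂.equivFun.symm
  have he : ∀ x : ↥W₁.1, Q ((e x : ↥W₂.1) : V) = Q (x : V) := by
    intro x
    rw [hb₂, hb₁]
    show Cfsg.quadFormPlus N F (b₂.equivFun (b₂.equivFun.symm (b₁.equivFun x))) = _
    rw [LinearEquiv.apply_symm_apply]
  obtain ⟨g, hg, hgx⟩ := Cfsg.Agent.S0750.result Q hQ W₁.1 W₂.1 e he
  refine ⟨⟨g, hg⟩, ?_⟩
  apply Subtype.ext
  rw [plusSet_smul_coe]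
  apply le_antisymm
  · rintro _ ⟨x, hx, rfl⟩
    have := hgx ⟨x, hx⟩
    rw [LinearEquiv.coe_coe]
    show g x ∈ W₂.1
    rw [this]
    exact (e ⟨x, hx⟩).2
  · intro w hw
    refine ⟨(e.symm ⟨w, hw⟩ : ↥W₁.1), (e.symm ⟨w, hw⟩).2, ?_⟩
    rw [LinearEquiv.coe_coe]
    have := hgx (e.symm ⟨w, hw⟩)
    show g ((e.symm ⟨w, hw⟩ : ↥W₁.1) : V) = w
    rw [this, LinearEquiv.apply_symm_apply]

/-- the number of nondegenerate plus-type subspaces of a given dimension divides the order of the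
isometry group -/
theorem card_plusSet_dvd [Finite F] [FiniteDimensional F V]
    (hQ : (QuadraticMap.polarBilin Q).Nondegenerate) {N : ℕ}
    (hne : (PlusSet Q (2 * N)).Nonempty) :
    Nat.card ↥(PlusSet Q (2 * N)) ∣ Nat.card ↥(IsoG Q) := by
  classical
  have : Finite V := Module.finite_of_finite F
  have : Finite (V ≃ₗ[F] V) := Finite.of_injective (fun g => (g : V → V))
    (fun g h hgh => LinearEquiv.ext (congrFun hgh))
  obtain ⟨W₀, hW₀⟩ := hne
  let w₀ : ↥(PlusSet Q (2 * N)) := ⟨W₀, hW₀⟩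
  have horb : MulAction.orbit ↥(IsoG Q) w₀ = Set.univ := by
    ext W
    simp only [Set.mem_univ, iff_true]
    obtain ⟨g, hg⟩ := exists_IsoG_map Q hQ w₀ W
    exact ⟨g, hg⟩
  have : Finite (Submodule F V) := Finite.of_injective (fun W => (W : Set V))
    SetLike.coe_injective
  haveI : Fintype ↥(IsoG Q) := Fintype.ofFinite _
  haveI : Fintype ↑(MulAction.orbit ↥(IsoG Q) w₀) := Fintype.ofFinite _
  haveI : Fintype ↥(MulAction.stabilizer ↥(IsoG Q) w₀) := Fintype.ofFinite _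
  have h := MulAction.card_orbit_mul_card_stabilizer_eq_card_group ↥(IsoG Q) w₀
  have h1 : Fintype.card ↑(MulAction.orbit ↥(IsoG Q) w₀) = Nat.card ↥(PlusSet Q (2 * N)) := by
    rw [← Nat.card_eq_fintype_card]
    exact Nat.card_congr ((Equiv.setCongr horb).trans (Equiv.Set.univ _))
  rw [h1, ← Nat.card_eq_fintype_card (α := ↥(IsoG Q))] at h
  exact ⟨_, h.symm⟩

end Cfsg.Agent.Lib.H10.OrtNd
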