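import Mathlib
import Cfsg.Agent.Lib.H10.OrtNdH

set_option autoImplicit false

/-!
# Extension of an isometry of a nondegenerate subspace by the identity (helper10)
-/

namespace Cfsg.Agent.Lib.H10.OrtNd

open Module
open Cfsg.Agent.Lib.H24.Elus

variable {F : Type*} [Field F] {V : Type*} [AddCommGroup V] [Module F V] [FiniteDimensional F V]

variable (Q : QuadraticForm F V)

/-- a nondegenerate subspace and its orthogonal complement are complementary -/
theorem isCompl_orth {C : Submodule F V} (hC : NDon (PB Q) C) :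
    IsCompl C ((PB Q).orthogonal C) :=
  isCompl_orth_of_NDonS (PB Q) (PB_symm Q) C hC

/-- extension by the identity on the orthogonal complement -/
noncomputable def extId {C : Submodule F V} (hC : NDon (PB Q) C) (y' : End F ↥C) : End F V :=
  LinearMap.ofIsCompl (isCompl_orth Q hC) (C.subtype ∘ₗ y') ((PB Q).orthogonal C).subtype

theorem extId_mem {C : Submodule F V} (hC : NDon (PB Q) C) (y' : End F ↥C) (c : ↥C) :
    extId Q hC y' (c : V) = (y' c : V) := by
  unfold extId
  rw [LinearMap.ofIsCompl_apply_left]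
  rfl

theorem extId_orth {C : Submodule F V} (hC : NDon (PB Q) C) (y' : End F ↥C) (d : V)
    (hd : d ∈ (PB Q).orthogonal C) : extId Q hC y' d = d := by
  unfold extId
  have := LinearMap.ofIsCompl_apply_right (isCompl_orth Q hC) (φ := C.subtype ∘ₗ y')
    (ψ := ((PB Q).orthogonal C).subtype) ⟨d, hd⟩
  exact this

theorem exists_decomp {C : Submodule F V} (hC : NDon (PB Q) C) (v : V) :
    ∃ c : ↥C, ∃ d ∈ (PB Q).orthogonal C, v = (c : V) + d := by
  have h := (isCompl_orth Q hC).sup_eq_top
  have hv : v ∈ C ⊔ (PB Q).orthogonal C := by rw [h]; trivial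
  obtain ⟨c, hc, d, hd, rfl⟩ := Submodule.mem_sup.mp hv
  exact ⟨⟨c, hc⟩, d, hd, rfl⟩

theorem extId_add {C : Submodule F V} (hC : NDon (PB Q) C) (y' : End F ↥C) (c : ↥C) (d : V)
    (hd : d ∈ (PB Q).orthogonal C) : extId Q hC y' ((c : V) + d) = (y' c : V) + d := by
  rw [map_add, extId_mem, extId_orth Q hC y' d hd]

theorem Q_add_orth {C : Submodule F V} (c : ↥C) (d : V) (hd : d ∈ (PB Q).orthogonal C) :
    Q ((c : V) + d) = Q (c : V) + Q d := by
  have h : PB Q (c : V) d = 0 := hd c c.2
  rw [PB_apply] at h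
  unfold QuadraticMap.polar at h
  linear_combination h

theorem extId_iso {C : Submodule F V} (hC : NDon (PB Q) C) (y' : End F ↥C)
    (hy' : ∀ c : ↥C, Q ((y' c : ↥C) : V) = Q (c : V)) (v : V) : Q (extId Q hC y' v) = Q v := by
  obtain ⟨c, d, hd, rfl⟩ := exists_decomp Q hC v
  rw [extId_add Q hC y' c d hd, Q_add_orth Q _ d hd, Q_add_orth Q c d hd, hy']

theorem extId_pow {C : Submodule F V} (hC : NDon (PB Q) C) (y' : End F ↥C) (k : ℕ) :
    (extId Q hC y') ^ k = extId Q hC (y' ^ k) := by
  induction k with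
  | zero =>
    apply LinearMap.ext
    intro v
    obtain ⟨c, d, hd, rfl⟩ := exists_decomp Q hC v
    rw [pow_zero, pow_zero, extId_add Q hC 1 c d hd]
    rfl
  | succ k ih =>
    apply LinearMap.ext
    intro v
    obtain ⟨c, d, hd, rfl⟩ := exists_decomp Q hC v
    rw [pow_succ, Module.End.mul_apply, ih, extId_add Q hC y' c d hd,
      extId_add Q hC (y' ^ k) (y' c) d hd, extId_add Q hC (y' ^ (k + 1)) c d hd, pow_succ,
      Module.End.mul_apply]

theorem extId_one {C : Submodule F V} (hC : NDon (PB Q) C) : extId Q hC (1 : End F ↥C) = 1 := by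
  rw [← pow_zero (extId Q hC (1 : End F ↥C)), extId_pow, pow_zero]

theorem extId_pow_eq_one {C : Submodule F V} (hC : NDon (PB Q) C) (y' : End F ↥C) {r : ℕ}
    (hy' : y' ^ r = 1) : (extId Q hC y') ^ r = 1 := by
  rw [extId_pow, hy', extId_one]

end Cfsg.Agent.Lib.H10.OrtNd
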