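import Mathlib
import Cfsg.Agent.Lib.H10.OrtNdG
import Cfsg.Agent.Lib.H10.OrtNdI
import Cfsg.Agent.S0287

set_option autoImplicit false

/-!
# Types of nondegenerate invariant subspaces without fixed vectors (helper10)

For an isometry `y` of odd prime order `r ≠ p` of a quadratic space over the field with `q`
elements (`q` odd), `i = ord_r q`, `c = cOf i`: a nondegenerate invariant subspace of
`ker Φ_r(y)` of dimension `j c` is of plus type iff `i` is odd or `j` is even (`type_cyc`).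
-/

namespace Cfsg.Agent.Lib.H10.OrtNd

open Module Polynomial
open Cfsg.Agent.Lib.H24.Elus
open Cfsg.Agent.Lib.H13

/-! ### arithmetic -/

theorem dvd_pow_sub_one_iff (r q k : ℕ) (hq : 0 < q) :
    r ∣ q ^ k - 1 ↔ orderOf (q : ZMod r) ∣ k := by
  rw [orderOf_dvd_iff_pow_eq_one, ← ZMod.natCast_eq_zero_iff, Nat.cast_sub (Nat.one_le_pow _ _ hq),
    Nat.cast_pow, Nat.cast_one, sub_eq_zero]

theorem zero_pow_eq_zero_of_pos' {R : Type*} [MonoidWithZero R] [NoZeroDivisors R] {a : R}
    (ha : a = 0) {n : ℕ} (hn : 0 < n) : a ^ n = 0 := by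
  rw [ha, zero_pow hn.ne']

theorem not_dvd_of_orderOf_pos (r q : ℕ) [Fact r.Prime] (hi : 0 < orderOf (q : ZMod r)) :
    ¬ r ∣ q := by
  intro h
  have h0 : (q : ZMod r) = 0 := (ZMod.natCast_eq_zero_iff q r).mpr h
  have h1 := pow_orderOf_eq_one (q : ZMod r)
  rw [zero_pow_eq_zero_of_pos' h0 hi] at h1
  exact zero_ne_one h1

/-- `r` does not divide `|GO⁺_{2N}(q)|` when `ord_r q = 2 N` -/
theorem not_dvd_card_plus (r q N : ℕ) [Fact r.Prime] (hr2 : r ≠ 2)
    (hi : orderOf (q : ZMod r) = 2 * N) (hN : 0 < N) (hq : 0 < q) :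
    ¬ r ∣ 2 * q ^ (N * (N - 1)) * (q ^ N - 1) *
      ∏ i ∈ Finset.range (N - 1), (q ^ (2 * (i + 1)) - 1) := by
  have hr : r.Prime := Fact.out
  have hipos : 0 < orderOf (q : ZMod r) := by rw [hi]; omega
  intro h
  rcases (Nat.Prime.dvd_mul hr).mp h with h | h
  · rcases (Nat.Prime.dvd_mul hr).mp h with h | h
    · rcases (Nat.Prime.dvd_mul hr).mp h with h | h
      · exact hr2 ((Nat.prime_dvd_prime_iff_eq hr Nat.prime_two).mp h)
      · exact not_dvd_of_orderOf_pos r q hipos (hr.dvd_of_dvd_pow h)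
    · rw [dvd_pow_sub_one_iff r q N hq, hi] at h
      have := Nat.le_of_dvd hN h
      omega
  · rw [Prime.dvd_finsetProd_iff hr.prime] at h
    obtain ⟨j, hj, hj'⟩ := h
    rw [Finset.mem_range] at hj
    rw [dvd_pow_sub_one_iff r q _ hq, hi] at hj'
    have := Nat.le_of_dvd (by omega) hj'
    omega

section restr

variable {F : Type*} [Field F] {V : Type*} [AddCommGroup V] [Module F V] [FiniteDimensional F V]

/-- the restriction of an endomorphism of finite order to an invariant subspace, as a linear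
equivalence -/
theorem restrict_injective (y : End F V) {r : ℕ} (hr : 0 < r) (hy : y ^ r = 1)
    (A : Submodule F V) (hA : ∀ v ∈ A, y v ∈ A) : Function.Injective (y.restrict hA) := by
  intro a b hab
  apply Subtype.ext
  apply injective_of_pow hr hy
  exact congrArg Subtype.val hab

noncomputable def restrEquiv (y : End F V) {r : ℕ} (hr : 0 < r) (hy : y ^ r = 1)
    (A : Submodule F V) (hA : ∀ v ∈ A, y v ∈ A) : ↥A ≃ₗ[F] ↥A :=
  LinearEquiv.ofInjectiveEndo (y.restrict hA) (restrict_injective y hr hy A hA)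

theorem restrEquiv_apply (y : End F V) {r : ℕ} (hr : 0 < r) (hy : y ^ r = 1)
    (A : Submodule F V) (hA : ∀ v ∈ A, y v ∈ A) (a : ↥A) :
    ((restrEquiv y hr hy A hA a : ↥A) : V) = y (a : V) := by
  unfold restrEquiv
  rw [LinearEquiv.coe_ofInjectiveEndo]
  rfl

theorem restrEquiv_pow_apply (y : End F V) {r : ℕ} (hr : 0 < r) (hy : y ^ r = 1)
    (A : Submodule F V) (hA : ∀ v ∈ A, y v ∈ A) (k : ℕ) (a : ↥A) :
    (((restrEquiv y hr hy A hA) ^ k) a : V) = (y ^ k) (a : V) := by
  induction k generalizing a with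
  | zero => rfl
  | succ k ih =>
    rw [pow_succ, LinearEquiv.mul_apply, ih, restrEquiv_apply, pow_succ, Module.End.mul_apply]

theorem orderOf_restrEquiv (y : End F V) {r : ℕ} [Fact r.Prime] (hr0 : (r : F) ≠ 0)
    (hy : y ^ r = 1) (A : Submodule F V) (hA : ∀ v ∈ A, y v ∈ A)
    (hAc : A ≤ LinearMap.ker (aeval y (cyclotomic r F))) (hne : A ≠ ⊥) :
    orderOf (restrEquiv y (Fact.out : r.Prime).pos hy A hA) = r := by
  apply orderOf_eq_prime
  · apply LinearEquiv.ext
    intro a
    apply Subtype.ext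
    rw [restrEquiv_pow_apply, hy]
    rfl
  · intro h
    apply hne
    rw [eq_bot_iff]
    intro a ha
    have h1 := restrEquiv_apply y (Fact.out : r.Prime).pos hy A hA ⟨a, ha⟩
    rw [h] at h1
    have h2 : y a = a := h1.symm
    have h7 : a ∈ LinearMap.ker (aeval y (X - 1 : F[X])) ⊓
        LinearMap.ker (aeval y (cyclotomic r F)) :=
      Submodule.mem_inf.mpr ⟨(mem_fix_iff a).mpr h2, hAc ha⟩
    rw [fix_inf_cyc hr0] at h7
    exact h7

end restr

end Cfsg.Agent.Lib.H10.OrtNd
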