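import Mathlib
import Cfsg.Agent.Lib.H10.OrtNdJ

set_option autoImplicit false

/-!
# Atoms and their types (helper10)
-/

namespace Cfsg.Agent.Lib.H10.OrtNd

open Module Polynomial
open Cfsg.Agent.Lib.H24.Elus
open Cfsg.Agent.Lib.H13

variable {F : Type*} [Field F] [Fintype F] {p q : ℕ} [Fact p.Prime] [CharP F p]
  {V : Type*} [AddCommGroup V] [Module F V] [Module.Finite F V]
  (Q : QuadraticForm F V) {y : End F V}

theorem polar_iso_of_iso (hiso : ∀ v, Q (y v) = Q v) (u v : V) :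
    PB Q (y u) (y v) = PB Q u v := by
  rw [PB_apply, PB_apply]
  unfold QuadraticMap.polar
  rw [← map_add, hiso, hiso, hiso]

/-- for odd `i` an atom is of plus type -/
theorem atom_plus_of_odd (hF : Fintype.card F = q) {r : ℕ} [Fact r.Prime] (hrp : r ≠ p)
    (hr2 : r ≠ 2) (h2 : (2 : F) ≠ 0) (hiso : ∀ v, Q (y v) = Q v) (hy : y ^ r = 1)
    (hodd : ¬ Even (orderOf (q : ZMod r)))
    (A : Submodule F V) (hA : ∀ v ∈ A, y v ∈ A)
    (hAc : A ≤ LinearMap.ker (aeval y (cyclotomic r F)))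
    (hdim : finrank F A = 2 * orderOf (q : ZMod r)) : PlusOn Q A := by
  classical
  have hr : r.Prime := Fact.out
  have hr0 : (r : F) ≠ 0 := CycFactor.natCast_ne_zero hr hrp
  have hi0 : 0 < orderOf (q : ZMod r) := CycFactor.orderOf_pos hF hr hrp
  have hisoB := polar_iso_of_iso Q hiso
  have halt : ∀ v, B₂ (PB Q) y r v v = 0 := B₂_alt (PB_symm Q) hisoB hr.pos hy
  have hiso2 : ∀ u v, B₂ (PB Q) y r (y u) (y v) = B₂ (PB Q) y r u v := B₂_iso hisoB r
  have hne : A ≠ ⊥ := by
    rintro rfl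
    rw [finrank_bot] at hdim
    omega
  obtain ⟨s, hs⟩ := exists_factor hF hrp hy A hA hAc hne
  obtain ⟨u, hu, hu0⟩ := (Submodule.ne_bot_iff _).mp hs
  rw [Submodule.mem_inf, LinearMap.mem_ker] at hu
  set W := cycSub y u with hWdef
  have hWA : W ≤ A := cycSub_le y u A hA hu.1
  have hWinv : ∀ v ∈ W, y v ∈ W := cycSub_invariant y u
  have hWi : finrank F W = orderOf (q : ZMod r) := finrank_cycSub hF hrp hy s u hu0 hu.2
  have hWti : ∀ a ∈ W, ∀ b ∈ W, B₂ (PB Q) y r a b = 0 := by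
    rcases NDon_or_isotropic hF hrp halt hiso2 hy W hWinv (hWA.trans hAc) hWi with h | h
    · exact absurd (hWi ▸ even_finrank_of_NDon halt W h) hodd
    · exact h
  refine ⟨W, hWA, ?_, by rw [hWi, hdim]⟩
  apply TS_of_isotropic Q h2
  intro a ha b hb
  obtain ⟨b', hb', rfl⟩ := skw_surj_on hr2 hr0 hy W hWinv (hWA.trans hAc) b hb
  exact hWti a ha b' hb'

/-- for even `i` an atom is not of plus type -/
theorem atom_not_plus_of_even (hF : Fintype.card F = q) {r : ℕ} [Fact r.Prime] (hrp : r ≠ p)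
    (hr2 : r ≠ 2) (hiso : ∀ v, Q (y v) = Q v) (hy : y ^ r = 1)
    (heven : Even (orderOf (q : ZMod r)))
    (A : Submodule F V) (hA : ∀ v ∈ A, y v ∈ A) (hnd : NDon (PB Q) A)
    (hAc : A ≤ LinearMap.ker (aeval y (cyclotomic r F)))
    (hdim : finrank F A = orderOf (q : ZMod r)) : ¬ PlusOn Q A := by
  classical
  intro hplus
  have hr : r.Prime := Fact.out
  have hr0 : (r : F) ≠ 0 := CycFactor.natCast_ne_zero hr hrp
  have hi0 : 0 < orderOf (q : ZMod r) := CycFactor.orderOf_pos hF hr hrp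
  obtain ⟨N, hN⟩ := heven
  have hN2 : orderOf (q : ZMod r) = 2 * N := by rw [hN]; ring
  have hNpos : 0 < N := by omega
  have hne : A ≠ ⊥ := by
    rintro rfl
    rw [finrank_bot] at hdim
    omega
  obtain ⟨b, hb⟩ := exists_plus_basis_sub Q hnd hplus (hdim.trans hN2)
  -- the abstract isometry group of `A` embeds into `GO⁺`
  obtain ⟨φ, hφ⟩ := Cfsg.Agent.Lib.H13.exists_embedding_isometryGroup b
    (Cfsg.quadFormPlus N F) (fun v : ↥A => Q (v : V)) hb
    ((LinearEquiv.automorphismGroup.toLinearMapMonoidHom (R := F) (M := ↥A)).comp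
      (IsoG (Q.comp A.subtype)).subtype)
    (by
      intro g h hgh
      apply Subtype.ext
      apply LinearEquiv.toLinearMap_injective
      exact hgh)
    (by
      intro g v
      exact g.2 v)
  have : Finite ↥A := Module.finite_of_finite F
  have : Finite (↥A ≃ₗ[F] ↥A) := Finite.of_injective (fun g => (g : ↥A → ↥A))
    (fun g h hgh => LinearEquiv.ext (congrFun hgh))
  have hdvd : Nat.card ↥(IsoG (Q.comp A.subtype)) ∣
      Nat.card ↥(Cfsg.isometryGroup F (Cfsg.quadFormPlus N F)) :=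
    Subgroup.card_dvd_of_injective φ hφ
  rw [Cfsg.Agent.S0287.result hF N hNpos] at hdvd
  -- the restriction of `y` has order `r`
  set yA := restrEquiv y hr.pos hy A hA with hyA
  have hmem : yA ∈ IsoG (Q.comp A.subtype) := by
    intro v
    show Q ((yA v : ↥A) : V) = Q (v : V)
    rw [hyA, restrEquiv_apply, hiso]
  have hord : orderOf (⟨yA, hmem⟩ : ↥(IsoG (Q.comp A.subtype))) = r := by
    rw [← orderOf_restrEquiv y hr0 hy A hA hAc hne]
    exact Subgroup.orderOf_mk yA hmem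
  have hr_dvd : r ∣ Nat.card ↥(IsoG (Q.comp A.subtype)) := by
    rw [← hord]
    exact orderOf_dvd_natCard _
  have hq0 : 0 < q := by rw [← hF]; exact Fintype.card_pos
  exact not_dvd_card_plus r q N hr2 hN2 hNpos hq0 (hr_dvd.trans hdvd)

end Cfsg.Agent.Lib.H10.OrtNd
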