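import Mathlib
import Cfsg.Agent.Lib.H10.OrtNdK

set_option autoImplicit false

/-!
# The type of a nondegenerate invariant subspace without fixed vectors (helper10)
-/

namespace Cfsg.Agent.Lib.H10.OrtNd

open Module Polynomial
open Cfsg.Agent.Lib.H24.Elus
open Cfsg.Agent.Lib.H13

variable {F : Type*} [Field F] [Fintype F] {p q : ℕ} [Fact p.Prime] [CharP F p]
  {V : Type*} [AddCommGroup V] [Module F V] [Module.Finite F V]
  (Q : QuadraticForm F V) {y : End F V}

theorem plusOn_bot : PlusOn Q (⊥ : Submodule F V) := by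
  refine ⟨⊥, le_refl _, ?_, by rw [finrank_bot]⟩
  intro v hv
  rw [(Submodule.mem_bot F).mp hv, map_zero]

/-- the type of a single atom -/
theorem atom_type (hF : Fintype.card F = q) {r : ℕ} [Fact r.Prime] (hrp : r ≠ p)
    (hr2 : r ≠ 2) (h2 : (2 : F) ≠ 0) (hiso : ∀ v, Q (y v) = Q v) (hy : y ^ r = 1)
    (A : Submodule F V) (hA : ∀ v ∈ A, y v ∈ A) (hnd : NDon (PB Q) A)
    (hAc : A ≤ LinearMap.ker (aeval y (cyclotomic r F)))
    (hdim : finrank F A = cOf (orderOf (q : ZMod r))) :
    PlusOn Q A ↔ ¬ Even (orderOf (q : ZMod r)) := by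
  by_cases hev : Even (orderOf (q : ZMod r))
  · have hdim' : finrank F A = orderOf (q : ZMod r) := by
      rw [hdim]
      unfold cOf
      rw [if_pos hev]
    constructor
    · intro h
      exact absurd h (atom_not_plus_of_even Q hF hrp hr2 hiso hy hev A hA hnd hAc hdim')
    · intro h
      exact absurd hev h
  · have hdim' : finrank F A = 2 * orderOf (q : ZMod r) := by
      rw [hdim]
      unfold cOf
      rw [if_neg hev]
    constructor
    · intro _
      exact hev
    · intro _
      exact atom_plus_of_odd Q hF hrp hr2 h2 hiso hy hev A hA hAc hdim'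

/-- the type of a nondegenerate invariant subspace of `ker Φ_r(y)` -/
theorem type_cyc (hF : Fintype.card F = q) {r : ℕ} [Fact r.Prime] (hrp : r ≠ p)
    (hr2 : r ≠ 2) (h2 : (2 : F) ≠ 0) (hiso : ∀ v, Q (y v) = Q v) (hy : y ^ r = 1) :
    ∀ (j : ℕ) (U : Submodule F V), (∀ v ∈ U, y v ∈ U) → NDon (PB Q) U →
      U ≤ LinearMap.ker (aeval y (cyclotomic r F)) →
      finrank F U = j * cOf (orderOf (q : ZMod r)) →
      (PlusOn Q U ↔ (¬ Even (orderOf (q : ZMod r)) ∨ Even j)) := by
  classical
  have hr : r.Prime := Fact.out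
  have hi0 : 0 < orderOf (q : ZMod r) := CycFactor.orderOf_pos hF hr hrp
  have hc0 : 0 < cOf (orderOf (q : ZMod r)) := cOf_pos hi0
  obtain ⟨N, hN⟩ := cOf_even (orderOf (q : ZMod r))
  have hN2 : cOf (orderOf (q : ZMod r)) = 2 * N := by rw [hN]; ring
  have hisoB := polar_iso_of_iso Q hiso
  intro j
  induction j with
  | zero =>
    intro U _ _ _ hdim
    rw [zero_mul] at hdim
    have hU : U = ⊥ := Submodule.finrank_eq_zero.mp hdim
    rw [hU]
    constructor
    · intro _
      exact Or.inr Even.zero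
    · intro _
      exact plusOn_bot Q
  | succ j ih =>
    intro U hU hnd hUc hdim
    obtain ⟨A, hAU, hAinv, hAnd, hAdim⟩ := exists_sub_cycS hF hrp hr2 (PB_symm Q) hisoB hy U hU
      hnd hUc 1 (by rw [hdim, one_mul]; exact Nat.le_mul_of_pos_left _ (Nat.succ_pos j))
    rw [one_mul] at hAdim
    set U' := U ⊓ (PB Q).orthogonal A with hU'
    have hU'inv : ∀ v ∈ U', y v ∈ U' := inf_orth_invariant hisoB hr.pos hy U A hU hAinv
    have hU'nd : NDon (PB Q) U' := NDon_perp_inS (PB Q) (PB_symm Q) U A hnd hAnd hAU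
    have hU'dim : finrank F U' = j * cOf (orderOf (q : ZMod r)) := by
      have h := finrank_perp_inS (PB Q) (PB_symm Q) U A hAnd hAU
      rw [hAdim, hdim, Nat.succ_mul] at h
      exact Nat.add_left_cancel (h.trans (Nat.add_comm _ _))
    have hsup : A ⊔ U' = U := sup_perp_inS (PB Q) (PB_symm Q) U A hAnd hAU
    have horth : ∀ u ∈ A, ∀ v ∈ U', PB Q u v = 0 := by
      intro u hu v hv
      exact (Submodule.mem_inf.mp hv).2 u hu
    have hA1 := atom_type Q hF hrp hr2 h2 hiso hy A hAinv hAnd (hAU.trans hUc) hAdim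
    have hU'1 := ih U' hU'inv hU'nd (inf_le_left.trans hUc) hU'dim
    have h3 := plus_sup_iff Q h2 hAnd hU'nd horth (N₁ := N) (N₂ := j * N)
      (by rw [hAdim, hN2]) (by rw [hU'dim, hN2]; ring)
    rw [hsup] at h3
    rw [h3, hA1, hU'1, Nat.even_add_one]
    by_cases hev : Even (orderOf (q : ZMod r)) <;> by_cases hj : Even j <;> simp [hev, hj]

end Cfsg.Agent.Lib.H10.OrtNd
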