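import Mathlib
import Cfsg.Agent.Lib.H10.OrtNdL

set_option autoImplicit false

/-!
# Existence of invariant nondegenerate subspaces of prescribed type (helper10)
-/

namespace Cfsg.Agent.Lib.H10.OrtNd

open Module Polynomial
open Cfsg.Agent.Lib.H24.Elus
open Cfsg.Agent.Lib.H13

section general

variable {F : Type*} [Field F] [Fintype F]
  {V : Type*} [AddCommGroup V] [Module F V] [Module.Finite F V]
  (Q : QuadraticForm F V) {y : End F V}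

/-- a nondegenerate subspace of adjustable discriminant inside `Y₁`, orthogonal to a given `W₂` -/
theorem exists_sum_type (h2 : (2 : F) ≠ 0) {Y₁ W₂ : Submodule F V} (hY₁ : NDon (PB Q) Y₁)
    (hW₂ : NDon (PB Q) W₂) (horth : ∀ u ∈ Y₁, ∀ v ∈ W₂, PB Q u v = 0) (e₁ N : ℕ)
    (he0 : 0 < e₁) (he : e₁ < finrank F Y₁) (hsum : e₁ + finrank F W₂ = 2 * N) (P : Prop) :
    ∃ W₁ : Submodule F V, W₁ ≤ Y₁ ∧ NDon (PB Q) (W₁ ⊔ W₂) ∧ finrank F ↥(W₁ ⊔ W₂) = 2 * N ∧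
      (PlusOn Q (W₁ ⊔ W₂) ↔ P) := by
  obtain ⟨W₁, hW₁Y, hW₁, hW₁e, hW₁d⟩ := exists_nd_sub_DSq Q h2 hY₁ e₁ he0 he
    ((IsSquare ((-1 : F) ^ N) ↔ P) ↔ DSq Q W₂)
  have horth' : ∀ u ∈ W₁, ∀ v ∈ W₂, PB Q u v = 0 := fun u hu v hv => horth u (hW₁Y hu) v hv
  have hnd : NDon (PB Q) (W₁ ⊔ W₂) := NDon_supS (PB Q) (PB_symm Q) W₁ W₂ hW₁ hW₂ horth'
  have hdim : finrank F ↥(W₁ ⊔ W₂) = 2 * N := by
    have h := Submodule.finrank_sup_add_finrank_inf_eq W₁ W₂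
    rw [inf_eq_bot_of_orthS (PB Q) (PB_symm Q) W₁ W₂ hW₁ horth', finrank_bot, add_zero, hW₁e,
      hsum] at h
    exact h
  refine ⟨W₁, hW₁Y, hnd, hdim, ?_⟩
  rw [plus_iff_DSq Q h2 hnd hdim, DSq_sup Q h2 hW₁ hW₂ horth', hW₁d]
  tauto

/-- the same with a subspace of prescribed dimension of a second nondegenerate subspace -/
theorem exists_sum_type' (h2 : (2 : F) ≠ 0) {Y₁ Y₂ : Submodule F V} (hY₁ : NDon (PB Q) Y₁)
    (hY₂ : NDon (PB Q) Y₂) (horth : ∀ u ∈ Y₁, ∀ v ∈ Y₂, PB Q u v = 0) (e₁ e₂ N : ℕ)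
    (he0 : 0 < e₁) (he : e₁ < finrank F Y₁) (he₂ : e₂ ≤ finrank F Y₂) (hsum : e₁ + e₂ = 2 * N)
    (P : Prop) :
    ∃ W₁ W₂ : Submodule F V, W₁ ≤ Y₁ ∧ W₂ ≤ Y₂ ∧ NDon (PB Q) (W₁ ⊔ W₂) ∧
      finrank F ↥(W₁ ⊔ W₂) = 2 * N ∧ (PlusOn Q (W₁ ⊔ W₂) ↔ P) := by
  obtain ⟨W₂, hW₂Y, hW₂, hW₂e⟩ := exists_nd_sub Q h2 hY₂ e₂ he₂
  obtain ⟨W₁, hW₁Y, hnd, hdim, htype⟩ := exists_sum_type Q h2 hY₁ hW₂
    (fun u hu v hv => horth u hu v (hW₂Y hv)) e₁ N he0 he (by rw [hW₂e]; exact hsum) P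
  exact ⟨W₁, W₂, hW₁Y, hW₂Y, hnd, hdim, htype⟩

/-- the fixed space and `ker Φ_r(y)` of an isometry of prime order `r` of a nondegenerate space -/
theorem top_split {r : ℕ} [Fact r.Prime] (hr0 : (r : F) ≠ 0)
    (hV : NDon (PB Q) ⊤) (hiso : ∀ v, Q (y v) = Q v) (hy : y ^ r = 1) :
    NDon (PB Q) (LinearMap.ker (aeval y (X - 1 : F[X]))) ∧
    NDon (PB Q) (LinearMap.ker (aeval y (cyclotomic r F))) ∧
    finrank F ↥(LinearMap.ker (aeval y (X - 1 : F[X]))) +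
      finrank F ↥(LinearMap.ker (aeval y (cyclotomic r F))) = finrank F V ∧
    (∀ u ∈ LinearMap.ker (aeval y (X - 1 : F[X])),
      ∀ w ∈ LinearMap.ker (aeval y (cyclotomic r F)), PB Q u w = 0) := by
  have hisoB := polar_iso_of_iso Q hiso
  have htop : ∀ v ∈ (⊤ : Submodule F V), y v ∈ (⊤ : Submodule F V) := fun _ _ => Submodule.mem_top
  have h1 := NDon_fix_partS hisoB hr0 hy ⊤ htop hV
  have h2 := NDon_cyc_partS (PB_symm Q) hisoB hr0 hy ⊤ htop hV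
  have h3 := finrank_split_fix hr0 hy ⊤ htop
  rw [top_inf_eq] at h1 h2 h3
  rw [top_inf_eq, finrank_top] at h3
  exact ⟨h1, h2, h3, fun u hu w hw => fix_orth_cycS hisoB hr0 u w hu hw⟩

theorem fix_sub_invariant (W₁ : Submodule F V)
    (h : W₁ ≤ LinearMap.ker (aeval y (X - 1 : F[X]))) : ∀ v ∈ W₁, y v ∈ W₁ := by
  intro v hv
  rw [(mem_fix_iff v).mp (h hv)]
  exact hv

end general

section odd

variable {F : Type*} [Field F] [Fintype F] {p q : ℕ} [Fact p.Prime] [CharP F p]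
  {V : Type*} [AddCommGroup V] [Module F V] [Module.Finite F V]
  (Q : QuadraticForm F V) {y : End F V}

/-- sufficiency for odd `r ≠ p` -/
theorem exists_inv_sub_odd (hF : Fintype.card F = q) {r : ℕ} [Fact r.Prime] (hrp : r ≠ p)
    (hr2 : r ≠ 2) (h2 : (2 : F) ≠ 0) (hV : NDon (PB Q) ⊤) (hiso : ∀ v, Q (y v) = Q v)
    (hy : y ^ r = 1) (m : ℕ) (hme : Even m) (hmn : m < finrank F V) (T : Prop)
    (hlk : m % cOf (orderOf (q : ZMod r)) < finrank F V % cOf (orderOf (q : ZMod r)))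
    (htype : m % cOf (orderOf (q : ZMod r)) = 0 →
      (T ↔ (¬ Even (orderOf (q : ZMod r)) ∨ Even (m / cOf (orderOf (q : ZMod r)))))) :
    ∃ W : Submodule F V, finrank F W = m ∧ NDon (PB Q) W ∧ (PlusOn Q W ↔ T) ∧
      ∀ v ∈ W, y v ∈ W := by
  classical
  have hr : r.Prime := Fact.out
  have hr0 : (r : F) ≠ 0 := CycFactor.natCast_ne_zero hr hrp
  have hi0 : 0 < orderOf (q : ZMod r) := CycFactor.orderOf_pos hF hr hrp
  obtain ⟨c, hc⟩ : ∃ c, c = cOf (orderOf (q : ZMod r)) := ⟨_, rfl⟩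
  rw [← hc] at hlk htype
  have hc0 : 0 < c := by rw [hc]; exact cOf_pos hi0
  have hisoB := polar_iso_of_iso Q hiso
  obtain ⟨hFxnd, hCynd, hsplit, horth⟩ := top_split Q hr0 hV hiso hy
  set Fx := LinearMap.ker (aeval y (X - 1 : F[X])) with hFx
  set Cy := LinearMap.ker (aeval y (cyclotomic r F)) with hCy
  have hCyinv : ∀ v ∈ Cy, y v ∈ Cy := SSClass.ker_aeval_invariant y _
  obtain ⟨j₀, hj₀⟩ : c ∣ finrank F Cy := by
    have h := cdvd_cycS hF hrp hr2 (PB_symm Q) hisoB hy ⊤ (fun _ _ => Submodule.mem_top) hV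
    rw [top_inf_eq, ← hc] at h
    exact h
  obtain ⟨n, hn⟩ : ∃ n, n = finrank F V := ⟨_, rfl⟩
  obtain ⟨f, hf⟩ : ∃ f, f = finrank F Fx := ⟨_, rfl⟩
  rw [← hn] at hmn hlk hsplit
  rw [← hf, hj₀] at hsplit
  -- `n % c ≤ f`
  have hkf : n % c ≤ f := by
    rw [← hsplit, Nat.add_mul_mod_self_left]
    exact Nat.mod_le _ _
  obtain ⟨j, hj⟩ : ∃ j, j = m / c := ⟨_, rfl⟩
  obtain ⟨l, hl⟩ : ∃ l, l = m % c := ⟨_, rfl⟩
  have hmjl : m = c * j + l := by rw [hj, hl]; exact (Nat.div_add_mod m c).symm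
  rw [← hl] at hlk htype
  rw [← hj] at htype
  obtain ⟨j₁, hj₁⟩ : ∃ j₁, j₁ = min j j₀ := ⟨_, rfl⟩
  obtain ⟨W₂, hW₂Cy, hW₂inv, hW₂nd, hW₂dim⟩ := exists_sub_cycS hF hrp hr2 (PB_symm Q) hisoB hy Cy
    hCyinv hCynd (le_refl _) j₁ (by
      rw [← hc, hj₀, mul_comm]
      exact Nat.mul_le_mul_left c (by rw [hj₁]; exact min_le_right _ _))
  rw [← hc] at hW₂dim
  have hj₁j : j₁ * c ≤ m := by
    rw [hmjl, mul_comm]
    exact le_trans (Nat.mul_le_mul_left c (by rw [hj₁]; exact min_le_left _ _)) (Nat.le_add_right _ _)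
  by_cases he₁ : m - j₁ * c = 0
  · -- `W = W₂`
    have hm : m = j₁ * c := by omega
    have hl0 : l = 0 := by
      rw [hl, hm]
      exact Nat.mul_mod_left _ _
    have hjj : j = j₁ := by
      rw [hj, hm]
      exact Nat.mul_div_cancel _ hc0
    refine ⟨W₂, by rw [hW₂dim, hm], hW₂nd, ?_, hW₂inv⟩
    rw [type_cyc Q hF hrp hr2 h2 hiso hy j₁ W₂ hW₂inv hW₂nd hW₂Cy (by rw [hW₂dim, hc]),
      htype hl0, hjj]
  · have he₁f : m - j₁ * c < f := by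
      rcases le_total j j₀ with hjj | hjj
      · have : j₁ = j := by rw [hj₁]; exact min_eq_left hjj
        rw [this, hmjl, mul_comm]
        omega
      · have : j₁ = j₀ := by rw [hj₁]; exact min_eq_right hjj
        rw [this]
        rw [mul_comm] at hsplit
        omega
    obtain ⟨N, hN⟩ := hme
    obtain ⟨W₁, hW₁Fx, hnd, hdim, htyp⟩ := exists_sum_type Q h2 hFxnd hW₂nd
      (fun u hu v hv => horth u hu v (hW₂Cy hv)) (m - j₁ * c) N (Nat.pos_of_ne_zero he₁)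
      (by rw [← hf]; exact he₁f) (by rw [hW₂dim]; omega) T
    refine ⟨W₁ ⊔ W₂, by rw [hdim]; omega, hnd, htyp, ?_⟩
    exact sup_invariant W₁ W₂ (fix_sub_invariant W₁ hW₁Fx) hW₂inv

end odd

section two

variable {F : Type*} [Field F] [Fintype F]
  {V : Type*} [AddCommGroup V] [Module F V] [Module.Finite F V]
  (Q : QuadraticForm F V) {y : End F V}

theorem neg_sub_invariant (W₂ : Submodule F V)
    (h : W₂ ≤ LinearMap.ker (aeval y (cyclotomic 2 F))) : ∀ v ∈ W₂, y v ∈ W₂ := by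
  intro v hv
  have h1 := h hv
  rw [LinearMap.mem_ker, cyclotomic_two, map_add, aeval_X, map_one, LinearMap.add_apply,
    Module.End.one_apply] at h1
  rw [eq_neg_of_add_eq_zero_left h1]
  exact Submodule.neg_mem _ hv

/-- sufficiency for involutions -/
theorem exists_inv_sub_two (h2 : (2 : F) ≠ 0) (hV : NDon (PB Q) ⊤) (hiso : ∀ v, Q (y v) = Q v)
    (hy : y ^ 2 = 1) (m : ℕ) (hm2 : 2 ≤ m) (hme : Even m) (hmn : m < finrank F V) (T : Prop) :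
    ∃ W : Submodule F V, finrank F W = m ∧ NDon (PB Q) W ∧ (PlusOn Q W ↔ T) ∧
      ∀ v ∈ W, y v ∈ W := by
  haveI : Fact (Nat.Prime 2) := ⟨Nat.prime_two⟩
  have hr0 : ((2 : ℕ) : F) ≠ 0 := by exact_mod_cast h2
  obtain ⟨hFxnd, hCynd, hsplit, horth⟩ := top_split Q hr0 hV hiso hy
  set Fx := LinearMap.ker (aeval y (X - 1 : F[X])) with hFx
  set Cy := LinearMap.ker (aeval y (cyclotomic 2 F)) with hCy
  have horth' : ∀ u ∈ Cy, ∀ v ∈ Fx, PB Q u v = 0 := fun u hu v hv =>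
    symZ (PB Q) (PB_symm Q) (horth v hv u hu)
  obtain ⟨N, hN⟩ := hme
  obtain ⟨a, ha⟩ : ∃ a, a = finrank F Fx := ⟨_, rfl⟩
  obtain ⟨b, hb⟩ : ∃ b, b = finrank F Cy := ⟨_, rfl⟩
  rw [← ha, ← hb] at hsplit
  -- a subspace `W₁ ⊔ W₂` with `W₁ ≤ Fx` and `W₂ ≤ Cy` is invariant
  have key₁ : ∀ e₁ e₂ : ℕ, 0 < e₁ → e₁ < a → e₂ ≤ b → e₁ + e₂ = m →
      ∃ W : Submodule F V, finrank F W = m ∧ NDon (PB Q) W ∧ (PlusOn Q W ↔ T) ∧
        ∀ v ∈ W, y v ∈ W := by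
    intro e₁ e₂ h0 h1 h3 h4
    obtain ⟨W₁, W₂, hW₁, hW₂, hnd, hdim, htyp⟩ := exists_sum_type' Q h2 hFxnd hCynd horth e₁ e₂ N
      h0 (by rw [← ha]; exact h1) (by rw [← hb]; exact h3) (by omega) T
    exact ⟨W₁ ⊔ W₂, by rw [hdim]; omega, hnd, htyp,
      sup_invariant W₁ W₂ (fix_sub_invariant W₁ hW₁) (neg_sub_invariant W₂ hW₂)⟩
  have key₂ : ∀ e₁ e₂ : ℕ, 0 < e₁ → e₁ < b → e₂ ≤ a → e₁ + e₂ = m →
      ∃ W : Submodule F V, finrank F W = m ∧ NDon (PB Q) W ∧ (PlusOn Q W ↔ T) ∧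
        ∀ v ∈ W, y v ∈ W := by
    intro e₁ e₂ h0 h1 h3 h4
    obtain ⟨W₁, W₂, hW₁, hW₂, hnd, hdim, htyp⟩ := exists_sum_type' Q h2 hCynd hFxnd horth' e₁ e₂ N
      h0 (by rw [← hb]; exact h1) (by rw [← ha]; exact h3) (by omega) T
    exact ⟨W₁ ⊔ W₂, by rw [hdim]; omega, hnd, htyp,
      sup_invariant W₁ W₂ (neg_sub_invariant W₁ hW₁) (fix_sub_invariant W₂ hW₂)⟩
  by_cases h1 : m < a
  · exact key₁ m 0 (by omega) h1 (Nat.zero_le _) (by omega)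
  by_cases h3 : m < b
  · exact key₂ m 0 (by omega) h3 (Nat.zero_le _) (by omega)
  by_cases h4 : a < m
  · exact key₂ (m - a) a (by omega) (by omega) (le_refl _) (by omega)
  · exact key₁ (m - 1) 1 (by omega) (by omega) (by omega) (by omega)

end two

end Cfsg.Agent.Lib.H10.OrtNd
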