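import Mathlib
import Cfsg.Agent.Lib.H10.OrtNdH

set_option autoImplicit false

/-!
# Isometry classification of nondegenerate subspaces by dimension and discriminant (helper10)
-/

namespace Cfsg.Agent.Lib.H10.OrtNd

open Module
open Cfsg.Agent.Lib.H24.Elus

variable {F : Type*} [Field F] {V : Type*} [AddCommGroup V] [Module F V]

variable (Q : QuadraticForm F V)

/-- the two subspaces have bases with the same Gram matrix -/
def SameGram (W W' : Submodule F V) : Prop :=
  ∃ (ι : Type) (_ : Fintype ι) (_ : DecidableEq ι) (v v' : ι → V),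
    LinearIndependent F v ∧ Submodule.span F (Set.range v) = W ∧
    LinearIndependent F v' ∧ Submodule.span F (Set.range v') = W' ∧ gram Q v = gram Q v'

theorem sameGram_bot : SameGram Q (⊥ : Submodule F V) ⊥ := by
  refine ⟨Empty, inferInstance, inferInstance, Empty.elim, Empty.elim, linearIndependent_empty_type,
    ?_, linearIndependent_empty_type, ?_, ?_⟩
  · rw [Set.range_eq_empty, Submodule.span_empty]
  · rw [Set.range_eq_empty, Submodule.span_empty]
  · ext i
    exact i.elim

/-- an isometry from common Gram bases -/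
theorem exists_isometry_of_sameGram (h2 : (2 : F) ≠ 0) {W W' : Submodule F V}
    (h : SameGram Q W W') : ∃ e : ↥W ≃ₗ[F] ↥W', ∀ x : ↥W, Q ((e x : ↥W') : V) = Q (x : V) := by
  obtain ⟨ι, _, _, v, v', hli, hW, hli', hW', hgram⟩ := h
  set b := famBasis hli hW with hb
  set b' := famBasis hli' hW' with hb'
  let e : ↥W ≃ₗ[F] ↥W' := b.equiv b' (Equiv.refl ι)
  have heb : ∀ i, e (b i) = b' i := fun i => by
    show b.equiv b' (Equiv.refl ι) (b i) = b' i
    rw [Basis.equiv_apply]
    rfl
  let B₁ : LinearMap.BilinForm F ↥W := (PB Q).restrict W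
  let B₂ : LinearMap.BilinForm F ↥W :=
    ((PB Q).restrict W').comp (e : ↥W →ₗ[F] ↥W') (e : ↥W →ₗ[F] ↥W')
  have hB : B₁ = B₂ := by
    apply LinearMap.BilinForm.ext_basis b
    intro i j
    show PB Q ((b i : ↥W) : V) ((b j : ↥W) : V) =
      PB Q ((e (b i) : ↥W') : V) ((e (b j) : ↥W') : V)
    rw [heb, heb, hb, hb', famBasis_apply, famBasis_apply, famBasis_apply, famBasis_apply]
    have := congrFun (congrFun hgram i) j
    rwa [gram_apply, gram_apply] at this
  refine ⟨e, fun x => ?_⟩
  have h1 : B₁ x x = B₂ x x := by rw [hB]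
  have h3 : PB Q (x : V) (x : V) = PB Q ((e x : ↥W') : V) ((e x : ↥W') : V) := h1
  rw [PB_self, PB_self] at h3
  exact (mul_left_cancel₀ h2 h3).symm

variable [Fintype F] [FiniteDimensional F V]

theorem span_singleton_eq_of_finrank_one {W : Submodule F V} (hdim : finrank F W = 1) {u : V}
    (hu : u ∈ W) (hu0 : u ≠ 0) : Submodule.span F {u} = W := by
  apply Submodule.eq_of_le_of_finrank_eq
  · rw [Submodule.span_singleton_le_iff_mem]
    exact hu
  · rw [finrank_span_singleton hu0, hdim]

/-- nondegenerate subspaces of the same dimension and discriminant class have common Gram bases -/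
theorem sameGram_of_DSq (h2 : (2 : F) ≠ 0) :
    ∀ (k : ℕ) (W W' : Submodule F V), NDon (PB Q) W → NDon (PB Q) W' → finrank F W = k →
      finrank F W' = k → (DSq Q W ↔ DSq Q W') → SameGram Q W W' := by
  intro k
  induction k with
  | zero =>
    intro W W' _ _ hk hk' _
    rw [Submodule.finrank_eq_zero.mp hk, Submodule.finrank_eq_zero.mp hk']
    exact sameGram_bot Q
  | succ k ih =>
    intro W W' hW hW' hk hk' hD
    have hWne : W ≠ ⊥ := by
      rintro rfl
      rw [finrank_bot] at hk
      omega
    have hW'ne : W' ≠ ⊥ := by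
      rintro rfl
      rw [finrank_bot] at hk'
      omega
    obtain ⟨u, huW, hu⟩ := exists_nonsing Q hW hWne
    have hu0 : u ≠ 0 := by
      rintro rfl
      exact hu (map_zero Q)
    by_cases hk0 : k = 0
    · -- lines
      subst hk0
      obtain ⟨u', hu'W, hu'⟩ := exists_nonsing Q hW' hW'ne
      have hu'0 : u' ≠ 0 := by
        rintro rfl
        exact hu' (map_zero Q)
      have hsp : Submodule.span F {u} = W := span_singleton_eq_of_finrank_one hk huW hu0
      have hsp' : Submodule.span F {u'} = W' := span_singleton_eq_of_finrank_one hk' hu'W hu'0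
      rw [← hsp, ← hsp', DSq_span_singleton Q hu, DSq_span_singleton Q hu'] at hD
      have hsq : IsSquare (2 * Q u * (2 * Q u')) :=
        (isSquare_mul_iff h2 (mul_ne_zero h2 hu) (mul_ne_zero h2 hu')).mpr hD
      obtain ⟨s, hs⟩ := hsq
      have hs0 : s ≠ 0 := by
        rintro rfl
        rw [mul_zero] at hs
        exact mul_ne_zero (mul_ne_zero h2 hu) (mul_ne_zero h2 hu') hs
      set t := s / (2 * Q u) with ht
      have ht0 : t ≠ 0 := div_ne_zero hs0 (mul_ne_zero h2 hu)
      have hQt : Q (t • u) = Q u' := by
        rw [QuadraticMap.map_smul, smul_eq_mul, ht, div_mul_div_comm, ← hs]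
        field_simp
      refine ⟨Unit, inferInstance, inferInstance, fun _ => t • u, fun _ => u',
        LinearIndependent.of_subsingleton () (smul_ne_zero ht0 hu0), ?_,
        LinearIndependent.of_subsingleton () hu'0, ?_, ?_⟩
      · rw [Set.range_const, ← hsp]
        exact Submodule.span_singleton_smul_eq (IsUnit.mk0 t ht0) u
      · rw [Set.range_const, hsp']
      · ext i j
        rw [gram_apply, gram_apply, PB_self, PB_self, hQt]
    · -- split off a common value
      have hk1 : 2 ≤ finrank F W' := by omega
      obtain ⟨u', hu'W, hu'Q⟩ := universal Q h2 hW' hk1 (Q u) hu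
      have hu' : Q u' ≠ 0 := by rw [hu'Q]; exact hu
      have hu'0 : u' ≠ 0 := by
        rintro rfl
        exact hu' (map_zero Q)
      have hL : NDon (PB Q) (Submodule.span F {u}) := NDon_span_singleton Q h2 hu
      have hL' : NDon (PB Q) (Submodule.span F {u'}) := NDon_span_singleton Q h2 hu'
      have hLW : Submodule.span F {u} ≤ W := by
        rw [Submodule.span_singleton_le_iff_mem]; exact huW
      have hLW' : Submodule.span F {u'} ≤ W' := by
        rw [Submodule.span_singleton_le_iff_mem]; exact hu'W
      set W₁ := W ⊓ (PB Q).orthogonal (Submodule.span F {u}) with hW₁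
      set W₁' := W' ⊓ (PB Q).orthogonal (Submodule.span F {u'}) with hW₁'
      have hW₁nd : NDon (PB Q) W₁ := NDon_perp_inS (PB Q) (PB_symm Q) W _ hW hL hLW
      have hW₁'nd : NDon (PB Q) W₁' := NDon_perp_inS (PB Q) (PB_symm Q) W' _ hW' hL' hLW'
      have hW₁dim : finrank F W₁ = k := by
        have : finrank F ↥(Submodule.span F {u}) + finrank F W₁ = finrank F W :=
          finrank_perp_inS (PB Q) (PB_symm Q) W _ hL hLW
        rw [finrank_span_singleton hu0, hk] at this
        omega
      have hW₁'dim : finrank F W₁' = k := by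
        have : finrank F ↥(Submodule.span F {u'}) + finrank F W₁' = finrank F W' :=
          finrank_perp_inS (PB Q) (PB_symm Q) W' _ hL' hLW'
        rw [finrank_span_singleton hu'0, hk'] at this
        omega
      have hsup : Submodule.span F {u} ⊔ W₁ = W := sup_perp_inS (PB Q) (PB_symm Q) W _ hL hLW
      have hsup' : Submodule.span F {u'} ⊔ W₁' = W' :=
        sup_perp_inS (PB Q) (PB_symm Q) W' _ hL' hLW'
      have horth : ∀ a ∈ Submodule.span F {u}, ∀ b ∈ W₁, PB Q a b = 0 := fun a ha b hb =>
        (Submodule.mem_inf.mp hb).2 a ha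
      have horth' : ∀ a ∈ Submodule.span F {u'}, ∀ b ∈ W₁', PB Q a b = 0 := fun a ha b hb =>
        (Submodule.mem_inf.mp hb).2 a ha
      have hD1 := DSq_sup Q h2 hL hW₁nd horth
      have hD1' := DSq_sup Q h2 hL' hW₁'nd horth'
      rw [hsup, DSq_span_singleton Q hu] at hD1
      rw [hsup', DSq_span_singleton Q hu', hu'Q] at hD1'
      have hD₁ : DSq Q W₁ ↔ DSq Q W₁' := by
        rw [hD1, hD1'] at hD
        tauto
      obtain ⟨ι, _, _, v, v', hli, hsp, hli', hsp', hgram⟩ :=
        ih W₁ W₁' hW₁nd hW₁'nd hW₁dim hW₁'dim hD₁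
      have hdisj : Disjoint (Submodule.span F (Set.range (fun _ : Unit => u)))
          (Submodule.span F (Set.range v)) := by
        rw [Set.range_const, hsp, disjoint_iff]
        exact inf_perp_inS (PB Q) (PB_symm Q) W _ hL
      have hdisj' : Disjoint (Submodule.span F (Set.range (fun _ : Unit => u')))
          (Submodule.span F (Set.range v')) := by
        rw [Set.range_const, hsp', disjoint_iff]
        exact inf_perp_inS (PB Q) (PB_symm Q) W' _ hL'
      refine ⟨Unit ⊕ ι, inferInstance, inferInstance, Sum.elim (fun _ => u) v,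
        Sum.elim (fun _ => u') v',
        (LinearIndependent.of_subsingleton (v := fun _ : Unit => u) () hu0).sum_type hli hdisj,
        ?_,
        (LinearIndependent.of_subsingleton (v := fun _ : Unit => u') () hu'0).sum_type hli' hdisj',
        ?_, ?_⟩
      · rw [Set.Sum.elim_range, Submodule.span_union, Set.range_const, hsp, hsup]
      · rw [Set.Sum.elim_range, Submodule.span_union, Set.range_const, hsp', hsup']
      · rw [gram_sum_elim Q _ v (fun i j => horth u (Submodule.mem_span_singleton_self u) _
            (hsp ▸ Submodule.subset_span (Set.mem_range_self j))),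
          gram_sum_elim Q _ v' (fun i j => horth' u' (Submodule.mem_span_singleton_self u') _
            (hsp' ▸ Submodule.subset_span (Set.mem_range_self j))), hgram]
        congr 1
        ext i j
        rw [gram_apply, gram_apply, PB_self, PB_self, hu'Q]

/-- nondegenerate subspaces of the same dimension and discriminant class are isometric -/
theorem exists_isometry_of_DSq (h2 : (2 : F) ≠ 0) {W W' : Submodule F V} (hW : NDon (PB Q) W)
    (hW' : NDon (PB Q) W') (hdim : finrank F W = finrank F W') (hD : DSq Q W ↔ DSq Q W') :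
    ∃ e : ↥W ≃ₗ[F] ↥W', ∀ x : ↥W, Q ((e x : ↥W') : V) = Q (x : V) :=
  exists_isometry_of_sameGram Q h2 (sameGram_of_DSq Q h2 _ W W' hW hW' rfl hdim.symm hD)

end Cfsg.Agent.Lib.H10.OrtNd
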