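import Mathlib
import Cfsg.Agent.Lib.H10.OrtNdN

set_option autoImplicit false

/-!
# The isometry group acting on the nondegenerate subspaces of a given dimension and type
(helper10)
-/

namespace Cfsg.Agent.Lib.H10.OrtNd

open Module
open Cfsg.Agent.Lib.H24.Elus

variable {F : Type*} [Field F] {V : Type*} [AddCommGroup V] [Module F V]

variable (Q : QuadraticForm F V)

/-- the nondegenerate subspaces of dimension `m` whose plus-type-ness is `T` -/
def TypeSet (m : ℕ) (T : Prop) : Set (Submodule F V) :=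
  {W | finrank F W = m ∧ NDon (PB Q) W ∧ (PlusOn Q W ↔ T)}

variable {Q}

theorem map_map_inv (g : V ≃ₗ[F] V) (W : Submodule F V) :
    (W.map (g : V →ₗ[F] V)).map ((g⁻¹ : V ≃ₗ[F] V) : V →ₗ[F] V) = W := by
  ext x
  constructor
  · rintro ⟨_, ⟨w, hw, rfl⟩, rfl⟩
    have : (g⁻¹ : V ≃ₗ[F] V) (g w) = w := g.symm_apply_apply w
    rw [LinearEquiv.coe_coe, LinearEquiv.coe_coe, this]
    exact hw
  · intro hx
    exact ⟨g x, ⟨x, hx, rfl⟩, g.symm_apply_apply x⟩

theorem PlusOn_map_iff {g : V ≃ₗ[F] V} (hg : g ∈ IsoG Q) (W : Submodule F V) :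
    PlusOn Q (W.map (g : V →ₗ[F] V)) ↔ PlusOn Q W := by
  constructor
  · intro h
    have := PlusOn_map ((IsoG Q).inv_mem hg) h
    rwa [map_map_inv] at this
  · exact PlusOn_map hg

variable (Q)

instance typeSetAction (m : ℕ) (T : Prop) : MulAction ↥(IsoG Q) ↥(TypeSet Q m T) where
  smul g W := ⟨W.1.map ((g : V ≃ₗ[F] V) : V →ₗ[F] V),
    by rw [finrank_map_equiv]; exact W.2.1, NDon_map g.2 W.2.2.1,
    (PlusOn_map_iff g.2 W.1).trans W.2.2.2⟩
  one_smul W := by
    apply Subtype.ext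
    show W.1.map (((1 : ↥(IsoG Q)) : V ≃ₗ[F] V) : V →ₗ[F] V) = W.1
    exact Submodule.map_id W.1
  mul_smul g h W := by
    apply Subtype.ext
    show W.1.map (((g * h : ↥(IsoG Q)) : V ≃ₗ[F] V) : V →ₗ[F] V) =
      (W.1.map ((h : V ≃ₗ[F] V) : V →ₗ[F] V)).map ((g : V ≃ₗ[F] V) : V →ₗ[F] V)
    rw [← Submodule.map_comp]
    rfl

theorem typeSet_smul_coe (m : ℕ) (T : Prop) (g : ↥(IsoG Q)) (W : ↥(TypeSet Q m T)) :
    ((g • W : ↥(TypeSet Q m T)) : Submodule F V) = W.1.map ((g : V ≃ₗ[F] V) : V →ₗ[F] V) := rfl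

/-- Witt: the isometry group is transitive on the nondegenerate subspaces of a given even dimension
and type -/
theorem exists_IsoG_map_type [Fintype F] [FiniteDimensional F V] (h2 : (2 : F) ≠ 0)
    (hQ : (QuadraticMap.polarBilin Q).Nondegenerate) {N : ℕ} (T : Prop)
    (W₁ W₂ : ↥(TypeSet Q (2 * N) T)) : ∃ g : ↥(IsoG Q), g • W₁ = W₂ := by
  have hD : DSq Q W₁.1 ↔ DSq Q W₂.1 := by
    have h1 := plus_iff_DSq Q h2 W₁.2.2.1 W₁.2.1
    have h3 := plus_iff_DSq Q h2 W₂.2.2.1 W₂.2.1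
    have h4 := W₁.2.2.2
    have h5 := W₂.2.2.2
    tauto
  obtain ⟨e, he⟩ := exists_isometry_of_DSq Q h2 W₁.2.2.1 W₂.2.2.1 (W₁.2.1.trans W₂.2.1.symm) hD
  obtain ⟨g, hg, hgx⟩ := Cfsg.Agent.S0750.result Q hQ W₁.1 W₂.1 e he
  refine ⟨⟨g, hg⟩, ?_⟩
  apply Subtype.ext
  rw [typeSet_smul_coe]
  apply le_antisymm
  · rintro _ ⟨x, hx, rfl⟩
    have := hgx ⟨x, hx⟩
    rw [LinearEquiv.coe_coe]
    show g x ∈ W₂.1
    rw [this]
    exact (e ⟨x, hx⟩).2
  · intro w hw
    refine ⟨(e.symm ⟨w, hw⟩ : ↥W₁.1), (e.symm ⟨w, hw⟩).2, ?_⟩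
    rw [LinearEquiv.coe_coe]
    have := hgx (e.symm ⟨w, hw⟩)
    show g ((e.symm ⟨w, hw⟩ : ↥W₁.1) : V) = w
    rw [this, LinearEquiv.apply_symm_apply]

theorem finite_linearEquiv [Finite F] [FiniteDimensional F V] : Finite (V ≃ₗ[F] V) := by
  have : Finite V := Module.finite_of_finite F
  exact Finite.of_injective (fun g => (g : V → V)) (fun g h hgh => LinearEquiv.ext (congrFun hgh))

theorem finite_submodule [Finite F] [FiniteDimensional F V] : Finite (Submodule F V) := by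
  have : Finite V := Module.finite_of_finite F
  exact Finite.of_injective (fun W => (W : Set V)) SetLike.coe_injective

/-- the number of nondegenerate subspaces of a given even dimension and type divides the order of
the isometry group -/
theorem card_typeSet_dvd [Fintype F] [FiniteDimensional F V] (h2 : (2 : F) ≠ 0)
    (hQ : (QuadraticMap.polarBilin Q).Nondegenerate) {N : ℕ} (T : Prop)
    (hne : (TypeSet Q (2 * N) T).Nonempty) :
    Nat.card ↥(TypeSet Q (2 * N) T) ∣ Nat.card ↥(IsoG Q) := by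
  classical
  have := finite_linearEquiv (F := F) (V := V)
  have := finite_submodule (F := F) (V := V)
  obtain ⟨W₀, hW₀⟩ := hne
  let w₀ : ↥(TypeSet Q (2 * N) T) := ⟨W₀, hW₀⟩
  have horb : MulAction.orbit ↥(IsoG Q) w₀ = Set.univ := by
    ext W
    simp only [Set.mem_univ, iff_true]
    obtain ⟨g, hg⟩ := exists_IsoG_map_type Q h2 hQ T w₀ W
    exact ⟨g, hg⟩
  have : Fintype ↥(IsoG Q) := Fintype.ofFinite _
  have : Fintype ↑(MulAction.orbit ↥(IsoG Q) w₀) := Fintype.ofFinite _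
  have : Fintype ↥(MulAction.stabilizer ↥(IsoG Q) w₀) := Fintype.ofFinite _
  have h := MulAction.card_orbit_mul_card_stabilizer_eq_card_group ↥(IsoG Q) w₀
  have h1 : Fintype.card ↑(MulAction.orbit ↥(IsoG Q) w₀) = Nat.card ↥(TypeSet Q (2 * N) T) := by
    rw [← Nat.card_eq_fintype_card]
    exact Nat.card_congr ((Equiv.setCongr horb).trans (Equiv.Set.univ _))
  rw [h1, ← Nat.card_eq_fintype_card (α := ↥(IsoG Q))] at h
  exact ⟨_, h.symm⟩

/-- the fixed point congruence for an isometry of prime power order -/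
theorem card_typeSet_modEq [Finite F] [FiniteDimensional F V] (m : ℕ) (T : Prop) {r : ℕ}
    [Fact r.Prime] (g : ↥(IsoG Q)) (hg : g ^ r = 1) :
    Nat.card ↥(TypeSet Q m T) ≡
      Nat.card {W : Submodule F V // W ∈ TypeSet Q m T ∧ W.map ((g : V ≃ₗ[F] V) : V →ₗ[F] V) = W}
      [MOD r] := by
  classical
  have := finite_submodule (F := F) (V := V)
  have : Fintype ↥(TypeSet Q m T) := Fintype.ofFinite _
  obtain ⟨f, hf⟩ : ∃ f : Function.End ↥(TypeSet Q m T),
      f = MulAction.toEndHom (M := ↥(IsoG Q)) g := ⟨_, rfl⟩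
  have hfr : f ^ r ^ 1 = 1 := by
    rw [pow_one, hf, ← map_pow, hg, map_one]
  have hmodeq := Equiv.Perm.card_fixedPoints_modEq hfr
  rw [Fintype.card_eq_nat_card, Fintype.card_eq_nat_card] at hmodeq
  have hfapp : ∀ W' : ↥(TypeSet Q m T),
      (f W').1 = W'.1.map ((g : V ≃ₗ[F] V) : V →ₗ[F] V) := by
    intro W'
    rw [hf]
    rfl
  have hcard : Nat.card ↥(Function.fixedPoints f) =
      Nat.card {W : Submodule F V // W ∈ TypeSet Q m T ∧
        W.map ((g : V ≃ₗ[F] V) : V →ₗ[F] V) = W} := by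
    apply Nat.card_congr
    refine
      { toFun := fun W => ⟨W.1.1, W.1.2, ?_⟩
        invFun := fun W => ⟨⟨W.1, W.2.1⟩, ?_⟩
        left_inv := fun W => rfl
        right_inv := fun W => rfl }
    · have h1 : f W.1 = W.1 := W.2
      have h3 := congrArg Subtype.val h1
      rw [hfapp] at h3
      exact h3
    · show f ⟨W.1, W.2.1⟩ = ⟨W.1, W.2.1⟩
      apply Subtype.ext
      rw [hfapp]
      exact W.2.2
  rw [← hcard]
  exact hmodeq

section below

variable (C : Submodule F V)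

theorem NDon_map_subtype_iff (W' : Submodule F ↥C) :
    NDon (PB Q) (W'.map C.subtype) ↔ NDon (PB (Q.comp C.subtype)) W' := by
  constructor
  · intro h u hu hu'
    apply Subtype.ext
    apply h (u : V) ⟨u, hu, rfl⟩
    rintro _ ⟨v, hv, rfl⟩
    exact hu' v hv
  · rintro h _ ⟨u, hu, rfl⟩ hu'
    have : u = 0 := by
      apply h u hu
      intro v hv
      exact hu' (v : V) ⟨v, hv, rfl⟩
    rw [this]
    rfl

theorem PlusOn_map_subtype_iff [FiniteDimensional F V] (W' : Submodule F ↥C) :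
    PlusOn Q (W'.map C.subtype) ↔ PlusOn (Q.comp C.subtype) W' := by
  constructor
  · rintro ⟨U, hUW, hU, hdim⟩
    have hUC : U ≤ C := hUW.trans (Submodule.map_subtype_le C W')
    refine ⟨U.comap C.subtype, ?_, ?_, ?_⟩
    · intro x hx
      obtain ⟨w, hw, hwx⟩ := hUW hx
      have : w = x := Subtype.ext hwx
      rw [← this]
      exact hw
    · intro x hx
      exact hU (x : V) hx
    · rw [(Submodule.comapSubtypeEquivOfLe hUC).finrank_eq, hdim,
        Submodule.finrank_map_subtype_eq]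
  · rintro ⟨U', hUW, hU, hdim⟩
    refine ⟨U'.map C.subtype, Submodule.map_mono hUW, ?_, ?_⟩
    · rintro _ ⟨u, hu, rfl⟩
      exact hU u hu
    · rw [Submodule.finrank_map_subtype_eq, Submodule.finrank_map_subtype_eq, hdim]

/-- the subspaces in `TypeSet` below `C` and the `TypeSet` of `C` -/
theorem card_typeSet_below [FiniteDimensional F V] (m : ℕ) (T : Prop) :
    Nat.card {W : Submodule F V // W ∈ TypeSet Q m T ∧ W ≤ C} =
      Nat.card ↥(TypeSet (Q.comp C.subtype) m T) := by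
  apply Nat.card_congr
  have hmc : ∀ W : Submodule F V, W ≤ C → (W.comap C.subtype).map C.subtype = W := by
    intro W hW
    rw [Submodule.map_comap_subtype]
    exact inf_eq_right.mpr hW
  refine
    { toFun := fun W => ⟨W.1.comap C.subtype, ?_, ?_, ?_⟩
      invFun := fun W' => ⟨W'.1.map C.subtype, ⟨?_, ?_, ?_⟩, Submodule.map_subtype_le C W'.1⟩
      left_inv := fun W => Subtype.ext (hmc W.1 W.2.2)
      right_inv := fun W' => Subtype.ext
        (Submodule.comap_map_eq_of_injective (Submodule.injective_subtype C) W'.1) }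
  · rw [(Submodule.comapSubtypeEquivOfLe W.2.2).finrank_eq]
    exact W.2.1.1
  · rw [← NDon_map_subtype_iff, hmc W.1 W.2.2]
    exact W.2.1.2.1
  · rw [← PlusOn_map_subtype_iff, hmc W.1 W.2.2]
    exact W.2.1.2.2
  · rw [Submodule.finrank_map_subtype_eq]
    exact W'.2.1
  · rw [NDon_map_subtype_iff]
    exact W'.2.2.1
  · rw [PlusOn_map_subtype_iff]
    exact W'.2.2.2

end below

end Cfsg.Agent.Lib.H10.OrtNd
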