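import Mathlib
import Cfsg.Agent.Lib.H10.OrtNdM
import Cfsg.Agent.Lib.H10.OrtNdO

set_option autoImplicit false

/-!
# Isometries of order `r` with smallest fixed space (helper10)
-/

namespace Cfsg.Agent.Lib.H10.OrtNd

open Module Polynomial
open Cfsg.Agent.Lib.H24.Elus

section conv

variable {F : Type*} [Field F] {V : Type*} [AddCommGroup V] [Module F V] [FiniteDimensional F V]

/-- the linear equivalence given by an endomorphism of finite order -/
noncomputable def equivOfPow (y : End F V) {r : ℕ} (hr : 0 < r) (hy : y ^ r = 1) : V ≃ₗ[F] V :=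
  LinearEquiv.ofInjectiveEndo y (injective_of_pow hr hy)

theorem equivOfPow_apply (y : End F V) {r : ℕ} (hr : 0 < r) (hy : y ^ r = 1) (v : V) :
    equivOfPow y hr hy v = y v := by
  unfold equivOfPow
  rw [LinearEquiv.coe_ofInjectiveEndo]

theorem equivOfPow_coe (y : End F V) {r : ℕ} (hr : 0 < r) (hy : y ^ r = 1) :
    ((equivOfPow y hr hy : V ≃ₗ[F] V) : V →ₗ[F] V) = y :=
  LinearMap.ext (equivOfPow_apply y hr hy)

theorem coe_pow_equiv (g : V ≃ₗ[F] V) (k : ℕ) :
    ((g ^ k : V ≃ₗ[F] V) : V →ₗ[F] V) = (g : V →ₗ[F] V) ^ k :=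
  map_pow (LinearEquiv.automorphismGroup.toLinearMapMonoidHom (R := F) (M := V)) g k

theorem equivOfPow_pow (y : End F V) {r : ℕ} (hr : 0 < r) (hy : y ^ r = 1) :
    (equivOfPow y hr hy) ^ r = 1 := by
  apply LinearEquiv.toLinearMap_injective
  rw [coe_pow_equiv, equivOfPow_coe, hy]
  rfl

end conv

section minfix

variable {F : Type*} [Field F] {V : Type*} [AddCommGroup V] [Module F V] [FiniteDimensional F V]
  (Q : QuadraticForm F V)

/-- an isometry with `y ^ r = 1` whose fixed space has the smallest possible dimension -/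
theorem exists_min_fix (r : ℕ) :
    ∃ y : End F V, (∀ v, Q (y v) = Q v) ∧ y ^ r = 1 ∧
      ∀ y' : End F V, (∀ v, Q (y' v) = Q v) → y' ^ r = 1 →
        finrank F ↥(LinearMap.ker (aeval y (X - 1 : F[X]))) ≤
          finrank F ↥(LinearMap.ker (aeval y' (X - 1 : F[X]))) := by
  classical
  let S : Set ℕ := {k | ∃ y : End F V, (∀ v, Q (y v) = Q v) ∧ y ^ r = 1 ∧
    finrank F ↥(LinearMap.ker (aeval y (X - 1 : F[X]))) = k}
  have hS : S.Nonempty := ⟨_, 1, fun _ => rfl, one_pow r, rfl⟩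
  obtain ⟨y, hy1, hy2, hy3⟩ := Nat.sInf_mem hS
  refine ⟨y, hy1, hy2, fun y' h1 h3 => ?_⟩
  rw [hy3]
  exact Nat.sInf_le ⟨y', h1, h3, rfl⟩

variable {y : End F V}

/-- an isometry of the fixed space of order `r` gives an isometry with a smaller fixed space -/
theorem exists_smaller_fix_aux [Fintype F] {r : ℕ} [Fact r.Prime]
    (hiso : ∀ v, Q (y v) = Q v) (hy : y ^ r = 1) (C : Submodule F V)
    (hCdef : C = LinearMap.ker (aeval y (X - 1 : F[X]))) (hC : NDon (PB Q) C)
    (z : End F ↥C) (hz : ∀ c : ↥C, Q (((z c : ↥C)) : V) = Q (c : V))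
    (hzr : z ^ r = 1) (hz1 : z ≠ 1) :
    ∃ y₁ : End F V, (∀ v, Q (y₁ v) = Q v) ∧ y₁ ^ r = 1 ∧
      finrank F ↥(LinearMap.ker (aeval y₁ (X - 1 : F[X]))) < finrank F ↥C := by
  have hr : r.Prime := Fact.out
  have hisoB := polar_iso_of_iso Q hiso
  have hCinv : ∀ v ∈ C, y v ∈ C := fix_sub_invariant C (le_of_eq hCdef)
  have hOinv : ∀ v ∈ (PB Q).orthogonal C, y v ∈ (PB Q).orthogonal C :=
    orth_invariant hisoB hr.pos hy C hCinv
  have hyc : ∀ c : ↥C, y (c : V) = (c : V) := fun c => (mem_fix_iff _).mp (hCdef ▸ c.2)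
  set a := extId Q hC z with ha
  have hcomm : Commute a y := by
    apply LinearMap.ext
    intro v
    obtain ⟨c, d, hd, rfl⟩ := exists_decomp Q hC v
    show a (y ((c : V) + d)) = y (a ((c : V) + d))
    rw [map_add y, hyc, ha, extId_add Q hC z c (y d) (hOinv d hd), extId_add Q hC z c d hd, map_add,
      hyc]
  have hy₁app : ∀ (c : ↥C) (d : V), d ∈ (PB Q).orthogonal C →
      (a * y) ((c : V) + d) = (z c : V) + y d := by
    intro c d hd
    rw [Module.End.mul_apply, map_add y, hyc, ha, extId_add Q hC z c (y d) (hOinv d hd)]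
  have hdisj : ∀ x : V, x ∈ C → x ∈ (PB Q).orthogonal C → x = 0 := by
    intro x h1 h3
    have := (isCompl_orth Q hC).inf_eq_bot
    have hx : x ∈ C ⊓ (PB Q).orthogonal C := Submodule.mem_inf.mpr ⟨h1, h3⟩
    rw [this] at hx
    exact (Submodule.mem_bot F).mp hx
  refine ⟨a * y, ?_, ?_, ?_⟩
  · intro v
    rw [Module.End.mul_apply, ha, extId_iso Q hC z hz, hiso]
  · rw [hcomm.mul_pow, hy, mul_one, ha, extId_pow_eq_one Q hC z hzr]
  · apply Submodule.finrank_lt_finrank_of_lt
    rw [lt_iff_le_and_ne]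
    constructor
    · intro v hv
      rw [mem_fix_iff] at hv
      obtain ⟨c, d, hd, rfl⟩ := exists_decomp Q hC v
      rw [hy₁app c d hd] at hv
      have h1 : ((z c : ↥C) : V) - (c : V) = d - y d := by
        rw [sub_eq_sub_iff_add_eq_add, hv, add_comm]
      have h3 : d - y d = 0 := by
        apply hdisj
        · rw [← h1]
          exact Submodule.sub_mem _ (z c).2 c.2
        · exact Submodule.sub_mem _ hd (hOinv d hd)
      have h4 : d = 0 := by
        apply hdisj d _ hd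
        rw [hCdef, mem_fix_iff]
        exact (sub_eq_zero.mp h3).symm
      rw [h4, add_zero]
      exact c.2
    · intro heq
      apply hz1
      apply LinearMap.ext
      intro c
      apply Subtype.ext
      have hc : (c : V) ∈ LinearMap.ker (aeval (a * y) (X - 1 : F[X])) := by
        rw [heq]
        exact c.2
      rw [mem_fix_iff] at hc
      have := hy₁app c 0 (Submodule.zero_mem _)
      rw [add_zero, map_zero, add_zero, hc] at this
      exact this.symm

theorem exists_smaller_fix [Fintype F] {r : ℕ} [Fact r.Prime] (hr0 : (r : F) ≠ 0)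
    (hV : NDon (PB Q) ⊤) (hiso : ∀ v, Q (y v) = Q v) (hy : y ^ r = 1)
    (z : End F ↥(LinearMap.ker (aeval y (X - 1 : F[X]))))
    (hz : ∀ c : ↥(LinearMap.ker (aeval y (X - 1 : F[X]))),
      Q (((z c : ↥(LinearMap.ker (aeval y (X - 1 : F[X])))) : V)) = Q (c : V))
    (hzr : z ^ r = 1) (hz1 : z ≠ 1) :
    ∃ y₁ : End F V, (∀ v, Q (y₁ v) = Q v) ∧ y₁ ^ r = 1 ∧
      finrank F ↥(LinearMap.ker (aeval y₁ (X - 1 : F[X]))) <
        finrank F ↥(LinearMap.ker (aeval y (X - 1 : F[X]))) :=
  exists_smaller_fix_aux Q hiso hy _ rfl (top_split Q hr0 hV hiso hy).1 z hz hzr hz1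

end minfix

section cauchy

variable {F : Type*} [Field F] [Fintype F] {V : Type*} [AddCommGroup V] [Module F V]
  [FiniteDimensional F V] (Q : QuadraticForm F V) {y : End F V}

/-- for an isometry with smallest fixed space, `r` does not divide the order of the isometry group
of the fixed space -/
theorem not_dvd_card_IsoG_fix {r : ℕ} [Fact r.Prime] (hr0 : (r : F) ≠ 0) (hV : NDon (PB Q) ⊤)
    (hiso : ∀ v, Q (y v) = Q v) (hy : y ^ r = 1)
    (hmin : ∀ y' : End F V, (∀ v, Q (y' v) = Q v) → y' ^ r = 1 →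
        finrank F ↥(LinearMap.ker (aeval y (X - 1 : F[X]))) ≤
          finrank F ↥(LinearMap.ker (aeval y' (X - 1 : F[X])))) :
    ¬ r ∣ Nat.card ↥(IsoG (Q.comp (LinearMap.ker (aeval y (X - 1 : F[X]))).subtype)) := by
  intro hdvd
  have hr : r.Prime := Fact.out
  have := finite_linearEquiv (F := F) (V := ↥(LinearMap.ker (aeval y (X - 1 : F[X]))))
  obtain ⟨z, hz⟩ := exists_prime_orderOf_dvd_card' r hdvd
  have hzr : z ^ r = 1 := by rw [← hz]; exact pow_orderOf_eq_one z
  have hz1 : z ≠ 1 := by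
    rintro rfl
    rw [orderOf_one] at hz
    exact hr.one_lt.ne hz
  obtain ⟨y₁, h1, h3, h4⟩ := exists_smaller_fix Q hr0 hV hiso hy
    ((z.1 : ↥(LinearMap.ker (aeval y (X - 1 : F[X]))) ≃ₗ[F]
      ↥(LinearMap.ker (aeval y (X - 1 : F[X])))) :
      ↥(LinearMap.ker (aeval y (X - 1 : F[X]))) →ₗ[F] ↥(LinearMap.ker (aeval y (X - 1 : F[X]))))
    (fun c => z.2 c)
    (by
      have h5 : (z.1) ^ r = 1 := by
        rw [← Subgroup.coe_pow, hzr]
        rfl
      rw [← coe_pow_equiv, h5]
      rfl)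
    (by
      intro h
      apply hz1
      apply Subtype.ext
      apply LinearEquiv.toLinearMap_injective
      exact h)
  exact absurd (hmin y₁ h1 h3) (not_le.mpr h4)

end cauchy

end Cfsg.Agent.Lib.H10.OrtNd
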