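import Mathlib
import Cfsg.Agent.Lib.H10.OrtNdP
import Cfsg.Agent.Lib.H11.PSLGraph11
import Cfsg.Agent.S0286

set_option autoImplicit false

/-!
# The order of the isometry group of an odd-dimensional nondegenerate space (helper10)
-/

namespace Cfsg.Agent.Lib.H10.OrtNd

open Module Matrix
open Cfsg.Agent.Lib.H24.Elus

section transport

variable {F : Type*} [Field F] {ι : Type} [Fintype ι] [DecidableEq ι]
  {V : Type*} [AddCommGroup V] [Module F V]

/-- conjugating matrices to linear equivalences of `V` along a coordinate isomorphism -/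
noncomputable def conjGL (E : V ≃ₗ[F] (ι → F)) : GL ι F →* (V ≃ₗ[F] V) :=
  MonoidHom.mk' (fun A => (E.trans (LinearMap.GeneralLinearGroup.generalLinearEquiv F (ι → F)
    (Matrix.GeneralLinearGroup.toLin A))).trans E.symm) (by
    intro A B
    apply LinearEquiv.ext
    intro v
    simp [Matrix.mulVec_mulVec])

theorem conjGL_apply (E : V ≃ₗ[F] (ι → F)) (A : GL ι F) (v : V) :
    conjGL E A v = E.symm ((A : Matrix ι ι F) *ᵥ (E v)) := by
  simp [conjGL]

theorem conjGL_injective (E : V ≃ₗ[F] (ι → F)) : Function.Injective (conjGL E) := by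
  rw [injective_iff_map_eq_one]
  intro A hA
  apply Units.ext
  apply Matrix.toLin'.injective
  apply LinearMap.ext
  intro w
  have := congrArg (fun g : V ≃ₗ[F] V => E (g (E.symm w))) hA
  simp only [conjGL_apply, LinearEquiv.apply_symm_apply] at this
  rw [Matrix.toLin'_apply, this]
  simp

end transport

section order

variable {F : Type*} [Field F] [Fintype F] {V : Type*} [AddCommGroup V] [Module F V]
  [FiniteDimensional F V] (Q : QuadraticForm F V)

theorem nondeg_comp_equiv {V' : Type*} [AddCommGroup V'] [Module F V'] (e : V' ≃ₗ[F] V)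
    (hQ : (QuadraticMap.polarBilin Q).Nondegenerate) :
    (QuadraticMap.polarBilin (Q.comp (e : V' →ₗ[F] V))).Nondegenerate := by
  have hpol : ∀ x y : V', QuadraticMap.polarBilin (Q.comp (e : V' →ₗ[F] V)) x y =
      QuadraticMap.polarBilin Q (e x) (e y) := by
    intro x y
    simp [QuadraticMap.polarBilin_apply_apply, QuadraticMap.polar]
  constructor
  · intro x hx
    have : e x = 0 := by
      apply hQ.1
      intro v
      have := hx (e.symm v)
      rwa [hpol, LinearEquiv.apply_symm_apply] at this
    exact e.map_eq_zero_iff.mp this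
  · intro y hy
    have : e y = 0 := by
      apply hQ.2
      intro v
      have := hy (e.symm v)
      rwa [hpol, LinearEquiv.apply_symm_apply] at this
    exact e.map_eq_zero_iff.mp this

/-- the order of the odd-dimensional orthogonal group divides the order of `IsoG Q` -/
theorem card_GO_dvd_card_IsoG (hQ : (QuadraticMap.polarBilin Q).Nondegenerate) (m' : ℕ)
    (hdim : finrank F V = 2 * m' + 1) :
    Nat.card ↥(Cfsg.isometryGroup F (Cfsg.quadFormOdd m' F)) ∣ Nat.card ↥(IsoG Q) := by
  classical
  let b := Module.finBasis F V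
  obtain ⟨e, d, hd, he⟩ := Cfsg.Agent.Lib.H11.PSLGraph.exists_odd_form
    (Q.comp (b.equivFun.symm : (Fin (finrank F V) → F) →ₗ[F] V))
    (nondeg_comp_equiv Q b.equivFun.symm hQ) m' (by rw [Fintype.card_fin, hdim])
  let E : V ≃ₗ[F] (Unit ⊕ (Fin m' ⊕ Fin m') → F) := b.equivFun.trans e
  have hE : ∀ x : V, Q x = d * Cfsg.quadFormOdd m' F (E x) := by
    intro x
    have := he (b.equivFun x)
    rw [QuadraticMap.comp_apply] at this
    simp only [LinearEquiv.coe_coe, LinearEquiv.symm_apply_apply] at this
    exact this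
  have hmem : ∀ A : ↥(Cfsg.isometryGroup F (Cfsg.quadFormOdd m' F)),
      conjGL E A.1 ∈ IsoG Q := by
    intro A v
    rw [hE, hE, conjGL_apply, LinearEquiv.apply_symm_apply]
    congr 1
    exact A.2 (E v) (E v)
  let φ : ↥(Cfsg.isometryGroup F (Cfsg.quadFormOdd m' F)) →* ↥(IsoG Q) :=
    ((conjGL E).comp (Cfsg.isometryGroup F (Cfsg.quadFormOdd m' F)).subtype).codRestrict
      (IsoG Q) hmem
  apply Subgroup.card_dvd_of_injective φ
  intro A B hAB
  apply Subtype.ext
  apply conjGL_injective E
  exact congrArg Subtype.val hAB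

/-- `r` divides the order of the isometry group of an odd-dimensional nondegenerate space of
dimension greater than `c` -/
theorem dvd_card_IsoG_odd {q : ℕ} (hF : Fintype.card F = q) (hqodd : Odd q) {r : ℕ}
    [Fact r.Prime] (hQ : (QuadraticMap.polarBilin Q).Nondegenerate) (m' : ℕ)
    (hdim : finrank F V = 2 * m' + 1) (hi : 0 < orderOf (q : ZMod r))
    (hc : cOf (orderOf (q : ZMod r)) ≤ 2 * m') : r ∣ Nat.card ↥(IsoG Q) := by
  refine dvd_trans ?_ (card_GO_dvd_card_IsoG Q hQ m' hdim)
  rw [Cfsg.Agent.S0286.result hF hqodd m']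
  have hq0 : 0 < q := by rw [← hF]; exact Fintype.card_pos
  obtain ⟨N, hN⟩ := cOf_even (orderOf (q : ZMod r))
  have hN0 : 0 < N := by
    have := cOf_pos hi
    omega
  have hdvd : orderOf (q : ZMod r) ∣ 2 * ((N - 1) + 1) := by
    have h1 : 2 * ((N - 1) + 1) = cOf (orderOf (q : ZMod r)) := by omega
    rw [h1]
    unfold cOf
    split_ifs
    · exact dvd_refl _
    · exact dvd_mul_left _ _
  apply Dvd.dvd.mul_left
  apply dvd_trans ((dvd_pow_sub_one_iff r q _ hq0).mpr hdvd)
  exact Finset.dvd_prod_of_mem (fun i => q ^ (2 * (i + 1)) - 1) (Finset.mem_range.mpr (by omega))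

end order

end Cfsg.Agent.Lib.H10.OrtNd
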