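import Mathlib
import Cfsg.Agent.Lib.H10.OrtNdQ

set_option autoImplicit false

/-!
# Necessity of the conditions for odd `r ≠ p` (helper10)
-/

namespace Cfsg.Agent.Lib.H10.OrtNd

open Module Polynomial
open Cfsg.Agent.Lib.H24.Elus
open Cfsg.Agent.Lib.H13

variable {F : Type*} [Field F] [Fintype F] {p q : ℕ} [Fact p.Prime] [CharP F p]
  {V : Type*} [AddCommGroup V] [Module F V] [Module.Finite F V]
  (Q : QuadraticForm F V)

omit [Fintype F] [Module.Finite F V] in
theorem NDon_top_of_nondeg (hQ : (QuadraticMap.polarBilin Q).Nondegenerate) :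
    NDon (PB Q) ⊤ := by
  intro u _ h
  apply hQ.1
  intro v
  exact h v Submodule.mem_top

omit [Fintype F] in
theorem map_eq_of_le_fix {y : End F V} {r : ℕ} (hr : 0 < r) (hy : y ^ r = 1) (W : Submodule F V)
    (hW : W ≤ LinearMap.ker (aeval y (X - 1 : F[X]))) :
    W.map ((equivOfPow y hr hy : V ≃ₗ[F] V) : V →ₗ[F] V) = W := by
  apply le_antisymm
  · rintro _ ⟨v, hv, rfl⟩
    rw [LinearEquiv.coe_coe, equivOfPow_apply, (mem_fix_iff v).mp (hW hv)]
    exact hv
  · intro v hv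
    refine ⟨v, hv, ?_⟩
    rw [LinearEquiv.coe_coe, equivOfPow_apply, (mem_fix_iff v).mp (hW hv)]

/-- necessity for odd `r ≠ p` -/
theorem nec_odd (hF : Fintype.card F = q) (hqodd : Odd q) {r : ℕ} [Fact r.Prime] (hrp : r ≠ p)
    (hr2 : r ≠ 2) (h2 : (2 : F) ≠ 0) (hQ : (QuadraticMap.polarBilin Q).Nondegenerate)
    (hnodd : Odd (finrank F V)) (N : ℕ) (hN0 : 0 < N) (hmn : 2 * N < finrank F V) (T : Prop)
    (hcount : r ∣ Nat.card ↥(TypeSet Q (2 * N) T))
    (hfix : ∀ y : End F V, (∀ v, Q (y v) = Q v) → y ^ r = 1 → y ≠ 1 →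
      ∃ W : Submodule F V, W ∈ TypeSet Q (2 * N) T ∧ ∀ v ∈ W, y v ∈ W) :
    cOf (orderOf (q : ZMod r)) ≤ 2 * N ∧
    (2 * N) % cOf (orderOf (q : ZMod r)) < finrank F V % cOf (orderOf (q : ZMod r)) ∧
    ((2 * N) % cOf (orderOf (q : ZMod r)) = 0 →
      (T ↔ (¬ Even (orderOf (q : ZMod r)) ∨ Even (2 * N / cOf (orderOf (q : ZMod r)))))) := by
  classical
  have hr : r.Prime := Fact.out
  have hr0 : (r : F) ≠ 0 := CycFactor.natCast_ne_zero hr hrp
  have hi0 : 0 < orderOf (q : ZMod r) := CycFactor.orderOf_pos hF hr hrp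
  have hV : NDon (PB Q) ⊤ := NDon_top_of_nondeg Q hQ
  have hfinE := finite_linearEquiv (F := F) (V := V)
  have hfinS := finite_submodule (F := F) (V := V)
  obtain ⟨c, hc⟩ : ∃ c, c = cOf (orderOf (q : ZMod r)) := ⟨_, rfl⟩
  rw [← hc]
  have hc0 : 0 < c := by rw [hc]; exact cOf_pos hi0
  have hceven : Even c := by rw [hc]; exact cOf_even _
  obtain ⟨n, hn⟩ : ∃ n, n = finrank F V := ⟨_, rfl⟩
  rw [← hn] at hmn hnodd ⊢
  -- nonemptiness and Cauchy
  have hne : (TypeSet Q (2 * N) T).Nonempty := by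
    obtain ⟨W, -, hW, hWdim, hWT⟩ := exists_nd_sub_type Q h2 hV N hN0
      (by rw [finrank_top, ← hn]; exact hmn) T
    exact ⟨W, hWdim, hW, hWT⟩
  have hrI : r ∣ Nat.card ↥(IsoG Q) := hcount.trans (card_typeSet_dvd Q h2 hQ T hne)
  obtain ⟨g, hg⟩ := exists_prime_orderOf_dvd_card' r hrI
  -- the test element
  obtain ⟨y, hyiso, hyr, hmin⟩ := exists_min_fix Q r
  have hnot := not_dvd_card_IsoG_fix Q hr0 hV hyiso hyr hmin
  have hisoB := polar_iso_of_iso Q hyiso
  obtain ⟨hC, hCy, hsplit, horth⟩ := top_split Q hr0 hV hyiso hyr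
  set C := LinearMap.ker (aeval y (X - 1 : F[X])) with hCdef
  set Cy := LinearMap.ker (aeval y (cyclotomic r F)) with hCydef
  obtain ⟨f, hf⟩ : ∃ f, f = finrank F C := ⟨_, rfl⟩
  obtain ⟨j₀, hj₀⟩ : c ∣ finrank F Cy := by
    have h := cdvd_cycS hF hrp hr2 (PB_symm Q) hisoB hyr ⊤ (fun _ _ => Submodule.mem_top) hV
    rw [top_inf_eq, ← hc] at h
    exact h
  rw [← hf, hj₀, ← hn] at hsplit
  -- `f < n`
  have hfn : f < n := by
    have hg1 : g ≠ 1 := by
      rintro rfl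
      rw [orderOf_one] at hg
      exact hr.one_lt.ne hg
    have hgr : g ^ r = 1 := by rw [← hg]; exact pow_orderOf_eq_one g
    have h1 : ((g : V ≃ₗ[F] V) : V →ₗ[F] V) ^ r = 1 := by
      have h5 : (g.1) ^ r = 1 := by
        rw [← Subgroup.coe_pow, hgr]
        rfl
      rw [← coe_pow_equiv, h5]
      rfl
    have h3 := hmin ((g : V ≃ₗ[F] V) : V →ₗ[F] V) (fun v => g.2 v) h1
    rw [← hf] at h3
    refine lt_of_le_of_lt h3 ?_
    rw [hn, ← finrank_top F V]
    apply Submodule.finrank_lt_finrank_of_lt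
    rw [lt_top_iff_ne_top]
    intro htop
    apply hg1
    apply Subtype.ext
    apply LinearEquiv.ext
    intro v
    have hv : v ∈ LinearMap.ker (aeval ((g : V ≃ₗ[F] V) : V →ₗ[F] V) (X - 1 : F[X])) := by
      rw [htop]
      exact Submodule.mem_top
    exact (mem_fix_iff v).mp hv
  have hy1 : y ≠ 1 := by
    rintro rfl
    have : C = ⊤ := by
      rw [hCdef, eq_top_iff]
      intro v _
      rw [mem_fix_iff]
      rfl
    rw [this, finrank_top, ← hn] at hf
    omega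
  obtain ⟨W₀, hW₀, hW₀inv⟩ := hfix y hyiso hyr hy1
  -- the structure of invariant members of `TypeSet`
  have hstruct : ∀ W : Submodule F V, W ∈ TypeSet Q (2 * N) T → (∀ v ∈ W, y v ∈ W) →
      ∃ j : ℕ, finrank F ↥(W ⊓ Cy) = c * j ∧ finrank F ↥(W ⊓ C) + c * j = 2 * N := by
    intro W hW hWinv
    obtain ⟨j, hj⟩ := cdvd_cycS hF hrp hr2 (PB_symm Q) hisoB hyr W hWinv hW.2.1
    rw [← hc] at hj
    have h := finrank_split_fix hr0 hyr W hWinv
    rw [hW.1] at h
    exact ⟨j, hj, by rw [← hj]; exact h⟩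
  have hle_fix : ∀ W : Submodule F V, (∀ v ∈ W, y v ∈ W) → finrank F ↥(W ⊓ Cy) = 0 → W ≤ C := by
    intro W hWinv h0
    have h1 : W ⊓ Cy = ⊥ := Submodule.finrank_eq_zero.mp h0
    have h3 := split_fix hr0 hyr W hWinv
    rw [h1, sup_bot_eq] at h3
    exact h3.trans inf_le_right
  -- `f < c`
  have hfc : f < c := by
    by_contra hcon
    push Not at hcon
    obtain ⟨a, ha⟩ := hceven
    obtain ⟨m', hm'⟩ : ∃ m', f = 2 * m' + 1 := by
      obtain ⟨t, ht⟩ := hnodd
      refine ⟨t - a * j₀, ?_⟩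
      rw [ha] at hsplit
      have : a * j₀ ≤ t := by
        by_contra hlt
        push Not at hlt
        nlinarith
      have h5 : 2 * (t - a * j₀) = 2 * t - 2 * (a * j₀) := Nat.mul_sub 2 t (a * j₀)
      have h6 : (a + a) * j₀ = 2 * (a * j₀) := by ring
      omega
    apply hnot
    exact dvd_card_IsoG_odd (Q.comp C.subtype) hF hqodd (nondeg_comp_subtype Q hC) m'
      (by rw [← hm', hf]) hi0 (by rw [← hc]; omega)
  refine ⟨?_, ?_, ?_⟩
  · -- `c ≤ 2 * N`
    by_contra hcon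
    push Not at hcon
    have hbelow : ∀ W : Submodule F V, W ∈ TypeSet Q (2 * N) T → (∀ v ∈ W, y v ∈ W) → W ≤ C := by
      intro W hW hWinv
      obtain ⟨j, hj, hj'⟩ := hstruct W hW hWinv
      apply hle_fix W hWinv
      rw [hj]
      have : j = 0 := by
        by_contra hj0
        have : c ≤ c * j := Nat.le_mul_of_pos_right c (Nat.pos_of_ne_zero hj0)
        omega
      rw [this, mul_zero]
    let g₀ : ↥(IsoG Q) := ⟨equivOfPow y hr.pos hyr, fun v => by
      rw [equivOfPow_apply]; exact hyiso v⟩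
    have hg₀ : g₀ ^ r = 1 := by
      apply Subtype.ext
      rw [Subgroup.coe_pow]
      exact equivOfPow_pow y hr.pos hyr
    have hmod := card_typeSet_modEq Q (2 * N) T g₀ hg₀
    have hcard : Nat.card {W : Submodule F V // W ∈ TypeSet Q (2 * N) T ∧
        W.map ((g₀ : V ≃ₗ[F] V) : V →ₗ[F] V) = W} =
        Nat.card {W : Submodule F V // W ∈ TypeSet Q (2 * N) T ∧ W ≤ C} := by
      apply Nat.card_congr
      refine
        { toFun := fun W => ⟨W.1, W.2.1, ?_⟩
          invFun := fun W => ⟨W.1, W.2.1, map_eq_of_le_fix hr.pos hyr W.1 W.2.2⟩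
          left_inv := fun W => rfl
          right_inv := fun W => rfl }
      apply hbelow W.1 W.2.1
      intro v hv
      have h1 : (g₀ : V ≃ₗ[F] V) v ∈ W.1.map ((g₀ : V ≃ₗ[F] V) : V →ₗ[F] V) := ⟨v, hv, rfl⟩
      rw [W.2.2] at h1
      have h3 : (g₀ : V ≃ₗ[F] V) v = y v := equivOfPow_apply y hr.pos hyr v
      rwa [h3] at h1
    rw [hcard, card_typeSet_below Q C (2 * N) T] at hmod
    have hdvd : r ∣ Nat.card ↥(TypeSet (Q.comp C.subtype) (2 * N) T) :=
      (Nat.modEq_zero_iff_dvd.mp (hmod.symm.trans (Nat.modEq_zero_iff_dvd.mpr hcount)))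
    have hne' : (TypeSet (Q.comp C.subtype) (2 * N) T).Nonempty := by
      have hpos : 0 < Nat.card {W : Submodule F V // W ∈ TypeSet Q (2 * N) T ∧ W ≤ C} := by
        rw [Nat.card_pos_iff]
        exact ⟨⟨⟨W₀, hW₀, hbelow W₀ hW₀ hW₀inv⟩⟩, inferInstance⟩
      rw [card_typeSet_below Q C (2 * N) T, Nat.card_pos_iff] at hpos
      obtain ⟨⟨W'⟩, -⟩ := hpos
      exact ⟨W'.1, W'.2⟩
    apply hnot
    exact hdvd.trans (card_typeSet_dvd (Q.comp C.subtype) h2 (nondeg_comp_subtype Q hC) T hne')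
  · -- `m % c < n % c`
    obtain ⟨j, hj, hj'⟩ := hstruct W₀ hW₀ hW₀inv
    have he₁ : finrank F ↥(W₀ ⊓ C) ≤ f := by
      rw [hf]
      exact Submodule.finrank_mono inf_le_right
    have h1 : (2 * N) % c = finrank F ↥(W₀ ⊓ C) := by
      rw [← hj', Nat.add_mul_mod_self_left]
      exact Nat.mod_eq_of_lt (by omega)
    have h3 : n % c = f := by
      rw [← hsplit, Nat.add_mul_mod_self_left]
      exact Nat.mod_eq_of_lt hfc
    rw [h1, h3]
    -- parity
    obtain ⟨a, ha⟩ := hceven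
    obtain ⟨t, ht⟩ := hnodd
    rcases Nat.lt_or_ge (finrank F ↥(W₀ ⊓ C)) f with h | h
    · exact h
    · exfalso
      have h5 : finrank F ↥(W₀ ⊓ C) = f := le_antisymm he₁ h
      rw [h5, ha] at hj'
      rw [ha] at hsplit
      have h6 : (a + a) * j = 2 * (a * j) := by ring
      have h7 : (a + a) * j₀ = 2 * (a * j₀) := by ring
      omega
  · -- the type
    intro hmod
    obtain ⟨j, hj, hj'⟩ := hstruct W₀ hW₀ hW₀inv
    have h1 : (2 * N) % c = finrank F ↥(W₀ ⊓ C) := by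
      have he₁ : finrank F ↥(W₀ ⊓ C) ≤ f := by
        rw [hf]
        exact Submodule.finrank_mono inf_le_right
      rw [← hj', Nat.add_mul_mod_self_left]
      exact Nat.mod_eq_of_lt (by omega)
    rw [hmod] at h1
    have h3 : W₀ ⊓ C = ⊥ := Submodule.finrank_eq_zero.mp h1.symm
    have h4 : W₀ ≤ Cy := by
      have := split_fix hr0 hyr W₀ hW₀inv
      rw [h3, bot_sup_eq] at this
      exact this.trans inf_le_right
    have hjdiv : 2 * N / c = j := by
      rw [← hj', ← h1, zero_add]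
      exact Nat.mul_div_cancel_left j hc0
    have h5 := type_cyc Q hF hrp hr2 h2 hyiso hyr j W₀ hW₀inv hW₀.2.1 h4
      (by rw [hW₀.1, ← hj', ← h1, zero_add, hc, mul_comm])
    rw [hjdiv, ← h5]
    exact hW₀.2.2.symm

end Cfsg.Agent.Lib.H10.OrtNd
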