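import Mathlib
import Cfsg.Agent.Lib.H10.OrtNdR
import Cfsg.Agent.Lib.H11.OrthReal2

set_option autoImplicit false

/-!
# The bridge to the standard odd-dimensional orthogonal group (helper10)
-/

namespace Cfsg.Agent.Lib.H10.OrtNd

open Module Polynomial Matrix
open Cfsg.Agent.Lib.H24.Elus
open Cfsg.Agent.Lib.H13
open Cfsg.Agent.S0286 (oddQF oddQF_apply coe_oddQF)

section defs

variable {F : Type*} [Field F]

theorem geo_nd_iff (d : ℕ) (W : Submodule F (Unit ⊕ (Fin d ⊕ Fin d) → F)) :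
    Cfsg.Geo.IsNondegenerateOn (QuadraticMap.polar (Cfsg.quadFormOdd d F)) W ↔
      NDon (PB (oddQF F d)) W := by
  have hpb : ∀ u v, PB (oddQF F d) u v = QuadraticMap.polar (Cfsg.quadFormOdd d F) u v := by
    intro u v
    rw [PB_apply, coe_oddQF]
  constructor
  · intro h u hu hu'
    by_contra hne
    obtain ⟨-, x, hx, hx'⟩ := h u hu hne
    apply hx'
    rw [← hpb]
    exact hu' x hx
  · intro h w hw hne
    have : ∃ x ∈ W, PB (oddQF F d) w x ≠ 0 := by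
      by_contra hcon
      push Not at hcon
      exact hne (h w hw hcon)
    obtain ⟨x, hx, hx'⟩ := this
    refine ⟨⟨x, hx, ?_⟩, ⟨x, hx, ?_⟩⟩
    · rw [← hpb, PB_symm]
      exact hx'
    · rw [← hpb]
      exact hx'

theorem geo_plus_iff (d : ℕ) (W : Submodule F (Unit ⊕ (Fin d ⊕ Fin d) → F)) :
    Cfsg.Geo.IsPlusTypeOn (Cfsg.quadFormOdd d F) W ↔ PlusOn (oddQF F d) W := by
  constructor
  · rintro ⟨U, hUW, hU, hdim⟩
    exact ⟨U, hUW, fun w hw => by rw [oddQF_apply]; exact hU w hw, hdim⟩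
  · rintro ⟨U, hUW, hU, hdim⟩
    exact ⟨U, hUW, fun w hw => by rw [← oddQF_apply]; exact hU w hw, hdim⟩

theorem finrank_OV (d : ℕ) : finrank F (Unit ⊕ (Fin d ⊕ Fin d) → F) = 2 * d + 1 := by
  rw [Module.finrank_fintype_fun_eq_card, Fintype.card_sum, Fintype.card_sum, Fintype.card_fin,
    Fintype.card_unit]
  ring

theorem cOf_eq (i : ℕ) : cOf i = if Even i then i else 2 * i := rfl

theorem mod_pos_of_odd_even {n c : ℕ} (hn : Odd n) (hc : Even c) : 0 < n % c := by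
  rw [Nat.pos_iff_ne_zero]
  intro h
  have h1 : c ∣ n := Nat.dvd_of_mod_eq_zero h
  obtain ⟨a, ha⟩ := hc
  have h2 : 2 ∣ n := dvd_trans ⟨a, by rw [ha]; ring⟩ h1
  rw [Nat.odd_iff] at hn
  omega

end defs

section core

variable {F : Type*} [Field F] [Fintype F] {p q : ℕ} [Fact p.Prime] [CharP F p]

/-- from a matrix isometry to an endomorphism -/
theorem toLin'_pow_eq_one' {ι : Type} [Fintype ι] [DecidableEq ι] (x : GL ι F) {r : ℕ}
    (hx : x ^ r = 1) : (Matrix.toLin' (x : Matrix ι ι F)) ^ r = 1 := by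
  rw [← Matrix.toLin'_pow, ← Units.val_pow_eq_pow_val, hx, Units.val_one, Matrix.toLin'_one]
  rfl

theorem mem_isometryGroup_of_mem_omegaGL {ι : Type} [Fintype ι] [DecidableEq ι]
    (Q : (ι → F) → F) (x : GL ι F) (hx : x ∈ Cfsg.Geo.omegaGL Q) :
    ∀ v, Q ((x : Matrix ι ι F) *ᵥ v) = Q v := by
  obtain ⟨x', -, rfl⟩ := hx
  intro v
  exact x'.2 v v

/-- the linear isometries of order `r` come from `Ω` -/
theorem exists_GL_of_end (h2 : (2 : F) ≠ 0) (d : ℕ) (hd : 1 ≤ d) {r : ℕ} [Fact r.Prime]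
    (hr2 : r ≠ 2) (y : End F (Unit ⊕ (Fin d ⊕ Fin d) → F))
    (hiso : ∀ v, oddQF F d (y v) = oddQF F d v) (hy : y ^ r = 1) (hy1 : y ≠ 1) :
    ∃ x : GL (Unit ⊕ (Fin d ⊕ Fin d)) F, x ∈ Cfsg.Geo.omegaGL (Cfsg.quadFormOdd d F) ∧
      orderOf x = r ∧ Matrix.toLin' (x : Matrix _ _ F) = y := by
  have hr : r.Prime := Fact.out
  set M := LinearMap.toMatrix' y with hM
  have hMr : M ^ r = 1 := by
    have h0 : M = LinearMap.toMatrixAlgEquiv' y := rfl
    rw [h0, ← map_pow, hy, map_one]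
  have h1 : M * M ^ (r - 1) = 1 := by
    rw [← pow_succ', Nat.sub_add_cancel hr.pos, hMr]
  have h3 : M ^ (r - 1) * M = 1 := by
    rw [← pow_succ, Nat.sub_add_cancel hr.pos, hMr]
  let x : GL (Unit ⊕ (Fin d ⊕ Fin d)) F := ⟨M, M ^ (r - 1), h1, h3⟩
  have hxy : Matrix.toLin' (x : Matrix _ _ F) = y := Matrix.toLin'_toMatrix' y
  have hxr : x ^ r = 1 := by
    apply Units.ext
    rw [Units.val_pow_eq_pow_val]
    exact hMr
  have hx1 : x ≠ 1 := by
    intro h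
    apply hy1
    rw [← hxy, h]
    exact Matrix.toLin'_one
  have hxiso : x ∈ Cfsg.isometryGroup F ⇑(oddQF F d) := by
    intro u v
    show oddQF F d ((x : Matrix _ _ F) *ᵥ u) = oddQF F d u
    rw [← Matrix.toLin'_apply, hxy, hiso]
  refine ⟨x, ?_, orderOf_eq_prime hxr hx1, hxy⟩
  have := Cfsg.Agent.Lib.H11.OrthReal.mem_omegaGL_of_odd_order (oddQF F d)
    (Cfsg.Agent.S0286.nondeg h2 d) h2 (by
      rw [Fintype.card_sum, Fintype.card_sum, Fintype.card_fin, Fintype.card_unit]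
      omega) x hxiso r (hr.odd_of_ne_two hr2) hxr
  rwa [coe_oddQF] at this

/-- the core equivalence for `r ≠ p`, for both types -/
theorem core_iff (hF : Fintype.card F = q) (hqodd : Odd q) (d m : ℕ) (hd : 1 ≤ d)
    (hm : 2 ≤ m) (hme : Even m) (hmn : m ≤ 2 * d) {r : ℕ} [Fact r.Prime] (hrp : r ≠ p) (T : Prop)
    (hcount : r ∣ Nat.card ↥(TypeSet (oddQF F d) m T)) :
    (∀ x : GL (Unit ⊕ (Fin d ⊕ Fin d)) F, x ∈ Cfsg.Geo.omegaGL (Cfsg.quadFormOdd d F) →
      orderOf x = r → ∃ W : Submodule F (Unit ⊕ (Fin d ⊕ Fin d) → F),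
        W ∈ TypeSet (oddQF F d) m T ∧
        W.map (Matrix.toLin' (x : Matrix (Unit ⊕ (Fin d ⊕ Fin d)) (Unit ⊕ (Fin d ⊕ Fin d)) F)) ≤
          W) ↔
    (r = 2 ∨ (r ≠ 2 ∧ cOf (orderOf (q : ZMod r)) ≤ m ∧
      m % cOf (orderOf (q : ZMod r)) < (2 * d + 1) % cOf (orderOf (q : ZMod r)) ∧
      (m % cOf (orderOf (q : ZMod r)) = 0 →
        (T ↔ (¬ Even (orderOf (q : ZMod r)) ∨ Even (m / cOf (orderOf (q : ZMod r)))))))) := by
  have hr : r.Prime := Fact.out
  have h2 : (2 : F) ≠ 0 := by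
    subst hF
    exact Cfsg.Agent.S0286.two_ne_zero_of_odd hqodd
  have hQ := Cfsg.Agent.S0286.nondeg h2 d (F := F)
  have hV : NDon (PB (oddQF F d)) ⊤ := NDon_top_of_nondeg _ hQ
  have hn := finrank_OV (F := F) d
  obtain ⟨N, hN⟩ := hme
  have hN2 : m = 2 * N := by rw [hN]; ring
  constructor
  · intro hfix
    by_cases hr2 : r = 2
    · exact Or.inl hr2
    · right
      refine ⟨hr2, ?_⟩
      have := nec_odd (oddQF F d) hF hqodd hrp hr2 h2 hQ (by rw [hn]; exact odd_two_mul_add_one d)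
        N (by omega) (by rw [hn]; omega) T (by rw [← hN2]; exact hcount)
        (by
          intro y hyiso hyr hy1
          obtain ⟨x, hxΩ, hxr, hxy⟩ := exists_GL_of_end h2 d hd hr2 y hyiso hyr hy1
          obtain ⟨W, hW, hWinv⟩ := hfix x hxΩ hxr
          refine ⟨W, by rw [← hN2]; exact hW, ?_⟩
          intro v hv
          apply hWinv
          rw [hxy]
          exact ⟨v, hv, rfl⟩)
      rw [← hN2, hn] at this
      exact this
  · intro hrhs x hxΩ hxr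
    have hxiso := mem_isometryGroup_of_mem_omegaGL _ x hxΩ
    have hxr' : x ^ r = 1 := by rw [← hxr]; exact pow_orderOf_eq_one x
    have hyr := toLin'_pow_eq_one' x hxr'
    have hyiso : ∀ v, oddQF F d (Matrix.toLin' (x : Matrix _ _ F) v) = oddQF F d v := by
      intro v
      rw [Matrix.toLin'_apply, oddQF_apply, oddQF_apply]
      exact hxiso v
    have hconv : ∀ W : Submodule F (Unit ⊕ (Fin d ⊕ Fin d) → F),
        (∀ v ∈ W, Matrix.toLin' (x : Matrix _ _ F) v ∈ W) →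
        W.map (Matrix.toLin' (x : Matrix _ _ F)) ≤ W := by
      rintro W h _ ⟨v, hv, rfl⟩
      exact h v hv
    rcases hrhs with hr2 | ⟨hr2, -, hlk, htype⟩
    · subst hr2
      obtain ⟨W, hWdim, hWnd, hWT, hWinv⟩ := exists_inv_sub_two (oddQF F d) h2 hV hyiso hyr m hm
        ⟨N, hN⟩ (by rw [hn]; omega) T
      exact ⟨W, ⟨hWdim, hWnd, hWT⟩, hconv W hWinv⟩
    · obtain ⟨W, hWdim, hWnd, hWT, hWinv⟩ := exists_inv_sub_odd (oddQF F d) hF hrp hr2 h2 hV hyiso
        hyr m ⟨N, hN⟩ (by rw [hn]; omega) T (by rw [hn]; exact hlk) htype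
      exact ⟨W, ⟨hWdim, hWnd, hWT⟩, hconv W hWinv⟩

end core

end Cfsg.Agent.Lib.H10.OrtNd
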