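import Mathlib
import Cfsg.Agent.Lib.H10.OrtNdS

set_option autoImplicit false

/-!
# Final reformulations for the statements on nondegenerate subspaces of `Ω_{2d+1}(q)` (helper10)
-/

namespace Cfsg.Agent.Lib.H10.OrtNd

open Module Polynomial Matrix
open Cfsg.Agent.Lib.H24.Elus
open Cfsg.Agent.S0286 (oddQF oddQF_apply coe_oddQF)

section sets

variable {F : Type*} [Field F]

theorem mem_typeSet_true_iff (d m : ℕ) (W : Submodule F (Unit ⊕ (Fin d ⊕ Fin d) → F)) :
    W ∈ TypeSet (oddQF F d) m True ↔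
      (Module.finrank F ↥W = m ∧
        Cfsg.Geo.IsNondegenerateOn (QuadraticMap.polar (Cfsg.quadFormOdd d F)) W ∧
        Cfsg.Geo.IsPlusTypeOn (Cfsg.quadFormOdd d F) W) := by
  show (finrank F W = m ∧ NDon (PB (oddQF F d)) W ∧ (PlusOn (oddQF F d) W ↔ True)) ↔ _
  rw [geo_nd_iff, geo_plus_iff, iff_true]

theorem mem_typeSet_false_iff (d m : ℕ) (W : Submodule F (Unit ⊕ (Fin d ⊕ Fin d) → F)) :
    W ∈ TypeSet (oddQF F d) m False ↔
      (Module.finrank F ↥W = m ∧
        Cfsg.Geo.IsNondegenerateOn (QuadraticMap.polar (Cfsg.quadFormOdd d F)) W ∧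
        ¬ Cfsg.Geo.IsPlusTypeOn (Cfsg.quadFormOdd d F) W) := by
  show (finrank F W = m ∧ NDon (PB (oddQF F d)) W ∧ (PlusOn (oddQF F d) W ↔ False)) ↔ _
  rw [geo_nd_iff, geo_plus_iff, iff_false]

theorem card_typeSet_true (d m : ℕ) :
    Nat.card ↥(TypeSet (oddQF F d) m True) =
      Nat.card {W : Submodule F (Unit ⊕ (Fin d ⊕ Fin d) → F) // Module.finrank F ↥W = m ∧
        Cfsg.Geo.IsNondegenerateOn (QuadraticMap.polar (Cfsg.quadFormOdd d F)) W ∧
        Cfsg.Geo.IsPlusTypeOn (Cfsg.quadFormOdd d F) W} :=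
  Nat.card_congr (Equiv.subtypeEquivRight (mem_typeSet_true_iff d m))

theorem card_typeSet_false (d m : ℕ) :
    Nat.card ↥(TypeSet (oddQF F d) m False) =
      Nat.card {W : Submodule F (Unit ⊕ (Fin d ⊕ Fin d) → F) // Module.finrank F ↥W = m ∧
        Cfsg.Geo.IsNondegenerateOn (QuadraticMap.polar (Cfsg.quadFormOdd d F)) W ∧
        ¬ Cfsg.Geo.IsPlusTypeOn (Cfsg.quadFormOdd d F) W} :=
  Nat.card_congr (Equiv.subtypeEquivRight (mem_typeSet_false_iff d m))

end sets

section arith

theorem rhs_plus_iff (r m n i c : ℕ) (hr : 2 ≤ r) (hc : c = if Even i then i else 2 * i)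
    (hk : 0 < n % c) :
    (r = 2 ∨ (r ≠ 2 ∧ c ≤ m ∧ m % c < n % c ∧
      (m % c = 0 → (True ↔ (¬ Even i ∨ Even (m / c)))))) ↔
    (r = 2 ∨
     (2 < r ∧ Odd i ∧ c ≤ m ∧ (m % c = 0 ∨ (0 < m % c ∧ m % c < n % c))) ∨
     (2 < r ∧ Even i ∧ i ≤ m ∧ m % c < n % c ∧ (0 < m % c ∨ Even (m / i)))) := by
  by_cases hi : Even i
  · rw [if_pos hi] at hc
    subst hc
    have hodd : ¬ Odd c := Nat.not_odd_iff_even.mpr hi
    constructor
    · rintro (h | ⟨h1, h3, h4, h5⟩)
      · exact Or.inl h
      · right; right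
        refine ⟨by omega, hi, h3, h4, ?_⟩
        rcases Nat.eq_zero_or_pos (m % c) with h0 | h0
        · right
          rcases (h5 h0).mp trivial with h6 | h6
          · exact absurd hi h6
          · exact h6
        · exact Or.inl h0
    · rintro (h | ⟨-, h1, -⟩ | ⟨h1, -, h3, h4, h5⟩)
      · exact Or.inl h
      · exact absurd h1 hodd
      · right
        refine ⟨by omega, h3, h4, fun h0 => ?_⟩
        rw [true_iff]
        right
        rcases h5 with h5 | h5
        · omega
        · exact h5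
  · rw [if_neg hi] at hc
    have hodd : Odd i := Nat.not_even_iff_odd.mp hi
    constructor
    · rintro (h | ⟨h1, h3, h4, h5⟩)
      · exact Or.inl h
      · right; left
        refine ⟨by omega, hodd, h3, ?_⟩
        rcases Nat.eq_zero_or_pos (m % c) with h0 | h0
        · exact Or.inl h0
        · exact Or.inr ⟨h0, h4⟩
    · rintro (h | ⟨h1, -, h3, h4⟩ | ⟨-, h1, -⟩)
      · exact Or.inl h
      · right
        refine ⟨by omega, h3, ?_, fun _ => ?_⟩
        · rcases h4 with h4 | h4
          · rw [h4]; exact hk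
          · exact h4.2
        · rw [true_iff]
          exact Or.inl hi
      · exact absurd h1 hi

theorem rhs_minus_iff (r m n i c : ℕ) (hr : 2 ≤ r) (hc : c = if Even i then i else 2 * i) :
    (r = 2 ∨ (r ≠ 2 ∧ c ≤ m ∧ m % c < n % c ∧
      (m % c = 0 → (False ↔ (¬ Even i ∨ Even (m / c)))))) ↔
    (r = 2 ∨
     (2 < r ∧ Odd i ∧ c ≤ m ∧ 0 < m % c ∧ m % c < n % c) ∨
     (2 < r ∧ Even i ∧ i ≤ m ∧ m % c < n % c ∧ (0 < m % c ∨ Odd (m / i)))) := by
  by_cases hi : Even i
  · rw [if_pos hi] at hc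
    subst hc
    have hodd : ¬ Odd c := Nat.not_odd_iff_even.mpr hi
    constructor
    · rintro (h | ⟨h1, h3, h4, h5⟩)
      · exact Or.inl h
      · right; right
        refine ⟨by omega, hi, h3, h4, ?_⟩
        rcases Nat.eq_zero_or_pos (m % c) with h0 | h0
        · right
          have h6 := (h5 h0)
          rw [false_iff, not_or] at h6
          exact Nat.not_even_iff_odd.mp h6.2
        · exact Or.inl h0
    · rintro (h | ⟨-, h1, -⟩ | ⟨h1, -, h3, h4, h5⟩)
      · exact Or.inl h
      · exact absurd h1 hodd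
      · right
        refine ⟨by omega, h3, h4, fun h0 => ?_⟩
        rw [false_iff, not_or]
        refine ⟨not_not.mpr hi, ?_⟩
        rcases h5 with h5 | h5
        · omega
        · exact Nat.not_even_iff_odd.mpr h5
  · rw [if_neg hi] at hc
    have hodd : Odd i := Nat.not_even_iff_odd.mp hi
    constructor
    · rintro (h | ⟨h1, h3, h4, h5⟩)
      · exact Or.inl h
      · right; left
        refine ⟨by omega, hodd, h3, ?_, h4⟩
        rcases Nat.eq_zero_or_pos (m % c) with h0 | h0
        · have h6 := (h5 h0)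
          rw [false_iff, not_or] at h6
          exact absurd hi h6.1
        · exact h0
    · rintro (h | ⟨h1, -, h3, h4, h5⟩ | ⟨-, h1, -⟩)
      · exact Or.inl h
      · right
        refine ⟨by omega, h3, h5, fun h0 => ?_⟩
        omega
      · exact absurd h1 hi

end arith

end Cfsg.Agent.Lib.H10.OrtNd
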