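import Mathlib
import Cfsg.Agent.Lib.H10.OrtNdM

set_option autoImplicit false

/-!
# Unipotent isometries with exactly one Jordan block of odd size (helper10)

Every nondegenerate invariant subspace of even dimension is of plus type.
-/

namespace Cfsg.Agent.Lib.H10.OrtNd

open Module
open Cfsg.Agent.Lib.H24.Elus

section linalg

variable {F : Type*} [Field F] {V : Type*} [AddCommGroup V] [Module F V] [FiniteDimensional F V]

/-- rank-nullity on a subspace -/
theorem finrank_map_add_inf_ker (f : End F V) (A : Submodule F V) :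
    finrank F ↥(A.map f) + finrank F ↥(A ⊓ LinearMap.ker f) = finrank F A := by
  have h := LinearMap.finrank_range_add_finrank_ker (f.domRestrict A)
  rw [LinearMap.range_domRestrict, LinearMap.ker_domRestrict] at h
  have h1 : finrank F ↥((LinearMap.ker f).comap A.subtype) = finrank F ↥(A ⊓ LinearMap.ker f) := by
    have h3 : (LinearMap.ker f).comap A.subtype = (A ⊓ LinearMap.ker f).comap A.subtype := by
      ext x
      simp only [Submodule.mem_comap, Submodule.subtype_apply, Submodule.mem_inf, x.2, true_and]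
    rw [h3]
    exact (Submodule.comapSubtypeEquivOfLe (inf_le_left : A ⊓ LinearMap.ker f ≤ A)).finrank_eq
  rw [h1] at h
  exact h

/-- the kernel splits along an invariant decomposition -/
theorem finrank_ker_split (f : End F V) (W W' : Submodule F V) (hc : IsCompl W W')
    (hW : ∀ v ∈ W, f v ∈ W) (hW' : ∀ v ∈ W', f v ∈ W') :
    finrank F ↥(LinearMap.ker f) =
      finrank F ↥(W ⊓ LinearMap.ker f) + finrank F ↥(W' ⊓ LinearMap.ker f) := by
  have h := Submodule.finrank_sup_add_finrank_inf_eq (W ⊓ LinearMap.ker f) (W' ⊓ LinearMap.ker f)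
  have h1 : (W ⊓ LinearMap.ker f) ⊓ (W' ⊓ LinearMap.ker f) = ⊥ := by
    rw [eq_bot_iff, ← hc.inf_eq_bot]
    exact inf_le_inf inf_le_left inf_le_left
  have h3 : (W ⊓ LinearMap.ker f) ⊔ (W' ⊓ LinearMap.ker f) = LinearMap.ker f := by
    apply le_antisymm (sup_le inf_le_right inf_le_right)
    intro v hv
    have hv' : v ∈ W ⊔ W' := by rw [hc.sup_eq_top]; trivial
    obtain ⟨w, hw, w', hw', rfl⟩ := Submodule.mem_sup.mp hv'
    rw [LinearMap.mem_ker, map_add] at hv
    have h5 : f w = - f w' := eq_neg_of_add_eq_zero_left hv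
    have h6 : f w ∈ W ⊓ W' := by
      refine Submodule.mem_inf.mpr ⟨hW w hw, ?_⟩
      rw [h5]
      exact Submodule.neg_mem _ (hW' w' hw')
    rw [hc.inf_eq_bot, Submodule.mem_bot] at h6
    have h7 : f w' = 0 := by
      rw [h6] at h5
      exact neg_eq_zero.mp h5.symm
    exact Submodule.add_mem _ (Submodule.mem_sup_left (Submodule.mem_inf.mpr ⟨hw, h6⟩))
      (Submodule.mem_sup_right (Submodule.mem_inf.mpr ⟨hw', h7⟩))
  rw [h1, h3, finrank_bot, add_zero] at h
  exact h

/-- `dim ker N² ≤ 2 dim ker N` on invariant subspaces -/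
theorem finrank_ker_sq_le (N : End F V) (U : Submodule F V) (hU : ∀ v ∈ U, N v ∈ U) :
    finrank F ↥(U ⊓ LinearMap.ker (N * N)) ≤ 2 * finrank F ↥(U ⊓ LinearMap.ker N) := by
  have h := finrank_map_add_inf_ker N (U ⊓ LinearMap.ker (N * N))
  have h1 : (U ⊓ LinearMap.ker (N * N)).map N ≤ U ⊓ LinearMap.ker N := by
    rintro _ ⟨a, ha, rfl⟩
    obtain ⟨ha1, ha2⟩ := Submodule.mem_inf.mp ha
    exact Submodule.mem_inf.mpr ⟨hU a ha1, ha2⟩
  have h3 : U ⊓ LinearMap.ker (N * N) ⊓ LinearMap.ker N = U ⊓ LinearMap.ker N := by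
    rw [inf_assoc]
    congr 1
    apply inf_eq_right.mpr
    intro v hv
    rw [LinearMap.mem_ker] at hv ⊢
    rw [Module.End.mul_apply, hv, map_zero]
  rw [h3] at h
  have := Submodule.finrank_mono h1
  omega

end linalg

section main

variable {F : Type*} [Field F] [Fintype F] {V : Type*} [AddCommGroup V] [Module F V]
  [Module.Finite F V] (Q : QuadraticForm F V) {y : End F V}

/-- the image of `y - 1` on vectors killed by `(y - 1)²` is singular -/
theorem Q_sub_one_eq_zero (h2 : (2 : F) ≠ 0) (hiso : ∀ v, Q (y v) = Q v) (w : V)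
    (hw : (y - 1) ((y - 1) w) = 0) : Q ((y - 1) w) = 0 := by
  have hisoB := polar_iso_of_iso Q hiso
  have h1 : y (y w) = (2 : F) • y w - w := by
    simp only [LinearMap.sub_apply, Module.End.one_apply, map_sub] at hw
    rw [two_smul]
    have : y (y w) - y w - (y w - w) + (y w + y w - w) = 0 + (y w + y w - w) := by rw [hw]
    rw [zero_add] at this
    rw [← this]
    abel
  -- `B(y w, w) = B(w, w)`
  have h3 : PB Q (y w) w = PB Q w w := by
    have h4 : PB Q (y (y w)) (y w) = PB Q (y w) w := hisoB (y w) w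
    rw [h1, map_sub, LinearMap.sub_apply, map_smul, LinearMap.smul_apply, hisoB,
      PB_symm Q w (y w)] at h4
    have h5 : (2 : F) * PB Q (y w) w = 2 * PB Q w w := by
      rw [smul_eq_mul] at h4
      linear_combination (-1 : F) * h4
    exact mul_left_cancel₀ h2 h5
  have h6 : PB Q ((y - 1) w) ((y - 1) w) = 0 := by
    simp only [LinearMap.sub_apply, Module.End.one_apply, map_sub, hisoB]
    rw [PB_symm Q w (y w), h3]
    ring
  rw [PB_self] at h6
  rcases mul_eq_zero.mp h6 with h | h
  · exact absurd h h2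
  · exact h

/-- a unipotent isometry with exactly one Jordan block of odd size: every nondegenerate invariant
subspace of even dimension is of plus type -/
theorem plus_of_one_odd_block (h2 : (2 : F) ≠ 0) (hiso : ∀ v, Q (y v) = Q v)
    {r : ℕ} (hr : 0 < r) (hy : y ^ r = 1)
    (hdef : finrank F V + 2 * finrank F ↥(LinearMap.ker (y - 1)) =
      2 * finrank F ↥(LinearMap.ker ((y - 1) * (y - 1))) + 1)
    (W : Submodule F V) (hWinv : ∀ v ∈ W, y v ∈ W) (hWnd : NDon (PB Q) W)
    (hWeven : Even (finrank F W)) : PlusOn Q W := by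
  have hisoB := polar_iso_of_iso Q hiso
  set N : End F V := y - 1 with hN
  set W' := (PB Q).orthogonal W with hW'
  have hW'inv : ∀ v ∈ W', y v ∈ W' := orth_invariant hisoB hr hy W hWinv
  have hNW : ∀ v ∈ W, N v ∈ W := fun v hv => Submodule.sub_mem _ (hWinv v hv) hv
  have hNW' : ∀ v ∈ W', N v ∈ W' := fun v hv => Submodule.sub_mem _ (hW'inv v hv) hv
  have hNNW : ∀ v ∈ W, (N * N) v ∈ W := fun v hv => hNW _ (hNW v hv)
  have hNNW' : ∀ v ∈ W', (N * N) v ∈ W' := fun v hv => hNW' _ (hNW' v hv)
  have hc : IsCompl W W' := isCompl_orth Q hWnd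
  have hdimsum : finrank F W + finrank F W' = finrank F V := by
    have h := Submodule.finrank_sup_add_finrank_inf_eq W W'
    rw [hc.sup_eq_top, hc.inf_eq_bot, finrank_top, finrank_bot, add_zero] at h
    exact h.symm
  have hs1 := finrank_ker_split N W W' hc hNW hNW'
  have hs2 := finrank_ker_split (N * N) W W' hc hNNW hNNW'
  have hl1 := finrank_ker_sq_le N W hNW
  have hl2 := finrank_ker_sq_le N W' hNW'
  have hm1 : finrank F ↥(W ⊓ LinearMap.ker (N * N)) ≤ finrank F W :=
    Submodule.finrank_mono inf_le_left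
  have hm2 : finrank F ↥(W' ⊓ LinearMap.ker (N * N)) ≤ finrank F W' :=
    Submodule.finrank_mono inf_le_left
  obtain ⟨a, ha⟩ := hWeven
  have hA2 : finrank F ↥(W ⊓ LinearMap.ker (N * N)) = finrank F W := by omega
  have hA1 : 2 * finrank F ↥(W ⊓ LinearMap.ker N) = finrank F W := by omega
  have hWle : W ≤ LinearMap.ker (N * N) := by
    have := Submodule.eq_of_le_of_finrank_eq (inf_le_left : W ⊓ LinearMap.ker (N * N) ≤ W) hA2
    rw [← this]
    exact inf_le_right
  have hrank := finrank_map_add_inf_ker N W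
  refine ⟨W.map N, ?_, ?_, by omega⟩
  · rintro _ ⟨w, hw, rfl⟩
    exact hNW w hw
  · rintro _ ⟨w, hw, rfl⟩
    apply Q_sub_one_eq_zero Q h2 hiso w
    have := hWle hw
    rwa [LinearMap.mem_ker, Module.End.mul_apply] at this

end main

end Cfsg.Agent.Lib.H10.OrtNd
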