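import Mathlib
import Cfsg.Agent.Lib.H10.OrtNdT
import Cfsg.Agent.Lib.H10.OrtNdU

set_option autoImplicit false

/-!
# Unipotent elements of `Ω_{2d+1}(q)` fixing no elliptic nondegenerate subspace (helper10)
-/

namespace Cfsg.Agent.Lib.H10.OrtNd

open Module Matrix
open Cfsg.Agent.Lib.H24.Elus
open Cfsg.Agent.Lib.H11.Jordan
open Cfsg.Agent.S0286 (oddQF oddQF_apply coe_oddQF)

section ranks

variable {F : Type*} [Field F] {ι : Type} [Fintype ι] [DecidableEq ι]

theorem finrank_ker_toLin' (A : Matrix ι ι F) :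
    A.rank + finrank F ↥(LinearMap.ker (Matrix.toLin' A)) = Fintype.card ι := by
  have h := LinearMap.finrank_range_add_finrank_ker (Matrix.toLin' A)
  rw [Module.finrank_fintype_fun_eq_card] at h
  rw [← h]
  rfl

end ranks

section unip

variable {F : Type*} [Field F] [Fintype F] {p : ℕ} [Fact p.Prime] [CharP F p]

theorem count_two_singleton_add (a k : ℕ) (ha : a ≠ 2) :
    Multiset.count 2 (({a} : Multiset ℕ) + Multiset.replicate k 2) = k := by
  rw [Multiset.count_add, Multiset.count_singleton, Multiset.count_replicate_self,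
    if_neg (Ne.symm ha), zero_add]

/-- a unipotent isometry with exactly one Jordan block of odd size -/
theorem exists_unip_one_odd (h2 : (2 : F) ≠ 0) (hp2 : p ≠ 2) (d : ℕ) (hd : 2 ≤ d) :
    ∃ x : GL (Unit ⊕ (Fin d ⊕ Fin d)) F, x ∈ Cfsg.isometryGroup F (Cfsg.quadFormOdd d F) ∧
      x ^ p = 1 ∧ x ≠ 1 ∧
      ((x : Matrix (Unit ⊕ (Fin d ⊕ Fin d)) (Unit ⊕ (Fin d ⊕ Fin d)) F) - 1).rank =
        (((x : Matrix (Unit ⊕ (Fin d ⊕ Fin d)) (Unit ⊕ (Fin d ⊕ Fin d)) F) - 1) ^ 2).rank + d := by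
  have hp : p.Prime := Fact.out
  have hp3 : 3 ≤ p := by
    have := hp.two_le
    omega
  obtain ⟨a, k, ha, hk, hsum, hpar, hr⟩ : ∃ a k : ℕ, (a = 1 ∨ a = 3) ∧ 1 ≤ k ∧
      a + 2 * k = 2 * d + 1 ∧ Even k ∧ (a - 1) + k = (a - 2) + d := by
    rcases Nat.even_or_odd d with he | ho
    · exact ⟨1, d, Or.inl rfl, by omega, by omega, he, by omega⟩
    · obtain ⟨t, ht⟩ := ho
      exact ⟨3, d - 1, Or.inr rfl, by omega, by omega, ⟨t, by omega⟩, by omega⟩
  set μ : Multiset ℕ := {a} + Multiset.replicate k 2 with hμ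
  have hmem : ∀ b ∈ μ, b = a ∨ b = 2 := by
    intro b hb
    rw [hμ, Multiset.mem_add, Multiset.mem_singleton] at hb
    rcases hb with hb | hb
    · exact Or.inl hb
    · exact Or.inr (Multiset.eq_of_mem_replicate hb)
  have ha2 : a ≠ 2 := by omega
  obtain ⟨x, hx, hT⟩ := Cfsg.Agent.Lib.H11.OrthReal.exists_odd h2 d μ
    (by
      intro b hb
      rcases hmem b hb with h | h <;> omega)
    (by
      intro b hb
      by_cases hb2 : b = 2
      · rw [hb2, hμ, count_two_singleton_add a k ha2]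
        exact hpar
      · have : Multiset.count b μ = 0 := by
          rw [Multiset.count_eq_zero]
          intro hbμ
          rcases hmem b hbμ with h | h
          · rw [Nat.even_iff] at hb
            omega
          · exact hb2 h
        rw [this]
        exact Even.zero)
    (by
      rw [hμ, Multiset.sum_add, Multiset.sum_singleton, Multiset.sum_replicate, smul_eq_mul]
      omega)
  refine ⟨x, hx, ?_, ?_, ?_⟩
  · apply Cfsg.Agent.Lib.H11.OrthReal.pow_eq_one_of_rankType x hT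
    intro b hb
    rcases hmem b hb with h | h <;> omega
  · have h2mem : (2 : ℕ) ∈ μ := by
      rw [hμ, Multiset.mem_add]
      right
      rw [Multiset.mem_replicate]
      exact ⟨by omega, rfl⟩
    have := Cfsg.Agent.Lib.H11.OrthReal.not_scalar_of_rankType
      (x : Matrix (Unit ⊕ (Fin d ⊕ Fin d)) (Unit ⊕ (Fin d ⊕ Fin d)) F) hT
      ⟨2, h2mem, le_refl 2⟩ 1
    intro h
    apply this
    rw [h, one_smul, Units.val_one]
  · have h1 := hT 1
    have h3 := hT 2
    rw [pow_one] at h1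
    rw [h1, h3, hμ, Multiset.map_add, Multiset.map_add, Multiset.sum_add, Multiset.sum_add,
      Multiset.map_singleton, Multiset.map_singleton, Multiset.sum_singleton,
      Multiset.sum_singleton, Multiset.map_replicate, Multiset.map_replicate,
      Multiset.sum_replicate, Multiset.sum_replicate, smul_eq_mul, smul_eq_mul]
    omega

/-- for `r = p` some element of order `p` of `Ω_{2d+1}(q)` fixes no nondegenerate even-dimensional
subspace that is not of plus type -/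
theorem not_all_fix_minus {q : ℕ} (hF : Fintype.card F = q) (hqodd : Odd q) (d m : ℕ)
    (hd : 2 ≤ d) (hme : Even m) :
    ¬ (∀ x : GL (Unit ⊕ (Fin d ⊕ Fin d)) F, x ∈ Cfsg.Geo.omegaGL (Cfsg.quadFormOdd d F) →
      orderOf x = p → ∃ W : Submodule F (Unit ⊕ (Fin d ⊕ Fin d) → F),
        W ∈ TypeSet (oddQF F d) m False ∧
        W.map (Matrix.toLin' (x : Matrix (Unit ⊕ (Fin d ⊕ Fin d)) (Unit ⊕ (Fin d ⊕ Fin d)) F)) ≤
          W) := by
  intro hall
  have hp : p.Prime := Fact.out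
  have h2 : (2 : F) ≠ 0 := by
    subst hF
    exact Cfsg.Agent.S0286.two_ne_zero_of_odd hqodd
  have hp2 : p ≠ 2 := by
    intro h
    apply h2
    have := CharP.cast_eq_zero F p
    rw [h] at this
    exact_mod_cast this
  obtain ⟨x, hxiso, hxp, hx1, hrank⟩ := exists_unip_one_odd (p := p) h2 hp2 d hd
  have hxΩ : x ∈ Cfsg.Geo.omegaGL (Cfsg.quadFormOdd d F) := by
    have := Cfsg.Agent.Lib.H11.OrthReal.mem_omegaGL_of_odd_order (oddQF F d)
      (Cfsg.Agent.S0286.nondeg h2 d) h2 (by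
        rw [Fintype.card_sum, Fintype.card_sum, Fintype.card_fin, Fintype.card_unit]
        omega) x (by rw [coe_oddQF]; exact hxiso) p (hp.odd_of_ne_two hp2) hxp
    rwa [coe_oddQF] at this
  obtain ⟨W, hW, hWinv⟩ := hall x hxΩ (orderOf_eq_prime hxp hx1)
  set y := Matrix.toLin' (x : Matrix (Unit ⊕ (Fin d ⊕ Fin d)) (Unit ⊕ (Fin d ⊕ Fin d)) F) with hy
  have hyp : y ^ p = 1 := toLin'_pow_eq_one' x hxp
  have hyiso : ∀ v, oddQF F d (y v) = oddQF F d v := by
    intro v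
    rw [hy, Matrix.toLin'_apply, oddQF_apply, oddQF_apply]
    exact hxiso v v
  have hy1 : y - 1 = Matrix.toLin'
      ((x : Matrix (Unit ⊕ (Fin d ⊕ Fin d)) (Unit ⊕ (Fin d ⊕ Fin d)) F) - 1) := by
    rw [map_sub, Matrix.toLin'_one]
    rfl
  have hy2 : (y - 1) * (y - 1) = Matrix.toLin'
      (((x : Matrix (Unit ⊕ (Fin d ⊕ Fin d)) (Unit ⊕ (Fin d ⊕ Fin d)) F) - 1) ^ 2) := by
    rw [hy1, pow_two, Matrix.toLin'_mul]
    rfl
  have hk1 := finrank_ker_toLin'
    ((x : Matrix (Unit ⊕ (Fin d ⊕ Fin d)) (Unit ⊕ (Fin d ⊕ Fin d)) F) - 1)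
  have hk2 := finrank_ker_toLin'
    (((x : Matrix (Unit ⊕ (Fin d ⊕ Fin d)) (Unit ⊕ (Fin d ⊕ Fin d)) F) - 1) ^ 2)
  rw [← hy1] at hk1
  rw [← hy2] at hk2
  have hcard : Fintype.card (Unit ⊕ (Fin d ⊕ Fin d)) = 2 * d + 1 := by
    rw [Fintype.card_sum, Fintype.card_sum, Fintype.card_fin, Fintype.card_unit]
    ring
  rw [hcard] at hk1 hk2
  have hk1' : ((x : Matrix (Unit ⊕ (Fin d ⊕ Fin d)) (Unit ⊕ (Fin d ⊕ Fin d)) F) - 1).rank +
      finrank F ↥(LinearMap.ker (y - 1)) = 2 * d + 1 := hk1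
  have hk2' : (((x : Matrix (Unit ⊕ (Fin d ⊕ Fin d)) (Unit ⊕ (Fin d ⊕ Fin d)) F) - 1) ^ 2).rank +
      finrank F ↥(LinearMap.ker ((y - 1) * (y - 1))) = 2 * d + 1 := hk2
  have hdef : finrank F (Unit ⊕ (Fin d ⊕ Fin d) → F) + 2 * finrank F ↥(LinearMap.ker (y - 1)) =
      2 * finrank F ↥(LinearMap.ker ((y - 1) * (y - 1))) + 1 := by
    rw [finrank_OV]
    omega
  have hplus := plus_of_one_odd_block (oddQF F d) h2 hyiso hp.pos hyp hdef W
    (by
      intro v hv
      exact hWinv ⟨v, hv, rfl⟩)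
    hW.2.1 (by rw [hW.1]; exact hme)
  exact hW.2.2.mp hplus

end unip

end Cfsg.Agent.Lib.H10.OrtNd
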