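import Mathlib
import Cfsg.Prelude.Def_PLocal
import Cfsg.Prelude.Def_LocalEven
import Cfsg.Agent.Lib.H10.ChiefAction
import Cfsg.Agent.Lib.H10.Sections
import Cfsg.Agent.Lib.H10.CharFunctor
import Cfsg.Agent.Lib.H10.WellPlaced
import Cfsg.Agent.Lib.L0.ControlFusion

/-! Groups with a normal series `1 ≤ P ≤ M ≤ X`, `P` a `p`-group, `M / P` an abelian `p'`-group and
`X / M` a `p`-group: the class is closed under sections, and for odd `p` its members are `p`-stable
in the normalizer form (helper10). -/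

set_option autoImplicit false

namespace Cfsg.Agent.Lib.H10

open Cfsg
open scoped commutatorElement

/-- `X` has a normal series `1 ≤ P ≤ M ≤ X` with `P` a `p`-group, `M / P` an abelian `p'`-group and
`X / M` a `p`-group -/
def IsPAbP (p : ℕ) (X : Type*) [Group X] : Prop :=
  ∃ P M : Subgroup X, P.Normal ∧ M.Normal ∧ P ≤ M ∧ IsPGroup p ↥P ∧
    (∀ a ∈ M, ∀ b ∈ M, ⁅a, b⁆ ∈ P) ∧
    (∀ m ∈ M, ∃ k : ℕ, k.Coprime p ∧ m ^ k ∈ P) ∧
    (∀ x : X, ∃ j : ℕ, x ^ (p ^ j) ∈ M)

theorem IsPAbP.of_injective {p : ℕ} {X Y : Type*} [Group X] [Group Y] (f : Y →* X)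
    (hf : Function.Injective f) (h : IsPAbP p X) : IsPAbP p Y := by
  obtain ⟨P, M, hPn, hMn, hPM, hPp, hab, hcop, hq⟩ := h
  refine ⟨P.comap f, M.comap f, hPn.comap f, hMn.comap f, Subgroup.comap_mono hPM,
    hPp.comap_of_injective f hf, ?_, ?_, ?_⟩
  · intro a ha b hb
    rw [Subgroup.mem_comap, map_commutatorElement]
    exact hab _ ha _ hb
  · intro m hm
    obtain ⟨k, hk, hmk⟩ := hcop _ hm
    exact ⟨k, hk, by rw [Subgroup.mem_comap, map_pow]; exact hmk⟩
  · intro y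
    obtain ⟨j, hj⟩ := hq (f y)
    exact ⟨j, by rw [Subgroup.mem_comap, map_pow]; exact hj⟩

theorem IsPAbP.of_surjective {p : ℕ} {X Y : Type*} [Group X] [Group Y] (f : X →* Y)
    (hf : Function.Surjective f) (h : IsPAbP p X) : IsPAbP p Y := by
  obtain ⟨P, M, hPn, hMn, hPM, hPp, hab, hcop, hq⟩ := h
  refine ⟨P.map f, M.map f, hPn.map f hf, hMn.map f hf, Subgroup.map_mono hPM, hPp.map f,
    ?_, ?_, ?_⟩
  · rintro _ ⟨a, ha, rfl⟩ _ ⟨b, hb, rfl⟩
    rw [← map_commutatorElement]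
    exact Subgroup.mem_map_of_mem f (hab a ha b hb)
  · rintro _ ⟨m, hm, rfl⟩
    obtain ⟨k, hk, hmk⟩ := hcop m hm
    exact ⟨k, hk, by rw [← map_pow]; exact Subgroup.mem_map_of_mem f hmk⟩
  · intro y
    obtain ⟨x, rfl⟩ := hf y
    obtain ⟨j, hj⟩ := hq x
    exact ⟨j, by rw [← map_pow]; exact Subgroup.mem_map_of_mem f hj⟩

theorem IsPAbP.of_isSec {p : ℕ} {X Y : Type*} [Group X] [Group Y]
    (hsec : ∃ (K : Subgroup X) (f : ↥K →* Y), Function.Surjective f) (h : IsPAbP p X) :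
    IsPAbP p Y := by
  obtain ⟨K, f, hf⟩ := hsec
  exact (h.of_injective K.subtype K.subtype_injective).of_surjective f hf

section NC

variable {L : Type*} [Group L] [Finite L] {p : ℕ} [hp : Fact p.Prime]

/-- a `p`-element centralizing a normal subgroup of `p`-power index has a normal closure
which is a `p`-group -/
theorem isPGroup_normalClosure_of_centralizes (Mb : Subgroup L) [hMn : Mb.Normal]
    (hq : ∀ x : L, ∃ k : ℕ, x ^ (p ^ k) ∈ Mb) (g : L)
    (hgp : ∃ j : ℕ, g ^ (p ^ j) = 1) (hgc : g ∈ Subgroup.centralizer (Mb : Set L)) :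
    IsPGroup p ↥(Subgroup.normalClosure ({g} : Set L)) := by
  obtain ⟨j, hj⟩ := hgp
  have hzp : IsPGroup p ↥(Subgroup.zpowers g) := by
    rintro ⟨x, hx⟩
    obtain ⟨n, rfl⟩ := Subgroup.mem_zpowers_iff.mp hx
    refine ⟨j, ?_⟩
    apply Subtype.ext
    show (g ^ n) ^ (p ^ j) = 1
    rw [← zpow_natCast, ← zpow_mul, mul_comm, zpow_mul, zpow_natCast, hj, one_zpow]
  obtain ⟨T, hT⟩ := hzp.exists_le_sylow
  have hgT : g ∈ (T : Subgroup L) := hT (Subgroup.mem_zpowers g)
  -- `L = Mb T`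
  have hQp : IsPGroup p (L ⧸ Mb) := by
    intro q
    induction q using QuotientGroup.induction_on with
    | H x =>
    obtain ⟨k, hk⟩ := hq x
    exact ⟨k, by rw [← QuotientGroup.mk_pow, QuotientGroup.eq_one_iff]; exact hk⟩
  obtain ⟨n, hn⟩ := IsPGroup.iff_card.mp hQp
  have hidx : Mb.index = p ^ n := by rw [Subgroup.index_eq_card]; exact hn
  have htop : Mb ⊔ (T : Subgroup L) = ⊤ := by
    rw [← Subgroup.index_eq_one]
    have h1 : (Mb ⊔ (T : Subgroup L)).index ∣ p ^ n := hidx ▸ Subgroup.index_dvd_of_le le_sup_left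
    have h2 : (Mb ⊔ (T : Subgroup L)).index ∣ (T : Subgroup L).index :=
      Subgroup.index_dvd_of_le le_sup_right
    have h3 : ((Mb ⊔ (T : Subgroup L)).index).Coprime (p ^ n) := by
      apply Nat.Coprime.pow_right
      rw [Nat.coprime_comm, Nat.Prime.coprime_iff_not_dvd hp.out]
      exact fun hd => T.not_dvd_index (hd.trans h2)
    exact Nat.Coprime.eq_one_of_dvd h3 h1
  have hCn : (Subgroup.centralizer (Mb : Set L)).Normal := Subgroup.normal_centralizer
  have hle : Subgroup.normalClosure ({g} : Set L) ≤ (T : Subgroup L) := by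
    apply (Subgroup.closure_le _).mpr
    intro a ha
    rw [Group.mem_conjugatesOfSet_iff] at ha
    obtain ⟨b, hb, hba⟩ := ha
    rw [Set.mem_singleton_iff] at hb
    subst hb
    obtain ⟨c, rfl⟩ := isConj_iff.mp hba
    have hc : c ∈ Mb ⊔ (T : Subgroup L) := by rw [htop]; exact Subgroup.mem_top c
    obtain ⟨m, hm, t, ht, rfl⟩ := Subgroup.mem_sup_of_normal_left.mp hc
    have h1 : t * b * t⁻¹ ∈ Subgroup.centralizer (Mb : Set L) := hCn.conj_mem b hgc t
    have h2 : t * b * t⁻¹ ∈ (T : Subgroup L) :=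
      (T : Subgroup L).mul_mem ((T : Subgroup L).mul_mem ht hgT) ((T : Subgroup L).inv_mem ht)
    have h3 : m * (t * b * t⁻¹) = (t * b * t⁻¹) * m := Subgroup.mem_centralizer_iff.mp h1 m hm
    have h4 : m * t * b * (m * t)⁻¹ = t * b * t⁻¹ := by
      calc m * t * b * (m * t)⁻¹ = m * (t * b * t⁻¹) * m⁻¹ := by group
        _ = t * b * t⁻¹ := by rw [h3]; group
    rw [SetLike.mem_coe, h4]
    exact h2
  exact T.2.to_le hle

/-- in-group form: modulo the normal subgroup `Cb` -/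
theorem exists_pow_mem_of_normalClosure {Y : Type*} [Group Y] [Finite Y] (Cb M : Subgroup Y)
    [hCn : Cb.Normal] [hMn : M.Normal]
    (hb : ∀ y : Y, ∃ k : ℕ, y ^ (p ^ k) ∈ M ⊔ Cb) (g : Y)
    (hc : ∃ j : ℕ, g ^ (p ^ j) ∈ Cb) (hd : ∀ m ∈ M, ⁅m, g⁆ ∈ Cb) :
    ∀ r ∈ Subgroup.normalClosure ({g} : Set Y), ∃ k : ℕ, r ^ (p ^ k) ∈ Cb := by
  set π := QuotientGroup.mk' Cb with hπ
  have hπs := QuotientGroup.mk'_surjective Cb
  have hker : ∀ y : Y, π y = 1 ↔ y ∈ Cb := by
    intro y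
    rw [hπ, QuotientGroup.mk'_apply, QuotientGroup.eq_one_iff]
  have hMbn : (M.map π).Normal := hMn.map π hπs
  have hq : ∀ x : Y ⧸ Cb, ∃ k : ℕ, x ^ (p ^ k) ∈ M.map π := by
    intro x
    obtain ⟨y, rfl⟩ := hπs x
    obtain ⟨k, hk⟩ := hb y
    refine ⟨k, ?_⟩
    rw [← map_pow]
    obtain ⟨m, hm, c, hc', hmc⟩ := Subgroup.mem_sup_of_normal_right.mp hk
    rw [← hmc, map_mul, (hker c).mpr hc', mul_one]
    exact Subgroup.mem_map_of_mem π hm
  have hgp : ∃ j : ℕ, (π g) ^ (p ^ j) = 1 := by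
    obtain ⟨j, hj⟩ := hc
    exact ⟨j, by rw [← map_pow]; exact (hker _).mpr hj⟩
  have hgc : π g ∈ Subgroup.centralizer ((M.map π : Subgroup (Y ⧸ Cb)) : Set (Y ⧸ Cb)) := by
    rw [Subgroup.mem_centralizer_iff]
    rintro _ ⟨m, hm, rfl⟩
    have h1 : π ⁅m, g⁆ = 1 := (hker _).mpr (hd m hm)
    rw [commutatorElement_def, map_mul, map_mul, map_mul, map_inv, map_inv] at h1
    calc π m * π g = (π m * π g * (π m)⁻¹ * (π g)⁻¹) * (π g * π m) := by group
      _ = π g * π m := by rw [h1, one_mul]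
  have hP := isPGroup_normalClosure_of_centralizes (M.map π) hq (π g) hgp hgc
  intro r hr
  have hr' : π r ∈ Subgroup.normalClosure ({π g} : Set (Y ⧸ Cb)) := by
    have h1 := Subgroup.map_normalClosure_le ({g} : Set Y) π
    rw [Set.image_singleton] at h1
    exact h1 (Subgroup.mem_map_of_mem π hr)
  obtain ⟨k, hk⟩ := hP ⟨π r, hr'⟩
  refine ⟨k, ?_⟩
  rw [← hker, map_pow]
  have := congrArg Subtype.val hk
  simpa using this

end NC

section stable

variable {Y : Type*} [Group Y] [Finite Y] {p : ℕ} [hp : Fact p.Prime]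

/-- core of `p`-stability: a quadratically acting element lies in a normal subgroup acting as a
`p`-group -/
theorem exists_normal_ppower_of_quadratic (hp2 : p ≠ 2) (hY : IsPAbP p Y) (Q₀ : Subgroup Y)
    [hQn : Q₀.Normal] (hQp : IsPGroup p ↥Q₀) (g : Y)
    (hquad : ⁅⁅Q₀, Subgroup.zpowers g⁆, Subgroup.zpowers g⁆ = ⊥) :
    ∃ R : Subgroup Y, R.Normal ∧ g ∈ R ∧
      ∀ r ∈ R, ∃ k : ℕ, r ^ (p ^ k) ∈ Subgroup.centralizer (Q₀ : Set Y) := by
  obtain ⟨P, M, hPn, hMn, hPM, hPp, hab, hcop, hq⟩ := hY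
  have hp3 : 2 ≤ p - 1 := by
    have := hp.out.two_le
    omega
  set R := Subgroup.normalClosure ({g} : Set Y) with hR
  have hRn : R.Normal := Subgroup.normalClosure_normal
  have hgR : g ∈ R := Subgroup.subset_normalClosure (Set.mem_singleton g)
  -- `g` centralizes every chief factor inside `Q₀`
  have hA : ∀ U V : Subgroup Y, IsChiefFactor U V → U ≤ Q₀ → ⁅U, R⁆ ≤ V := by
    intro U V hUV hUQ
    have hUn : U.Normal := hUV.2.1
    have hVn : V.Normal := hUV.2.2.1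
    have hUp : IsPGroup p ↥U := hQp.to_le hUQ
    have hPUV : ⁅U, P⁆ ≤ V := by
      apply commutator_le_of_chief_of_ppower hUV hUp P
      intro x hx
      obtain ⟨k, hk⟩ := hPp ⟨x, hx⟩
      refine ⟨k, ?_⟩
      have h1 : x ^ (p ^ k) = 1 := by
        have := congrArg Subtype.val hk
        simpa using this
      rw [h1, Subgroup.zpowers_one_eq_bot, Subgroup.commutator_bot_right]
      exact bot_le
    have hzP : ∀ x ∈ P, ⁅U, Subgroup.zpowers x⁆ ≤ V := fun x hx =>
      (Subgroup.commutator_mono le_rfl ((Subgroup.zpowers_le).mpr hx)).trans hPUV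
    have hE : iterCommutator U (Subgroup.zpowers g) (p - 1) ≤ V := by
      apply iterCommutator_le_of_le U _ hp3
      show ⁅⁅U, Subgroup.zpowers g⁆, Subgroup.zpowers g⁆ ≤ V
      refine le_trans ?_ (bot_le (a := V))
      rw [← hquad]
      exact Subgroup.commutator_mono (Subgroup.commutator_mono hUQ le_rfl) le_rfl
    obtain ⟨h1, h2⟩ := chief_hallHigman hUV hUp M
      (fun a ha b hb => hzP _ (hab a ha b hb))
      (fun m hm => by
        obtain ⟨k, hk, hmk⟩ := hcop m hm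
        exact ⟨k, hk, hzP _ hmk⟩) g hE
    have hmemC : ∀ y : Y, ⁅U, Subgroup.zpowers y⁆ ≤ V → y ∈ cstab ⊤ U V := by
      intro y hy
      have : Subgroup.zpowers y ≤ cstab ⊤ U V := le_cstab_iff.mpr ⟨le_top, hy⟩
      exact this (Subgroup.mem_zpowers y)
    have hpow := exists_pow_mem_of_normalClosure (p := p) (cstab ⊤ U V) M
      (fun y => by
        obtain ⟨j, hj⟩ := hq y
        exact ⟨j, Subgroup.mem_sup_left hj⟩) g
      ⟨1, by rw [pow_one]; exact hmemC _ h2⟩
      (fun m hm => hmemC _ (h1 m hm))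
    apply commutator_le_of_chief_of_ppower hUV hUp R
    intro r hr
    obtain ⟨k, hk⟩ := hpow r hr
    refine ⟨k, ?_⟩
    have : Subgroup.zpowers (r ^ (p ^ k)) ≤ cstab ⊤ U V := (Subgroup.zpowers_le).mpr hk
    exact (le_cstab_iff.mp this).2
  -- the `p'`-elements of `R` centralize `Q₀`
  have hD : ⁅Q₀, pPrimeGen p R⁆ = ⊥ := by
    apply commutator_pPrimeGen_eq_bot
    intro x hxR hxc
    apply commutator_zpowers_eq_bot_of_chief Q₀ hQp x hxc _ Q₀ hQn le_rfl
    intro U V hUV hUQ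
    exact (Subgroup.commutator_mono le_rfl ((Subgroup.zpowers_le).mpr hxR)).trans (hA U V hUV hUQ)
  refine ⟨R, hRn, hgR, ?_⟩
  intro r hr
  obtain ⟨k, hk⟩ := exists_pow_mem_pPrimeGen (p := p) hr
  refine ⟨k, ?_⟩
  have : pPrimeGen p R ≤ Subgroup.centralizer (Q₀ : Set Y) := by
    rw [← Subgroup.commutator_eq_bot_iff_le_centralizer, Subgroup.commutator_comm]
    exact hD
  exact this hk

/-- **groups in the class are `p`-stable in the normalizer form**, `p` odd -/
theorem IsPAbP.isNormalizerPStable {X : Type*} [Group X] [Finite X] (hp2 : p ≠ 2)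
    (hX : IsPAbP p X) : IsNormalizerPStable p X := by
  intro Q₀ hQp g hg hquad
  set N := Subgroup.normalizer ((Q₀ : Subgroup X) : Set X) with hN
  have hQN : Q₀ ≤ N := Subgroup.le_normalizer
  have hYN : IsPAbP p ↥N := hX.of_injective N.subtype N.subtype_injective
  have hQn' : (Q₀.subgroupOf N).Normal := Subgroup.normal_in_normalizer
  have hQp' : IsPGroup p ↥(Q₀.subgroupOf N) := hQp.comap_subtype
  have hquad' : ⁅⁅Q₀.subgroupOf N, Subgroup.zpowers (⟨g, hg⟩ : ↥N)⁆,
      Subgroup.zpowers (⟨g, hg⟩ : ↥N)⁆ = ⊥ := by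
    rw [← Subgroup.map_eq_bot_iff_of_injective _ N.subtype_injective, Subgroup.map_commutator,
      Subgroup.map_commutator, Subgroup.map_subgroupOf_eq_of_le hQN, MonoidHom.map_zpowers]
    exact hquad
  obtain ⟨R, hRn, hgR, hRpow⟩ :=
    exists_normal_ppower_of_quadratic hp2 hYN (Q₀.subgroupOf N) hQp' ⟨g, hg⟩ hquad'
  set C₁ := (Subgroup.centralizer ((Q₀ : Subgroup X) : Set X)).subgroupOf N with hC₁
  have hRn' : (R.map (QuotientGroup.mk' C₁)).Normal :=
    hRn.map _ (QuotientGroup.mk'_surjective C₁)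
  have hRp : IsPGroup p ↥(R.map (QuotientGroup.mk' C₁)) := by
    rintro ⟨_, r, hr, rfl⟩
    obtain ⟨k, hk⟩ := hRpow r hr
    refine ⟨k, ?_⟩
    apply Subtype.ext
    show (QuotientGroup.mk' C₁ r) ^ (p ^ k) = 1
    rw [← map_pow, QuotientGroup.mk'_apply, QuotientGroup.eq_one_iff, hC₁, Subgroup.mem_subgroupOf,
      Subgroup.mem_centralizer_iff]
    intro q hq
    have h1 := Subgroup.mem_centralizer_iff.mp hk (⟨q, hQN hq⟩ : ↥N)
      (Subgroup.mem_subgroupOf.mpr hq)
    have := congrArg Subtype.val h1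
    simpa using this
  have hle := H1.le_pCore hRn' hRp
  exact hle ⟨⟨g, hg⟩, hgR, rfl⟩

end stable

/-- a group whose Sylow `p`-subgroup is maximal and whose quotient by `O_p` has a normal
`p`-complement lies in the class -/
theorem isPAbP_of_coatom_sylow {H : Type*} [Group H] [Finite H] {p : ℕ} [hp : Fact p.Prime]
    (hquot : Cfsg.HasNormalPComplement p (H ⧸ Cfsg.pCore p H)) (T : Sylow p H)
    (hT : IsCoatom (T : Subgroup H)) : IsPAbP p H := by
  have hPn : (Cfsg.pCore p H).Normal := H1.pCore_normal p H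
  have hPp : IsPGroup p ↥(Cfsg.pCore p H) := H1.pCore_isPGroup p H
  set π := QuotientGroup.mk' (Cfsg.pCore p H) with hπ
  have hker : ∀ y : H, π y = 1 ↔ y ∈ Cfsg.pCore p H := by
    intro y
    rw [hπ, QuotientGroup.mk'_apply, QuotientGroup.eq_one_iff]
  have hPT : Cfsg.pCore p H ≤ (T : Subgroup H) := H1.pCore_le_sylow T
  have hT'p : IsPGroup p ↥((T : Subgroup H).map π) := T.2.map _
  have hT'i : ¬ p ∣ ((T : Subgroup H).map π).index :=
    fun h => T.not_dvd_index (h.trans (Subgroup.index_map_dvd (T : Subgroup H)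
      (QuotientGroup.mk'_surjective _)))
  set Tb : Sylow p (H ⧸ Cfsg.pCore p H) := hT'p.toSylow hT'i with hTb
  have hT'c : (Tb : Subgroup (H ⧸ Cfsg.pCore p H)) = (T : Subgroup H).map π :=
    hT'p.toSylow_coe hT'i
  have hT'coatom : IsCoatom (Tb : Subgroup (H ⧸ Cfsg.pCore p H)) := by
    rw [hT'c]
    exact isCoatom_map_mk' hPT hT
  obtain ⟨K, hKn, hK⟩ := L0.HasNormalPComplement.forall_sylow hquot Tb
  have hKcomm := commute_of_coatom_complement Tb hT'coatom K hK
  have hKcop : ¬ p ∣ Nat.card K := by rw [← hK.index_eq_card]; exact Tb.not_dvd_index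
  obtain ⟨j, hj⟩ := Tb.2.exists_card_eq
  have hKidx : K.index = p ^ j := by rw [hK.symm.index_eq_card]; exact hj
  refine ⟨Cfsg.pCore p H, K.comap π, hPn, hKn.comap π, ?_, hPp, ?_, ?_, ?_⟩
  · intro y hy
    rw [Subgroup.mem_comap, (hker y).mpr hy]
    exact K.one_mem
  · intro a ha b hb
    rw [← hker, map_commutatorElement, commutatorElement_eq_one_iff_mul_comm]
    exact hKcomm _ ha _ hb
  · intro m hm
    refine ⟨Nat.card K, ((Nat.Prime.coprime_iff_not_dvd hp.out).mpr hKcop).symm, ?_⟩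
    rw [← hker, map_pow]
    have h1 : (⟨π m, hm⟩ : ↥K) ^ Nat.card K = 1 := pow_card_eq_one'
    have h2 := congrArg Subtype.val h1
    rw [Subgroup.coe_pow] at h2
    exact h2
  · intro x
    refine ⟨j, ?_⟩
    rw [Subgroup.mem_comap, map_pow, ← hKidx]
    exact K.pow_index_mem (π x)

section control

universe u

/-- if `W(T₁)` controls strong fusion and its normalizer has a normal `p`-complement, the whole
group has a normal `p`-complement -/
theorem hasNPC_of_controlsStrongFusion {H : Type u} [Group H] [Finite H] {p : ℕ}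
    [hp : Fact p.Prime] (W : ∀ (Q : Type u) [Group Q], Subgroup Q)
    (hW : IsCharPFunctor.{u} p W) (T₁ : Sylow p H)
    (hctl : ControlsStrongFusion p (inducedFunctor (G := H) W (T₁ : Subgroup H)))
    (hN : HasNormalPComplement p
      ↥(Subgroup.normalizer ((inducedFunctor (G := H) W (T₁ : Subgroup H) : Subgroup H) : Set H))) :
    HasNormalPComplement p H := by
  have hc := isConjugacyFunctor_inducedFunctor (H := H) hW
  set U := inducedFunctor (G := H) W (T₁ : Subgroup H) with hU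
  set N := Subgroup.normalizer ((U : Subgroup H) : Set H) with hNdef
  obtain ⟨T', hUT', hctl'⟩ := hctl
  obtain ⟨h, hh⟩ := MulAction.exists_smul_eq H T₁ T'
  have hT'map : (T' : Subgroup H) = (T₁ : Subgroup H).map (MulAut.conj h).toMonoidHom := by
    rw [← hh, coe_smul_sylow_eq_map]
  -- `W(T') = U`
  have hWT' : inducedFunctor (G := H) W (T' : Subgroup H) = U := by
    rw [hT'map, (hc _ T₁.2).2.2 h]
    have hsub : (fun a => h * a * h⁻¹) '' (U : Set H) ⊆ ((T' : Subgroup H) : Set H) := by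
      rintro _ ⟨u, hu, rfl⟩
      have h1 : h * u * h⁻¹ ∈ (inducedFunctor (G := H) W (T₁ : Subgroup H)).map
          (MulAut.conj h).toMonoidHom := ⟨u, hu, rfl⟩
      rw [← (hc _ T₁.2).2.2 h, ← hT'map] at h1
      exact (hc _ T'.2).1 h1
    obtain ⟨n, hn, hnu⟩ := (hctl' (U : Set H) hUT').2 h hsub
    ext y
    rw [mem_map_conj]
    constructor
    · intro hy
      have h1 := hnu _ hy
      have h2 : h * (h⁻¹ * y * h) * h⁻¹ = y := by group
      rw [h2] at h1
      rw [h1]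
      exact conj_mem_of_le_normalizer (le_rfl : N ≤ N) hn hy
    · intro hy
      -- `y = n u n⁻¹` with `u = n⁻¹ y n ∈ U`
      have hu : n⁻¹ * y * n⁻¹⁻¹ ∈ U := conj_mem_of_le_normalizer (le_rfl : N ≤ N) (N.inv_mem hn) hy
      have h1 := hnu _ hu
      have h2 : n * (n⁻¹ * y * n⁻¹⁻¹) * n⁻¹ = y := by group
      rw [h2] at h1
      have h3 : h⁻¹ * y * h = n⁻¹ * y * n⁻¹⁻¹ := by
        calc h⁻¹ * y * h = h⁻¹ * (h * (n⁻¹ * y * n⁻¹⁻¹) * h⁻¹) * h := by rw [h1]
          _ = n⁻¹ * y * n⁻¹⁻¹ := by group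
      rw [h3]; exact hu
  have hT'N : (T' : Subgroup H) ≤ N := by
    have := Subgroup.le_normalizer.trans (normalizer_le_normalizer_functor hc T'.2)
    rwa [hWT'] at this
  let P : Sylow p ↥N := T'.subtype hT'N
  have hPcoe : ∀ y : ↥N, y ∈ (P : Subgroup ↥N) ↔ (y : H) ∈ (T' : Subgroup H) := by
    intro y
    rw [Sylow.coe_subtype, Subgroup.mem_subgroupOf]
  obtain ⟨K, hKn, hK⟩ := L0.HasNormalPComplement.forall_sylow hN P
  apply L0.hasNormalPComplement_of_control_fusion T'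
  intro x hx g hg
  have hsub : (fun a => g⁻¹ * a * g⁻¹⁻¹) '' ({x} : Set H) ⊆ ((T' : Subgroup H) : Set H) := by
    rintro _ ⟨a, ha, rfl⟩
    rw [Set.mem_singleton_iff] at ha
    subst ha
    rw [inv_inv]; exact hg
  obtain ⟨n, hn, hnx⟩ := (hctl' ({x} : Set H) (Set.singleton_subset_iff.mpr hx)).2 g⁻¹ hsub
  have hnx' : g⁻¹ * x * g = n * x * n⁻¹ := by
    have := hnx x (Set.mem_singleton x)
    rwa [inv_inv] at this
  have hn' : (⟨n, hn⟩ : ↥N) ∈ K ⊔ (P : Subgroup ↥N) := by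
    rw [hK.sup_eq_top]; exact Subgroup.mem_top _
  obtain ⟨k, hk, t, ht, hkt⟩ := Subgroup.mem_sup_of_normal_left.mp hn'
  have htT' : (t : H) ∈ (T' : Subgroup H) := (hPcoe t).mp ht
  have hktH : (k : H) * (t : H) = n := congrArg Subtype.val hkt
  set y : ↥N := t * ⟨x, hT'N hx⟩ * t⁻¹ with hy
  have hyP : y ∈ (P : Subgroup ↥N) := by
    rw [hPcoe]
    exact (T' : Subgroup H).mul_mem ((T' : Subgroup H).mul_mem htT' hx)
      ((T' : Subgroup H).inv_mem htT')
  have hkyP : k * y * k⁻¹ ∈ (P : Subgroup ↥N) := by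
    rw [hPcoe]
    have : ((k * y * k⁻¹ : ↥N) : H) = n * x * n⁻¹ := by
      rw [← hktH, hy]
      simp only [Subgroup.coe_mul, Subgroup.coe_inv]
      group
    rw [this, ← hnx']
    exact hg
  have hcomm : k * y * k⁻¹ * y⁻¹ = 1 := by
    have h1 : k * y * k⁻¹ * y⁻¹ ∈ K ⊓ (P : Subgroup ↥N) := by
      refine ⟨?_, Subgroup.mul_mem _ hkyP (Subgroup.inv_mem _ hyP)⟩
      have : k * y * k⁻¹ * y⁻¹ = k * (y * k⁻¹ * y⁻¹) := by group
      rw [this]
      exact K.mul_mem hk (hKn.conj_mem _ (K.inv_mem hk) y)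
    have := hK.disjoint.le_bot h1
    exact Subgroup.mem_bot.mp this
  have hky : k * y * k⁻¹ = y := by
    calc k * y * k⁻¹ = (k * y * k⁻¹ * y⁻¹) * y := by group
      _ = y := by rw [hcomm, one_mul]
  refine ⟨(t : H)⁻¹, (T' : Subgroup H).inv_mem htT', ?_⟩
  rw [hnx', inv_inv]
  have h1 : ((k * y * k⁻¹ : ↥N) : H) = n * x * n⁻¹ := by
    rw [← hktH, hy]
    simp only [Subgroup.coe_mul, Subgroup.coe_inv]
    group
  rw [← h1, hky, hy]
  simp only [Subgroup.coe_mul, Subgroup.coe_inv]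

end control

end Cfsg.Agent.Lib.H10
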