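import Mathlib
import Cfsg.Agent.Lib.H22.PearlDefs

/-!
# S5239 piece FILB (helper10): a subgroup containing `t` is generated by `t` and one more element.
-/

set_option autoImplicit false

namespace Cfsg.Agent.Lib.H10.Pearl

open Cfsg.Agent.Lib.H22.Pearl

variable {G : Type*} [Group G] {M : ℕ → Subgroup G} {m : ℕ}

/-- the iterated commutators `x, [x,t], [[x,t],t], …` -/
def filbSeq (t x : G) : ℕ → G
  | 0 => x
  | (k + 1) => filbSeq t x k * t * (filbSeq t x k)⁻¹ * t⁻¹

theorem filbSeq_mem_closure (t x : G) (k : ℕ) :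
    filbSeq t x k ∈ Subgroup.closure ({t, x} : Set G) := by
  have ht : t ∈ Subgroup.closure ({t, x} : Set G) := Subgroup.subset_closure (by simp)
  induction k with
  | zero => exact Subgroup.subset_closure (by simp [filbSeq])
  | succ k ih =>
    show filbSeq t x k * t * (filbSeq t x k)⁻¹ * t⁻¹ ∈ _
    exact Subgroup.mul_mem _ (Subgroup.mul_mem _ (Subgroup.mul_mem _ ih ht) (Subgroup.inv_mem _ ih))
      (Subgroup.inv_mem _ ht)

theorem fil_anti_le (hM : Fil M m) {i j : ℕ} (hij : i ≤ j) : M j ≤ M i := by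
  induction j, hij using Nat.le_induction with
  | base => exact le_rfl
  | succ j _ ih => exact (hM.anti j).trans ih

/-- **FILB**. -/
theorem fil_two_gen_of_not_le (hM : Fil M m) (t : G)
    (hidxt : ∀ g : G, ∃ j : ℕ, g * t ^ j ∈ M 0)
    (hcomm : ∀ i, i + 1 < m → ∀ d ∈ M i, d ∉ M (i + 1) →
      d * t * d⁻¹ * t⁻¹ ∈ M (i + 1) ∧ d * t * d⁻¹ * t⁻¹ ∉ M (i + 2))
    (H : Subgroup G) (ht : t ∈ H) : ∃ x : G, Subgroup.closure ({t, x} : Set G) = H := by
  -- the largest `a ≤ m` with `H ⊓ M 0 ≤ M a`
  have hfind : ∀ k ≤ m, H ⊓ M 0 ≤ M k ∨ ∃ a < k, H ⊓ M 0 ≤ M a ∧ ¬ H ⊓ M 0 ≤ M (a + 1) := by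
    intro k
    induction k with
    | zero => intro _; exact Or.inl inf_le_right
    | succ k ih =>
      intro hk
      rcases ih (Nat.le_of_succ_le hk) with h | ⟨a, hak, h1, h2⟩
      · by_cases h' : H ⊓ M 0 ≤ M (k + 1)
        · exact Or.inl h'
        · exact Or.inr ⟨k, Nat.lt_succ_self k, h, h'⟩
      · exact Or.inr ⟨a, Nat.lt_succ_of_lt hak, h1, h2⟩
  -- reduction: it suffices to have `x ∈ H` with `H ⊓ M 0 ≤ closure {t, x}`
  have hred : ∀ x ∈ H, H ⊓ M 0 ≤ Subgroup.closure ({t, x} : Set G) →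
      Subgroup.closure ({t, x} : Set G) = H := by
    intro x hx hle
    apply le_antisymm
    · rw [Subgroup.closure_le]
      intro y hy
      rcases hy with rfl | rfl
      · exact ht
      · exact hx
    · intro g hg
      obtain ⟨j, hj⟩ := hidxt g
      have htK : t ∈ Subgroup.closure ({t, x} : Set G) := Subgroup.subset_closure (by simp)
      have h1 : g * t ^ j ∈ Subgroup.closure ({t, x} : Set G) :=
        hle ⟨H.mul_mem hg (H.pow_mem ht j), hj⟩
      have h2 : g = g * t ^ j * (t ^ j)⁻¹ := by group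
      rw [h2]
      exact Subgroup.mul_mem _ h1 (Subgroup.inv_mem _ (Subgroup.pow_mem _ htK j))
  rcases hfind m le_rfl with h | ⟨a, ham, h1, h2⟩
  · -- `H ⊓ M 0 = ⊥`
    refine ⟨1, hred 1 H.one_mem ?_⟩
    rw [hM.bot] at h
    exact h.trans bot_le
  · -- pick `x ∈ H ⊓ M 0` outside `M (a+1)`
    obtain ⟨x, hx, hxa⟩ := SetLike.not_le_iff_exists.1 h2
    have hxH : x ∈ H := hx.1
    have hxMa : x ∈ M a := h1 hx
    refine ⟨x, hred x hxH ?_⟩
    set K := Subgroup.closure ({t, x} : Set G) with hK
    have hKH : K ≤ H := by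
      rw [hK, Subgroup.closure_le]
      intro y hy
      rcases hy with rfl | rfl
      · exact ht
      · exact hxH
    -- levels of the iterated commutators
    have hlev : ∀ k, a + k < m → filbSeq t x k ∈ M (a + k) ∧ filbSeq t x k ∉ M (a + k + 1) := by
      intro k
      induction k with
      | zero => intro _; exact ⟨hxMa, hxa⟩
      | succ k ih =>
        intro hk
        have hk' : a + k < m := by omega
        obtain ⟨i1, i2⟩ := ih hk'
        have := hcomm (a + k) (by omega) _ i1 i2
        exact this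
    -- descending induction
    have hdesc : ∀ d, ∀ i, a ≤ i → i + d = m → ∀ g ∈ H, g ∈ M i → g ∈ K := by
      intro d
      induction d with
      | zero =>
        intro i _ hi g _ hg
        have : i = m := by omega
        rw [this, hM.bot] at hg
        rw [Subgroup.mem_bot.1 hg]
        exact K.one_mem
      | succ d ih =>
        intro i hai hi g hgH hg
        obtain ⟨k, rfl⟩ : ∃ k, i = a + k := ⟨i - a, by omega⟩
        have hkm : a + k < m := by omega
        obtain ⟨w1, w2⟩ := hlev k hkm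
        obtain ⟨j, hj⟩ := hM.idx (a + k) hkm g hg _ w1 w2
        have hwK : filbSeq t x k ∈ K := filbSeq_mem_closure t x k
        have hwH : filbSeq t x k ∈ H := hKH hwK
        have h3 : g * filbSeq t x k ^ j ∈ K :=
          ih (a + k + 1) (by omega) (by omega) _ (H.mul_mem hgH (H.pow_mem hwH j)) hj
        have h4 : g = g * filbSeq t x k ^ j * (filbSeq t x k ^ j)⁻¹ := by group
        rw [h4]
        exact K.mul_mem h3 (K.inv_mem (K.pow_mem hwK j))
    intro g hg
    exact hdesc (m - a) a le_rfl (by omega) g hg.1 (h1 hg)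

end Cfsg.Agent.Lib.H10.Pearl
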