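import Mathlib
import Cfsg.Agent.Lib.H26.PPearlDefs
import Cfsg.Agent.Lib.H12.PearlT
import Cfsg.Agent.Lib.H10.PearlFILB

/-!
# S5238 piece TWO (helper10): subgroups containing a uniform element are generated by two elements.
-/

set_option autoImplicit false

namespace Cfsg.Agent.Lib.H10.PPearl

open Cfsg.Agent.Lib.H22.Pearl Cfsg.Agent.Lib.H26.PPearl Cfsg.Agent.Lib.H12.Pearl

/-- a normal subgroup of prime index: the quotient is generated by any element outside. -/
theorem idxp {G : Type*} [Group G] [Finite G] {p : ℕ} [Fact p.Prime] (K : Subgroup G) [K.Normal]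
    (hidx : K.index = p) (g w : G) (hw : w ∉ K) : ∃ j : ℕ, g * w ^ j ∈ K := by
  have hcard : Nat.card (G ⧸ K) = p := by rw [← Subgroup.index_eq_card]; exact hidx
  have hw1 : (QuotientGroup.mk w : G ⧸ K) ≠ 1 := by
    rw [Ne, QuotientGroup.eq_one_iff]; exact hw
  have htop := zpowers_eq_top_of_prime_card hcard hw1
  have hmem : ((QuotientGroup.mk g : G ⧸ K))⁻¹ ∈ Subgroup.zpowers (QuotientGroup.mk w : G ⧸ K) := by
    rw [htop]; exact Subgroup.mem_top _
  rw [← mem_powers_iff_mem_zpowers] at hmem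
  obtain ⟨j, hj⟩ := hmem
  refine ⟨j, ?_⟩
  have hj' : (QuotientGroup.mk w : G ⧸ K) ^ j = ((QuotientGroup.mk g : G ⧸ K))⁻¹ := hj
  rw [← QuotientGroup.eq_one_iff, QuotientGroup.mk_mul, QuotientGroup.mk_pow, hj', mul_inv_cancel]

/-- relative version -/
theorem idxp_rel {G : Type*} [Group G] [Finite G] {p : ℕ} [Fact p.Prime] (H K : Subgroup G) [K.Normal]
    (hKH : K ≤ H) (hc : Nat.card ↥H = p * Nat.card ↥K) :
    ∀ g ∈ H, ∀ w ∈ H, w ∉ K → ∃ j : ℕ, g * w ^ j ∈ K := by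
  intro g hg w hw hwK
  have hcardK : Nat.card ↥(K.subgroupOf H) = Nat.card ↥K :=
    Nat.card_congr (Subgroup.subgroupOfEquivOfLe hKH).toEquiv
  have hidx : (K.subgroupOf H).index = p := by
    have h1 := Subgroup.card_mul_index (K.subgroupOf H)
    rw [hcardK, hc, mul_comm p] at h1
    exact Nat.eq_of_mul_eq_mul_left Nat.card_pos h1
  have hw' : (⟨w, hw⟩ : H) ∉ K.subgroupOf H := by
    rw [Subgroup.mem_subgroupOf]; exact hwK
  obtain ⟨j, hj⟩ := idxp (K.subgroupOf H) hidx ⟨g, hg⟩ ⟨w, hw⟩ hw'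
  refine ⟨j, ?_⟩
  rw [Subgroup.mem_subgroupOf] at hj
  simpa using hj

/-- **T0**, for an arbitrary subgroup `M₀` in place of `S₁`. -/
theorem comm_shift_zero_gen {G : Type*} [Group G] (M₀ : Subgroup G) (hne : ¬ L G 1 ≤ L G 2)
    (hidx0 : ∀ g ∈ M₀, ∀ w ∈ M₀, w ∉ L G 1 → ∃ j : ℕ, g * w ^ j ∈ L G 1)
    (t : G) (hidxt : ∀ g : G, ∃ j : ℕ, g * t ^ j ∈ M₀) :
    ∀ d ∈ M₀, d ∉ L G 1 → d * t * d⁻¹ * t⁻¹ ∉ L G 2 := by
  intro d hd hdn hc
  apply hne
  set π := QuotientGroup.mk' (L G 2) with hπ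
  have hcomm : Commute (π d) (π t) := (t_comm_mem_iff (L G 2) d t).mp hc
  have hL1 : ∀ x ∈ L G 1, ∀ g : G, Commute (π x) (π g) := fun x hx g =>
    (t_comm_mem_iff (L G 2) x g).mp (t_comm_mem_succ hx g)
  have hdec : ∀ g : G, ∃ (j j' : ℕ) (l : G), l ∈ L G 1 ∧ g * t ^ j * d ^ j' = l := by
    intro g
    obtain ⟨j, hj⟩ := hidxt g
    obtain ⟨j', hj'⟩ := hidx0 _ hj d hd hdn
    exact ⟨j, j', _, hj', rfl⟩
  have hdZ : ∀ g : G, Commute (π d) (π g) := by
    intro g
    obtain ⟨j, j', l, hl, hg⟩ := hdec g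
    have hg' : g = l * (d ^ j')⁻¹ * (t ^ j)⁻¹ := by rw [← hg]; group
    rw [hg', map_mul, map_mul, map_inv, map_inv, map_pow, map_pow]
    exact (((hL1 l hl d).symm).mul_right ((Commute.refl _).pow_right j').inv_right).mul_right
      (hcomm.pow_right j).inv_right
  have htS : ∀ s ∈ M₀, Commute (π t) (π s) := by
    intro s hs
    obtain ⟨j', hj'⟩ := hidx0 s hs d hd hdn
    have hs' : s = (s * d ^ j') * (d ^ j')⁻¹ := by group
    rw [hs', map_mul, map_inv, map_pow]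
    exact ((hL1 _ hj' t).symm).mul_right ((hdZ t).symm.pow_right j').inv_right
  have htZ : ∀ g : G, Commute (π t) (π g) := by
    intro g
    obtain ⟨j, hj⟩ := hidxt g
    have hg' : g = (g * t ^ j) * (t ^ j)⁻¹ := by group
    rw [hg', map_mul, map_inv, map_pow]
    exact (htS _ hj).mul_right ((Commute.refl _).pow_right j).inv_right
  have hall : ∀ a b : G, Commute (π a) (π b) := by
    intro a b
    obtain ⟨j, j', l, hl, hg⟩ := hdec a
    have ha' : a = l * (d ^ j')⁻¹ * (t ^ j)⁻¹ := by rw [← hg]; group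
    rw [ha', map_mul, map_mul, map_inv, map_inv, map_pow, map_pow]
    exact ((hL1 l hl b).mul_left ((hdZ b).pow_left j').inv_left).mul_left ((htZ b).pow_left j).inv_left
  change ⁅(⊤ : Subgroup G).lowerCentralSeries 0, (⊤ : Subgroup G)⁆ ≤ L G 2
  rw [Subgroup.commutator_le]
  intro a _ b _
  exact (t_comm_mem_iff (L G 2) a b).mpr (hall a b)

/-- the filtration `M₀ ≥ γ₂ ≥ γ₃ ≥ …` -/
def twoM {G : Type*} [Group G] (M₀ : Subgroup G) : ℕ → Subgroup G
  | 0 => M₀
  | (i + 1) => L G (i + 1)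

/-- existence of a subgroup of index `p` over `γ₂` avoiding `t`. -/
theorem exists_index_p {p : ℕ} [Fact p.Prime] {G : Type*} [Group G] [Finite G]
    (hQ : Nat.card (G ⧸ L G 1) = p ^ 2) (hpow : ∀ x : G, x ^ p ∈ L G 1) (t : G) (ht : t ∉ L G 1) :
    ∃ M₀ : Subgroup G, M₀.Normal ∧ L G 1 ≤ M₀ ∧ M₀.index = p ∧ t ∉ M₀ := by
  have hp : p.Prime := Fact.out
  set π := QuotientGroup.mk' (L G 1) with hπ
  have hcommQ : ∀ a b : G ⧸ L G 1, a * b = b * a := by
    have := IsPGroup.isMulCommutative_of_card_eq_prime_sq hQ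
    intro a b
    exact this.is_comm.comm a b
  have hpowQ : ∀ q : G ⧸ L G 1, q ^ p = 1 := by
    intro q
    obtain ⟨x, rfl⟩ := QuotientGroup.mk'_surjective (L G 1) q
    rw [← map_pow]
    exact (QuotientGroup.eq_one_iff _).2 (hpow x)
  have ht1 : π t ≠ 1 := by
    intro h
    exact ht ((QuotientGroup.eq_one_iff t).1 h)
  have hot : orderOf (π t) = p := orderOf_eq_prime (hpowQ _) ht1
  -- an element outside `⟨π t⟩`
  obtain ⟨sb, hsb⟩ : ∃ sb : G ⧸ L G 1, sb ∉ Subgroup.zpowers (π t) := by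
    by_contra hcon
    have htop : Subgroup.zpowers (π t) = ⊤ := by
      rw [eq_top_iff]
      intro q _
      by_contra hq
      exact hcon ⟨q, hq⟩
    have h1 : Nat.card ↥(Subgroup.zpowers (π t)) = Nat.card (G ⧸ L G 1) :=
      (Subgroup.card_eq_iff_eq_top _).2 htop
    rw [Nat.card_zpowers, hot, hQ] at h1
    have : p < p ^ 2 := by
      calc p = p ^ 1 := (pow_one p).symm
        _ < p ^ 2 := Nat.pow_lt_pow_right hp.one_lt (by norm_num)
    omega
  have hsb1 : sb ≠ 1 := by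
    rintro rfl
    exact hsb (Subgroup.one_mem _)
  have hos : orderOf sb = p := orderOf_eq_prime (hpowQ _) hsb1
  set B : Subgroup (G ⧸ L G 1) := Subgroup.zpowers sb with hB
  have hBn : B.Normal := ⟨fun x hx g => by rw [hcommQ g x, mul_inv_cancel_right]; exact hx⟩
  have hBcard : Nat.card ↥B = p := by rw [hB, Nat.card_zpowers, hos]
  refine ⟨B.comap π, hBn.comap π, ?_, ?_, ?_⟩
  · intro x hx
    rw [Subgroup.mem_comap]
    have : π x = 1 := (QuotientGroup.eq_one_iff x).2 hx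
    rw [this]
    exact B.one_mem
  · rw [Subgroup.index_comap_of_surjective B (QuotientGroup.mk'_surjective (L G 1))]
    have h1 := Subgroup.card_mul_index B
    rw [hBcard, hQ, pow_two] at h1
    exact Nat.eq_of_mul_eq_mul_left hp.pos h1
  · intro htB
    rw [Subgroup.mem_comap] at htB
    -- `π t ∈ B` nontrivial, so it generates `B`
    have hne : (⟨π t, htB⟩ : B) ≠ 1 := by
      intro h
      exact ht1 (congrArg Subtype.val h)
    have htop := zpowers_eq_top_of_prime_card hBcard hne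
    have hmem : (⟨sb, Subgroup.mem_zpowers sb⟩ : B) ∈ Subgroup.zpowers (⟨π t, htB⟩ : B) := by
      rw [htop]; exact Subgroup.mem_top _
    obtain ⟨k, hk⟩ := Subgroup.mem_zpowers_iff.1 hmem
    apply hsb
    rw [Subgroup.mem_zpowers_iff]
    refine ⟨k, ?_⟩
    have := congrArg Subtype.val hk
    rw [Subgroup.coe_zpow] at this
    exact this

section

variable {p : ℕ} [Fact p.Prime] {G : Type*} [Group G] [Finite G] {n : ℕ}

/-- **TWO**. -/
theorem two_gen_of_uniform (hn : 3 ≤ n) (hG : Nat.card G = p ^ n)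
    (hcard : ∀ i, 1 ≤ i → i ≤ n - 1 → Nat.card ↥(L G i) = p ^ (n - 1 - i))
    (t : G) (ht : t ∉ L G 1)
    (hU2 : ∀ i, 1 ≤ i → i + 2 < n → ∀ d ∈ L G i, d ∉ L G (i + 1) → d * t * d⁻¹ * t⁻¹ ∉ L G (i + 2))
    (H : Subgroup G) (htH : t ∈ H) : ∃ x : G, Subgroup.closure ({t, x} : Set G) = H := by
  have hp : p.Prime := Fact.out
  -- maximal class
  have hmc : (⊤ : Subgroup G).lowerCentralSeries (n - 2) ≠ ⊥ := by
    intro hbot
    have h1 := hcard (n - 2) (by omega) (by omega)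
    have h2 : L G (n - 2) = ⊥ := hbot
    rw [h2, Subgroup.card_bot] at h1
    have h3 : n - 1 - (n - 2) = 1 := by omega
    rw [h3, pow_one] at h1
    exact hp.one_lt.ne h1
  have hpow : ∀ x : G, x ^ p ∈ L G 1 := fun x =>
    Cfsg.Agent.Lib.H22.MCS.pow_mem_commutator_of_maxclass p hn hG hmc x
  have hcN : Nat.card ↥(L G 1) = p ^ (n - 2) := by
    have := hcard 1 le_rfl (by omega)
    rwa [show n - 1 - 1 = n - 2 by omega] at this
  have hQ : Nat.card (G ⧸ L G 1) = p ^ 2 := by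
    have h1 := Subgroup.card_mul_index (L G 1)
    rw [hcN, hG, Subgroup.index_eq_card] at h1
    have h2 : p ^ n = p ^ (n - 2) * p ^ 2 := by rw [← pow_add]; congr 1; omega
    rw [h2] at h1
    exact Nat.eq_of_mul_eq_mul_left (pow_pos hp.pos _) h1
  obtain ⟨M₀, hM₀n, hNM, hM₀idx, htM⟩ := exists_index_p hQ hpow t ht
  have hcM : Nat.card ↥M₀ = p * Nat.card ↥(L G 1) := by
    have h1 := Subgroup.card_mul_index M₀
    rw [hM₀idx, hG] at h1
    have h2 : p ^ n = p * p ^ (n - 2) * p := by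
      rw [mul_assoc, ← pow_succ, ← pow_succ']; congr 1; omega
    rw [h2] at h1
    rw [hcN]
    exact Nat.eq_of_mul_eq_mul_right hp.pos h1
  -- level zero index statement
  have hidx0 : ∀ g ∈ M₀, ∀ w ∈ M₀, w ∉ L G 1 → ∃ j : ℕ, g * w ^ j ∈ L G 1 :=
    idxp_rel M₀ (L G 1) hNM hcM
  have hidxt : ∀ g : G, ∃ j : ℕ, g * t ^ j ∈ M₀ := fun g => idxp M₀ hM₀idx g t htM
  -- the filtration
  have hFil : Fil (twoM M₀) (n - 1) := by
    refine ⟨?_, ?_, ?_⟩
    · intro i
      cases i with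
      | zero => exact hNM
      | succ k => exact t_L_succ_le (k + 1)
    · obtain ⟨k, hk⟩ : ∃ k, n - 1 = k + 1 := ⟨n - 2, by omega⟩
      rw [hk]
      show L G (k + 1) = ⊥
      rw [← hk, ← Subgroup.card_eq_one, hcard (n - 1) (by omega) le_rfl, Nat.sub_self, pow_zero]
    · intro i hi
      cases i with
      | zero => exact hidx0
      | succ k =>
        show ∀ g ∈ L G (k + 1), ∀ w ∈ L G (k + 1), w ∉ L G (k + 2) → ∃ j : ℕ, g * w ^ j ∈ L G (k + 2)
        apply idxp_rel (p := p) (L G (k + 1)) (L G (k + 2)) (t_L_succ_le (k + 1))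
        rw [hcard (k + 1) (by omega) (by omega), hcard (k + 2) (by omega) (by omega), ← pow_succ']
        congr 1
        omega
  have hne12 : ¬ L G 1 ≤ L G 2 := by
    intro hle
    have h1 := Subgroup.card_le_of_le hle
    rw [hcN, hcard 2 (by omega) (by omega)] at h1
    have h2 : p ^ (n - 1 - 2) < p ^ (n - 2) := Nat.pow_lt_pow_right hp.one_lt (by omega)
    omega
  have hcomm : ∀ i, i + 1 < n - 1 → ∀ d ∈ twoM M₀ i, d ∉ twoM M₀ (i + 1) →
      d * t * d⁻¹ * t⁻¹ ∈ twoM M₀ (i + 1) ∧ d * t * d⁻¹ * t⁻¹ ∉ twoM M₀ (i + 2) := by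
    intro i hi
    cases i with
    | zero =>
      intro d hd hdn
      refine ⟨?_, ?_⟩
      · show d * t * d⁻¹ * t⁻¹ ∈ L G 1
        have hd0 : d ∈ L G 0 := by
          show d ∈ (⊤ : Subgroup G).lowerCentralSeries 0
          rw [Subgroup.lowerCentralSeries_zero]
          exact Subgroup.mem_top d
        exact t_comm_mem_succ hd0 t
      · exact comm_shift_zero_gen M₀ hne12 hidx0 t hidxt d hd hdn
    | succ k =>
      intro d hd hdn
      refine ⟨?_, ?_⟩
      · show d * t * d⁻¹ * t⁻¹ ∈ L G (k + 2)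
        exact t_comm_mem_succ hd t
      · show d * t * d⁻¹ * t⁻¹ ∉ L G (k + 3)
        exact hU2 (k + 1) (by omega) (by omega) d hd hdn
  exact Cfsg.Agent.Lib.H10.Pearl.fil_two_gen_of_not_le hFil t hidxt hcomm H htH

end

end Cfsg.Agent.Lib.H10.PPearl
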