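import Mathlib
import Cfsg.Agent.Lib.H28.PSp4Defs
import Cfsg.Agent.Lib.H28.PSp4E0
import Cfsg.Agent.Lib.H12.SL2Syl2

/-!
# S5320 piece E2 (helper10): `Et Q / Z` is self-centralizing in `St Q / Z`.
-/

set_option autoImplicit false

namespace Cfsg.Agent.Lib.H10.PSp4

open Matrix Cfsg.Agent.Lib.H9.SqC Cfsg.Agent.Lib.H28.PSp4 Cfsg.Agent.Lib.H12

variable {F : Type*} [Field F]

/-- a central `Φ(u, v)` has `u = v`. -/
theorem Ph_center_eq {u v : SL2 F} (h : Ph u v ∈ Subgroup.center (Sp4 F)) : u = v := by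
  rcases mem_center_iff.1 h with h1 | h1
  · rw [← Ph_one] at h1
    obtain ⟨rfl, rfl⟩ := Ph_inj h1
    rfl
  · obtain ⟨rfl, rfl⟩ := Ph_inj h1
    rfl

/-- **E2**. -/
theorem mem_Et_of_comm (h2 : (2 : F) ≠ 0) {Q : Subgroup (SL2 F)} (hneg : (-1 : SL2 F) ∈ Q)
    (hnc : ∀ b ∈ Q, b ≠ 1 → b ≠ -1 → ∃ d ∈ Q, b * d ≠ d * b)
    {t : Sp4 F} (ht : t ∈ St Q)
    (hc : ∀ e ∈ Et Q, t * e * t⁻¹ * e⁻¹ ∈ Subgroup.center (Sp4 F)) : t ∈ Et Q := by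
  have hDg : ∀ c ∈ Q, Ph c c ∈ Et Q := by
    intro c hcQ
    exact (mem_Et_iff hneg).2 ⟨c, hcQ, Or.inl rfl⟩
  obtain ⟨a, haQ, b, hbQ, htab⟩ := ht
  -- the commutator with `Φ(c, c)`
  have hcomm : ∀ c ∈ Q, Ph (a * c * a⁻¹ * c⁻¹) (b * c * b⁻¹ * c⁻¹) ∈ Subgroup.center (Sp4 F) := by
    intro c hcQ
    have h1 := hc _ (hDg c hcQ)
    rcases htab with rfl | rfl
    · rwa [Ph_inv, Ph_inv, Ph_mul, Ph_mul, Ph_mul] at h1
    · have e1 : Ph a b * sw * Ph c c * (Ph a b * sw)⁻¹ * (Ph c c)⁻¹ =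
          Ph a b * (sw * Ph c c * sw⁻¹) * (Ph a b)⁻¹ * (Ph c c)⁻¹ := by group
      rw [e1, sw_conj_Ph] at h1
      rwa [Ph_inv, Ph_inv, Ph_mul, Ph_mul, Ph_mul] at h1
  -- `b⁻¹ a` is central in `Q`
  have hcen : ∀ c ∈ Q, (b⁻¹ * a) * c = c * (b⁻¹ * a) := by
    intro c hcQ
    have h1 := Ph_center_eq (hcomm c hcQ)
    have h3 : a * c * a⁻¹ = b * c * b⁻¹ := by
      have := congrArg (· * c) h1
      simpa [mul_assoc] using this
    calc (b⁻¹ * a) * c = b⁻¹ * (a * c * a⁻¹) * a := by group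
      _ = b⁻¹ * (b * c * b⁻¹) * a := by rw [h3]
      _ = c * (b⁻¹ * a) := by group
  have hbaQ : b⁻¹ * a ∈ Q := Q.mul_mem (Q.inv_mem hbQ) haQ
  have hpm : b⁻¹ * a = 1 ∨ b⁻¹ * a = -1 := by
    by_contra hcon
    have h1 : b⁻¹ * a ≠ 1 := fun h => hcon (Or.inl h)
    have h3 : b⁻¹ * a ≠ -1 := fun h => hcon (Or.inr h)
    obtain ⟨d, hdQ, hd⟩ := hnc _ hbaQ h1 h3
    exact hd (hcen d hdQ)
  have hb : b = a ∨ b = -a := by
    rcases hpm with h | h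
    · left
      have : a = b * (b⁻¹ * a) := by group
      rw [this, h, mul_one]
    · right
      have : a = b * (b⁻¹ * a) := by group
      rw [this, h, mul_neg, mul_one, neg_neg]
  rw [mem_Et_iff hneg]
  refine ⟨a, haQ, ?_⟩
  rcases hb with rfl | rfl
  · rcases htab with rfl | rfl
    · exact Or.inl rfl
    · exact Or.inr (Or.inr (Or.inl rfl))
  · rcases htab with rfl | rfl
    · exact Or.inr (Or.inl rfl)
    · exact Or.inr (Or.inr (Or.inr rfl))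

end Cfsg.Agent.Lib.H10.PSp4
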