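import Mathlib
import Cfsg.Agent.Lib.H28.PSp4Defs
import Cfsg.Agent.Lib.H12.SL2Syl2

/-!
# S5320 piece SC1 (helper10): a normal subgroup of `Q ≀ 2` not inside `{±1}` contains `Φ(-1, 1)`.
-/

set_option autoImplicit false

namespace Cfsg.Agent.Lib.H10.PSp4

open Matrix Cfsg.Agent.Lib.H9.SqC Cfsg.Agent.Lib.H28.PSp4 Cfsg.Agent.Lib.H12

variable {F : Type*} [Field F]

theorem Ph_pow (a b : SL2 F) (n : ℕ) : Ph a b ^ n = Ph (a ^ n) (b ^ n) := by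
  induction n with
  | zero => rw [pow_zero, pow_zero, pow_zero, Ph_one]
  | succ n ih => rw [pow_succ, ih, Ph_mul, ← pow_succ, ← pow_succ]

/-- a nontrivial `2`-element of `SL₂(F)` has a power equal to `-1`. -/
theorem exists_pow_eq_neg_one (h2 : (2 : F) ≠ 0) {e : SL2 F} (he1 : e ≠ 1)
    (hk : ∃ k : ℕ, e ^ 2 ^ k = 1) : ∃ n : ℕ, e ^ n = -1 := by
  classical
  obtain ⟨k, hk1, hkmin⟩ : ∃ k : ℕ, e ^ 2 ^ k = 1 ∧ ∀ j < k, e ^ 2 ^ j ≠ 1 :=
    ⟨Nat.find hk, Nat.find_spec hk, fun j hj => Nat.find_min hk hj⟩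
  have hk0 : k ≠ 0 := by
    rintro rfl
    apply he1
    simpa using hk1
  obtain ⟨j, rfl⟩ : ∃ j, k = j + 1 := Nat.exists_eq_succ_of_ne_zero hk0
  refine ⟨2 ^ j, ?_⟩
  have hsq : e ^ 2 ^ j * e ^ 2 ^ j = 1 := by
    rw [← pow_add, ← two_mul, ← pow_succ']
    exact hk1
  rcases (sl2_mul_self_eq_one_iff h2 _).1 hsq with h | h
  · exact absurd h (hkmin j (Nat.lt_succ_self j))
  · exact h

/-- **SC1**. -/
theorem Ph_neg_one_one_mem (h2 : (2 : F) ≠ 0) {Q : Subgroup (SL2 F)} (hQ : IsPGroup 2 Q)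
    {x : SL2 F} (hxQ : x ∈ Q) (hxx : x * x = -1)
    (hnc : ∀ b ∈ Q, b ≠ 1 → b ≠ -1 → ∃ d ∈ Q, b * d ≠ d * b)
    (T : Subgroup (Sp4 F)) (hTS : T ≤ St Q)
    (hTn : ∀ t ∈ T, ∀ s ∈ St Q, s * t * s⁻¹ ∈ T)
    (hne : ∃ t ∈ T, t ∉ Subgroup.center (Sp4 F)) : Ph (-1) 1 ∈ T := by
  have hm1 : (-1 : SL2 F) ≠ 1 := sl2_neg_one_ne_one h2
  -- commutators with elements of `St Q` stay in `T`
  have hcomm : ∀ t ∈ T, ∀ s ∈ St Q, t * s * t⁻¹ * s⁻¹ ∈ T := by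
    intro t ht s hs
    have h1 : s * t⁻¹ * s⁻¹ ∈ T := hTn _ (T.inv_mem ht) s hs
    have h3 : t * s * t⁻¹ * s⁻¹ = t * (s * t⁻¹ * s⁻¹) := by group
    rw [h3]
    exact T.mul_mem ht h1
  -- swap symmetry
  have hswap : ∀ a b : SL2 F, Ph a b ∈ T → Ph b a ∈ T := by
    intro a b h
    have := hTn _ h sw (sw_mem_St Q)
    rwa [sw_conj_Ph] at this
  -- the key case
  have key : ∀ a b : SL2 F, Ph a b ∈ T → b ≠ 1 → b ≠ -1 → Ph (-1) 1 ∈ T := by
    intro a b hab hb1 hb2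
    obtain ⟨haQ, hbQ⟩ := Ph_mem_St.1 (hTS hab)
    obtain ⟨d, hdQ, hbd⟩ := hnc b hbQ hb1 hb2
    have h1 := hcomm _ hab (Ph 1 d) (Ph_mem_St.2 ⟨Q.one_mem, hdQ⟩)
    rw [Ph_inv, Ph_inv, Ph_mul, Ph_mul, Ph_mul] at h1
    have ha1 : a * 1 * a⁻¹ * 1⁻¹ = 1 := by group
    rw [ha1] at h1
    set e : SL2 F := b * d * b⁻¹ * d⁻¹ with he
    have heQ : e ∈ Q := Q.mul_mem (Q.mul_mem (Q.mul_mem hbQ hdQ) (Q.inv_mem hbQ)) (Q.inv_mem hdQ)
    have he1 : e ≠ 1 := by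
      intro h
      apply hbd
      have : b * d = e * (d * b) := by rw [he]; group
      rw [this, h, one_mul]
    obtain ⟨k, hk⟩ := hQ ⟨e, heQ⟩
    have hk' : e ^ 2 ^ k = 1 := by
      have := congrArg Subtype.val hk
      simpa using this
    obtain ⟨n, hn⟩ := exists_pow_eq_neg_one h2 he1 ⟨k, hk'⟩
    have h3 := T.pow_mem h1 n
    rw [Ph_pow, one_pow, hn] at h3
    exact hswap _ _ h3
  obtain ⟨t, htT, htc⟩ := hne
  have hx1 : x ≠ 1 := by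
    rintro rfl
    rw [one_mul] at hxx
    exact hm1 hxx.symm
  have hx2 : x ≠ -1 := by
    rintro rfl
    rw [neg_mul_neg, one_mul] at hxx
    exact hm1 hxx.symm
  obtain ⟨a, haQ, b, hbQ, rfl | rfl⟩ := hTS htT
  · -- `t = Φ(a, b)`
    by_cases hb : b = 1 ∨ b = -1
    · by_cases ha : a = 1 ∨ a = -1
      · rcases ha with rfl | rfl <;> rcases hb with rfl | rfl
        · exact absurd (by rw [Ph_one]; exact Subgroup.one_mem _) htc
        · exact hswap _ _ htT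
        · exact htT
        · exact absurd (mem_center_iff.2 (Or.inr rfl)) htc
      · have ha' : a ≠ 1 ∧ a ≠ -1 := by
          constructor
          · intro h; exact ha (Or.inl h)
          · intro h; exact ha (Or.inr h)
        exact key b a (hswap _ _ htT) ha'.1 ha'.2
    · have hb' : b ≠ 1 ∧ b ≠ -1 := by
        constructor
        · intro h; exact hb (Or.inl h)
        · intro h; exact hb (Or.inr h)
      exact key a b htT hb'.1 hb'.2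
  · -- `t = Φ(a, b) sw`
    have h1 := hcomm _ htT (Ph x 1) (Ph_mem_St.2 ⟨hxQ, Q.one_mem⟩)
    have h3 : Ph a b * sw * Ph x 1 * (Ph a b * sw)⁻¹ * (Ph x 1)⁻¹ =
        Ph x⁻¹ (b * x * b⁻¹) := by
      have e1 : Ph a b * sw * Ph x 1 * (Ph a b * sw)⁻¹ =
          Ph a b * (sw * Ph x 1 * sw⁻¹) * (Ph a b)⁻¹ := by group
      rw [e1, sw_conj_Ph, Ph_inv, Ph_inv, Ph_mul, Ph_mul, Ph_mul]
      congr 1
      · group
      · group
    rw [h3] at h1
    have hx3 : x⁻¹ ≠ 1 := by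
      intro h
      exact hx1 (inv_eq_one.1 h)
    have hx4 : x⁻¹ ≠ -1 := by
      intro h
      apply hx2
      have : x = (-1 : SL2 F)⁻¹ := by rw [← h, inv_inv]
      rw [this]
      apply inv_eq_of_mul_eq_one_right
      rw [neg_mul_neg, one_mul]
    exact key _ _ (hswap _ _ h1) hx3 hx4

end Cfsg.Agent.Lib.H10.PSp4
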