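import Mathlib
import Cfsg.Prelude.Def_QuasithinSetup
import Cfsg.Agent.Lib.H15.JCS1
import Cfsg.Agent.Lib.H14.CharP2
import Cfsg.Agent.Lib.H14.FStarComm
import Cfsg.Agent.Lib.H7.Coprime
import Cfsg.Agent.Lib.H7.PLocal
import Cfsg.Agent.Lib.H7.PPrimeLayer
import Cfsg.Agent.Lib.H1.CoprimeAction

/-!
helper10: general lemmas for the members of `ℒ(G, T)` in a group of even characteristic
(towards Aschbacher--Smith 1.2.9).
-/

set_option autoImplicit false

namespace Cfsg.Agent.Lib.H10.QTLf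

open Cfsg.Agent.Lib.H15 (pcoreOf_le pcoreOf_isPGroup mem_pcoreOf_iff le_pcoreOf pcoreOf_normalized
  hasCharP_iff)

variable {G : Type*} [Group G]

/-- A perfect subgroup of a finite group is generated by its elements of odd order. -/
theorem oddGenerated_eq_of_perfect [Finite G] (K : Subgroup G) (hK : ⁅K, K⁆ = K) :
    Cfsg.oddGenerated K = K := by
  have : Fact (Nat.Prime 2) := ⟨Nat.prime_two⟩
  have hperf : commutator ↥K = ⊤ := by
    rw [commutator_def]
    apply Subgroup.map_injective K.subtype_injective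
    rw [Subgroup.map_commutator, ← MonoidHom.range_eq_map, Subgroup.range_subtype]
    exact hK
  have htop : Cfsg.pResidual 2 ↥K = ⊤ := by
    apply Cfsg.Agent.Lib.H7.pResidual_eq_top_of_commutator_sup 2 ⊥ bot_le
    rw [hperf, sup_bot_eq]
  have h1 := Cfsg.Agent.Lib.H14.pResidual_map_eq 2 K
  rw [htop, ← MonoidHom.range_eq_map, Subgroup.range_subtype] at h1
  unfold Cfsg.oddGenerated
  have h2 : {x : G | x ∈ K ∧ Odd (orderOf x)} = {x : G | x ∈ K ∧ (orderOf x).Coprime 2} := by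
    ext x
    simp only [Set.mem_ofPred_eq, Nat.coprime_two_right]
  rw [h2]
  exact h1.symm

/-- In a finite group of even characteristic, a subgroup `H` containing a Sylow `2`-subgroup with
`O₂(H) ≠ 1` satisfies `C_H(O₂(H)) ≤ O₂(H)`. -/
theorem charTwo_of_sylow_le [Finite G] (hE : Cfsg.IsOfEvenCharacteristic G) (T : Sylow 2 G)
    (H : Subgroup G) (hTH : (T : Subgroup G) ≤ H) (hH : Cfsg.pCore 2 ↥H ≠ ⊥) :
    H ⊓ Subgroup.centralizer (Cfsg.pCoreOf 2 H : Set G) ≤ Cfsg.pCoreOf 2 H := by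
  have : Fact (Nat.Prime 2) := ⟨Nat.prime_two⟩
  set R := Cfsg.pCoreOf 2 H with hR
  have hRp : IsPGroup 2 ↥R := pcoreOf_isPGroup 2 H
  have hRne : R ≠ ⊥ := by
    intro h
    apply hH
    rw [hR] at h
    unfold Cfsg.pCoreOf at h
    rwa [Subgroup.map_eq_bot_iff_of_injective _ H.subtype_injective] at h
  set M := Subgroup.normalizer (R : Set G) with hM
  have hHM : H ≤ M := pcoreOf_normalized 2 H
  have hTM : (T : Subgroup G) ≤ M := hTH.trans hHM
  have hchar : Cfsg.IsOfCharacteristicTwo ↥M := hE M ⟨R, hRp, hRne, rfl⟩ ⟨T, hTM⟩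
  have hchar' : M ⊓ Subgroup.centralizer (Cfsg.pCoreOf 2 M : Set G) ≤ Cfsg.pCoreOf 2 M :=
    hasCharP_iff.mp hchar
  -- `O₂(M) = R`
  have h1 : R ≤ Cfsg.pCoreOf 2 M :=
    le_pcoreOf ((pcoreOf_le 2 H).trans hHM) le_rfl hRp
  have h2 : Cfsg.pCoreOf 2 M ≤ (T : Subgroup G) := by
    intro x hx
    obtain ⟨hxM, hx'⟩ := mem_pcoreOf_iff.mp hx
    have := Cfsg.Agent.Lib.H14.pCore_le_sylow (T.subtype hTM) hx'
    exact Subgroup.mem_subgroupOf.mp this
  have h3 : Cfsg.pCoreOf 2 M ≤ R :=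
    le_pcoreOf (h2.trans hTH) (hHM.trans (pcoreOf_normalized 2 M)) (pcoreOf_isPGroup 2 M)
  have h4 : Cfsg.pCoreOf 2 M = R := le_antisymm h3 h1
  rw [h4] at hchar'
  exact (inf_le_inf_right _ hHM).trans hchar'

end Cfsg.Agent.Lib.H10.QTLf
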