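import Mathlib
import Cfsg.Agent.Lib.H10.QTLfA
import Cfsg.Agent.Lib.H21.FFGlauB

/-!
helper10: the two coprime-action steps for Aschbacher--Smith 1.2.9.
-/

set_option autoImplicit false

namespace Cfsg.Agent.Lib.H10.QTLf

open Cfsg.Agent.Lib.H15 (pcoreOf_le pcoreOf_isPGroup mem_pcoreOf_iff le_pcoreOf pcoreOf_normalized
  hasCharP_iff)
open Cfsg.Agent.Lib.H1 (CoprimeAction coprime_commutator_commutator coprime_commutator_sup_centralizer)

variable {G : Type*} [Group G]

/-- ambient form of `H14.le_of_eq_commutator_of_isSubnormal`. -/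
theorem le_of_eq_commutator_of_subnormal {K H Y A : Subgroup G} (hKH : K ≤ H)
    (hsn : (K.subgroupOf H).IsSubnormal) (hYK : Y ≤ K) (hAH : A ≤ H) (hA : A = ⁅A, Y⁆) : A ≤ K := by
  have hYK' : Y.subgroupOf H ≤ K.subgroupOf H := by
    intro y hy
    rw [Subgroup.mem_subgroupOf] at hy ⊢
    exact hYK hy
  have hA' : A.subgroupOf H = ⁅A.subgroupOf H, Y.subgroupOf H⁆ := by
    apply Subgroup.map_injective H.subtype_injective
    rw [Subgroup.map_commutator, Subgroup.map_subgroupOf_eq_of_le hAH,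
      Subgroup.map_subgroupOf_eq_of_le (hYK.trans hKH)]
    exact hA
  have h := Cfsg.Agent.Lib.H14.le_of_eq_commutator_of_isSubnormal (K.subgroupOf H)
    (Y.subgroupOf H) (A.subgroupOf H) hsn hYK' hA'
  intro a ha
  have : (⟨a, hAH ha⟩ : ↥H) ∈ A.subgroupOf H := Subgroup.mem_subgroupOf.mpr ha
  exact Subgroup.mem_subgroupOf.mp (h this)

/-- whatever normalizes `X` and `Y` normalizes `X ⊓ C(Y)`. -/
theorem mem_normalizer_inf_centralizer {X Y : Subgroup G} {g : G}
    (hX : g ∈ Subgroup.normalizer (X : Set G)) (hY : g ∈ Subgroup.normalizer (Y : Set G)) :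
    g ∈ Subgroup.normalizer ((X ⊓ Subgroup.centralizer (Y : Set G) : Subgroup G) : Set G) := by
  have key : ∀ g : G, g ∈ Subgroup.normalizer (X : Set G) → g ∈ Subgroup.normalizer (Y : Set G) →
      ∀ x ∈ X ⊓ Subgroup.centralizer (Y : Set G),
        g * x * g⁻¹ ∈ X ⊓ Subgroup.centralizer (Y : Set G) := by
    intro g hX hY x hx
    rw [Subgroup.mem_inf] at hx
    refine Subgroup.mem_inf.mpr ⟨(Subgroup.mem_normalizer_iff.mp hX x).mp hx.1, ?_⟩
    rw [Subgroup.mem_centralizer_iff]
    intro y hy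
    have hy' : g⁻¹ * y * g ∈ Y := by
      have := (Subgroup.mem_normalizer_iff.mp ((Subgroup.normalizer (Y : Set G)).inv_mem hY) y).mp hy
      simpa using this
    have hc := (Subgroup.mem_centralizer_iff.mp hx.2) _ hy'
    calc y * (g * x * g⁻¹) = g * ((g⁻¹ * y * g) * x) * g⁻¹ := by group
      _ = g * (x * (g⁻¹ * y * g)) * g⁻¹ := by rw [hc]
      _ = g * x * g⁻¹ * y := by group
  rw [Subgroup.mem_normalizer_iff]
  intro x
  constructor
  · exact key g hX hY x
  · intro hx
    have := key g⁻¹ ((Subgroup.normalizer (X : Set G)).inv_mem hX)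
      ((Subgroup.normalizer (Y : Set G)).inv_mem hY) _ hx
    have e : g⁻¹ * (g * x * g⁻¹) * g⁻¹⁻¹ = x := by group
    rwa [e] at this

/-- the centre `P ⊓ C(P)` is commutative. -/
theorem center_comm (P : Subgroup G) :
    ∀ a ∈ P ⊓ Subgroup.centralizer (P : Set G), ∀ b ∈ P ⊓ Subgroup.centralizer (P : Set G),
      a * b = b * a := by
  intro a ha b hb
  exact ((Subgroup.mem_centralizer_iff.mp hb.2) a ha.1)

/-- An element of odd order normalizing the `2`-group `P` and centralizing the involutions of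
`Z(P)` centralizes `Z(P)`. -/
theorem commute_center_of_odd {P : Subgroup G} (hP : IsPGroup 2 P) {a : G} (ha : Odd (orderOf a))
    (haP : a ∈ Subgroup.normalizer (P : Set G))
    (hc : ∀ v ∈ P ⊓ Subgroup.centralizer (P : Set G), v ^ 2 = 1 → a * v = v * a) :
    ∀ v ∈ P ⊓ Subgroup.centralizer (P : Set G), a * v = v * a := by
  set Z := P ⊓ Subgroup.centralizer (P : Set G) with hZ
  have hZc := center_comm P
  have haZ : a ∈ Subgroup.normalizer (Z : Set G) := mem_normalizer_inf_centralizer haP haP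
  have key : ∀ e : ℕ, ∀ v ∈ Z, v ^ (2 ^ e) = 1 → a * v = v * a := by
    intro e
    induction e with
    | zero =>
      intro v _ hv
      rw [pow_zero, pow_one] at hv
      rw [hv, mul_one, one_mul]
    | succ e ih =>
      intro v hv hve
      have hv2 : v ^ 2 ∈ Z := Z.pow_mem hv 2
      have h1 : a * v ^ 2 = v ^ 2 * a := by
        apply ih _ hv2
        rw [← pow_mul, ← pow_succ']; exact hve
      set w := a * v * a⁻¹ with hw
      have hwZ : w ∈ Z := (Subgroup.mem_normalizer_iff.mp haZ v).mp hv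
      set c := w * v⁻¹ with hcdef
      have hcZ : c ∈ Z := Z.mul_mem hwZ (Z.inv_mem hv)
      have hwv : Commute w v⁻¹ := hZc w hwZ v⁻¹ (Z.inv_mem hv)
      have hc2 : c ^ 2 = 1 := by
        rw [hcdef, hwv.mul_pow]
        have : w ^ 2 = v ^ 2 := by
          rw [hw, conj_pow]
          calc a * v ^ 2 * a⁻¹ = (a * v ^ 2) * a⁻¹ := by group
            _ = v ^ 2 * a * a⁻¹ := by rw [h1]
            _ = v ^ 2 := by group
        rw [this, inv_pow, mul_inv_cancel]
      have hac : a * c = c * a := hc c hcZ hc2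
      have hconj : a * v * a⁻¹ = c * v := by rw [hcdef, hw]; group
      have hc1 : c = 1 := by
        apply Cfsg.Agent.Lib.H7.eq_one_of_conj_eq_mul (pow_orderOf_eq_one a) hc2 _ hconj hac
        exact (Nat.coprime_two_right.mpr ha)
      rw [hc1, one_mul] at hconj
      calc a * v = (a * v * a⁻¹) * a := by group
        _ = v * a := by rw [hconj]
  intro v hv
  have hv' : v ∈ P := hv.1
  obtain ⟨e, he⟩ := hP ⟨v, hv'⟩
  have : v ^ (2 ^ e) = 1 := by
    have := congrArg Subtype.val he
    simpa using this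
  exact key e v hv this

end Cfsg.Agent.Lib.H10.QTLf
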