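import Mathlib
import Cfsg.Agent.Lib.H10.QTLfB

/-!
helper10: the two coprime-action steps for Aschbacher--Smith 1.2.9 (continued).
-/

set_option autoImplicit false

namespace Cfsg.Agent.Lib.H10.QTLf

open Cfsg.Agent.Lib.H15 (pcoreOf_le pcoreOf_isPGroup mem_pcoreOf_iff le_pcoreOf pcoreOf_normalized
  hasCharP_iff)
open Cfsg.Agent.Lib.H1 (CoprimeAction coprime_commutator_commutator coprime_commutator_sup_centralizer)
open Cfsg.Agent.Lib.H21.FFGlau (mem_omegaOne_iff')

variable {G : Type*} [Group G]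

/-- `Ω₁(Z(P))` -/
abbrev omZ (P : Subgroup G) : Subgroup G :=
  Cfsg.omegaOne 2 (P ⊓ Subgroup.centralizer (P : Set G))

theorem mem_omZ_iff {P : Subgroup G} {y : G} :
    y ∈ omZ P ↔ y ∈ P ⊓ Subgroup.centralizer (P : Set G) ∧ y ^ 2 = 1 :=
  mem_omegaOne_iff' (center_comm P)

theorem omZ_le (P : Subgroup G) : omZ P ≤ P ⊓ Subgroup.centralizer (P : Set G) :=
  fun _ hy => (mem_omZ_iff.mp hy).1

theorem mem_normalizer_omZ {P : Subgroup G} {g : G} (hg : g ∈ Subgroup.normalizer (P : Set G)) :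
    g ∈ Subgroup.normalizer ((omZ P : Subgroup G) : Set G) := by
  have hZ : g ∈ Subgroup.normalizer ((P ⊓ Subgroup.centralizer (P : Set G) : Subgroup G) : Set G) :=
    mem_normalizer_inf_centralizer hg hg
  have key : ∀ g : G, g ∈ Subgroup.normalizer
      ((P ⊓ Subgroup.centralizer (P : Set G) : Subgroup G) : Set G) →
      ∀ x ∈ omZ P, g * x * g⁻¹ ∈ omZ P := by
    intro g hZ x hx
    rw [mem_omZ_iff] at hx ⊢
    refine ⟨(Subgroup.mem_normalizer_iff.mp hZ x).mp hx.1, ?_⟩
    rw [conj_pow, hx.2]; group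
  rw [Subgroup.mem_normalizer_iff]
  intro x
  constructor
  · exact key g hZ x
  · intro hx
    have := key g⁻¹ ((Subgroup.normalizer _).inv_mem hZ) _ hx
    have e : g⁻¹ * (g * x * g⁻¹) * g⁻¹⁻¹ = x := by group
    rwa [e] at this

/-- the cyclic group generated by an element of odd order normalizing a `2`-group acts coprimely -/
theorem coprimeAction_zpowers [Finite G] {P : Subgroup G} (hP : IsPGroup 2 P) {a : G}
    (ha : Odd (orderOf a)) (haP : a ∈ Subgroup.normalizer (P : Set G)) :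
    CoprimeAction (Subgroup.zpowers a) P where
  normalizes := by rw [Subgroup.zpowers_le]; exact haP
  coprime := by
    have : Fact (Nat.Prime 2) := ⟨Nat.prime_two⟩
    rw [Nat.card_zpowers]
    obtain ⟨k, hk⟩ := IsPGroup.iff_card.mp hP
    rw [hk]
    exact Nat.Coprime.pow_right k (Nat.coprime_two_right.mpr ha)
  solvable := Or.inl inferInstance

/-- **Step II.** -/
theorem moduleV_ne_bot_of [Finite G] {K H : Subgroup G} (hKH : K ≤ H)
    (hsn : (K.subgroupOf H).IsSubnormal) {a : G} (haK : a ∈ K) (ha : Odd (orderOf a))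
    (hnc : ¬ ∀ v ∈ omZ (Cfsg.pCoreOf 2 H), a * v = v * a) : Cfsg.moduleV K ≠ ⊥ := by
  have : Fact (Nat.Prime 2) := ⟨Nat.prime_two⟩
  set R := Cfsg.pCoreOf 2 H with hR
  set E := omZ R with hE
  set A := Subgroup.zpowers a with hA
  set Q := Cfsg.pCoreOf 2 K with hQ
  have hRp : IsPGroup 2 ↥R := pcoreOf_isPGroup 2 H
  have haR : a ∈ Subgroup.normalizer (R : Set G) := pcoreOf_normalized 2 H (hKH haK)
  have haE : a ∈ Subgroup.normalizer (E : Set G) := mem_normalizer_omZ haR
  have hER : E ≤ R := (omZ_le R).trans inf_le_left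
  have hEp : IsPGroup 2 ↥E := hRp.to_le hER
  have hco : CoprimeAction A E := coprimeAction_zpowers hEp ha haE
  have hAK : A ≤ K := by rw [hA, Subgroup.zpowers_le]; exact haK
  set D := ⁅E, A⁆ with hD
  have hDD : ⁅D, A⁆ = D := coprime_commutator_commutator hco
  have hDE : D ≤ E := hco.commutator_le
  have hDne : D ≠ ⊥ := by
    intro h
    apply hnc
    intro v hv
    have h1 : E ≤ Subgroup.centralizer (A : Set G) :=
      Subgroup.commutator_eq_bot_iff_le_centralizer.mp h
    have := (Subgroup.mem_centralizer_iff.mp (h1 hv)) a (Subgroup.mem_zpowers a)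
    exact this
  have hDK : D ≤ K :=
    le_of_eq_commutator_of_subnormal hKH hsn hAK ((hDE.trans hER).trans (pcoreOf_le 2 H)) hDD.symm
  have hKRQ : K ⊓ R ≤ Q := by
    apply le_pcoreOf inf_le_left _ (hRp.to_le inf_le_right)
    intro k hk
    have h1 : k ∈ Subgroup.normalizer (K : Set G) := Subgroup.le_normalizer hk
    have h2 : k ∈ Subgroup.normalizer (R : Set G) := pcoreOf_normalized 2 H (hKH hk)
    rw [Subgroup.mem_normalizer_iff] at h1 h2 ⊢
    intro x
    rw [Subgroup.mem_inf, Subgroup.mem_inf, ← h1 x, ← h2 x]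
  have hQR : Q ≤ R := Cfsg.Agent.Lib.H15.JC.pcoreOf_le_pcoreOf_of_subnormal hKH hsn
  have hDW : D ≤ Cfsg.omegaOne 2 (Cfsg.pCoreTwoOf K ⊓
      Subgroup.centralizer (Cfsg.pCoreTwoOf K : Set G)) := by
    intro d hd
    have hdE := mem_omZ_iff.mp (hDE hd)
    apply Subgroup.subset_closure
    refine ⟨⟨hKRQ ⟨hDK hd, hER (hDE hd)⟩, ?_⟩, hdE.2⟩
    exact Subgroup.centralizer_le (by exact_mod_cast hQR) hdE.1.2
  intro hbot
  apply hDne
  rw [← hDD, eq_bot_iff, ← hbot]
  unfold Cfsg.moduleV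
  exact Subgroup.commutator_mono hDW hAK

/-- **Step I.** -/
theorem commute_omZ_pcoreOf_of [Finite G] {L H : Subgroup G} (hLH : L ≤ H)
    (hsn : (L.subgroupOf H).IsSubnormal) {a : G} (haL : a ∈ L) (ha : Odd (orderOf a))
    (hc : ∀ v ∈ omZ (Cfsg.pCoreOf 2 H), a * v = v * a) :
    ∀ w ∈ omZ (Cfsg.pCoreOf 2 L), a * w = w * a := by
  have : Fact (Nat.Prime 2) := ⟨Nat.prime_two⟩
  set P := Cfsg.pCoreOf 2 H with hP
  set A := Subgroup.zpowers a with hA
  set Q := Cfsg.pCoreOf 2 L with hQ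
  have hPp : IsPGroup 2 ↥P := pcoreOf_isPGroup 2 H
  have haP : a ∈ Subgroup.normalizer (P : Set G) := pcoreOf_normalized 2 H (hLH haL)
  have hco : CoprimeAction A P := coprimeAction_zpowers hPp ha haP
  have hAL : A ≤ L := by rw [hA, Subgroup.zpowers_le]; exact haL
  set Pa := ⁅P, A⁆ with hPa
  have hPaPa : ⁅Pa, A⁆ = Pa := coprime_commutator_commutator hco
  have hPaP : Pa ≤ P := hco.commutator_le
  have hPaL : Pa ≤ L :=
    le_of_eq_commutator_of_subnormal hLH hsn hAL (hPaP.trans (pcoreOf_le 2 H)) hPaPa.symm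
  have hLPQ : L ⊓ P ≤ Q := by
    apply le_pcoreOf inf_le_left _ (hPp.to_le inf_le_right)
    intro k hk
    have h1 : k ∈ Subgroup.normalizer (L : Set G) := Subgroup.le_normalizer hk
    have h2 : k ∈ Subgroup.normalizer (P : Set G) := pcoreOf_normalized 2 H (hLH hk)
    rw [Subgroup.mem_normalizer_iff] at h1 h2 ⊢
    intro x
    rw [Subgroup.mem_inf, Subgroup.mem_inf, ← h1 x, ← h2 x]
  have hPaQ : Pa ≤ Q := (le_inf hPaL hPaP).trans hLPQ
  have hQP : Q ≤ P := Cfsg.Agent.Lib.H15.JC.pcoreOf_le_pcoreOf_of_subnormal hLH hsn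
  -- `a` centralizes `Z(P)`
  have hZ : ∀ v ∈ P ⊓ Subgroup.centralizer (P : Set G), a * v = v * a := by
    apply commute_center_of_odd hPp ha haP
    intro v hv hv2
    exact hc v (mem_omZ_iff.mpr ⟨hv, hv2⟩)
  -- Thompson `A × B`
  set B := P ⊓ Subgroup.centralizer (A : Set G) with hB
  set U := P ⊓ Subgroup.centralizer (Pa : Set G) with hU
  have hBp : IsPGroup 2 ↥B := hPp.to_le inf_le_left
  have hUp : IsPGroup 2 ↥U := hPp.to_le inf_le_left
  have hAc : (Nat.card A).Coprime 2 := by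
    rw [hA, Nat.card_zpowers]; exact Nat.coprime_two_right.mpr ha
  have hAB : ⁅A, B⁆ = ⊥ := by
    rw [Subgroup.commutator_eq_bot_iff_le_centralizer, Subgroup.le_centralizer_iff]
    exact inf_le_right
  have hAPa : A ≤ Subgroup.normalizer (Pa : Set G) := Subgroup.normalizer_commutator_ge_right P A
  have hPPa : P ≤ Subgroup.normalizer (Pa : Set G) := Subgroup.normalizer_commutator_ge_left P A
  have hAU : A ≤ Subgroup.normalizer (U : Set G) := by
    intro x hx
    exact mem_normalizer_inf_centralizer (hco.normalizes hx) (hAPa hx)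
  have hBU : B ≤ Subgroup.normalizer (U : Set G) := by
    intro x hx
    exact mem_normalizer_inf_centralizer (Subgroup.le_normalizer hx.1) (hPPa hx.1)
  have hsup : Pa ⊔ B = P := coprime_commutator_sup_centralizer hco
  have hC : ⁅A, U ⊓ Subgroup.centralizer (B : Set G)⁆ = ⊥ := by
    rw [Subgroup.commutator_eq_bot_iff_le_centralizer, Subgroup.le_centralizer_iff]
    intro x hx
    have hxP : x ∈ P := hx.1.1
    have hxc : x ∈ Subgroup.centralizer (P : Set G) := by
      have h1 : Pa ⊔ B ≤ Subgroup.centralizer ({x} : Set G) := by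
        apply sup_le
        · intro y hy
          rw [Subgroup.mem_centralizer_singleton_iff]
          exact ((Subgroup.mem_centralizer_iff.mp hx.1.2) y hy)
        · intro y hy
          rw [Subgroup.mem_centralizer_singleton_iff]
          exact ((Subgroup.mem_centralizer_iff.mp hx.2) y hy)
      rw [hsup] at h1
      rw [Subgroup.mem_centralizer_iff]
      intro y hy
      have := Subgroup.mem_centralizer_singleton_iff.mp (h1 hy)
      exact this
    have hax : a * x = x * a := hZ x ⟨hxP, hxc⟩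
    rw [Subgroup.mem_centralizer_iff]
    intro y hy
    obtain ⟨i, rfl⟩ := Subgroup.mem_zpowers_iff.mp hy
    have : Commute a x := hax
    exact (this.zpow_left i).eq
  have hAUbot : ⁅A, U⁆ = ⊥ := Cfsg.Agent.Lib.H7.thompson_AxB' 2 hUp hBp hAc hAB hAU hBU hC
  have hAU' : A ≤ Subgroup.centralizer (U : Set G) :=
    Subgroup.commutator_eq_bot_iff_le_centralizer.mp hAUbot
  intro w hw
  have hw' := (omZ_le Q) hw
  have hwU : w ∈ U := by
    refine ⟨hQP hw'.1, ?_⟩
    exact Subgroup.centralizer_le (by exact_mod_cast hPaQ) hw'.2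
  have := (Subgroup.mem_centralizer_iff.mp (hAU' (Subgroup.mem_zpowers a))) w hwU
  exact this.symm

end Cfsg.Agent.Lib.H10.QTLf
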