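import Mathlib
import Cfsg.Agent.Lib.H10.QTLfC

/-!
helper10: Aschbacher--Smith 1.2.9 (1): in a group of even characteristic the members of
`ℒ(G, T)` above a member of `ℒ_f(G, T)` lie in `ℒ_f(G, T)`.
-/

set_option autoImplicit false

namespace Cfsg.Agent.Lib.H10.QTLf

open Cfsg.Agent.Lib.H15 (pcoreOf_le pcoreOf_isPGroup mem_pcoreOf_iff le_pcoreOf pcoreOf_normalized
  hasCharP_iff)

variable {G : Type*} [Group G]

/-- `O₂(H) ≤ T` for `T ≤ H` a Sylow `2`-subgroup of `G`. -/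
theorem pcoreOf_le_sylow (T : Sylow 2 G) {H : Subgroup G} (hTH : (T : Subgroup G) ≤ H) :
    Cfsg.pCoreOf 2 H ≤ (T : Subgroup G) := by
  intro x hx
  obtain ⟨hxM, hx'⟩ := mem_pcoreOf_iff.mp hx
  have := Cfsg.Agent.Lib.H14.pCore_le_sylow (T.subtype hTH) hx'
  exact Subgroup.mem_subgroupOf.mp this

/-- a member of `ℒ(G, T)` is perfect (as a subgroup of `G`). -/
theorem commutator_eq_of_mem_calL {T K : Subgroup G} (hK : K ∈ Cfsg.calL T) : ⁅K, K⁆ = K := by
  have h := hK.1.2.1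
  have h1 := congrArg (Subgroup.map (K ⊔ T).subtype) h
  rwa [Subgroup.map_commutator, Subgroup.map_subgroupOf_eq_of_le le_sup_left] at h1

theorem subnormal_of_mem_calL {T K : Subgroup G} (hK : K ∈ Cfsg.calL T) :
    (K.subgroupOf (K ⊔ T)).IsSubnormal := hK.1.2.2.1

/-- In a finite group of even characteristic, every member of `ℒ(G, T)` lies in `𝒳`. -/
theorem mem_calX_of_mem_calL [Finite G] (hE : Cfsg.IsOfEvenCharacteristic G) (T : Sylow 2 G)
    {K : Subgroup G} (hK : K ∈ Cfsg.calL (T : Subgroup G)) : K ∈ Cfsg.calX G := by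
  have : Fact (Nat.Prime 2) := ⟨Nat.prime_two⟩
  refine ⟨?_, oddGenerated_eq_of_perfect K (commutator_eq_of_mem_calL hK), ?_⟩
  · intro h
    apply hK.1.1
    rw [h]
    exact Subgroup.bot_subgroupOf _
  · show Cfsg.generalizedFittingSubgroup ↥K = Cfsg.pCore 2 ↥K
    set H := K ⊔ (T : Subgroup G) with hH
    have hchar := charTwo_of_sylow_le hE T H le_sup_right hK.2.2
    have hchar' : Subgroup.centralizer (Cfsg.pCore 2 ↥H : Set ↥H) ≤ Cfsg.pCore 2 ↥H :=
      hasCharP_iff.mpr hchar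
    have hF := Cfsg.Agent.Lib.H7.generalizedFittingSubgroup_eq_pCore_of_centralizer_le 2 hchar'
    have h1 := Cfsg.Agent.Lib.H14.fstar_eq_pCore_of_subnormal 2 (K.subgroupOf H)
      (subnormal_of_mem_calL hK) hF
    exact Cfsg.Agent.Lib.H14.fstar_eq_pCore_of_equiv 2
      (Subgroup.subgroupOfEquivOfLe (le_sup_left : K ≤ H)) h1

/-- Aschbacher--Smith 1.2.9 (1). -/
theorem mem_calLf_of_le [Finite G] (hE : Cfsg.IsOfEvenCharacteristic G) (T : Sylow 2 G)
    {L K : Subgroup G} (hL : L ∈ Cfsg.calLf (T : Subgroup G))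
    (hK : K ∈ Cfsg.calL (T : Subgroup G)) (hLK : L ≤ K) : K ∈ Cfsg.calLf (T : Subgroup G) := by
  have : Fact (Nat.Prime 2) := ⟨Nat.prime_two⟩
  refine ⟨hK, mem_calX_of_mem_calL hE T hK, ?_⟩
  obtain ⟨hLL, ⟨_, hLodd, _⟩, hV⟩ := hL
  set HL := L ⊔ (T : Subgroup G) with hHL
  set HK := K ⊔ (T : Subgroup G) with hHK
  have hHLK : HL ≤ HK := sup_le_sup_right hLK _
  set RL := Cfsg.pCoreOf 2 HL with hRL
  set RK := Cfsg.pCoreOf 2 HK with hRK
  have hcK := charTwo_of_sylow_le hE T HK le_sup_right hK.2.2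
  have hRKL : RK ≤ RL :=
    le_pcoreOf ((pcoreOf_le_sylow T le_sup_right).trans le_sup_right)
      (hHLK.trans (pcoreOf_normalized 2 HK)) (pcoreOf_isPGroup 2 HK)
  have hEE : omZ RL ≤ omZ RK := by
    intro x hx
    obtain ⟨hx1, hx2⟩ := mem_omZ_iff.mp hx
    have hxc : x ∈ Subgroup.centralizer (RK : Set G) :=
      Subgroup.centralizer_le (by exact_mod_cast hRKL) hx1.2
    have hxHK : x ∈ HK := hHLK (pcoreOf_le 2 HL hx1.1)
    exact mem_omZ_iff.mpr ⟨⟨hcK ⟨hxHK, hxc⟩, hxc⟩, hx2⟩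
  by_cases hall : ∀ a ∈ L, Odd (orderOf a) → ∀ v ∈ omZ RL, a * v = v * a
  · exfalso
    apply hV
    unfold Cfsg.moduleV
    rw [Subgroup.commutator_comm, Subgroup.commutator_eq_bot_iff_le_centralizer]
    conv_lhs => rw [← hLodd]
    unfold Cfsg.oddGenerated
    rw [Subgroup.closure_le]
    rintro a ⟨haL, hao⟩
    rw [SetLike.mem_coe, Subgroup.mem_centralizer_iff]
    intro w hw
    exact (commute_omZ_pcoreOf_of le_sup_left (subnormal_of_mem_calL hLL) haL hao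
      (hall a haL hao) w hw).symm
  · push Not at hall
    obtain ⟨a, haL, hao, v, hv, hav⟩ := hall
    apply moduleV_ne_bot_of le_sup_left (subnormal_of_mem_calL hK) (hLK haL) hao
    intro h
    exact hav (h v (hEE hv))

end Cfsg.Agent.Lib.H10.QTLf
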