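import Mathlib
import Cfsg.Prelude.Def_Blocks
import Cfsg.Agent.Lib.L0.BlockSeparated

/-!
# S4443 piece (PAIR): `pair_count` (helper10)

`#{(y,z) : y ~ a, z ~ b, z y⁻¹ ∈ S} · |G : S| = n_a · ∑_χ ω_χ(b) m_χ conj χ(a)`.
-/

set_option autoImplicit false

namespace Cfsg.Agent.Lib.H10.RB

open Cfsg Cfsg.Agent.Lib.H23 Cfsg.Agent.Lib.H24 Cfsg.Agent.Lib.L0 Cfsg.Agent.Lib.L0.BlockSeparated
open scoped ComplexConjugate

variable {G : Type*} [Group G] [Fintype G]

/-- The pair count as a sum of coefficients of `K_b · K_{a⁻¹}` over `S`. -/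
theorem pair_count_eq_sum_coeff (S : Subgroup G) [Fintype S] (a b : G) :
    (Nat.card {yz : G × G // IsConj a yz.1 ∧ IsConj b yz.2 ∧ yz.2 * yz.1⁻¹ ∈ S} : ℂ) =
      ∑ u : S, (classSum b * classSum a⁻¹).coeff (u : G) := by
  classical
  have h1 : ∑ u : S, (classSum b * classSum a⁻¹).coeff (u : G) =
      ∑ u ∈ Finset.univ.filter (fun u : G => u ∈ S), (classSum b * classSum a⁻¹).coeff u := by
    symm
    exact Finset.sum_subtype (Finset.univ.filter (fun u : G => u ∈ S)) (by simp)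
      (fun u => (classSum b * classSum a⁻¹).coeff u)
  rw [h1, Finset.sum_filter]
  have h2 : ∀ u : G, (if u ∈ S then (classSum b * classSum a⁻¹).coeff u else 0) =
      ∑ h : G, (if IsConj a (u⁻¹ * h) ∧ IsConj b h ∧ h * (u⁻¹ * h)⁻¹ ∈ S then (1 : ℂ) else 0) := by
    intro u
    have hu : ∀ h : G, h * (u⁻¹ * h)⁻¹ = u := fun h => by group
    by_cases huS : u ∈ S
    · rw [if_pos huS, coeff_mul_eq_sum]
      refine Finset.sum_congr rfl (fun h _ => ?_)
      rw [coeff_classSum, coeff_classSum, hu h]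
      have hiff : IsConj a⁻¹ (h⁻¹ * u) ↔ IsConj a (u⁻¹ * h) := by
        have h3 : h⁻¹ * u = (u⁻¹ * h)⁻¹ := by group
        rw [h3]
        exact isConj_inv_iff
      by_cases hb : IsConj b h
      · by_cases ha : IsConj a (u⁻¹ * h)
        · rw [if_pos hb, if_pos (hiff.2 ha), if_pos ⟨ha, hb, huS⟩, mul_one]
        · have hn1 : ¬ IsConj a⁻¹ (h⁻¹ * u) := fun hh => ha (hiff.1 hh)
          have hn2 : ¬ (IsConj a (u⁻¹ * h) ∧ IsConj b h ∧ u ∈ S) := fun hh => ha hh.1
          rw [if_neg hn1, if_neg hn2, mul_zero]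
      · have hn2 : ¬ (IsConj a (u⁻¹ * h) ∧ IsConj b h ∧ u ∈ S) := fun hh => hb hh.2.1
        rw [if_neg hb, if_neg hn2, zero_mul]
    · rw [if_neg huS]
      symm
      apply Finset.sum_eq_zero
      intro h _
      rw [if_neg]
      intro hh
      apply huS
      have := hh.2.2
      rwa [hu h] at this
  rw [Finset.sum_congr rfl (fun u _ => h2 u), ← Finset.sum_product']
  rw [Nat.card_eq_fintype_card, Fintype.card_subtype, Finset.card_filter]
  push_cast
  let e : G × G ≃ G × G :=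
    { toFun := fun uh => (uh.1⁻¹ * uh.2, uh.2)
      invFun := fun yz => (yz.2 * yz.1⁻¹, yz.2)
      left_inv := fun uh => by
        apply Prod.ext
        · show uh.2 * (uh.1⁻¹ * uh.2)⁻¹ = uh.1
          group
        · rfl
      right_inv := fun yz => by
        apply Prod.ext
        · show (yz.2 * yz.1⁻¹)⁻¹ * yz.2 = yz.1
          group
        · rfl }
  symm
  refine Fintype.sum_equiv e _ _ (fun uh => ?_)
  rfl

theorem pair_count [Fintype (IrrCharacter G)] (S : Subgroup G) [Fintype S] (m : IrrCharacter G → ℕ)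
    (hm : ∀ χ : IrrCharacter G, ∑ u : S, conj ((χ : G → ℂ) u) = (Nat.card S : ℂ) * m χ) (a b : G) :
    (Nat.card {yz : G × G // IsConj a yz.1 ∧ IsConj b yz.2 ∧ yz.2 * yz.1⁻¹ ∈ S} : ℂ) * (S.index : ℂ) =
      ((Subgroup.centralizer ({a} : Set G)).index : ℂ) *
        ∑ χ : IrrCharacter G, centralChar (χ : G → ℂ) b * (m χ : ℂ) * conj ((χ : G → ℂ) a) := by
  classical
  rw [pair_count_eq_sum_coeff S a b]
  have h1 : ∀ u : S, (classSum b * classSum a⁻¹).coeff (u : G) = (Nat.card G : ℂ)⁻¹ *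
      ∑ χ : IrrCharacter G, centralChar (χ : G → ℂ) b *
        (((Subgroup.centralizer ({a} : Set G)).index : ℂ) * conj ((χ : G → ℂ) a)) *
        conj ((χ : G → ℂ) (u : G)) := fun u => coeff_classSum_mul_inv b a (u : G)
  rw [Finset.sum_congr rfl (fun u _ => h1 u), ← Finset.mul_sum, Finset.sum_comm]
  have h2 : ∀ χ : IrrCharacter G, ∑ u : S, centralChar (χ : G → ℂ) b *
        (((Subgroup.centralizer ({a} : Set G)).index : ℂ) * conj ((χ : G → ℂ) a)) *
        conj ((χ : G → ℂ) (u : G)) =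
      (Nat.card S : ℂ) * (((Subgroup.centralizer ({a} : Set G)).index : ℂ) *
        (centralChar (χ : G → ℂ) b * (m χ : ℂ) * conj ((χ : G → ℂ) a))) := by
    intro χ
    rw [← Finset.mul_sum, hm χ]
    ring
  rw [Finset.sum_congr rfl (fun χ _ => h2 χ), ← Finset.mul_sum, ← Finset.mul_sum]
  have hcard : (Nat.card G : ℂ) = (S.index : ℂ) * (Nat.card S : ℂ) := by
    rw [← Nat.cast_mul, Subgroup.index_mul_card]
  have hG : (Nat.card G : ℂ) ≠ 0 := by
    rw [Nat.cast_ne_zero]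
    exact Nat.card_pos.ne'
  rw [hcard] at hG ⊢
  have hS1 : (S.index : ℂ) ≠ 0 := left_ne_zero_of_mul hG
  have hS2 : (Nat.card S : ℂ) ≠ 0 := right_ne_zero_of_mul hG
  field_simp

end Cfsg.Agent.Lib.H10.RB
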