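import Mathlib
import Cfsg.Agent.Lib.H16.RTWDefs
import Cfsg.Agent.Lib.H1.PGroupBasic

/-!
# S3174 piece FINB: a subgroup `X` of index `≤ 8` in `W` containing `Z₃` with squares and commutators in `Z₂`
contradicts hypothesis (d)

`Φ(X) ≤ Z₂`, so some maximal subgroup `U` of `X` misses an element of `Z₃ \ Z₂`; `|W : U| ≤ 16`, so `Z₃ ≤ U` by (d).
-/

set_option autoImplicit false

namespace Cfsg.Agent.Lib.H10.RTW

open scoped commutatorElement
open Cfsg.Agent.Lib.H16.RTW

variable {T : Type*} [Group T] [Finite T]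

/-- **FINB** -/
theorem false_of_small_frattini (c : Ctx T) (X : Subgroup T) (hXW : X ≤ c.W)
    (hZX : Subgroup.upperCentralSeries T 3 ≤ X) (hidx : X.relIndex c.W ≤ 8)
    (hsq : ∀ x ∈ X, x ^ 2 ∈ Subgroup.upperCentralSeries T 2)
    (hcomm : ∀ x ∈ X, ∀ y ∈ X, ⁅x, y⁆ ∈ Subgroup.upperCentralSeries T 2) : False := by
  -- an element of `Z₃ \ Z₂`
  have hnle : ¬ (Subgroup.upperCentralSeries T 3 ≤ Subgroup.upperCentralSeries T 2) := by
    intro hle
    have h1 := Subgroup.card_le_of_le hle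
    rw [c.c3, c.c2] at h1
    omega
  obtain ⟨x3, hx3, hx3'⟩ := SetLike.not_le_iff_exists.mp hnle
  -- `Φ(X) ≤ Z₂ ∩ X`
  have hX2 : IsPGroup 2 ↥X := c.hT.to_subgroup X
  have hΦ : frattini ↥X ≤ (Subgroup.upperCentralSeries T 2).subgroupOf X := by
    have : Fact (Nat.Prime 2) := ⟨Nat.prime_two⟩
    apply Cfsg.Agent.Lib.H1.frattini_le_of_commutator_le_of_pow_mem (p := 2)
    · rw [commutator_eq_closure, Subgroup.closure_le]
      rintro _ ⟨x, y, rfl⟩
      rw [SetLike.mem_coe, Subgroup.mem_subgroupOf]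
      have := hcomm x x.2 y y.2
      simpa [commutatorElement_def] using this
    · intro x
      rw [Subgroup.mem_subgroupOf]
      have := hsq x x.2
      simpa using this
  -- a maximal subgroup of `X` missing `x₃`
  have hx3Φ : (⟨x3, hZX hx3⟩ : ↥X) ∉ frattini ↥X := by
    intro h
    have := hΦ h
    rw [Subgroup.mem_subgroupOf] at this
    exact hx3' this
  obtain ⟨U, hU, hxU⟩ : ∃ U : Subgroup ↥X, IsCoatom U ∧ (⟨x3, hZX hx3⟩ : ↥X) ∉ U := by
    by_contra hcon
    apply hx3Φ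
    unfold frattini Order.radical
    rw [Subgroup.mem_iInf]
    intro U
    rw [Subgroup.mem_iInf]
    intro hU
    by_contra hx
    exact hcon ⟨U, hU, hx⟩
  have hUidx : U.index = 2 := by
    have : Fact (Nat.Prime 2) := ⟨Nat.prime_two⟩
    exact Cfsg.Agent.Lib.H1.isPGroup_coatom_index hX2 hU
  -- the index of `U` in `W`
  have hUX : U.map X.subtype ≤ X := Subgroup.map_subtype_le U
  have hrel : (U.map X.subtype).relIndex X = 2 := by
    unfold Subgroup.relIndex Subgroup.subgroupOf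
    rw [Subgroup.comap_map_eq_self_of_injective X.subtype_injective U, hUidx]
  have hmul := Subgroup.relIndex_mul_relIndex (U.map X.subtype) X c.W hUX hXW
  rw [hrel] at hmul
  have hle16 : (U.map X.subtype).relIndex c.W ≤ 16 := by
    rw [← hmul]
    omega
  have hZU := c.hd (U.map X.subtype) (hUX.trans hXW) hle16
  obtain ⟨u, hu, hux⟩ := Subgroup.mem_map.mp (hZU hx3)
  apply hxU
  have : u = ⟨x3, hZX hx3⟩ := Subtype.ext hux
  rw [← this]
  exact hu

end Cfsg.Agent.Lib.H10.RTW
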