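import Mathlib
import Cfsg.Agent.Lib.H5.S3777Defs

/-!
# S3777 pieces GEN and ARITH (helper10)

* `exists_gens`: in a finite `p`-group `G` with subgroups `A ≤ M`, `M` proper, `|G : A| = p^(lam+1)`
  and `y₀ ∉ M`, there are at most `lam` further elements, all outside `M`, which together with
  `y₀` generate `G` modulo `A`.
* arithmetic of `tri`.
-/

set_option autoImplicit false

namespace Cfsg.Agent.Lib.H10.S3777Gen

open Cfsg.Agent.Lib.H5.S3777

/-! ### arithmetic -/

theorem two_mul_tri (n : ℕ) : 2 * tri n = n * (n + 1) := by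
  unfold tri
  have h : 2 ∣ n * (n + 1) := (Nat.even_mul_succ_self n).two_dvd
  omega

theorem tri_add (l d : ℕ) : tri l + l * d + tri d = tri (l + d) := by
  have h1 := two_mul_tri l
  have h2 := two_mul_tri d
  have h3 := two_mul_tri (l + d)
  nlinarith

theorem tri_pred (l : ℕ) (hl : 1 ≤ l) : l + tri (l - 1) = tri l := by
  obtain ⟨k, rfl⟩ : ∃ k, l = k + 1 := ⟨l - 1, by omega⟩
  have h1 := two_mul_tri k
  have h2 := two_mul_tri (k + 1)
  simp only [Nat.add_sub_cancel]
  nlinarith

theorem tri_mono {a b : ℕ} (h : a ≤ b) : tri a ≤ tri b := by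
  have h1 := two_mul_tri a
  have h2 := two_mul_tri b
  nlinarith

theorem tri_zero : tri 0 = 0 := by simp [tri]

/-- the count of case (i): `tri l + (tri d + d) ≤ tri (l + d)` for `1 ≤ l`. -/
theorem tri_case_i (l d : ℕ) (hl : 1 ≤ l) : tri l + (tri d + d) ≤ tri (l + d) := by
  have := tri_add l d
  nlinarith

/-- the total of helper7's step: `l + tri (l-1) + (tri d + l*d) = tri (l+d)`. -/
theorem tri_total (l d : ℕ) (hl : 1 ≤ l) : l + tri (l - 1) + (tri d + l * d) = tri (l + d) := by
  have h1 := tri_pred l hl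
  have h2 := tri_add l d
  omega

/-! ### generators outside `M` -/

variable {G : Type*} [Group G]

/-- a group is not the union of two proper subgroups -/
theorem exists_notMem_notMem (M B : Subgroup G) (hM : M ≠ ⊤) (hB : B ≠ ⊤) :
    ∃ y, y ∉ M ∧ y ∉ B := by
  by_contra hcon
  simp only [not_exists, not_and, not_not] at hcon
  obtain ⟨a, ha⟩ : ∃ a, a ∉ M := by
    by_contra h; simp only [not_exists, not_not] at h; exact hM (top_unique fun x _ => h x)
  obtain ⟨b, hb⟩ : ∃ b, b ∉ B := by
    by_contra h; simp only [not_exists, not_not] at h; exact hB (top_unique fun x _ => h x)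
  have haB : a ∈ B := hcon a ha
  by_cases hbM : b ∈ M
  · -- a * b ∉ M and a * b ∉ B
    have h1 : a * b ∉ M := fun h => ha (by simpa using M.mul_mem h (M.inv_mem hbM))
    have h2 : a * b ∉ B := fun h => hb (by simpa using B.mul_mem (B.inv_mem haB) h)
    exact h2 (hcon _ h1)
  · exact hb (hcon b hbM)

theorem exists_gens_aux [Finite G] {p : ℕ} [Fact p.Prime] (M : Subgroup G) (hM : M ≠ ⊤) :
    ∀ (k : ℕ) (H : Subgroup G), H.index ∣ p ^ k →
      ∃ S : Finset G, S.card ≤ k ∧ (∀ s ∈ S, s ∉ M) ∧
        H ⊔ Subgroup.closure (↑S : Set G) = ⊤ := by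
  classical
  intro k
  induction k with
  | zero =>
    intro H hH
    refine ⟨∅, by simp, by simp, ?_⟩
    have : H.index = 1 := by simpa using hH
    simp [Subgroup.index_eq_one.mp this]
  | succ k ih =>
    intro H hH
    by_cases hHt : H = ⊤
    · exact ⟨∅, by simp, by simp, by simp [hHt]⟩
    · obtain ⟨y, hyM, hyH⟩ := exists_notMem_notMem M H hM hHt
      set H' : Subgroup G := H ⊔ Subgroup.zpowers y with hH'
      have hle : H ≤ H' := le_sup_left
      have hyH' : y ∈ H' := (le_sup_right : Subgroup.zpowers y ≤ H') (Subgroup.mem_zpowers y)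
      have hdvd : H'.index ∣ H.index := Subgroup.index_dvd_of_le hle
      have hne : H'.index ≠ H.index := by
        intro heq
        have hrel : H.relIndex H' = 1 := by
          have h1 := Subgroup.relIndex_mul_index hle
          have hpos : 0 < H'.index := Nat.pos_of_ne_zero Subgroup.index_ne_zero_of_finite
          rw [heq] at h1
          have hpos' : 0 < H.index := Nat.pos_of_ne_zero Subgroup.index_ne_zero_of_finite
          exact Nat.eq_of_mul_eq_mul_right hpos' (by simpa using h1)
        have : H' ≤ H := Subgroup.relIndex_eq_one.mp hrel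
        exact hyH (this hyH')
      -- H.index = p^j, H'.index = p^i, i < j ≤ k+1
      obtain ⟨j, hj, hHj⟩ := (Nat.dvd_prime_pow (Fact.out : p.Prime)).mp hH
      obtain ⟨i, hi, hHi⟩ := (Nat.dvd_prime_pow (Fact.out : p.Prime)).mp (hdvd.trans hH)
      have hp1 : 1 < p := (Fact.out : p.Prime).one_lt
      have hij : i < j := by
        rw [hHj, hHi] at hdvd hne
        have hle' : i ≤ j := (Nat.pow_dvd_pow_iff_le_right hp1).mp hdvd
        rcases Nat.lt_or_ge i j with h | h
        · exact h
        · exact absurd (by rw [le_antisymm hle' h]) hne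
      have hH'k : H'.index ∣ p ^ k := by
        rw [hHi]; exact pow_dvd_pow p (by omega)
      obtain ⟨S, hScard, hSM, hSgen⟩ := ih H' hH'k
      refine ⟨insert y S, ?_, ?_, ?_⟩
      · exact (Finset.card_insert_le y S).trans (by omega)
      · intro s hs
        rcases Finset.mem_insert.mp hs with rfl | hs
        · exact hyM
        · exact hSM s hs
      · rw [Finset.coe_insert, Set.insert_eq, Subgroup.closure_union, ← sup_assoc,
          ← Subgroup.zpowers_eq_closure]
        exact hSgen

/-- **GEN**: generators of `G` modulo `A`, all outside `M`, at most `lam` besides `y₀`. -/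
theorem exists_gens [Finite G] {p : ℕ} [Fact p.Prime] (M A : Subgroup G)
    (hAM : A ≤ M) (lam : ℕ) (hidx : A.index = p ^ (lam + 1)) (y₀ : G) (hy₀ : y₀ ∉ M) :
    ∃ S : Finset G, S.card ≤ lam ∧ (∀ s ∈ S, s ∉ M) ∧
      A ⊔ Subgroup.closure (insert y₀ (↑S : Set G)) = ⊤ := by
  classical
  have hM : M ≠ ⊤ := fun h => hy₀ (h ▸ Subgroup.mem_top y₀)
  set H : Subgroup G := A ⊔ Subgroup.zpowers y₀ with hHdef
  have hle : A ≤ H := le_sup_left
  have hyH : y₀ ∈ H := (le_sup_right : Subgroup.zpowers y₀ ≤ H) (Subgroup.mem_zpowers y₀)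
  have hdvd : H.index ∣ A.index := Subgroup.index_dvd_of_le hle
  have hne : H.index ≠ A.index := by
    intro heq
    have hrel : A.relIndex H = 1 := by
      have h1 := Subgroup.relIndex_mul_index hle
      rw [heq] at h1
      have hpos' : 0 < A.index := Nat.pos_of_ne_zero Subgroup.index_ne_zero_of_finite
      exact Nat.eq_of_mul_eq_mul_right hpos' (by simpa using h1)
    have : H ≤ A := Subgroup.relIndex_eq_one.mp hrel
    exact hy₀ (hAM (this hyH))
  have hp1 : 1 < p := (Fact.out : p.Prime).one_lt
  obtain ⟨i, hi, hHi⟩ := (Nat.dvd_prime_pow (Fact.out : p.Prime)).mp (hidx ▸ hdvd)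
  have hilt : i < lam + 1 := by
    rcases Nat.lt_or_ge i (lam + 1) with h | h
    · exact h
    · exact absurd (by rw [hHi, hidx, le_antisymm hi h]) hne
  have hHk : H.index ∣ p ^ lam := by
    rw [hHi]; exact pow_dvd_pow p (by omega)
  obtain ⟨S, hScard, hSM, hSgen⟩ := exists_gens_aux (p := p) M hM lam H hHk
  refine ⟨S, hScard, hSM, ?_⟩
  rw [Set.insert_eq, Subgroup.closure_union, ← sup_assoc, ← Subgroup.zpowers_eq_closure]
  exact hSgen

end Cfsg.Agent.Lib.H10.S3777Gen
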