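import Cfsg.Agent.Lib.H5.S3777P1Defs
import Cfsg.Agent.Lib.H22.S3777Basics
import Cfsg.Agent.Lib.H23.S3777Gen

/-!
# S3777, piece (S2) of the `P1` step (helper10; twin): Wiegold's bound for `M/[A,M]` from `P3`.
-/

set_option autoImplicit false

namespace Cfsg.Agent.Lib.H10.S3777S2

open Cfsg.Agent.Lib.H5.S3777

universe u

theorem card_commutator_subgroupOf_top {G : Type u} [Group G] (M A : Subgroup G) (hAM : A ≤ M) :
    Nat.card ↥⁅A.subgroupOf M, (⊤ : Subgroup ↥M)⁆ = Nat.card ↥⁅A, M⁆ := by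
  have hmap : (⁅A.subgroupOf M, (⊤ : Subgroup ↥M)⁆).map M.subtype = ⁅A, M⁆ := by
    rw [Subgroup.map_commutator, Subgroup.subgroupOf_map_subtype, inf_eq_left.mpr hAM,
      ← MonoidHom.range_eq_map, Subgroup.range_subtype]
  rw [← hmap]
  exact Nat.card_congr
    ((⁅A.subgroupOf M, (⊤ : Subgroup ↥M)⁆).equivMapOfInjective M.subtype
      M.subtype_injective).toEquiv

theorem s2 : S2Stmt.{u} := by
  intro p _ G _ _ hG hIH M A lam hMidx hAn hAM hrel hlam
  classical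
  have := hAn
  have hp : p.Prime := Fact.out
  -- subgroups of the type `↥M`
  have hA'n : (A.subgroupOf M).Normal := inferInstance
  have hD'n : (⁅A.subgroupOf M, (⊤ : Subgroup ↥M)⁆).Normal := inferInstance
  have hDA : ⁅A.subgroupOf M, (⊤ : Subgroup ↥M)⁆ ≤ A.subgroupOf M := Subgroup.commutator_le_left _ _
  have hDc : ⁅A.subgroupOf M, (⊤ : Subgroup ↥M)⁆ ≤ commutator ↥M := by
    rw [commutator_def]
    exact Subgroup.commutator_mono le_top le_rfl
  -- cardinalities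
  have hcardM : Nat.card ↥M < Nat.card G := by
    have h1 := M.index_mul_card
    rw [hMidx] at h1
    have hpos : 0 < Nat.card ↥M := Nat.card_pos
    have h2 : 2 ≤ p := hp.two_le
    nlinarith
  have hcardQ : Nat.card (↥M ⧸ ⁅A.subgroupOf M, (⊤ : Subgroup ↥M)⁆) < Nat.card G := by
    refine lt_of_le_of_lt ?_ hcardM
    exact Nat.card_le_card_of_surjective _ (QuotientGroup.mk'_surjective _)
  have hQp : IsPGroup p (↥M ⧸ ⁅A.subgroupOf M, (⊤ : Subgroup ↥M)⁆) :=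
    (hG.to_subgroup M).to_quotient _
  obtain ⟨-, -, hP3⟩ := hIH (↥M ⧸ ⁅A.subgroupOf M, (⊤ : Subgroup ↥M)⁆) hQp hcardQ
  have hbr : ∀ q : ↥M ⧸ ⁅A.subgroupOf M, (⊤ : Subgroup ↥M)⁆,
      (Subgroup.centralizer ({q} : Set _)).index ≤ p ^ (lam - 1) := fun q =>
    Cfsg.Agent.Lib.H22.S3777Basics.index_centralizer_quotient_le_of_commutator_le hp
      (A.subgroupOf M) ⁅A.subgroupOf M, (⊤ : Subgroup ↥M)⁆ hDA le_rfl lam hrel hlam q
  have h1 := hP3 (lam - 1) hbr
  have h2 := Cfsg.Agent.Lib.H23.S3777Gen.card_commutator_eq_quot_mul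
    ⁅A.subgroupOf M, (⊤ : Subgroup ↥M)⁆ hDc
  have h3 := Cfsg.Agent.Lib.H23.S3777Gen.card_commutator_sub M
  have h4 := card_commutator_subgroupOf_top M A hAM
  rw [← h3, h2, h4]
  exact Nat.mul_le_mul_right _ h1

end Cfsg.Agent.Lib.H10.S3777S2
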