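import Mathlib
import Cfsg.Agent.Lib.H5.S3797MLDefs
import Cfsg.Agent.Lib.H25.S3797MLDefs

/-!
# S3797 main lemma, piece M0A (twin, helper10): the quotient bridge `AMLStmt → GCoreStmt`

`Qt = K ⧸ V` has exponent 2, hence is commutative; `U = Additive Qt`, `V' = Additive V`,
`κ (kV) = k²`, `β x y = κ (x + y) + κ x + κ y`; conjugation by `g : G` induces `phi g : Qt →* Qt`.
-/

set_option autoImplicit false
set_option linter.unusedSectionVars false
set_option linter.style.haveILetI false

namespace Cfsg.Agent.Lib.H10.S3797M0A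

universe u

variable {G : Type u} [Group G]

/-- standing hypotheses on `V ≤ K` -/
structure Hyp (V K : Subgroup G) : Prop where
  VK : V ≤ K
  Vmem : ∀ x : G, x ∈ V ↔ x ^ 2 = 1
  Vc : ∀ v ∈ V, ∀ k ∈ K, k * v = v * k
  sq : ∀ k ∈ K, k ^ 2 ∈ V

section basic

variable {V K : Subgroup G} [hVn : V.Normal] [hKn : K.Normal]

/-- the quotient `K ⧸ V` -/
abbrev Qt (V K : Subgroup G) [V.Normal] : Type u := ↥K ⧸ V.subgroupOf K

theorem mk_eq_iff (a b : ↥K) : ((a : Qt V K) = (b : Qt V K)) ↔ (a : G)⁻¹ * (b : G) ∈ V := by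
  rw [QuotientGroup.eq, Subgroup.mem_subgroupOf]
  simp

theorem mk_eq_one_iff (a : ↥K) : ((a : Qt V K) = 1) ↔ (a : G) ∈ V := by
  rw [QuotientGroup.eq_one_iff, Subgroup.mem_subgroupOf]

theorem sq_eq_one (h : Hyp V K) (x : Qt V K) : x * x = 1 := by
  induction x using QuotientGroup.induction_on with
  | H k =>
    rw [← QuotientGroup.mk_mul, mk_eq_one_iff]
    have := h.sq k k.2
    simpa [pow_two] using this

theorem qt_comm (h : Hyp V K) (x y : Qt V K) : x * y = y * x := by
  have hx : x⁻¹ = x := inv_eq_of_mul_eq_one_left (sq_eq_one h x)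
  have hy : y⁻¹ = y := inv_eq_of_mul_eq_one_left (sq_eq_one h y)
  have hxy : (x * y)⁻¹ = x * y := inv_eq_of_mul_eq_one_left (sq_eq_one h (x * y))
  calc x * y = (x * y)⁻¹ := hxy.symm
    _ = y⁻¹ * x⁻¹ := mul_inv_rev x y
    _ = y * x := by rw [hx, hy]

/-- the commutative group structure on `K ⧸ V` -/
@[reducible] def qtComm (h : Hyp V K) : CommGroup (Qt V K) :=
  { (inferInstance : Group (Qt V K)) with mul_comm := qt_comm h }

theorem v_comm (h : Hyp V K) (v w : ↥V) : v * w = w * v := by
  apply Subtype.ext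
  have := h.Vc v.1 v.2 w.1 (h.VK w.2)
  simpa using this.symm

/-- the commutative group structure on `V` -/
@[reducible] def vComm (h : Hyp V K) : CommGroup ↥V :=
  { (inferInstance : Group ↥V) with mul_comm := v_comm h }

/-- the squaring map on representatives -/
def sqK (h : Hyp V K) (k : ↥K) : ↥V := ⟨(k : G) ^ 2, h.sq k k.2⟩

theorem sqK_wd (h : Hyp V K) (a b : ↥K) (hab : (a : G)⁻¹ * (b : G) ∈ V) : sqK h a = sqK h b := by
  apply Subtype.ext
  show (a : G) ^ 2 = (b : G) ^ 2
  set v : G := (a : G)⁻¹ * (b : G) with hv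
  have hb : (b : G) = (a : G) * v := by rw [hv]; group
  have hc : (a : G) * v = v * (a : G) := h.Vc v hab a a.2
  have hv2 : v ^ 2 = 1 := (h.Vmem v).mp hab
  rw [hb]
  calc (a : G) ^ 2 = (a : G) * (a : G) * v ^ 2 := by rw [hv2, mul_one, pow_two]
    _ = (a : G) * ((a : G) * v) * v := by rw [pow_two]; group
    _ = (a : G) * (v * (a : G)) * v := by rw [hc]
    _ = ((a : G) * v) ^ 2 := by rw [pow_two]; group

/-- `κ (kV) = k²` on the quotient -/
def kapQ (h : Hyp V K) (x : Qt V K) : ↥V :=
  Quotient.liftOn' x (sqK h) (fun a b hab => sqK_wd h a b (by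
    have := QuotientGroup.leftRel_apply.mp hab
    rw [Subgroup.mem_subgroupOf] at this
    simpa using this))

theorem kapQ_mk (h : Hyp V K) (k : ↥K) : kapQ h (k : Qt V K) = sqK h k := rfl


/-- the commutator `a⁻¹ b a b⁻¹` on representatives -/
def cK (h : Hyp V K) (a b : ↥K) : ↥V :=
  ⟨(a : G)⁻¹ * (b : G) * (a : G) * (b : G)⁻¹, by
    have h1 : ((a : G) * (b : G)) ^ 2 ∈ V := h.sq _ (K.mul_mem a.2 b.2)
    have h2 : ((a : G) ^ 2)⁻¹ ∈ V := V.inv_mem (h.sq a a.2)
    have h3 : ((b : G) ^ 2)⁻¹ ∈ V := V.inv_mem (h.sq b b.2)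
    have e : (a : G)⁻¹ * (b : G) * (a : G) * (b : G)⁻¹
        = ((a : G) ^ 2)⁻¹ * ((a : G) * (b : G)) ^ 2 * ((b : G) ^ 2)⁻¹ := by
      simp only [pow_two]; group
    rw [e]
    exact V.mul_mem (V.mul_mem h2 h1) h3⟩

/-- `(ab)² = a² · c(a,b) · b²` -/
theorem sqK_mul (h : Hyp V K) (a b : ↥K) : sqK h (a * b) = sqK h a * cK h a b * sqK h b := by
  apply Subtype.ext
  show ((a : G) * (b : G)) ^ 2
    = (a : G) ^ 2 * ((a : G)⁻¹ * (b : G) * (a : G) * (b : G)⁻¹) * (b : G) ^ 2
  simp only [pow_two]; group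

/-- `c(ab,d) = c(a,d) c(b,d)` since `c(a,d)` is central in `K` -/
theorem cK_mul (h : Hyp V K) (a b d : ↥K) : cK h (a * b) d = cK h a d * cK h b d := by
  apply Subtype.ext
  show ((a : G) * (b : G))⁻¹ * (d : G) * ((a : G) * (b : G)) * (d : G)⁻¹
    = ((a : G)⁻¹ * (d : G) * (a : G) * (d : G)⁻¹) * ((b : G)⁻¹ * (d : G) * (b : G) * (d : G)⁻¹)
  have hc := h.Vc _ (cK h a d).2 (b : G)⁻¹ (K.inv_mem b.2)
  have hc' : (b : G)⁻¹ * ((a : G)⁻¹ * (d : G) * (a : G) * (d : G)⁻¹)
      = ((a : G)⁻¹ * (d : G) * (a : G) * (d : G)⁻¹) * (b : G)⁻¹ := hc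
  calc ((a : G) * (b : G))⁻¹ * (d : G) * ((a : G) * (b : G)) * (d : G)⁻¹
      = ((b : G)⁻¹ * ((a : G)⁻¹ * (d : G) * (a : G) * (d : G)⁻¹)) * ((d : G) * (b : G) * (d : G)⁻¹) := by
        group
    _ = (((a : G)⁻¹ * (d : G) * (a : G) * (d : G)⁻¹) * (b : G)⁻¹) * ((d : G) * (b : G) * (d : G)⁻¹) := by
        rw [hc']
    _ = _ := by group

theorem v_sq (h : Hyp V K) (v : ↥V) : v * v = 1 := by
  apply Subtype.ext
  have := (h.Vmem v.1).mp v.2
  simpa [pow_two] using this


theorem aux1 {A : Type*} [CommGroup A] (hsq : ∀ a : A, a * a = 1) (p q r : A) :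
    r = p * q * (r * p * q) := by
  have : p * q * (r * p * q) = r * (p * p) * (q * q) := by ac_rfl
  rw [this, hsq, hsq, mul_one, mul_one]

theorem aux2 {A : Type*} [CommGroup A] (hsq : ∀ a : A, a * a = 1) (p c q : A) :
    p * c * q * p * q = c := by
  have : p * c * q * p * q = c * (p * p) * (q * q) := by ac_rfl
  rw [this, hsq, hsq, mul_one, mul_one]

/-- the polar form of `κ` on the quotient (multiplicative notation) -/
def betQ (h : Hyp V K) (x y : Qt V K) : ↥V := kapQ h (x * y) * kapQ h x * kapQ h y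

theorem kapQ_polar (h : Hyp V K) (x y : Qt V K) :
    kapQ h (x * y) = kapQ h x * kapQ h y * betQ h x y :=
  @aux1 ↥V (vComm h) (v_sq h) (kapQ h x) (kapQ h y) (kapQ h (x * y))

theorem betQ_mk (h : Hyp V K) (a b : ↥K) : betQ h (a : Qt V K) (b : Qt V K) = cK h a b := by
  show kapQ h ((a : Qt V K) * (b : Qt V K)) * kapQ h (a : Qt V K) * kapQ h (b : Qt V K) = cK h a b
  rw [← QuotientGroup.mk_mul, kapQ_mk, kapQ_mk, kapQ_mk, sqK_mul]
  exact @aux2 ↥V (vComm h) (v_sq h) (sqK h a) (cK h a b) (sqK h b)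

theorem betQ_mul (h : Hyp V K) (x y z : Qt V K) : betQ h (x * y) z = betQ h x z * betQ h y z := by
  induction x using QuotientGroup.induction_on with
  | H a =>
  induction y using QuotientGroup.induction_on with
  | H b =>
  induction z using QuotientGroup.induction_on with
  | H d =>
    rw [← QuotientGroup.mk_mul, betQ_mk, betQ_mk, betQ_mk, cK_mul]

theorem kapQ_anis (h : Hyp V K) (x : Qt V K) (hx : kapQ h x = 1) : x = 1 := by
  induction x using QuotientGroup.induction_on with
  | H k =>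
    rw [kapQ_mk] at hx
    have h1 : (k : G) ^ 2 = 1 := congrArg Subtype.val hx
    rw [mk_eq_one_iff]
    exact (h.Vmem _).mpr h1

/-! ### conjugation -/

/-- conjugation by `g` on `K ⧸ V` -/
def phi (V K : Subgroup G) [hV : V.Normal] [K.Normal] (g : G) : Qt V K →* Qt V K :=
  QuotientGroup.map _ _ ((MulAut.conjNormal g : MulAut ↥K).toMonoidHom) (by
    intro k hk
    rw [Subgroup.mem_comap, Subgroup.mem_subgroupOf]
    rw [Subgroup.mem_subgroupOf] at hk
    show ((MulAut.conjNormal g k : ↥K) : G) ∈ V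
    rw [MulAut.conjNormal_apply]
    exact hV.conj_mem _ hk g)

theorem phi_mk (g : G) (k : ↥K) :
    phi V K g (k : Qt V K) = ((MulAut.conjNormal g k : ↥K) : Qt V K) := rfl

theorem phi_mul (g g' : G) (x : Qt V K) : phi V K (g * g') x = phi V K g (phi V K g' x) := by
  induction x using QuotientGroup.induction_on with
  | H k =>
    rw [phi_mk, phi_mk, phi_mk, map_mul]
    rfl

theorem phi_one (x : Qt V K) : phi V K (1 : G) x = x := by
  induction x using QuotientGroup.induction_on with
  | H k =>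
    rw [phi_mk, map_one]
    rfl

theorem phi_inv_left (g : G) (x : Qt V K) : phi V K g⁻¹ (phi V K g x) = x := by
  rw [← phi_mul, inv_mul_cancel, phi_one]

theorem phi_inv_right (g : G) (x : Qt V K) : phi V K g (phi V K g⁻¹ x) = x := by
  rw [← phi_mul, mul_inv_cancel, phi_one]

theorem phi_congr {g g' : G} (hgg : g = g') (x : Qt V K) : phi V K g x = phi V K g' x := by
  rw [hgg]

open Cfsg.Agent.Lib.H25.S3797ML in
theorem triv_iff (g : G) : TrivOn V K g ↔ ∀ x : Qt V K, phi V K g x = x := by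
  constructor
  · intro hg x
    induction x using QuotientGroup.induction_on with
    | H k =>
      rw [phi_mk, mk_eq_iff, MulAut.conjNormal_apply]
      have := hg (k : G)⁻¹ (K.inv_mem k.2)
      have e : (g * (k : G) * g⁻¹)⁻¹ * (k : G) = g * (k : G)⁻¹ * g⁻¹ * ((k : G)⁻¹)⁻¹ := by group
      rw [e]
      exact this
  · intro hx k hk
    have := hx ((⟨k⁻¹, K.inv_mem hk⟩ : ↥K) : Qt V K)
    rw [phi_mk, mk_eq_iff, MulAut.conjNormal_apply] at this
    have e : (g * ((⟨k⁻¹, K.inv_mem hk⟩ : ↥K) : G) * g⁻¹)⁻¹ * ((⟨k⁻¹, K.inv_mem hk⟩ : ↥K) : G)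
        = g * k * g⁻¹ * k⁻¹ := by
      show (g * k⁻¹ * g⁻¹)⁻¹ * k⁻¹ = g * k * g⁻¹ * k⁻¹
      group
    rw [e] at this
    exact this

theorem kapQ_phi (h : Hyp V K) (t : G) (ht : ∀ v ∈ V, t * v = v * t) (x : Qt V K) :
    kapQ h (phi V K t x) = kapQ h x := by
  induction x using QuotientGroup.induction_on with
  | H k =>
    rw [phi_mk, kapQ_mk, kapQ_mk]
    apply Subtype.ext
    show ((MulAut.conjNormal t k : ↥K) : G) ^ 2 = (k : G) ^ 2
    rw [MulAut.conjNormal_apply]
    have h1 := ht _ (h.sq k k.2)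
    calc (t * (k : G) * t⁻¹) ^ 2 = t * (k : G) ^ 2 * t⁻¹ := by simp only [pow_two]; group
      _ = (k : G) ^ 2 * t * t⁻¹ := by rw [h1]
      _ = (k : G) ^ 2 := by group

theorem kapQ_phi_conj (h : Hyp V K) (e : G) (x : Qt V K) :
    kapQ h (phi V K e x) = (MulAut.conjNormal e : MulAut ↥V) (kapQ h x) := by
  induction x using QuotientGroup.induction_on with
  | H k =>
    rw [phi_mk, kapQ_mk, kapQ_mk]
    apply Subtype.ext
    rw [MulAut.conjNormal_apply]
    show ((MulAut.conjNormal e k : ↥K) : G) ^ 2 = e * (k : G) ^ 2 * e⁻¹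
    rw [MulAut.conjNormal_apply]
    simp only [pow_two]; group


open Cfsg.Agent.Lib.H25.S3797ML in
theorem phi_comm_of_triv (t t' : G) (hc : TrivOn V K (t * t' * t⁻¹ * t'⁻¹)) (q : Qt V K) :
    phi V K t (phi V K t' q) = phi V K t' (phi V K t q) := by
  have e : t * t' = (t * t' * t⁻¹ * t'⁻¹) * (t' * t) := by group
  calc phi V K t (phi V K t' q) = phi V K (t * t') q := (phi_mul t t' q).symm
    _ = phi V K ((t * t' * t⁻¹ * t'⁻¹) * (t' * t)) q := phi_congr e q
    _ = phi V K (t * t' * t⁻¹ * t'⁻¹) (phi V K (t' * t) q) := phi_mul _ _ q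
    _ = phi V K (t' * t) q := (triv_iff _).mp hc _
    _ = phi V K t' (phi V K t q) := phi_mul t' t q

end basic

open Cfsg.Agent.Lib.H5.S3797ML Cfsg.Agent.Lib.H25.S3797ML in
/-- **(M0A)** the quotient bridge: the abstract main lemma gives the core statement inside `G`. -/
theorem m0a : Cfsg.Agent.Lib.H5.S3797ML.AMLStmt.{u} → Cfsg.Agent.Lib.H25.S3797ML.GCoreStmt.{u} := by
  intro aml G _ _ V K E T hVn hKn hVK hVmem hVc hsq hTV hET htrans hT2 hTc t ht t' ht' hnt hnt'
  haveI := hVn
  haveI := hKn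
  have h : Hyp V K := ⟨hVK, hVmem, hVc, hsq⟩
  letI iU : AddCommGroup (Additive (Qt V K)) := @Additive.addCommGroup _ (qtComm h)
  letI iV : AddCommGroup (Additive ↥V) := @Additive.addCommGroup _ (vComm h)
  let κ : Additive (Qt V K) → Additive ↥V := fun x => Additive.ofMul (kapQ h (Additive.toMul x))
  let β : Additive (Qt V K) → Additive (Qt V K) → Additive ↥V :=
    fun x y => Additive.ofMul (betQ h (Additive.toMul x) (Additive.toMul y))
  let act : G → Additive (Qt V K) → Additive (Qt V K) :=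
    fun g x => Additive.ofMul (phi V K g (Additive.toMul x))
  let W : Set (Additive (Qt V K) → Additive (Qt V K)) := {f | ∃ s ∈ T, f = act s}
  let a : ↥E → Additive (Qt V K) → Additive (Qt V K) := fun e => act (e : G)
  let b : ↥E → Additive ↥V → Additive ↥V :=
    fun e v => Additive.ofMul ((MulAut.conjNormal (e : G) : MulAut ↥V) (Additive.toMul v))
  have hQ : Quad κ β :=
    { two_U := fun x => congrArg Additive.ofMul (sq_eq_one h (Additive.toMul x))
      two_V := fun v => congrArg Additive.ofMul (v_sq h (Additive.toMul v))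
      polar := fun x y => congrArg Additive.ofMul (kapQ_polar h (Additive.toMul x) (Additive.toMul y))
      add_left := fun x y z =>
        congrArg Additive.ofMul (betQ_mul h (Additive.toMul x) (Additive.toMul y) (Additive.toMul z))
      anis := fun x hx => by
        have hx' : Additive.ofMul (kapQ h (Additive.toMul x)) = Additive.ofMul 1 := hx
        have h1 : kapQ h (Additive.toMul x) = 1 := Additive.ofMul.injective hx'
        have h2 : Additive.toMul x = Additive.toMul 0 := kapQ_anis h _ h1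
        exact Additive.toMul.injective h2 }
  have hW : Invs κ W :=
    { add := by
        rintro g ⟨s, hs, rfl⟩ x y
        exact congrArg Additive.ofMul ((phi V K s).map_mul (Additive.toMul x) (Additive.toMul y))
      invol := by
        rintro g ⟨s, hs, rfl⟩ x
        have h1 : ∀ q : Qt V K, phi V K (s ^ 2) q = q := (triv_iff (s ^ 2)).mp (hT2 s hs)
        have h2 : phi V K s (phi V K s (Additive.toMul x)) = Additive.toMul x := by
          rw [← phi_mul, ← pow_two]; exact h1 _
        exact congrArg Additive.ofMul h2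
      pres := by
        rintro g ⟨s, hs, rfl⟩ x
        exact congrArg Additive.ofMul (kapQ_phi h s (hTV s hs) (Additive.toMul x))
      comm := by
        rintro g ⟨s, hs, rfl⟩ g' ⟨s', hs', rfl⟩ x
        exact congrArg Additive.ofMul (phi_comm_of_triv s s' (hTc s hs s' hs') (Additive.toMul x)) }
  have hA : Act κ W a b :=
    { a_add := fun e x y =>
        congrArg Additive.ofMul ((phi V K (e : G)).map_mul (Additive.toMul x) (Additive.toMul y))
      a_inj := by
        intro e x y hxy
        have h1 : phi V K (e : G) (Additive.toMul x) = phi V K (e : G) (Additive.toMul y) :=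
          Additive.ofMul.injective hxy
        have h2 := congrArg (phi V K (e : G)⁻¹) h1
        rw [phi_inv_left, phi_inv_left] at h2
        exact Additive.toMul.injective h2
      b_add := fun e v w =>
        congrArg Additive.ofMul
          ((MulAut.conjNormal (e : G) : MulAut ↥V).map_mul (Additive.toMul v) (Additive.toMul w))
      equiv := fun e x => congrArg Additive.ofMul (kapQ_phi_conj h (e : G) (Additive.toMul x))
      trans := by
        intro v w hv hw
        have hv1 : ((Additive.toMul v : ↥V) : G) ≠ 1 := by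
          intro h0
          apply hv
          have : Additive.toMul v = (1 : ↥V) := Subtype.ext h0
          exact Additive.toMul.injective this
        have hw1 : ((Additive.toMul w : ↥V) : G) ≠ 1 := by
          intro h0
          apply hw
          have : Additive.toMul w = (1 : ↥V) := Subtype.ext h0
          exact Additive.toMul.injective this
        obtain ⟨e, he, hew⟩ := htrans _ _ (Additive.toMul v).2 (Additive.toMul w).2 hv1 hw1
        refine ⟨⟨e, he⟩, ?_⟩
        apply Additive.toMul.injective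
        apply Subtype.ext
        show (((MulAut.conjNormal e : MulAut ↥V) (Additive.toMul v) : ↥V) : G) = _
        rw [MulAut.conjNormal_apply]
        exact hew
      Winv := by
        rintro e g ⟨s, hs, rfl⟩
        refine ⟨act ((e : G) * s * (e : G)⁻¹), ⟨_, hET e e.2 s hs, rfl⟩, fun x => ?_⟩
        have h1 : phi V K (e : G) (phi V K s (Additive.toMul x))
            = phi V K ((e : G) * s * (e : G)⁻¹) (phi V K (e : G) (Additive.toMul x)) := by
          rw [← phi_mul, ← phi_mul]
          exact phi_congr (by group) _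
        exact congrArg Additive.ofMul h1 }
  have hne : ∀ s : G, ¬ TrivOn V K s → ∃ x : Additive (Qt V K), act s x ≠ x := by
    intro s hs
    by_contra hcon
    apply hs
    rw [triv_iff]
    intro q
    by_contra hq
    exact hcon ⟨Additive.ofMul q, fun h0 => hq (Additive.ofMul.injective h0)⟩
  have key : ∀ x : Additive (Qt V K), act t x = act t' x :=
    aml (Additive (Qt V K)) (Additive ↥V) κ β W ↥E a b hQ hW hA (act t) ⟨t, ht, rfl⟩ (act t')
      ⟨t', ht', rfl⟩ (hne t hnt) (hne t' hnt')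
  rw [triv_iff]
  intro q
  have h1 : phi V K t q = phi V K t' q := Additive.ofMul.injective (key (Additive.ofMul q))
  rw [phi_mul, ← h1, phi_inv_left]

example : Cfsg.Agent.Lib.H5.S3797ML.AMLStmt.{0} → Cfsg.Agent.Lib.H25.S3797ML.GCoreStmt.{0} := m0a

end Cfsg.Agent.Lib.H10.S3797M0A
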