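import Cfsg.Agent.Lib.H15.S3814C2Defs
import Cfsg.Agent.Lib.H19.S3814HH
import Cfsg.Agent.Lib.H19.S3814C2E2
import Cfsg.Agent.Lib.H15.DiagConj
import Cfsg.Agent.Lib.H16.S3814AutCyc
import Cfsg.Agent.Lib.H16.RankTwoFitB
import Cfsg.Agent.Lib.H1.Fitting

/-!
# S3814, Case 2', piece (10) BadSocle (helper10)

`badSocle : Cfsg.Agent.H15.S3814C2.BadSocleStmt`.

If `O_c(K)` is cyclic, every bad element `z` of order `c` of `K` lies in `⟨mc⟩`.
Suppose not.  `z` centralises every normal `b`-subgroup of `K` (HH, `b` odd), there is no nontrivial normal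
`a`-subgroup (`noa`), and `z` centralises `Q0 = O_c(K)`: otherwise, `Q0` being cyclic, there is `g1 ∈ Q0` with
`g1⁻¹ z g1 = z mc^j`, `c ∤ j`, and diagonal conjugation (`DiagConj.diag`) kills `V`.  So `z` centralises
`F(K)`, hence `z ∈ F(K)`, `z ∈ O_c(K)` cyclic, and `z` lies in its subgroup of order `c`, which is `⟨mc⟩`.
-/

set_option autoImplicit false

namespace Cfsg.Agent.Lib.H10.S3814C2BadSocle

open Cfsg.Agent.H7.S3814Defs Cfsg.Agent.H15.S3814C2

universe u

/-- in a cyclic subgroup `Q`, an element killed by the prime `t` lies in `⟨m⟩`, for any `m ∈ Q` of order `t` -/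
theorem mem_zpowers_of_isCyclic {G : Type u} [Group G] [Finite G] (Q : Subgroup G) (hQ : IsCyclic Q)
    {t : ℕ} (ht : t.Prime) {m x : G} (hm : m ∈ Q) (hmo : orderOf m = t) (hx : x ∈ Q)
    (hxt : x ^ t = 1) : x ∈ Subgroup.zpowers m := by
  classical
  haveI : Fintype Q := Fintype.ofFinite Q
  have hScard : (Finset.univ.filter (fun y : Q => y ^ t = 1)).card ≤ t :=
    IsCyclic.card_pow_eq_one_le ht.pos
  set mQ : Q := ⟨m, hm⟩ with hmQ
  have hmQo : orderOf mQ = t := by rw [hmQ, Subgroup.orderOf_mk, hmo]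
  set T : Finset Q := (Finset.range t).image (fun i => mQ ^ i) with hT
  have hTcard : T.card = t := by
    rw [hT, Finset.card_image_of_injOn, Finset.card_range]
    intro i hi j hj hij
    simp only [Finset.coe_range, Set.mem_Iio] at hi hj
    have := pow_injOn_Iio_orderOf (x := mQ)
    apply this
    · rw [hmQo]; exact hi
    · rw [hmQo]; exact hj
    · exact hij
  have hTS : T ⊆ Finset.univ.filter (fun y : Q => y ^ t = 1) := by
    intro y hy
    rw [hT, Finset.mem_image] at hy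
    obtain ⟨i, _, rfl⟩ := hy
    rw [Finset.mem_filter]
    refine ⟨Finset.mem_univ _, ?_⟩
    rw [← pow_mul, mul_comm, pow_mul, ← hmQo, pow_orderOf_eq_one, one_pow]
  have hEq : T = Finset.univ.filter (fun y : Q => y ^ t = 1) :=
    Finset.eq_of_subset_of_card_le hTS (by rw [hTcard]; exact hScard)
  have hxS : (⟨x, hx⟩ : Q) ∈ Finset.univ.filter (fun y : Q => y ^ t = 1) := by
    rw [Finset.mem_filter]
    exact ⟨Finset.mem_univ _, Subtype.ext (by simpa using hxt)⟩
  rw [← hEq, hT, Finset.mem_image] at hxS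
  obtain ⟨i, _, hi⟩ := hxS
  have h2 := congrArg Subtype.val hi
  simp only [hmQ, SubmonoidClass.mk_pow] at h2
  rw [← h2]
  exact Subgroup.pow_mem _ (Subgroup.mem_zpowers m) i

/-- (F1)+(F3) -/
theorem badSocle : BadSocleStmt.{u} := by
  intro G _ σ p V K ctx a b c mb mc hT hSC z hzK hzo hzbad
  classical
  haveI := ctx.cex.fin
  haveI := ctx.cex.sol
  by_contra hnot
  have hp : p.Prime := ctx.cex.prime p ctx.shape.hp
  have ha : a.Prime := ctx.cex.prime a hT.ha.1
  have hb : b.Prime := ctx.cex.prime b hT.hb.1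
  have hc : c.Prime := ctx.cex.prime c hT.hc.1
  obtain ⟨_, hmcK, hmco, hmcn⟩ := hT.npc
  haveI := ctx.shape.normal
  have hnormV : Subgroup.normalizer (V : Set G) = ⊤ := Subgroup.normalizer_eq_top V
  have hVea : Cfsg.IsElementaryAbelian p V :=
    ⟨⟨⟨fun x y => Subtype.ext (ctx.shape.elem.1 x x.2 y y.2)⟩⟩, ctx.shape.elem.2⟩
  -- the primes of `K`
  have hprimes : ∀ q : ℕ, q.Prime → q ∣ Nat.card K → q = a ∨ q = b ∨ q = c := by
    intro q hq hqK
    obtain ⟨hqσ, hqp⟩ := ctx.facts.primes q hq hqK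
    by_contra hcon
    push Not at hcon
    obtain ⟨hqa, hqb, hqc⟩ := hcon
    have hsub : ({p, a, b, c, q} : Finset ℕ) ⊆ σ := by
      intro x hx
      simp only [Finset.mem_insert, Finset.mem_singleton] at hx
      rcases hx with rfl | rfl | rfl | rfl | rfl
      · exact ctx.shape.hp
      · exact hT.ha.1
      · exact hT.hb.1
      · exact hT.hc.1
      · exact hqσ
    have hcard : ({p, a, b, c, q} : Finset ℕ).card = 5 := by
      have h1 : c ∉ ({q} : Finset ℕ) := by
        rw [Finset.mem_singleton]; exact fun h => hqc h.symm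
      have h2 : b ∉ ({c, q} : Finset ℕ) := by
        simp only [Finset.mem_insert, Finset.mem_singleton, not_or]
        exact ⟨hT.hbc, fun h => hqb h.symm⟩
      have h3 : a ∉ ({b, c, q} : Finset ℕ) := by
        simp only [Finset.mem_insert, Finset.mem_singleton, not_or]
        exact ⟨hT.hab, hT.hac, fun h => hqa h.symm⟩
      have h4 : p ∉ ({a, b, c, q} : Finset ℕ) := by
        simp only [Finset.mem_insert, Finset.mem_singleton, not_or]
        exact ⟨fun h => hT.ha.2 h.symm, fun h => hT.hb.2 h.symm, fun h => hT.hc.2 h.symm,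
          fun h => hqp h.symm⟩
      rw [Finset.card_insert_of_notMem h4, Finset.card_insert_of_notMem h3,
        Finset.card_insert_of_notMem h2, Finset.card_insert_of_notMem h1, Finset.card_singleton]
    have h5 := Finset.card_le_card hsub
    rw [hcard, ctx.cex.card4] at h5
    omega
  -- images of normal subgroups of `K`
  have hmapK : ∀ N : Subgroup K, N.map K.subtype ≤ K := by
    rintro N _ ⟨x, _, rfl⟩
    exact x.2
  have hmapN : ∀ N : Subgroup K, N.Normal →
      K ≤ Subgroup.normalizer ((N.map K.subtype : Subgroup G) : Set G) := by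
    intro N hN k hk
    rw [Subgroup.mem_normalizer_iff]
    have hfwd : ∀ g : K, ∀ y ∈ N.map K.subtype, (g : G) * y * (g : G)⁻¹ ∈ N.map K.subtype := by
      rintro g _ ⟨x, hx, rfl⟩
      refine ⟨g * x * g⁻¹, hN.conj_mem x hx g, ?_⟩
      simp
    intro y
    constructor
    · exact hfwd ⟨k, hk⟩ y
    · intro hy
      have h1 := hfwd ⟨k, hk⟩⁻¹ _ hy
      have e : ((⟨k, hk⟩⁻¹ : K) : G) * (k * y * k⁻¹) * ((⟨k, hk⟩⁻¹ : K) : G)⁻¹ = y := by
        simp only [InvMemClass.coe_inv]; group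
      rwa [e] at h1
  -- faithfulness
  have hfaith : ∀ Q : Subgroup G, Q ≤ K →
      (Subgroup.zpowers z ⊔ Q) ⊓ Subgroup.centralizer (V : Set G) = ⊥ := by
    intro Q hQK
    rw [eq_bot_iff]
    intro g hg
    rw [Subgroup.mem_bot]
    have hgK : g ∈ K := (sup_le ((Subgroup.zpowers_le).2 hzK) hQK) hg.1
    apply ctx.shape.faithful g hgK
    intro v hv
    exact ((Subgroup.mem_centralizer_iff.1 hg.2) v hv).symm
  -- (b): HH
  have hcentb : ∀ Q : Subgroup G, Q ≤ K → K ≤ Subgroup.normalizer (Q : Set G) → IsPGroup b Q →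
      ∀ y ∈ Q, z * y = y * z := by
    intro Q hQK hQn hQb
    exact Cfsg.Agent.Lib.H19.S3814HH.hh_odd hp hb hc hT.hb.2.symm (Ne.symm hT.hc.2) hT.hbc hT.oddb z hzo
      Q V hQb (hQn hzK) hVea ctx.shape.ne_bot (by rw [hnormV]; exact Subgroup.mem_top _)
      (by rw [hnormV]; exact le_top) (hfaith Q hQK) hzbad
  -- (a): `O_a(K) = 1`
  have hnoa : ∀ Q : Subgroup G, Q ≤ K → K ≤ Subgroup.normalizer (Q : Set G) → IsPGroup a Q →
      Q = ⊥ := by
    intro Q hQK hQn hQa
    by_contra hQ1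
    obtain ⟨m', hm'⟩ := Cfsg.Agent.Lib.H19.S3814C2E2.normalPrime_of_normal_pgroup K ctx.cyc a ha Q hQK
      hQn hQa hQ1
    exact hT.noa m' hm'
  -- (c): diagonal conjugation
  have hzmc : Commute z mc := by
    apply Cfsg.Agent.Lib.H16.S3814AutCyc.commute_of_coprime_pred hc mc z hmco
    · have h1 := hmcn z⁻¹ (K.inv_mem hzK)
      simpa using h1
    · exact isOfFinOrder_of_finite z
    · rw [hzo, Nat.Prime.coprime_iff_not_dvd hc]
      exact Nat.not_dvd_of_pos_of_lt (by have := hc.two_le; omega) (by have := hc.two_le; omega)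
  have hVcop : (Nat.card V).Coprime c := by
    haveI : Fact p.Prime := ⟨hp⟩
    have hVp : IsPGroup p V := by
      intro v
      refine ⟨1, ?_⟩
      apply Subtype.ext
      have h1 := ctx.shape.elem.2 v v.2
      simpa using h1
    obtain ⟨k, hk⟩ := IsPGroup.iff_card.1 hVp
    rw [hk]
    exact Nat.Coprime.pow_left k ((Nat.coprime_primes hp hc).2 (Ne.symm hT.hc.2))
  have hCm : V ⊓ Subgroup.centralizer {mc} = ⊥ := by
    rw [eq_bot_iff]
    intro v hv
    rw [Subgroup.mem_bot]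
    apply hT.fpfc v hv.1
    exact (Subgroup.mem_centralizer_iff.1 hv.2) mc (Set.mem_singleton mc)
  have hCz : V ⊓ Subgroup.centralizer {z} = ⊥ := by
    rw [eq_bot_iff]
    intro v hv
    rw [Subgroup.mem_bot]
    apply hzbad v hv.1
    exact (Subgroup.mem_centralizer_iff.1 hv.2) z (Set.mem_singleton z)
  have hcentc : ∀ Q : Subgroup G, Q ≤ K → K ≤ Subgroup.normalizer (Q : Set G) → IsPGroup c Q →
      mc ∈ Q → ∀ y ∈ Q, z * y = y * z := by
    intro Q hQK hQn hQc hmcQ
    haveI : Fact c.Prime := ⟨hc⟩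
    have hQcyc : IsCyclic Q := hSC Q hQK hQn hQc
    have hQcomm : ∀ x ∈ Q, ∀ y ∈ Q, x * y = y * x := by
      intro x hx y hy
      have h0 : IsMulCommutative Q := IsCyclic.isMulCommutative
      have h1 := h0.is_comm.comm (⟨x, hx⟩ : Q) ⟨y, hy⟩
      exact congrArg Subtype.val h1
    by_contra hcon
    push Not at hcon
    obtain ⟨y0, hy0Q, hy0⟩ := hcon
    have hzQ : ∀ y ∈ Q, z⁻¹ * y * z ∈ Q := by
      intro y hy
      have h1 := hQn (K.inv_mem hzK)
      have h2 := (Subgroup.mem_normalizer_iff.1 h1 y).1 hy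
      simpa using h2
    have hψQ : ∀ g ∈ Q, (z⁻¹ * g * z)⁻¹ * g ∈ Q := fun g hg => Q.mul_mem (Q.inv_mem (hzQ g hg)) hg
    have hψpow : ∀ g ∈ Q, ∀ n : ℕ,
        (z⁻¹ * g ^ n * z)⁻¹ * g ^ n = ((z⁻¹ * g * z)⁻¹ * g) ^ n := by
      intro g hg n
      have hcomm : Commute ((z⁻¹ * g * z)⁻¹) g := hQcomm _ (Q.inv_mem (hzQ g hg)) g hg
      have h1 : (z⁻¹ * g * z) ^ n = z⁻¹ * g ^ n * z := by
        have h2 := conj_pow (a := z⁻¹) (b := g) (i := n)
        simpa using h2
      rw [hcomm.mul_pow, inv_pow, h1]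
    have hw1 : (z⁻¹ * y0 * z)⁻¹ * y0 ≠ 1 := by
      intro h
      apply hy0
      have h1 : z⁻¹ * y0 * z = y0 := inv_mul_eq_one.1 h
      calc z * y0 = z * (z⁻¹ * y0 * z) := by rw [h1]
        _ = y0 * z := by group
    obtain ⟨k, hk⟩ := IsPGroup.iff_orderOf.1 hQc ⟨_, hψQ y0 hy0Q⟩
    rw [Subgroup.orderOf_mk] at hk
    have hk0 : k ≠ 0 := by
      rintro rfl
      rw [pow_zero, orderOf_eq_one_iff] at hk
      exact hw1 hk
    obtain ⟨k', rfl⟩ := Nat.exists_eq_succ_of_ne_zero hk0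
    have hg1Q : y0 ^ (c ^ k') ∈ Q := Q.pow_mem hy0Q _
    have hψg1 := hψpow y0 hy0Q (c ^ k')
    have hord : orderOf ((z⁻¹ * y0 ^ (c ^ k') * z)⁻¹ * y0 ^ (c ^ k')) = c := by
      rw [hψg1, orderOf_pow_of_dvd (pow_ne_zero _ hc.ne_zero)
        (by rw [hk]; exact pow_dvd_pow c (Nat.le_succ k')), hk, pow_succ,
        Nat.mul_div_cancel_left _ (pow_pos hc.pos k')]
    have hmem : (z⁻¹ * y0 ^ (c ^ k') * z)⁻¹ * y0 ^ (c ^ k') ∈ Subgroup.zpowers mc :=
      mem_zpowers_of_isCyclic Q hQcyc hc hmcQ hmco (hψQ _ hg1Q)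
        (by have h3 := pow_orderOf_eq_one ((z⁻¹ * y0 ^ (c ^ k') * z)⁻¹ * y0 ^ (c ^ k'))
            rwa [hord] at h3)
    obtain ⟨j, hj⟩ := Cfsg.Agent.Lib.H16.S3814AutCyc.exists_nat_pow_of_mem_zpowers hc hmco hmem
    have hcj : ¬ c ∣ j := by
      intro hdvd
      have h1 : (z⁻¹ * y0 ^ (c ^ k') * z)⁻¹ * y0 ^ (c ^ k') = 1 := by
        rw [hj]
        obtain ⟨s, rfl⟩ := hdvd
        rw [pow_mul, ← hmco, pow_orderOf_eq_one, one_pow]
      rw [← orderOf_eq_one_iff, hord] at h1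
      exact hc.one_lt.ne' h1
    have hconj : (y0 ^ (c ^ k'))⁻¹ * z * y0 ^ (c ^ k') = z * mc ^ j := by
      rw [← hj]
      group
    have hg1mc : Commute (y0 ^ (c ^ k')) mc := hQcomm _ hg1Q mc hmcQ
    have hVbot : V = ⊥ :=
      Cfsg.Agent.H15.DiagConj.diag V hc hVcop z mc (y0 ^ (c ^ k')) hzo hmco hzmc hnot
        (by rw [hnormV]; exact Subgroup.mem_top _) (by rw [hnormV]; exact Subgroup.mem_top _)
        (by rw [hnormV]; exact Subgroup.mem_top _) j hcj hg1mc hconj hCm hCz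
    exact ctx.shape.ne_bot hVbot
  -- `⟨mc⟩ ≤ O_c(K)`
  have hmcpCore : (⟨mc, hmcK⟩ : K) ∈ Cfsg.pCore c K := by
    have hNorm : (Subgroup.zpowers (⟨mc, hmcK⟩ : K)).Normal := by
      constructor
      intro n hn g
      obtain ⟨i, rfl⟩ := Subgroup.mem_zpowers_iff.1 hn
      rw [← conj_zpow]
      apply Subgroup.zpow_mem
      have h1 := hmcn ((g⁻¹ : K) : G) (g⁻¹ : K).2
      obtain ⟨s, hs⟩ := Subgroup.mem_zpowers_iff.1 h1
      rw [Subgroup.mem_zpowers_iff]
      refine ⟨s, ?_⟩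
      apply Subtype.ext
      simpa using hs
    have hPg : IsPGroup c (Subgroup.zpowers (⟨mc, hmcK⟩ : K)) := by
      apply IsPGroup.of_card (n := 1)
      rw [Nat.card_zpowers, Subgroup.orderOf_mk, hmco, pow_one]
    exact Cfsg.Agent.Lib.H1.le_pCore hNorm hPg (Subgroup.mem_zpowers _)
  -- `z` centralises `F(K)`, so `z ∈ F(K)`
  have hzF : (⟨z, hzK⟩ : K) ∈ Cfsg.fittingSubgroup K := by
    apply Cfsg.Agent.Lib.H7.centralizer_fittingSubgroup_le_of_isSolvable K
    rw [Subgroup.mem_centralizer_iff]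
    have hle : Cfsg.fittingSubgroup K ≤ Subgroup.centralizer {(⟨z, hzK⟩ : K)} := by
      rw [Cfsg.Agent.Lib.H1.fittingSubgroup_eq_iSup_pCore]
      apply iSup_le
      intro q
      haveI : Fact (q : ℕ).Prime := ⟨q.2⟩
      have hNn : (Cfsg.pCore (q : ℕ) K).Normal := Cfsg.Agent.Lib.H1.pCore_normal _ _
      have hNp : IsPGroup (q : ℕ) (Cfsg.pCore (q : ℕ) K) := Cfsg.Agent.Lib.H1.pCore_isPGroup _ _
      have hQK : (Cfsg.pCore (q : ℕ) K).map K.subtype ≤ K := hmapK _
      have hQn := hmapN _ hNn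
      have hQp : IsPGroup (q : ℕ) ((Cfsg.pCore (q : ℕ) K).map K.subtype) := hNp.map K.subtype
      have hcent : ∀ y ∈ (Cfsg.pCore (q : ℕ) K).map K.subtype, z * y = y * z := by
        by_cases hQ1 : (Cfsg.pCore (q : ℕ) K).map K.subtype = ⊥
        · intro y hy
          rw [hQ1, Subgroup.mem_bot] at hy
          rw [hy, mul_one, one_mul]
        · have hqK : (q : ℕ) ∣ Nat.card K := by
            obtain ⟨n, hn⟩ := IsPGroup.iff_card.1 hQp
            have hn0 : n ≠ 0 := by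
              rintro rfl
              rw [pow_zero] at hn
              exact hQ1 (Subgroup.card_eq_one.1 hn)
            have h1 : (q : ℕ) ∣ Nat.card ((Cfsg.pCore (q : ℕ) K).map K.subtype) := by
              rw [hn]; exact dvd_pow_self _ hn0
            exact h1.trans (Subgroup.card_dvd_of_le hQK)
          have hQpt : ∀ t : ℕ, (q : ℕ) = t →
              IsPGroup t ((Cfsg.pCore (q : ℕ) K).map K.subtype) := by
            intro t ht
            subst ht
            exact hQp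
          rcases hprimes q q.2 hqK with h | h | h
          · exact absurd (hnoa _ hQK hQn (hQpt a h)) hQ1
          · exact hcentb _ hQK hQn (hQpt b h)
          · have hmem : mc ∈ (Cfsg.pCore (q : ℕ) K).map K.subtype := by
              rw [h]
              exact ⟨⟨mc, hmcK⟩, hmcpCore, rfl⟩
            exact hcentc _ hQK hQn (hQpt c h) hmem
      intro y hy
      rw [Subgroup.mem_centralizer_iff]
      intro x hx
      rw [Set.mem_singleton_iff] at hx
      subst hx
      apply Subtype.ext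
      have h1 := hcent (y : G) ⟨y, hy, rfl⟩
      simpa using h1
    intro f hf
    have h1 := (Subgroup.mem_centralizer_iff.1 (hle hf)) ⟨z, hzK⟩ (Set.mem_singleton _)
    exact h1.symm
  -- `z ∈ O_c(K)`, cyclic
  haveI : Fact c.Prime := ⟨hc⟩
  have hzc : (⟨z, hzK⟩ : K) ∈ Cfsg.pCore c K := by
    apply Cfsg.Agent.Lib.H16.RankTwo.mem_pCore_of_mem_fitting_of_orderOf c hzF (k := 1)
    rw [Subgroup.orderOf_mk, hzo, pow_one]
  have hQcK : (Cfsg.pCore c K).map K.subtype ≤ K := hmapK _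
  have hQcn := hmapN _ (Cfsg.Agent.Lib.H1.pCore_normal c K)
  have hQcp : IsPGroup c ((Cfsg.pCore c K).map K.subtype) :=
    (Cfsg.Agent.Lib.H1.pCore_isPGroup c K).map K.subtype
  have hQccyc : IsCyclic ((Cfsg.pCore c K).map K.subtype) := hSC _ hQcK hQcn hQcp
  have hmcQc : mc ∈ (Cfsg.pCore c K).map K.subtype := ⟨⟨mc, hmcK⟩, hmcpCore, rfl⟩
  have hzQc : z ∈ (Cfsg.pCore c K).map K.subtype := ⟨⟨z, hzK⟩, hzc, rfl⟩
  exact hnot (mem_zpowers_of_isCyclic _ hQccyc hc hmcQc hmco hzQc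
    (by rw [← hzo]; exact pow_orderOf_eq_one z))

example : BadSocleStmt.{0} := badSocle

end Cfsg.Agent.Lib.H10.S3814C2BadSocle
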