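import Cfsg.Agent.Lib.H7.S3814Defs2

/-!
# S3814, piece SPLIT (helper10)

Either `K` has a `K`-normalised elementary abelian subgroup of rank `≥ 2`, or every
`K`-normalised abelian subgroup of `K` is cyclic.
-/

set_option autoImplicit false

namespace Cfsg.Agent.Lib.H10.S3814CaseSplit

open Cfsg.Agent.H7.S3814Defs
open Classical

universe u

section Tor

variable {G : Type u} [Group G] [Fintype G]

/-- the elements of `M` killed by `n` -/
noncomputable def tor (M : Subgroup G) (n : ℕ) : Finset G :=
  Finset.univ.filter (fun x => x ∈ M ∧ x ^ n = 1)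

theorem mem_tor (M : Subgroup G) (n : ℕ) (x : G) : x ∈ tor M n ↔ x ∈ M ∧ x ^ n = 1 := by
  unfold tor
  rw [Finset.mem_filter]
  exact ⟨fun h => h.2, fun h => ⟨Finset.mem_univ _, h⟩⟩

/-- the counting induction -/
theorem tor_le (M : Subgroup G) (hM : ∀ x ∈ M, ∀ y ∈ M, x * y = y * x)
    (h : ∀ c : ℕ, c.Prime → (tor M c).card ≤ c) :
    ∀ n : ℕ, 0 < n → (tor M n).card ≤ n := by
  intro n
  induction n using Nat.strong_induction_on with
  | _ n ih =>
    intro hn
    by_cases h1 : n = 1
    · subst h1
      have hsub : tor M 1 ⊆ {1} := by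
        intro x hx
        rw [mem_tor, pow_one] at hx
        rw [Finset.mem_singleton]
        exact hx.2
      calc (tor M 1).card ≤ ({1} : Finset G).card := Finset.card_le_card hsub
        _ = 1 := Finset.card_singleton _
    · have hc : (n.minFac).Prime := Nat.minFac_prime h1
      set c := n.minFac with hcdef
      have hdvd : c ∣ n := Nat.minFac_dvd n
      obtain ⟨n0, hn0⟩ := hdvd
      have hn0pos : 0 < n0 := by
        rcases Nat.eq_zero_or_pos n0 with h0 | h0
        · rw [h0, mul_zero] at hn0; omega
        · exact h0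
      have hn0lt : n0 < n := by
        have : 2 ≤ c := hc.two_le
        nlinarith
      -- image of `x ↦ x ^ c`
      have himg : (tor M n).image (fun x => x ^ c) ⊆ tor M n0 := by
        intro b hb
        rw [Finset.mem_image] at hb
        obtain ⟨x, hx, rfl⟩ := hb
        rw [mem_tor] at hx ⊢
        refine ⟨M.pow_mem hx.1 c, ?_⟩
        rw [← pow_mul, ← hn0]
        exact hx.2
      -- fibres
      have hfib : ∀ b ∈ (tor M n).image (fun x => x ^ c),
          ((tor M n).filter (fun x => x ^ c = b)).card ≤ (tor M c).card := by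
        intro b hb
        rw [Finset.mem_image] at hb
        obtain ⟨a0, ha0, rfl⟩ := hb
        rw [mem_tor] at ha0
        apply Finset.card_le_card_of_injOn (fun x => x * a0⁻¹)
        · intro x hx
          have hx' := Finset.mem_filter.mp hx
          have hxM := ((mem_tor M n x).mp hx'.1).1
          show x * a0⁻¹ ∈ tor M c
          rw [mem_tor]
          refine ⟨M.mul_mem hxM (M.inv_mem ha0.1), ?_⟩
          have hcomm : Commute x a0⁻¹ := hM x hxM a0⁻¹ (M.inv_mem ha0.1)
          rw [hcomm.mul_pow, hx'.2, inv_pow, mul_inv_cancel]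
        · intro x _ y _ hxy
          exact mul_right_cancel hxy
      calc (tor M n).card ≤ (tor M c).card * ((tor M n).image (fun x => x ^ c)).card :=
            Finset.card_le_mul_card_image _ _ hfib
        _ ≤ c * (tor M n0).card :=
            Nat.mul_le_mul (h c hc) (Finset.card_le_card himg)
        _ ≤ c * n0 := Nat.mul_le_mul_left _ (ih n0 hn0lt hn0pos)
        _ = n := hn0.symm

/-- a noncyclic abelian subgroup has a prime `c` with more than `c` elements killed by `c` -/
theorem exists_prime_tor (M : Subgroup G) (hM : ∀ x ∈ M, ∀ y ∈ M, x * y = y * x)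
    (hnc : ¬ IsCyclic M) : ∃ c : ℕ, c.Prime ∧ c < (tor M c).card := by
  by_contra hcon
  push Not at hcon
  apply hnc
  have hall := tor_le M hM hcon
  apply isCyclic_of_card_pow_eq_one_le
  intro n hn
  refine le_trans ?_ (hall n hn)
  apply Finset.card_le_card_of_injOn (fun a : M => (a : G))
  · intro a ha
    have ha' := (Finset.mem_filter.mp ha).2
    show (a : G) ∈ tor M n
    rw [mem_tor]
    refine ⟨a.2, ?_⟩
    have := congrArg Subtype.val ha'
    rwa [Subgroup.coe_pow, Subgroup.coe_one] at this
  · intro a _ b _ hab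
    exact Subtype.ext hab

end Tor

/-- **PIECE SPLIT** -/
theorem caseSplit : CaseSplitStmt.{u} := by
  intro G _ _ K
  haveI : Fintype G := Fintype.ofFinite G
  by_cases hcyc : ∀ M : Subgroup G, M ≤ K → K ≤ Subgroup.normalizer (M : Set G) →
      (∀ x ∈ M, ∀ y ∈ M, x * y = y * x) → IsCyclic M
  · exact Or.inr hcyc
  · left
    push Not at hcyc
    obtain ⟨M, hMK, hKM, hMab, hnc⟩ := hcyc
    obtain ⟨c, hc, hlt⟩ := exists_prime_tor M hMab hnc
    haveI : Fact c.Prime := ⟨hc⟩
    let M' : Subgroup G :=
      { carrier := {x | x ∈ M ∧ x ^ c = 1}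
        mul_mem' := by
          intro x y hx hy
          refine ⟨M.mul_mem hx.1 hy.1, ?_⟩
          have hcomm : Commute x y := hMab x hx.1 y hy.1
          rw [hcomm.mul_pow, hx.2, hy.2, one_mul]
        one_mem' := ⟨M.one_mem, one_pow c⟩
        inv_mem' := by
          intro x hx
          refine ⟨M.inv_mem hx.1, ?_⟩
          rw [inv_pow, hx.2, inv_one] }
    have hmem : ∀ x : G, x ∈ M' ↔ x ∈ M ∧ x ^ c = 1 := fun x => Iff.rfl
    refine ⟨c, M', hc, ?_, ?_, ?_, ?_⟩
    · intro x hx
      exact hMK ((hmem x).mp hx).1
    · intro k hk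
      have hkN := hKM hk
      rw [Subgroup.mem_normalizer_iff] at hkN ⊢
      intro x
      constructor
      · intro hx
        rw [hmem] at hx ⊢
        refine ⟨(hkN x).mp hx.1, ?_⟩
        rw [conj_pow, hx.2, mul_one, mul_inv_cancel]
      · intro hx
        rw [hmem] at hx ⊢
        refine ⟨(hkN x).mpr hx.1, ?_⟩
        have h1 := hx.2
        rw [conj_pow] at h1
        have h2 : x ^ c = k⁻¹ * (k * x ^ c * k⁻¹) * k := by group
        rw [h2, h1, mul_one, inv_mul_cancel]
    · refine ⟨?_, ?_⟩
      · intro v hv w hw
        exact hMab v ((hmem v).mp hv).1 w ((hmem w).mp hw).1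
      · intro v hv
        exact ((hmem v).mp hv).2
    · -- `M'` is a `c`-group of order `> c`
      have hP : IsPGroup c M' := by
        intro g
        refine ⟨1, ?_⟩
        apply Subtype.ext
        rw [pow_one, Subgroup.coe_pow, Subgroup.coe_one]
        exact ((hmem g).mp g.2).2
      obtain ⟨k, hk⟩ := IsPGroup.iff_card.mp hP
      have hcard : Nat.card M' = (tor M c).card := by
        rw [Nat.card_eq_fintype_card]
        exact Fintype.card_of_subtype (tor M c) (fun x => by rw [mem_tor]; exact (hmem x).symm)
      rw [hk]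
      have hk2 : 2 ≤ k := by
        by_contra hk2
        push Not at hk2
        have hle : c ^ k ≤ c := by
          interval_cases k
          · simpa using hc.one_le
          · simp
        rw [← hk, hcard] at hle
        omega
      exact pow_dvd_pow c hk2

example : CaseSplitStmt.{0} := caseSplit

end Cfsg.Agent.Lib.H10.S3814CaseSplit
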