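import Cfsg.Statements.S4415
import Cfsg.Agent.Lib.H10.S4415Defs

set_option autoImplicit false
open Cfsg
open Cfsg.Agent.Lib.H10.S4415

namespace Cfsg.Agent.Lib.H10.S4415Asm

universe u v

theorem result_of (front : FrontStmt.{u, v}) (good : GoodStmt.{u, v}) (bad : BadStmt.{u, v})
    {S : Type u} [Group S] [Finite S]
    [Group.IsSolvable S] {E : Type v} [AddCommGroup E] [Module (ZMod 3) E] [Finite E] (ρ : Representation (ZMod 3) S E)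
    (hfaith : Function.Injective ρ) (hO3 : Cfsg.pCore 3 S = ⊥)
    (B : Subgroup S) (hB : Nat.card ↥B = 3) (b : S) (hb : Subgroup.zpowers b = B)
    (E₀ E₁ : Submodule (ZMod 3) E) (hE01 : E₀ ⊓ E₁ = ⊥) (hE01' : E₀ ⊔ E₁ = ⊤)
    (hE1 : ∀ v ∈ E₁, ρ b v = v) (hE0inv : ∀ v ∈ E₀, ρ b v ∈ E₀) (hE0 : Nat.card ↥E₀ = 27)
    (hind : ∃ v ∈ E₀, ρ b (ρ b v - v) - (ρ b v - v) ≠ 0)
    (Q : Subgroup S) (hQ : Cfsg.IsElementaryAbelian 2 Q) (hQ4 : Nat.card ↥Q = 4)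
    (hBQ : B ≤ Subgroup.normalizer (Q : Set S)) (hBQ' : ¬ B ≤ Subgroup.centralizer (Q : Set S))
    (P : Sylow 3 S) (hBZ : (Subgroup.center ↥(P : Subgroup S)).map (P : Subgroup S).subtype = B) :
    ((Cfsg.IsElementaryAbelian 2 ⁅Cfsg.pPrimeCore 3 S, B⁆ ∧ Nat.card ↥⁅Cfsg.pPrimeCore 3 S, B⁆ = 4) ∨
      (Cfsg.IsExtraspecial 2 ↥⁅Cfsg.pPrimeCore 3 S, B⁆ ∧ Nat.card ↥⁅Cfsg.pPrimeCore 3 S, B⁆ = 32 ∧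
        ∃ A : Subgroup S, A ≤ ⁅Cfsg.pPrimeCore 3 S, B⁆ ∧ Cfsg.IsElementaryAbelian 2 A ∧ Nat.card ↥A = 8)) ∧
    ∃ F₀ F₁ : Submodule (ZMod 3) E, F₀ ⊓ F₁ = ⊥ ∧ F₀ ⊔ F₁ = ⊤ ∧
      (∀ r ∈ ⁅Cfsg.pPrimeCore 3 S, B⁆, ∀ v ∈ F₁, ρ r v = v) ∧ (∀ r ∈ ⁅Cfsg.pPrimeCore 3 S, B⁆ ⊔ B, ∀ v ∈ F₀, ρ r v ∈ F₀) ∧
      (∀ r ∈ ⁅Cfsg.pPrimeCore 3 S, B⁆ ⊔ B, (∀ v ∈ F₀, ρ r v = v) → r = 1) ∧
      (∀ N : Submodule (ZMod 3) E, N ≤ F₀ → (∀ r ∈ ⁅Cfsg.pPrimeCore 3 S, B⁆ ⊔ B, ∀ v ∈ N, ρ r v ∈ N) → N = ⊥ ∨ N = F₀) := by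
  obtain ⟨W, C, x₁, x₂, x₃, e₁, e₂, e₃, h1, h2, h3, hL, hQd⟩ :=
    front ρ hfaith hO3 B hB b hb E₀ E₁ hE01 hE01' hE1 hE0inv hE0 hind Q hQ hQ4 hBQ hBQ' P hBZ
  have hRB : RB ⁅Cfsg.pPrimeCore 3 S, B⁆ b = ⁅Cfsg.pPrimeCore 3 S, B⁆ ⊔ B := by
    unfold RB; rw [hb]
  refine ⟨?_, W, C, h1, h2, h3, ?_, ?_, ?_⟩
  · by_cases hbad : Bad ρ ⁅Cfsg.pPrimeCore 3 S, B⁆ b W
    · exact bad ρ _ b W x₁ x₂ x₃ e₁ e₂ e₃ hL hQd hbad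
    · exact good ρ _ b W x₁ x₂ x₃ e₁ e₂ e₃ hL hQd hbad
  · have := hL.W_inv
    rw [hRB] at this
    exact this
  · have := hL.faithful
    rw [hRB] at this
    exact this
  · have := hL.irred
    rw [hRB] at this
    exact this

end Cfsg.Agent.Lib.H10.S4415Asm
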