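import Cfsg.Agent.Lib.H10.S4415Defs

/-!
helper10: the sub-cut of the BAD block of S4415 (definitions + the exact shapes of the pieces).
-/

set_option autoImplicit false

namespace Cfsg.Agent.Lib.H10.S4415

variable {S E : Type*} [Group S] [AddCommGroup E] [Module (ZMod 3) E]

/-- `z` acts as `-1` on `W`. -/
def IsNeg (ρ : Representation (ZMod 3) S E) (W : Submodule (ZMod 3) E) (z : S) : Prop :=
  ∀ w ∈ W, ρ z w = -w

/-- Concrete "extraspecial `2`-group with centre `{1,z}`" predicate for a subgroup `X` of `S`. -/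
structure XS (z : S) (X : Subgroup S) : Prop where
  zX : z ∈ X
  z_ne : z ≠ 1
  z_sq : z * z = 1
  z_central : ∀ g ∈ X, g * z = z * g
  sq : ∀ g ∈ X, g * g = 1 ∨ g * g = z
  comm : ∀ g ∈ X, ∀ h ∈ X, g * h * g⁻¹ * h⁻¹ = 1 ∨ g * h * g⁻¹ * h⁻¹ = z
  center : ∀ g ∈ X, (∀ h ∈ X, g * h = h * g) → g = 1 ∨ g = z
  big : ∃ g ∈ X, g ≠ 1 ∧ g ≠ z

/-- `dim W = 4`: a fourth basis vector `e₀` spanning `C_W(Q)`. -/
structure Dim4 (ρ : Representation (ZMod 3) S E) (b : S) (W : Submodule (ZMod 3) E)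
    (x₁ x₂ x₃ : S) (e₀ e₁ e₂ e₃ : E) : Prop where
  e₀W : e₀ ∈ W
  e₀ne : e₀ ≠ 0
  be₀ : ρ b e₀ = e₀
  x₁e₀ : ρ x₁ e₀ = e₀
  x₂e₀ : ρ x₂ e₀ = e₀
  x₃e₀ : ρ x₃ e₀ = e₀
  span : ∀ w ∈ W, ∃ c₀ c₁ c₂ c₃ : ZMod 3, w = c₀ • e₀ + c₁ • e₁ + c₂ • e₂ + c₃ • e₃
  indep : ∀ c₀ c₁ c₂ c₃ : ZMod 3, c₀ • e₀ + c₁ • e₁ + c₂ • e₂ + c₃ • e₃ = 0 →
    c₀ = 0 ∧ c₁ = 0 ∧ c₂ = 0 ∧ c₃ = 0

/-- (4): `R<b>`-normal subgroups of `R` of odd order are trivial. -/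
def OddTriv (R : Subgroup S) (b : S) : Prop :=
  ∀ M : Subgroup S, M ≤ R → NormBy (RB R b) M → Odd (Nat.card M) → M = ⊥

/-- (B1): `R<b>`-normal abelian subgroups of `R` act on `W` by scalars `±1`. -/
def AbScalar (ρ : Representation (ZMod 3) S E) (R : Subgroup S) (b : S)
    (W : Submodule (ZMod 3) E) : Prop :=
  ∀ A : Subgroup S, A ≤ R → NormBy (RB R b) A → (∀ a ∈ A, ∀ a' ∈ A, a * a' = a' * a) →
    ∀ a ∈ A, (∀ w ∈ W, ρ a w = w) ∨ (∀ w ∈ W, ρ a w = -w)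

/-- (4) `O_r(R) = 1` for odd `r` (helper8's swap argument / helper11's variant). -/
def OddStmt : Prop :=
  ∀ {S : Type*} [Group S] [Finite S] {E : Type*} [AddCommGroup E]
    [Module (ZMod 3) E] [Finite E] (ρ : Representation (ZMod 3) S E)
    (R : Subgroup S) (b : S) (W : Submodule (ZMod 3) E) (x₁ x₂ x₃ : S) (e₁ e₂ e₃ : E),
    LinCtx ρ R b W → QData ρ R b W x₁ x₂ x₃ e₁ e₂ e₃ → OddTriv R b

/-- (B0) existence of `z = -1` in `R`. -/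
def B0Stmt : Prop :=
  ∀ {S : Type*} [Group S] [Finite S] {E : Type*} [AddCommGroup E]
    [Module (ZMod 3) E] [Finite E] (ρ : Representation (ZMod 3) S E)
    (R : Subgroup S) (b : S) (W : Submodule (ZMod 3) E) (x₁ x₂ x₃ : S) (e₁ e₂ e₃ : E),
    LinCtx ρ R b W → QData ρ R b W x₁ x₂ x₃ e₁ e₂ e₃ → Bad ρ R b W → OddTriv R b →
    ∃ z ∈ R, IsNeg ρ W z

/-- (B1) abelian normal subgroups are scalar. -/
def B1Stmt : Prop :=
  ∀ {S : Type*} [Group S] [Finite S] {E : Type*} [AddCommGroup E]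
    [Module (ZMod 3) E] [Finite E] (ρ : Representation (ZMod 3) S E)
    (R : Subgroup S) (b : S) (W : Submodule (ZMod 3) E) (x₁ x₂ x₃ : S) (e₁ e₂ e₃ : E),
    LinCtx ρ R b W → QData ρ R b W x₁ x₂ x₃ e₁ e₂ e₃ → Bad ρ R b W → OddTriv R b →
    AbScalar ρ R b W

/-- (B2) LEMMA E+: an `R<b>`-normal subgroup `C ≤ R` not inside `{1,z}` contains an `R<b>`-normal
`XS`-subgroup. -/
def B2Stmt : Prop :=
  ∀ {S : Type*} [Group S] [Finite S] {E : Type*} [AddCommGroup E]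
    [Module (ZMod 3) E] [Finite E] (ρ : Representation (ZMod 3) S E)
    (R : Subgroup S) (b : S) (W : Submodule (ZMod 3) E) (z : S),
    LinCtx ρ R b W → OddTriv R b → AbScalar ρ R b W → z ∈ R → IsNeg ρ W z → (∃ w ∈ W, w ≠ 0) →
    ∀ C : Subgroup S, C ≤ R → NormBy (RB R b) C → ¬ (∀ c ∈ C, c = 1 ∨ c = z) →
    ∃ X : Subgroup S, X ≤ C ∧ NormBy (RB R b) X ∧ XS z X

/-- (B3) `dim W = 4` from an `R<b>`-normal `XS`-subgroup. -/
def B3Stmt : Prop :=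
  ∀ {S : Type*} [Group S] [Finite S] {E : Type*} [AddCommGroup E]
    [Module (ZMod 3) E] [Finite E] (ρ : Representation (ZMod 3) S E)
    (R : Subgroup S) (b : S) (W : Submodule (ZMod 3) E) (x₁ x₂ x₃ : S) (e₁ e₂ e₃ : E) (z : S)
    (X : Subgroup S),
    LinCtx ρ R b W → QData ρ R b W x₁ x₂ x₃ e₁ e₂ e₃ → IsNeg ρ W z →
    X ≤ R → NormBy (RB R b) X → XS z X →
    ∃ e₀ : E, Dim4 ρ b W x₁ x₂ x₃ e₀ e₁ e₂ e₃

/-- (FL) flag lemma: an odd-order `3'`-element of `R<b>` commuting with `b` is trivial. -/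
def FLStmt : Prop :=
  ∀ {S : Type*} [Group S] [Finite S] {E : Type*} [AddCommGroup E]
    [Module (ZMod 3) E] [Finite E] (ρ : Representation (ZMod 3) S E)
    (R : Subgroup S) (b : S) (W : Submodule (ZMod 3) E) (x₁ x₂ x₃ : S) (e₀ e₁ e₂ e₃ : E),
    LinCtx ρ R b W → QData ρ R b W x₁ x₂ x₃ e₁ e₂ e₃ → Dim4 ρ b W x₁ x₂ x₃ e₀ e₁ e₂ e₃ →
    ∀ y ∈ RB R b, b * y = y * b → Odd (orderOf y) → (orderOf y).Coprime 3 → y = 1

/-- (P1) in a `b`-invariant splitting of `W`, `b` is trivial on one summand. -/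
def P1Stmt : Prop :=
  ∀ {S : Type*} [Group S] [Finite S] {E : Type*} [AddCommGroup E]
    [Module (ZMod 3) E] [Finite E] (ρ : Representation (ZMod 3) S E)
    (R : Subgroup S) (b : S) (W : Submodule (ZMod 3) E) (x₁ x₂ x₃ : S) (e₁ e₂ e₃ : E),
    QData ρ R b W x₁ x₂ x₃ e₁ e₂ e₃ →
    ∀ U₁ U₂ : Submodule (ZMod 3) E, U₁ ⊓ U₂ = ⊥ → U₁ ⊔ U₂ = W →
      (∀ u ∈ U₁, ρ b u ∈ U₁) → (∀ u ∈ U₂, ρ b u ∈ U₂) →
      (∀ u ∈ U₁, ρ b u = u) ∨ (∀ u ∈ U₂, ρ b u = u)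

/-- (B4) `C_X(b) = {1,z}`. -/
def B4Stmt : Prop :=
  ∀ {S : Type*} [Group S] [Finite S] {E : Type*} [AddCommGroup E]
    [Module (ZMod 3) E] [Finite E] (ρ : Representation (ZMod 3) S E)
    (R : Subgroup S) (b : S) (W : Submodule (ZMod 3) E) (x₁ x₂ x₃ : S) (e₀ e₁ e₂ e₃ : E) (z : S)
    (X : Subgroup S),
    LinCtx ρ R b W → QData ρ R b W x₁ x₂ x₃ e₁ e₂ e₃ → Dim4 ρ b W x₁ x₂ x₃ e₀ e₁ e₂ e₃ →
    IsNeg ρ W z → X ≤ R → XS z X →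
    ∀ g ∈ X, b * g = g * b → g = 1 ∨ g = z

/-- (B5) `|X| ≤ 32` (distinct elements of `X/<z>` are linearly independent in `End W`). -/
def B5Stmt : Prop :=
  ∀ {S : Type*} [Group S] [Finite S] {E : Type*} [AddCommGroup E]
    [Module (ZMod 3) E] [Finite E] (ρ : Representation (ZMod 3) S E)
    (R : Subgroup S) (b : S) (W : Submodule (ZMod 3) E) (x₁ x₂ x₃ : S) (e₀ e₁ e₂ e₃ : E) (z : S)
    (X : Subgroup S),
    LinCtx ρ R b W → Dim4 ρ b W x₁ x₂ x₃ e₀ e₁ e₂ e₃ →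
    IsNeg ρ W z → X ≤ R → XS z X → Nat.card ↥X ≤ 32

/-- (B6) LEMMA T: an `R<b>`-normal `2`-subgroup `M ≥ X` of `R` acts trivially on `X/<z>`. -/
def B6Stmt : Prop :=
  ∀ {S : Type*} [Group S] [Finite S] {E : Type*} [AddCommGroup E]
    [Module (ZMod 3) E] [Finite E] (ρ : Representation (ZMod 3) S E)
    (R : Subgroup S) (b : S) (W : Submodule (ZMod 3) E) (z : S) (X M : Subgroup S),
    LinCtx ρ R b W → AbScalar ρ R b W → z ∈ R → IsNeg ρ W z → (∃ w ∈ W, w ≠ 0) →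
    X ≤ M → M ≤ R → NormBy (RB R b) X → NormBy (RB R b) M → XS z X → IsPGroup 2 ↥M →
    ∀ m ∈ M, ∀ g ∈ X, m * g * m⁻¹ * g⁻¹ = 1 ∨ m * g * m⁻¹ * g⁻¹ = z

/-- (B7) an element acting trivially on `X/<z>` induces an inner automorphism of `X`
(pure group theory). -/
def B7Stmt : Prop :=
  ∀ {S : Type*} [Group S] [Finite S] (z : S) (X : Subgroup S), XS z X →
    ∀ r : S, (∀ g ∈ X, r * g * r⁻¹ * g⁻¹ = 1 ∨ r * g * r⁻¹ * g⁻¹ = z) →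
    ∃ x ∈ X, ∀ g ∈ X, (x⁻¹ * r) * g = g * (x⁻¹ * r)

/-- (B7') a maximal `R<b>`-normal `XS`-subgroup `X` of `R` has `C_R(X) = {1,z}`. -/
def B7'Stmt : Prop :=
  ∀ {S : Type*} [Group S] [Finite S] {E : Type*} [AddCommGroup E]
    [Module (ZMod 3) E] [Finite E] (ρ : Representation (ZMod 3) S E)
    (R : Subgroup S) (b : S) (W : Submodule (ZMod 3) E) (z : S) (X : Subgroup S),
    LinCtx ρ R b W → OddTriv R b → AbScalar ρ R b W → z ∈ R → IsNeg ρ W z → (∃ w ∈ W, w ≠ 0) →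
    X ≤ R → NormBy (RB R b) X → XS z X →
    (∀ X' : Subgroup S, X' ≤ R → NormBy (RB R b) X' → XS z X' → Nat.card ↥X' ≤ Nat.card ↥X) →
    ∀ c ∈ R, (∀ g ∈ X, c * g = g * c) → c = 1 ∨ c = z

/-- (B8) `R` is a `2`-group. -/
def B8Stmt : Prop :=
  ∀ {S : Type*} [Group S] [Finite S] {E : Type*} [AddCommGroup E]
    [Module (ZMod 3) E] [Finite E] (ρ : Representation (ZMod 3) S E)
    (R : Subgroup S) (b : S) (W : Submodule (ZMod 3) E) (x₁ x₂ x₃ : S) (e₀ e₁ e₂ e₃ : E) (z : S)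
    (X : Subgroup S),
    LinCtx ρ R b W → QData ρ R b W x₁ x₂ x₃ e₁ e₂ e₃ → Dim4 ρ b W x₁ x₂ x₃ e₀ e₁ e₂ e₃ →
    IsNeg ρ W z → X ≤ R → NormBy (RB R b) X → XS z X → Nat.card ↥X ≤ 32 →
    (∀ c ∈ R, (∀ g ∈ X, c * g = g * c) → c = 1 ∨ c = z) →
    (∀ y ∈ RB R b, b * y = y * b → Odd (orderOf y) → (orderOf y).Coprime 3 → y = 1) →
    IsPGroup 2 ↥R

/-- (B9) recognition: `R = X` with `XS z X`, `|X| = 32`, and an `E_8` inside gives `Concl R`. -/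
def B9Stmt : Prop :=
  ∀ {S : Type*} [Group S] [Finite S] (z : S) (R : Subgroup S), XS z R → Nat.card ↥R = 32 →
    (∃ A : Subgroup S, A ≤ R ∧ Cfsg.IsElementaryAbelian 2 A ∧ Nat.card ↥A = 8) → Concl R

/-- (B4') `|X| ≡ 2 (mod 3)` (`b` acts on `X` by conjugation with exactly the two fixed points `1, z`). -/
def B4'Stmt : Prop :=
  ∀ {S : Type*} [Group S] [Finite S] (b z : S) (X : Subgroup S), b * b * b = 1 →
    (∀ g ∈ X, b * g * b⁻¹ ∈ X) → z ∈ X → z ≠ 1 → b * z = z * b →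
    (∀ g ∈ X, b * g = g * b → g = 1 ∨ g = z) → Nat.card ↥X % 3 = 2

/-- (B10) `D⁺ = Q × <z>`: an elementary abelian subgroup of order `8` of `R`. -/
def B10Stmt : Prop :=
  ∀ {S : Type*} [Group S] [Finite S] {E : Type*} [AddCommGroup E]
    [Module (ZMod 3) E] [Finite E] (ρ : Representation (ZMod 3) S E)
    (R : Subgroup S) (b : S) (W : Submodule (ZMod 3) E) (x₁ x₂ x₃ : S) (e₁ e₂ e₃ : E) (z : S),
    LinCtx ρ R b W → QData ρ R b W x₁ x₂ x₃ e₁ e₂ e₃ → z ∈ R → IsNeg ρ W z →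
    ∃ A : Subgroup S, A ≤ R ∧ Cfsg.IsElementaryAbelian 2 A ∧ Nat.card ↥A = 8

end Cfsg.Agent.Lib.H10.S4415
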