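import Cfsg.Agent.Lib.H10.S4415BadW
import Cfsg.Agent.Lib.H4.S4415B1S
import Cfsg.Agent.Lib.H22.S4415B2
import Cfsg.Agent.Lib.H9.S4415FL
import Cfsg.Agent.Lib.H12.S4415B4p
import Cfsg.Agent.Lib.H12.S4415B10
import Cfsg.Agent.Lib.H1.S4415B5W
import Cfsg.Agent.Lib.H7.S4415B7W
import Cfsg.Agent.Lib.H15.S4415B7p
import Cfsg.Agent.Lib.H23.S4415B9

/-!
helper10: the BAD block of S4415 with every landed piece plugged; the pieces still open are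
hypotheses of `bad_of4`.
-/

set_option autoImplicit false

namespace Cfsg.Agent.Lib.H10.S4415

universe u v

theorem bad_of4 (hodd : OddStmt.{u, v}) (h0 : B0Stmt.{u, v}) (h3 : B3Stmt.{u, v})
    (h8 : B8Stmt.{u, v}) : BadStmt.{u, v} :=
  bad_of hodd h0 Cfsg.Agent.Lib.H4.S4415B1.b1_stmt Cfsg.Agent.Lib.H22.S4415B2.b2 h3
    Cfsg.Agent.Lib.H9.S4415.fl b4_stmt Cfsg.Agent.Lib.H12.S4415.b4'
    Cfsg.Agent.Lib.H1.S4415B5W.b5 b6_stmt Cfsg.Agent.Lib.H7.S4415B7W.b7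
    (Cfsg.Agent.Lib.H15.S4415B7p.b7' Cfsg.Agent.Lib.H22.S4415B2.b2) h8
    Cfsg.Agent.Lib.H23.S4415B9.b9 Cfsg.Agent.Lib.H12.S4415.b10

end Cfsg.Agent.Lib.H10.S4415
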