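import Cfsg.Agent.Lib.H10.S4415Bad
import Cfsg.Agent.Lib.H21.S4415B0
import Cfsg.Agent.Lib.H25.S4415B3S
import Cfsg.Agent.Lib.H27.S4415B8

/-!
helper10: the BAD block of S4415 with everything plugged except `OddStmt`.
-/

set_option autoImplicit false

namespace Cfsg.Agent.Lib.H10.S4415

universe u v

theorem bad_of1 (hodd : OddStmt.{u, v}) : BadStmt.{u, v} :=
  bad_of4 hodd Cfsg.Agent.Lib.H21.S4415B0.b0 Cfsg.Agent.Lib.H25.S4415B3S.b3
    Cfsg.Agent.Lib.H27.S4415B8.b8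

end Cfsg.Agent.Lib.H10.S4415
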