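import Cfsg.Agent.Lib.H10.S4415BadDefs

/-!
helper10: assembly of the BAD block of S4415 from the pieces of `S4415BadDefs`.
-/

set_option autoImplicit false

namespace Cfsg.Agent.Lib.H10.S4415

universe u v

section helpers

variable {S : Type u} {E : Type v} [Group S] [AddCommGroup E] [Module (ZMod 3) E]
  {ρ : Representation (ZMod 3) S E} {R : Subgroup S} {b : S} {W : Submodule (ZMod 3) E}

theorem R_le_RB : R ≤ RB R b := le_sup_left

theorem b_mem_RB : b ∈ RB R b := Subgroup.mem_sup_right (Subgroup.mem_zpowers b)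

theorem rho_inv_apply (g : S) (w : E) : ρ g⁻¹ (ρ g w) = w := by
  have : (ρ g⁻¹ * ρ g) w = w := by rw [← map_mul]; simp
  exact this

theorem rho_apply_inv (g : S) (w : E) : ρ g (ρ g⁻¹ w) = w := by
  have : (ρ g * ρ g⁻¹) w = w := by rw [← map_mul]; simp
  exact this

theorem rho_mul_apply (g h : S) (w : E) : ρ (g * h) w = ρ g (ρ h w) := by
  rw [map_mul]; rfl

theorem pow_conj_mem (hbn : ∀ r ∈ R, b * r * b⁻¹ ∈ R) (n : ℕ) :
    ∀ r ∈ R, b ^ n * r * (b ^ n)⁻¹ ∈ R := by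
  induction n with
  | zero => intro r hr; simpa using hr
  | succ n ih =>
    intro r hr
    have h1 := hbn _ (ih r hr)
    have : b ^ (n + 1) * r * (b ^ (n + 1))⁻¹ = b * (b ^ n * r * (b ^ n)⁻¹) * b⁻¹ := by
      rw [pow_succ']; group
    rw [this]; exact h1

/-- `R` is normalised by `R<b>`. -/
theorem normBy_R [Finite S] (hbn : ∀ r ∈ R, b * r * b⁻¹ ∈ R) : NormBy (RB R b) R := by
  intro g hg
  unfold RB at hg
  rw [Subgroup.sup_eq_closure] at hg
  induction hg using Subgroup.closure_induction with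
  | mem x hx =>
    rcases hx with hx | hx
    · intro a ha; exact R.mul_mem (R.mul_mem hx ha) (R.inv_mem hx)
    · obtain ⟨n, rfl⟩ := (mem_powers_iff_mem_zpowers).mpr hx
      intro a ha
      exact pow_conj_mem hbn n a ha
  | one => intro a ha; simpa using ha
  | mul x y _ _ hx hy =>
    intro a ha
    have := hx _ (hy a ha)
    simpa [mul_assoc] using this
  | inv x _ hx =>
    intro a ha
    -- conjugation by `x` is an injective self-map of the finite set `R`, hence surjective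
    have hinj : Function.Injective (fun r : R => (⟨x * r * x⁻¹, hx r r.2⟩ : R)) := by
      intro r s hrs
      have := congrArg Subtype.val hrs
      simp at this
      exact this
    have hsurj := Finite.surjective_of_injective hinj
    obtain ⟨r, hr⟩ := hsurj ⟨a, ha⟩
    have h1 : x * r * x⁻¹ = a := congrArg Subtype.val hr
    have : x⁻¹ * a * x⁻¹⁻¹ = r := by rw [← h1]; group
    rw [this]; exact r.2

/-- `-1` is central in `R<b>`. -/
theorem neg_comm (hL : LinCtx ρ R b W) {z : S} (hzR : z ∈ R) (hz : IsNeg ρ W z)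
    {g : S} (hg : g ∈ RB R b) : g * z = z * g := by
  have hzRB : z ∈ RB R b := R_le_RB hzR
  have hmem : g * z * g⁻¹ * z⁻¹ ∈ RB R b :=
    (RB R b).mul_mem ((RB R b).mul_mem ((RB R b).mul_mem hg hzRB) ((RB R b).inv_mem hg))
      ((RB R b).inv_mem hzRB)
  have hzinv : ∀ w ∈ W, ρ z⁻¹ w = -w := by
    intro w hw
    have h1 : ρ z (-w) = w := by rw [map_neg, hz w hw, neg_neg]
    calc ρ z⁻¹ w = ρ z⁻¹ (ρ z (-w)) := by rw [h1]
      _ = -w := rho_inv_apply z (-w)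
  have htriv : ∀ w ∈ W, ρ (g * z * g⁻¹ * z⁻¹) w = w := by
    intro w hw
    rw [rho_mul_apply, rho_mul_apply, rho_mul_apply, hzinv w hw, map_neg]
    have h2 : ρ g⁻¹ w ∈ W := hL.W_inv _ ((RB R b).inv_mem hg) w hw
    rw [map_neg, hz _ h2, neg_neg, rho_apply_inv]
  have h1 := hL.faithful _ hmem htriv
  have : g * z = (g * z * g⁻¹ * z⁻¹) * (z * g) := by group
  rw [this, h1, one_mul]

end helpers

/-- Assembly of the BAD block. -/
theorem bad_of (hodd : OddStmt.{u, v}) (h0 : B0Stmt.{u, v}) (h1 : B1Stmt.{u, v})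
    (h2 : B2Stmt.{u, v}) (h3 : B3Stmt.{u, v}) (hfl : FLStmt.{u, v}) (h4 : B4Stmt.{u, v})
    (h4' : B4'Stmt.{u}) (h5 : B5Stmt.{u, v}) (h6 : B6Stmt.{u, v}) (h7 : B7Stmt.{u})
    (h7' : B7'Stmt.{u, v}) (h8 : B8Stmt.{u, v}) (h9 : B9Stmt.{u}) (h10 : B10Stmt.{u, v}) :
    BadStmt.{u, v} := by
  intro S _ _ E _ _ _ ρ R b W x₁ x₂ x₃ e₁ e₂ e₃ hL hQ hbad
  have hOT : OddTriv R b := hodd ρ R b W x₁ x₂ x₃ e₁ e₂ e₃ hL hQ
  obtain ⟨z, hzR, hzneg⟩ := h0 ρ R b W x₁ x₂ x₃ e₁ e₂ e₃ hL hQ hbad hOT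
  have hAb : AbScalar ρ R b W := h1 ρ R b W x₁ x₂ x₃ e₁ e₂ e₃ hL hQ hbad hOT
  have hWne : ∃ w ∈ W, w ≠ 0 := ⟨e₁, hQ.e₁W, hQ.e₁ne⟩
  have hRn : NormBy (RB R b) R := normBy_R hL.b_norm
  -- `2 • w = 0 → w = 0` in characteristic 3
  have hchar : ∀ w : E, w = -w → w = 0 := by
    intro w hw
    have h2w : (2 : ZMod 3) • w = 0 := by
      rw [two_smul]; nth_rewrite 2 [hw]; exact add_neg_cancel w
    have h2 : (2 : ZMod 3) * 2 = 1 := by decide
    calc w = ((2 : ZMod 3) * 2) • w := by rw [h2, one_smul]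
      _ = (2 : ZMod 3) • ((2 : ZMod 3) • w) := by rw [mul_smul]
      _ = 0 := by rw [h2w, smul_zero]
  -- `R` is not inside `{1, z}`
  have hRbig : ¬ (∀ c ∈ R, c = 1 ∨ c = z) := by
    intro h
    have he₂ : e₂ ≠ 0 := by
      intro h0
      have : ρ b⁻¹ (ρ b e₁) = e₁ := rho_inv_apply b e₁
      rw [hQ.be₁, h0, map_zero] at this
      exact hQ.e₁ne this.symm
    rcases h x₁ hQ.x₁R with h1 | h1
    · have := hQ.x₁e₂
      rw [h1, map_one] at this
      exact he₂ (hchar e₂ this)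
    · have h3 := hQ.x₁e₁
      rw [h1, hzneg e₁ hQ.e₁W] at h3
      exact hQ.e₁ne (hchar e₁ h3.symm)
  obtain ⟨X₀, hX₀R, hX₀n, hX₀⟩ :=
    h2 ρ R b W z hL hOT hAb hzR hzneg hWne R le_rfl hRn hRbig
  -- choose `X` of maximal order
  obtain ⟨X, ⟨hXR, hXn, hXS⟩, hXmax⟩ :=
    Set.exists_max_image {X : Subgroup S | X ≤ R ∧ NormBy (RB R b) X ∧ XS z X}
      (fun X => Nat.card ↥X) (Set.toFinite _) ⟨X₀, hX₀R, hX₀n, hX₀⟩
  have hXmax' : ∀ X' : Subgroup S, X' ≤ R → NormBy (RB R b) X' → XS z X' →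
      Nat.card ↥X' ≤ Nat.card ↥X := fun X' a b c => hXmax X' ⟨a, b, c⟩
  obtain ⟨e₀, hD⟩ := h3 ρ R b W x₁ x₂ x₃ e₁ e₂ e₃ z X hL hQ hzneg hXR hXn hXS
  have hcard32 := h5 ρ R b W x₁ x₂ x₃ e₀ e₁ e₂ e₃ z X hL hD hzneg hXR hXS
  have hcent := h7' ρ R b W z X hL hOT hAb hzR hzneg hWne hXR hXn hXS hXmax'
  have hflag := hfl ρ R b W x₁ x₂ x₃ e₀ e₁ e₂ e₃ hL hQ hD
  have hR2 : IsPGroup 2 ↥R :=
    h8 ρ R b W x₁ x₂ x₃ e₀ e₁ e₂ e₃ z X hL hQ hD hzneg hXR hXn hXS hcard32 hcent hflag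
  have hT := h6 ρ R b W z X R hL hAb hzR hzneg hWne hXR le_rfl hXn hRn hXS hR2
  -- `R = X`
  have hRX : R = X := by
    apply le_antisymm _ hXR
    intro r hr
    obtain ⟨x, hxX, hx⟩ := h7 z X hXS r (hT r hr)
    have hc : x⁻¹ * r ∈ R := R.mul_mem (R.inv_mem (hXR hxX)) hr
    rcases hcent _ hc (fun g hg => hx g hg) with h | h
    · have : r = x := by
        have := congrArg (x * ·) h
        simpa using this
      rw [this]; exact hxX
    · have : r = x * z := by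
        have := congrArg (x * ·) h
        simpa using this
      rw [this]; exact X.mul_mem hxX hXS.zX
  have hb4 := h4 ρ R b W x₁ x₂ x₃ e₀ e₁ e₂ e₃ z X hL hQ hD hzneg hXR hXS
  have hb3 : b * b * b = 1 := by
    have := pow_orderOf_eq_one b
    rw [hL.b_ord] at this
    rw [← this, pow_succ, pow_two]
  have hbz : b * z = z * b := neg_comm hL hzR hzneg b_mem_RB
  have hmod : Nat.card ↥X % 3 = 2 :=
    h4' b z X hb3 (fun g hg => hXn b b_mem_RB g hg) hXS.zX hXS.z_ne hbz hb4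
  obtain ⟨A, hAR, hAel, hA8⟩ := h10 ρ R b W x₁ x₂ x₃ e₁ e₂ e₃ z hL hQ hzR hzneg
  have hAX : A ≤ X := hRX ▸ hAR
  have hX2 : IsPGroup 2 ↥X := hRX ▸ hR2
  obtain ⟨k, hk⟩ := (IsPGroup.iff_card).mp hX2
  have hcardle : Nat.card ↥A ≤ Nat.card ↥X := Subgroup.card_le_of_le hAX
  have hk5 : k ≤ 5 := by
    by_contra hlt
    have : 2 ^ 6 ≤ 2 ^ k := Nat.pow_le_pow_right (by norm_num) (by omega)
    omega
  have hX32 : Nat.card ↥X = 32 := by
    interval_cases k
    · omega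
    · omega
    · omega
    · -- card X = 8 = card A, so X = A is abelian: contradiction
      exfalso
      have hEq : A = X := Subgroup.eq_of_le_of_card_ge hAX (by omega)
      obtain ⟨g, hgX, hg1, hgz⟩ := hXS.big
      have hcomm : ∀ h ∈ X, g * h = h * g := by
        intro h hh
        have hgA : g ∈ A := hEq ▸ hgX
        have hhA : h ∈ A := hEq ▸ hh
        have := hAel.1.is_comm.comm (⟨g, hgA⟩ : A) ⟨h, hhA⟩
        exact congrArg Subtype.val this
      rcases hXS.center g hgX hcomm with h | h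
      · exact hg1 h
      · exact hgz h
    · omega
    · omega
  have hXSR : XS z R := hRX ▸ hXS
  have hR32 : Nat.card ↥R = 32 := by rw [hRX]; exact hX32
  exact h9 z R hXSR hR32 ⟨A, hAR, hAel, hA8⟩

end Cfsg.Agent.Lib.H10.S4415
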