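import Cfsg.Agent.Lib.H10.S4415Bad1
import Cfsg.Agent.Lib.H17.S4415Odd

/-!
helper10: the BAD block of S4415, complete.
-/

set_option autoImplicit false

namespace Cfsg.Agent.Lib.H10.S4415

universe u v

theorem bad : BadStmt.{u, v} := bad_of1 Cfsg.Agent.Lib.H17.S4415Odd.odd

end Cfsg.Agent.Lib.H10.S4415
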