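import Cfsg.Agent.Lib.H10.S4415BadAsm
import Cfsg.Agent.Lib.H21.S4415B4
import Cfsg.Agent.Lib.H3.S4415B6

/-!
helper10: wrappers putting helper21's `b4` and helper3's `lemma_T` into the exact shapes
`B4Stmt`, `B6Stmt` of the BAD sub-cut of S4415.
-/

set_option autoImplicit false

namespace Cfsg.Agent.Lib.H10.S4415

universe u v

section

variable {S : Type u} {E : Type v} [Group S] [AddCommGroup E] [Module (ZMod 3) E]
  {ρ : Representation (ZMod 3) S E} {R : Subgroup S} {b : S} {W : Submodule (ZMod 3) E}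

/-- a scalar element of `R<b>` is `1` or `z`. -/
theorem eq_one_or_eq_z (hL : LinCtx ρ R b W) {z : S} (hzR : z ∈ R) (hz : IsNeg ρ W z)
    {a : S} (haR : a ∈ R)
    (h : (∀ w ∈ W, ρ a w = w) ∨ (∀ w ∈ W, ρ a w = -w)) : a = 1 ∨ a = z := by
  rcases h with h | h
  · exact Or.inl (hL.faithful a (R_le_RB haR) h)
  · right
    have hmem : a * z⁻¹ ∈ RB R b := R_le_RB (R.mul_mem haR (R.inv_mem hzR))
    have hzinv : ∀ w ∈ W, ρ z⁻¹ w = -w := by
      intro w hw
      have h1 : ρ z (-w) = w := by rw [map_neg, hz w hw, neg_neg]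
      calc ρ z⁻¹ w = ρ z⁻¹ (ρ z (-w)) := by rw [h1]
        _ = -w := rho_inv_apply z (-w)
    have htriv : ∀ w ∈ W, ρ (a * z⁻¹) w = w := by
      intro w hw
      rw [rho_mul_apply, hzinv w hw, map_neg, h w hw, neg_neg]
    have := hL.faithful _ hmem htriv
    calc a = (a * z⁻¹) * z := by group
      _ = z := by rw [this, one_mul]

end

theorem b4_stmt : B4Stmt.{u, v} := by
  intro S _ _ E _ _ _ ρ R b W x₁ x₂ x₃ e₀ e₁ e₂ e₃ z X hL hQ hD hz hXR hXS g hgX hbg
  have hdim : Module.finrank (ZMod 3) ↥W ≤ 4 := by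
    have hle : W ≤ Submodule.span (ZMod 3) (Set.range ![e₀, e₁, e₂, e₃]) := by
      intro w hw
      obtain ⟨c₀, c₁, c₂, c₃, rfl⟩ := hD.span w hw
      have h0 : e₀ ∈ Submodule.span (ZMod 3) (Set.range ![e₀, e₁, e₂, e₃]) :=
        Submodule.subset_span ⟨0, rfl⟩
      have h1 : e₁ ∈ Submodule.span (ZMod 3) (Set.range ![e₀, e₁, e₂, e₃]) :=
        Submodule.subset_span ⟨1, rfl⟩
      have h2 : e₂ ∈ Submodule.span (ZMod 3) (Set.range ![e₀, e₁, e₂, e₃]) :=
        Submodule.subset_span ⟨2, rfl⟩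
      have h3 : e₃ ∈ Submodule.span (ZMod 3) (Set.range ![e₀, e₁, e₂, e₃]) :=
        Submodule.subset_span ⟨3, rfl⟩
      exact Submodule.add_mem _ (Submodule.add_mem _ (Submodule.add_mem _
        (Submodule.smul_mem _ _ h0) (Submodule.smul_mem _ _ h1)) (Submodule.smul_mem _ _ h2))
        (Submodule.smul_mem _ _ h3)
    calc Module.finrank (ZMod 3) ↥W
        ≤ Module.finrank (ZMod 3) ↥(Submodule.span (ZMod 3) (Set.range ![e₀, e₁, e₂, e₃])) :=
          Submodule.finrank_mono hle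
      _ ≤ Fintype.card (Fin 4) := finrank_range_le_card _
      _ = 4 := by simp
  have hnc : ∀ x ∈ X, x ≠ 1 → x ≠ z → ∃ y ∈ X, y * x * y⁻¹ = z * x := by
    intro x hx hx1 hxz
    by_contra hno
    have hcen : ∀ h ∈ X, x * h = h * x := by
      intro h hh
      rcases hXS.comm h hh x hx with hc | hc
      · have : h * x = (h * x * h⁻¹ * x⁻¹) * (x * h) := by group
        rw [hc, one_mul] at this
        exact this.symm
      · exfalso
        apply hno
        refine ⟨h, hh, ?_⟩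
        calc h * x * h⁻¹ = (h * x * h⁻¹ * x⁻¹) * x := by group
          _ = z * x := by rw [hc]
    rcases hXS.center x hx hcen with h | h
    · exact hx1 h
    · exact hxz h
  have := Cfsg.Agent.Lib.H21.S4415B4.b4 hL hQ hdim X hXR z hz hXS.sq hnc g hgX
    (by rw [hbg]; group)
  exact this

theorem b6_stmt : B6Stmt.{u, v} := by
  intro S _ _ E _ _ _ ρ R b W z X M hL hAb hzR hz hWne hXM hMR hXn hMn hXS hM2 m hm g hg
  have hcomm : ∀ x ∈ X, ∀ y ∈ X, x * y = y * x ∨ x * y = z * (y * x) := by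
    intro x hx y hy
    rcases hXS.comm x hx y hy with hc | hc
    · left
      calc x * y = (x * y * x⁻¹ * y⁻¹) * (y * x) := by group
        _ = y * x := by rw [hc, one_mul]
    · right
      calc x * y = (x * y * x⁻¹ * y⁻¹) * (y * x) := by group
        _ = z * (y * x) := by rw [hc]
  have hB1 : ∀ A : Subgroup S, A ≤ X → (∀ g ∈ RB R b, ∀ a ∈ A, g * a * g⁻¹ ∈ A) →
      (∀ a ∈ A, ∀ a' ∈ A, a * a' = a' * a) → ∀ a ∈ A, a = 1 ∨ a = z := by
    intro A hAX hAn hAab a ha
    have hAR : A ≤ R := hAX.trans (hXM.trans hMR)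
    exact eq_one_or_eq_z hL hzR hz (hAR ha) (hAb A hAR hAn hAab a ha)
  have := Cfsg.Agent.Lib.H3.S4415B6.lemma_T M X (RB R b) hM2 hXM (hMR.trans R_le_RB) z hXS.zX
    hXS.z_sq (fun g hg => neg_comm hL hzR hz hg) hXn hMn hcomm hB1 m hm g hg
  rcases this with h | h
  · left
    calc m * g * m⁻¹ * g⁻¹ = (m * g * m⁻¹) * g⁻¹ := by group
      _ = 1 := by rw [h]; group
  · right
    calc m * g * m⁻¹ * g⁻¹ = (m * g * m⁻¹) * g⁻¹ := by group
      _ = z := by rw [h]; group

end Cfsg.Agent.Lib.H10.S4415
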