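import Cfsg.Agent.Lib.H1.S77.Hyp

/-!
# S0429 piece (EE): small toolbox for `ee` (helper10)
-/

set_option autoImplicit false
set_option linter.unusedSectionVars false
open Cfsg

namespace Cfsg.Agent.Lib.H10.S77

open Cfsg.Agent.Lib.H1.S77 Finset

section
variable {V : Type*} [Fintype V] [DecidableEq V] {G : SimpleGraph V} [DecidableRel G.Adj]

theorem card_nbr_inter_eq_sum (x : V) (T : Finset V) :
    ((G.neighborFinset x ∩ T).card : ℤ) = ∑ y ∈ T, if G.Adj x y then (1 : ℤ) else 0 := by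
  rw [Finset.inter_comm, ← Finset.filter_mem_eq_inter, Finset.card_filter]
  push_cast
  refine Finset.sum_congr rfl (fun y _ => ?_)
  simp [SimpleGraph.mem_neighborFinset]

theorem ee_eq_sum_sum (S T : Finset V) :
    ee G S T = ∑ x ∈ S, ∑ y ∈ T, if G.Adj x y then (1 : ℤ) else 0 := by
  unfold ee
  exact Finset.sum_congr rfl (fun x _ => card_nbr_inter_eq_sum x T)

theorem ee_comm (S T : Finset V) : ee G S T = ee G T S := by
  rw [ee_eq_sum_sum, ee_eq_sum_sum, Finset.sum_comm]
  refine Finset.sum_congr rfl (fun y _ => Finset.sum_congr rfl (fun x _ => ?_))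
  by_cases h : G.Adj x y
  · rw [if_pos h, if_pos h.symm]
  · rw [if_neg h, if_neg (fun h' => h h'.symm)]

theorem ee_eq_zero {S T : Finset V} (h : ∀ x ∈ S, ∀ y ∈ T, ¬ G.Adj x y) : ee G S T = 0 := by
  rw [ee_eq_sum_sum]
  exact Finset.sum_eq_zero (fun x hx => Finset.sum_eq_zero (fun y hy => if_neg (h x hx y hy)))

theorem ee_eq_mul {S T : Finset V} {d : ℕ} (h : ∀ x ∈ S, (G.neighborFinset x ∩ T).card = d) :
    ee G S T = (S.card : ℤ) * d := by
  unfold ee
  rw [Finset.sum_congr rfl (fun x hx => by rw [h x hx]), Finset.sum_const, nsmul_eq_mul]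

theorem ee_complete {S T : Finset V} (h : ∀ x ∈ S, ∀ y ∈ T, G.Adj x y) :
    ee G S T = (S.card : ℤ) * T.card := by
  refine ee_eq_mul (fun x hx => ?_)
  congr 1
  rw [Finset.inter_eq_right]
  intro y hy
  rw [SimpleGraph.mem_neighborFinset]
  exact h x hx y hy

end

end Cfsg.Agent.Lib.H10.S77
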