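import Mathlib
import Cfsg.Prelude.Def_Local
import Cfsg.Agent.Lib.H7.PConstrained3

/-!
S2924, step (4) BALANCE (core): for commuting `y, u` with `y` an involution, if
`E(C_X(u) / O(C_X(u))) = 1` then `O(C_X(y)) ∩ C_X(u) ≤ O(C_X(u))`.
Route: `L_{2'}(C_X(u)) = 1`, landed `pLocal_of_pLayer_eq_bot` with `P = ⟨y⟩`.
-/

set_option autoImplicit false
open Cfsg

namespace Cfsg.Agent.Lib.H10.SF

theorem bal_core {X : Type*} [Group X] [Finite X] (y u : X) (hy1 : y ≠ 1) (hy2 : y ^ 2 = 1)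
    (hyu : u * y = y * u)
    (hK : layer (↥(Subgroup.centralizer ({u} : Set X)) ⧸
      oddCore ↥(Subgroup.centralizer ({u} : Set X))) = ⊥) :
    (oddCore ↥(Subgroup.centralizer ({y} : Set X))).map
        (Subgroup.centralizer ({y} : Set X)).subtype ⊓ Subgroup.centralizer ({u} : Set X) ≤
      (oddCore ↥(Subgroup.centralizer ({u} : Set X))).map
        (Subgroup.centralizer ({u} : Set X)).subtype := by
  classical
  have : Fact (Nat.Prime 2) := ⟨Nat.prime_two⟩
  set H : Subgroup X := Subgroup.centralizer ({u} : Set X) with hH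
  set Cy : Subgroup X := Subgroup.centralizer ({y} : Set X) with hCy
  have hyH : y ∈ H := by
    rw [hH, Subgroup.mem_centralizer_iff]
    intro h hh
    rw [Set.mem_singleton_iff] at hh
    subst hh
    exact hyu
  set yH : ↥H := ⟨y, hyH⟩ with hyHdef
  have hyH1 : yH ≠ 1 := by
    intro h
    apply hy1
    have := congrArg (fun t : ↥H => (t : X)) h
    simpa [hyHdef] using this
  have hyH2 : yH ^ 2 = 1 := by
    apply Subtype.ext
    simp [hyHdef, hy2]
  have hord : orderOf yH = 2 := orderOf_eq_prime hyH2 hyH1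
  set P : Subgroup ↥H := Subgroup.zpowers yH with hP
  have hPcard : Nat.card ↥P = 2 := by
    rw [hP, Nat.card_zpowers, hord]
  have hPp : IsPGroup 2 ↥P := by
    apply IsPGroup.of_card (n := 1)
    rw [hPcard]; norm_num
  have hL : pLayer 2 ↥H = ⊥ :=
    (Cfsg.Agent.Lib.H7.pLayer_eq_bot_iff_layer_quotient_eq_bot 2).2 hK
  obtain ⟨-, hO⟩ := Cfsg.Agent.Lib.H7.pLocal_of_pLayer_eq_bot 2 hL P hPp
  set N : Subgroup ↥H := Subgroup.normalizer (P : Set ↥H) with hN
  -- elements of `N` centralize `y`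
  have hNy : ∀ n : ↥N, ((n : ↥H) : X) * y = y * ((n : ↥H) : X) := by
    intro n
    have hn : (n : ↥H) ∈ Subgroup.normalizer (P : Set ↥H) := n.2
    rw [Subgroup.mem_normalizer_iff] at hn
    have h1 : (n : ↥H) * yH * (n : ↥H)⁻¹ ∈ P := (hn yH).1 (Subgroup.mem_zpowers yH)
    -- elements of P are 1 or yH
    have hP2 : ∀ t ∈ P, t = 1 ∨ t = yH := by
      intro t ht
      rw [hP, Subgroup.mem_zpowers_iff] at ht
      obtain ⟨k, rfl⟩ := ht
      rcases Int.even_or_odd k with ⟨m, rfl⟩ | ⟨m, rfl⟩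
      · left
        rw [← two_mul, zpow_mul, zpow_ofNat, hyH2, one_zpow]
      · right
        rw [zpow_add, zpow_mul, zpow_ofNat, hyH2, one_zpow, one_mul, zpow_one]
    rcases hP2 _ h1 with h2 | h2
    · exfalso
      apply hyH1
      have : (n : ↥H) * yH = (n : ↥H) := by
        have := congrArg (fun t => t * (n : ↥H)) h2
        simpa using this
      exact mul_left_cancel (a := (n : ↥H)) (by simpa using this)
    · have h3 : (n : ↥H) * yH = yH * (n : ↥H) := by
        have := congrArg (fun t => t * (n : ↥H)) h2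
        simpa using this
      have := congrArg (fun t : ↥H => (t : X)) h3
      simpa [hyHdef] using this
  -- the subgroup of N lying over θ(y)
  set θy : Subgroup X := (oddCore ↥Cy).map Cy.subtype with hθy
  set φ : ↥N →* X := H.subtype.comp N.subtype with hφ
  have hφinj : Function.Injective φ := by
    rw [hφ]
    exact (Subgroup.subtype_injective H).comp (Subgroup.subtype_injective N)
  set D' : Subgroup ↥N := θy.comap φ with hD'
  have hD'normal : D'.Normal := by
    constructor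
    intro n' hn' n
    rw [hD', Subgroup.mem_comap] at hn' ⊢
    rw [map_mul, map_mul, map_inv]
    -- φ n ∈ Cy
    have hnC : φ n ∈ Cy := by
      rw [hCy, Subgroup.mem_centralizer_iff]
      intro h hh
      rw [Set.mem_singleton_iff] at hh
      subst hh
      exact (hNy n).symm
    rw [hθy] at hn' ⊢
    obtain ⟨d, hd, hdn⟩ := hn'
    refine ⟨⟨φ n, hnC⟩ * d * ⟨φ n, hnC⟩⁻¹, ?_, ?_⟩
    · exact (Cfsg.pPrimeCore_normal 2 ↥Cy).conj_mem d hd _
    · simp [← hdn]
  have hD'card : (Nat.card ↥D').Coprime 2 := by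
    have h1 : Nat.card ↥(D'.map φ) = Nat.card ↥D' :=
      Nat.card_congr (D'.equivMapOfInjective φ hφinj).symm.toEquiv
    have h2 : D'.map φ ≤ θy := by
      rw [hD']
      exact Subgroup.map_comap_le φ θy
    have h3 : Nat.card ↥θy = Nat.card ↥(oddCore ↥Cy) := by
      rw [hθy]
      exact Nat.card_congr ((oddCore ↥Cy).equivMapOfInjective Cy.subtype
        (Subgroup.subtype_injective Cy)).symm.toEquiv
    have h4 : (Nat.card ↥(oddCore ↥Cy)).Coprime 2 :=
      Cfsg.Agent.Lib.H22.card_pPrimeCore_coprime 2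
    have h5 : Nat.card ↥(D'.map φ) ∣ Nat.card ↥θy := Subgroup.card_dvd_of_le h2
    rw [← h1]
    exact Nat.Coprime.coprime_dvd_left (h3 ▸ h5) h4
  have hD'le : D' ≤ pPrimeCore 2 ↥N := le_sSup ⟨hD'normal, hD'card⟩
  -- main
  intro d hd
  obtain ⟨hd1, hd2⟩ := hd
  have hdH : d ∈ H := hd2
  -- d ∈ N
  have hdCy : d ∈ Cy := by
    rw [hθy] at hd1
    obtain ⟨d0, -, rfl⟩ := hd1
    exact d0.2
  have hdy : d * y = y * d := by
    rw [hCy, Subgroup.mem_centralizer_iff] at hdCy
    exact (hdCy y (Set.mem_singleton y)).symm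
  have hdN : (⟨d, hdH⟩ : ↥H) ∈ N := by
    have hcomm : (⟨d, hdH⟩ : ↥H) * yH = yH * ⟨d, hdH⟩ := by
      apply Subtype.ext
      simpa [hyHdef] using hdy
    have hcen : (⟨d, hdH⟩ : ↥H) ∈ Subgroup.centralizer (P : Set ↥H) := by
      rw [Subgroup.mem_centralizer_iff]
      intro t ht
      have ht' : t ∈ P := ht
      rw [hP, Subgroup.mem_zpowers_iff] at ht'
      obtain ⟨k, rfl⟩ := ht'
      exact ((Commute.zpow_right hcomm k).eq).symm
    exact Subgroup.centralizer_le_normalizer _ hcen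
  have hdD' : (⟨⟨d, hdH⟩, hdN⟩ : ↥N) ∈ D' := by
    rw [hD', Subgroup.mem_comap]
    exact hd1
  have h6 : (⟨⟨d, hdH⟩, hdN⟩ : ↥N) ∈ pPrimeCore 2 ↥N := hD'le hdD'
  have h7 : (⟨d, hdH⟩ : ↥H) ∈ (pPrimeCore 2 ↥N).map N.subtype := ⟨_, h6, rfl⟩
  have h8 : (⟨d, hdH⟩ : ↥H) ∈ pPrimeCore 2 ↥H := hO h7
  exact ⟨_, h8, rfl⟩

end Cfsg.Agent.Lib.H10.SF
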