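import Mathlib
import Cfsg.Agent.S0618
import Cfsg.Agent.S0608
import Cfsg.Agent.S0601
import Cfsg.Agent.Lib.H14.SFour7
import Cfsg.Agent.Lib.H10.PSolvable
import Cfsg.Agent.Lib.L0.ThompsonJ
import Cfsg.Agent.Lib.H3.ThompsonFact
import Cfsg.Agent.Lib.H1.PCore
import Cfsg.Agent.Lib.H9.PPrimeCore
import Cfsg.Agent.Lib.H1.PSolvOfSolv

/-!
# Solvable `S₄`-free groups with Sylow `2`-subgroups of class at most two (helper10)

`J_e(S) O(G) ⊴ G`.
-/

set_option autoImplicit false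

open scoped commutatorElement

namespace Cfsg.Agent.Lib.H10.SFourClassTwo

variable {H : Type*} [Group H]

/-- the two matrices generating `SL₂(2)` -/
def mX : Matrix.SpecialLinearGroup (Fin 2) (ZMod 2) := ⟨!![0, 1; 1, 1], by decide⟩
def mA : Matrix.SpecialLinearGroup (Fin 2) (ZMod 2) := ⟨!![0, 1; 1, 0], by decide⟩

theorem mX_pow : mX ^ 3 ^ 1 = 1 := by decide
theorem mX_ne : mX ≠ 1 := by decide
theorem mA_conj : mA * mX * mA⁻¹ = mX⁻¹ := by decide

/-- the normal closure of `Ω₁(Z(S))` -/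
abbrev V0 (H : Type*) [Group H] : Subgroup H :=
  ⨆ S : Sylow 2 H, Cfsg.omegaOne 2 ((S : Subgroup H) ⊓ Subgroup.centralizer ((S : Subgroup H) : Set H))

/-- A `2`-solvable `S₄`-free group with trivial odd core is Thompson factorizable. -/
theorem thompsonFactorizable_of_sfour_free [Finite H] (hsol : Cfsg.IsPSolvable 2 H)
    (hO : Cfsg.pPrimeCore 2 H = ⊥) (hS4 : ¬ Cfsg.Involves (Equiv.Perm (Fin 4)) H) :
    Cfsg.IsThompsonFactorizable 2 H := by
  by_contra hnf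
  have hc := Cfsg.Agent.Lib.H10.centralizer_pCore_le_of_isPSolvable 2 hsol hO
  obtain ⟨hVn, hVe, -⟩ := Cfsg.Agent.S0601.result hc
  have h618 := Cfsg.Agent.S0618.result hsol hO hnf
  rw [Cfsg.Agent.S0618.centralizer_iSup_set] at h618
  obtain ⟨-, E, hCE, hEJ, hJN, hn, ⟨φ⟩⟩ := h618
  have hV2 : IsPGroup 2 (V0 H) := Cfsg.Agent.Lib.H3.elemAb_isPGroup hVe
  let π : ↥E →* Matrix.SpecialLinearGroup (Fin 2) (ZMod 2) :=
    φ.toMonoidHom.comp (QuotientGroup.mk' _)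
  have hπ : Function.Surjective π := φ.surjective.comp (QuotientGroup.mk'_surjective _)
  obtain ⟨e, t, he3, ht2, hinv, hne⟩ :=
    Cfsg.Agent.Lib.H14.SFour.exists_pair_of_map_pair π hπ mX mA ⟨1, mX_pow⟩ mX_ne mA_conj
  apply hS4
  have hN : ∀ g : H, g ∈ Subgroup.normalizer ((V0 H : Subgroup H) : Set H) := by
    intro g
    rw [Subgroup.normalizer_eq_top]
    exact Subgroup.mem_top g
  obtain ⟨n, hn3⟩ := he3
  obtain ⟨k, hk2⟩ := ht2
  apply Cfsg.Agent.Lib.H14.SFour.involves_of_pair (V0 H) hV2 (e : H) (t : H) (hN _) (hN _)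
    ⟨n, by have := congrArg Subtype.val hn3; simpa using this⟩
    ⟨k, by have := congrArg Subtype.val hk2; simpa using this⟩
    (by have := congrArg Subtype.val hinv; simpa using this)
  intro hC
  apply hne
  show φ (QuotientGroup.mk' _ e) = 1
  have : (QuotientGroup.mk' ((Subgroup.centralizer ((V0 H : Subgroup H) : Set H)).subgroupOf E) e) = 1 := by
    rw [QuotientGroup.mk'_apply, QuotientGroup.eq_one_iff, Subgroup.mem_subgroupOf]
    exact hC
  rw [this, map_one]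

/-- an element of odd order stabilizing the chain `1 ≤ V ≤ Q` (with `V` of exponent `2`)
centralizes `Q` -/
theorem commute_of_chain {Q V : Subgroup H} (hV2 : ∀ v ∈ V, v ^ 2 = 1) {g : H} {m : ℕ}
    (hm : Odd m) (hgm : g ^ m = 1) (hgV : ∀ v ∈ V, g * v = v * g)
    (hgQ : ∀ q ∈ Q, g * q * g⁻¹ * q⁻¹ ∈ V) : ∀ q ∈ Q, g * q = q * g := by
  intro q hq
  obtain ⟨v, hv⟩ : ∃ v, v = g * q * g⁻¹ * q⁻¹ := ⟨_, rfl⟩
  have hvV : v ∈ V := hv ▸ hgQ q hq
  have hgv : g * v = v * g := hgV v hvV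
  have hstep : g * q * g⁻¹ = v * q := by rw [hv]; group
  have hpow : ∀ j : ℕ, g ^ j * q * (g ^ j)⁻¹ = v ^ j * q := by
    intro j
    induction j with
    | zero => simp
    | succ j ih =>
      have hgvj : g * v ^ j = v ^ j * g := (Commute.pow_right (show Commute g v from hgv) j).eq
      calc g ^ (j + 1) * q * (g ^ (j + 1))⁻¹ = g * (g ^ j * q * (g ^ j)⁻¹) * g⁻¹ := by
            rw [pow_succ']; group
        _ = g * (v ^ j * q) * g⁻¹ := by rw [ih]
        _ = (g * v ^ j) * q * g⁻¹ := by group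
        _ = v ^ j * (g * q * g⁻¹) := by rw [hgvj]; group
        _ = v ^ (j + 1) * q := by rw [hstep, pow_succ]; group
  have h1 := hpow m
  rw [hgm] at h1
  have hvm : v ^ m = 1 := by
    have : q = v ^ m * q := by simpa using h1
    have h2 : v ^ m * q = 1 * q := by rw [one_mul]; exact this.symm
    exact mul_right_cancel h2
  obtain ⟨k, hk⟩ := hm
  have hv1 : v = 1 := by
    have : v ^ m = (v ^ 2) ^ k * v := by rw [hk, pow_succ, pow_mul]
    rw [this, hV2 v hvV, one_pow, one_mul] at hvm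
    exact hvm
  rw [hv1] at hstep
  have : g * q = (g * q * g⁻¹) * g := by group
  rw [this, hstep, one_mul]

/-- the stabilizer of the chain `1 ≤ V ≤ Q` -/
def chainStab (Q V : Subgroup H) [V.Normal] : Subgroup H :=
  Subgroup.centralizer (V : Set H) ⊓
    (Subgroup.centralizer ((Q.map (QuotientGroup.mk' V) : Subgroup (H ⧸ V)) : Set (H ⧸ V))).comap
      (QuotientGroup.mk' V)

theorem mem_chainStab {Q V : Subgroup H} [V.Normal] {g : H} :
    g ∈ chainStab Q V ↔ (∀ v ∈ V, g * v = v * g) ∧ ∀ q ∈ Q, g * q * g⁻¹ * q⁻¹ ∈ V := by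
  unfold chainStab
  rw [Subgroup.mem_inf, Subgroup.mem_centralizer_iff, Subgroup.mem_comap,
    Subgroup.mem_centralizer_iff]
  constructor
  · rintro ⟨h1, h2⟩
    refine ⟨fun v hv => (h1 v hv).symm, fun q hq => ?_⟩
    have h3 := h2 (QuotientGroup.mk' V q) (Subgroup.mem_map_of_mem _ hq)
    rw [← QuotientGroup.eq_one_iff]
    simp only [QuotientGroup.mk'_apply] at h3
    simp only [QuotientGroup.mk_mul, QuotientGroup.mk_inv]
    rw [← h3]; group
  · rintro ⟨h1, h2⟩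
    refine ⟨fun v hv => (h1 v hv).symm, ?_⟩
    rintro _ ⟨q, hq, rfl⟩
    have h3 := (QuotientGroup.eq_one_iff (N := V) _).2 (h2 q hq)
    simp only [QuotientGroup.mk_mul, QuotientGroup.mk_inv] at h3
    simp only [QuotientGroup.mk'_apply]
    have : (g : H ⧸ V) * (q : H ⧸ V) = ((g : H ⧸ V) * (q : H ⧸ V) * (g : H ⧸ V)⁻¹ * (q : H ⧸ V)⁻¹) *
        ((q : H ⧸ V) * (g : H ⧸ V)) := by group
    rw [this, h3, one_mul]

instance chainStab_normal (Q V : Subgroup H) [hQ : Q.Normal] [hV : V.Normal] :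
    (chainStab Q V).Normal := by
  constructor
  intro g hg h
  rw [mem_chainStab] at hg ⊢
  obtain ⟨h1, h2⟩ := hg
  constructor
  · intro v hv
    have hv' : h⁻¹ * v * h ∈ V := by
      have := hV.conj_mem v hv h⁻¹
      simpa using this
    have := h1 _ hv'
    calc h * g * h⁻¹ * v = h * (g * (h⁻¹ * v * h)) * h⁻¹ := by group
      _ = h * ((h⁻¹ * v * h) * g) * h⁻¹ := by rw [this]
      _ = v * (h * g * h⁻¹) := by group
  · intro q hq
    have hq' : h⁻¹ * q * h ∈ Q := by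
      have := hQ.conj_mem q hq h⁻¹
      simpa using this
    have := hV.conj_mem _ (h2 _ hq') h
    have e : h * (g * (h⁻¹ * q * h) * g⁻¹ * (h⁻¹ * q * h)⁻¹) * h⁻¹ =
        h * g * h⁻¹ * q * (h * g * h⁻¹)⁻¹ * q⁻¹ := by group
    rwa [e] at this

theorem chainStab_isPGroup [Finite H] {Q V : Subgroup H} [V.Normal] (hQ : IsPGroup 2 Q)
    (hc : Subgroup.centralizer (Q : Set H) ≤ Q) (hV2 : ∀ v ∈ V, v ^ 2 = 1) :
    IsPGroup 2 (chainStab Q V) := by
  intro ⟨g, hg⟩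
  obtain ⟨k, m, hm, hkm⟩ := Nat.exists_eq_two_pow_mul_odd (orderOf_pos g).ne'
  refine ⟨k, Subtype.ext ?_⟩
  show g ^ 2 ^ k = 1
  have hg' : g ^ 2 ^ k ∈ chainStab Q V := Subgroup.pow_mem _ hg _
  have hgm : (g ^ 2 ^ k) ^ m = 1 := by
    rw [← pow_mul, ← hkm, pow_orderOf_eq_one]
  obtain ⟨h1, h2⟩ := mem_chainStab.1 hg'
  have hcomm := commute_of_chain hV2 hm hgm h1 h2
  have hgQ : g ^ 2 ^ k ∈ Q := by
    apply hc
    rw [Subgroup.mem_centralizer_iff]
    intro q hq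
    exact (hcomm q hq).symm
  obtain ⟨j, hj⟩ := hQ ⟨g ^ 2 ^ k, hgQ⟩
  have hj' : (g ^ 2 ^ k) ^ 2 ^ j = 1 := by
    have := congrArg Subtype.val hj
    simpa using this
  have hd1 : orderOf (g ^ 2 ^ k) ∣ m := orderOf_dvd_of_pow_eq_one hgm
  have hd2 : orderOf (g ^ 2 ^ k) ∣ 2 ^ j := orderOf_dvd_of_pow_eq_one hj'
  have hcop : Nat.Coprime m (2 ^ j) := by
    apply Nat.Coprime.pow_right
    exact (Nat.coprime_comm.1 (Nat.coprime_two_left.2 hm))
  have : orderOf (g ^ 2 ^ k) = 1 := Nat.eq_one_of_dvd_coprimes hcop hd1 hd2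
  exact orderOf_eq_one_iff.1 this

/-- if `a` centralizes `V` and `Q/V` then `a ∈ O₂(H)` -/
theorem mem_pCore_of_chain [Finite H]
    (hc : Subgroup.centralizer (Cfsg.pCore 2 H : Set H) ≤ Cfsg.pCore 2 H)
    {V : Subgroup H} [hVn : V.Normal] (hV2 : ∀ v ∈ V, v ^ 2 = 1) {a : H}
    (h1 : ∀ v ∈ V, a * v = v * a) (h2 : ∀ q ∈ Cfsg.pCore 2 H, a * q * a⁻¹ * q⁻¹ ∈ V) :
    a ∈ Cfsg.pCore 2 H := by
  have hQn : (Cfsg.pCore 2 H).Normal := Cfsg.Agent.Lib.H1.pCore_normal 2 H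
  have hQp : IsPGroup 2 (Cfsg.pCore 2 H) := Cfsg.Agent.Lib.H1.pCore_isPGroup 2 H
  have hD : IsPGroup 2 (chainStab (Cfsg.pCore 2 H) V) := chainStab_isPGroup hQp hc hV2
  have hDn : (chainStab (Cfsg.pCore 2 H) V).Normal := inferInstance
  exact Cfsg.Agent.Lib.H1.le_pCore hDn hD (mem_chainStab.2 ⟨h1, h2⟩)

/-- **Main lemma**: in a `2`-solvable `S₄`-free group with trivial odd core whose Sylow
`2`-subgroup `T` has class at most `2`, `J_e(T)` is normal. -/
theorem thompsonSubgroupOf_normal [Finite H] (hsol : Cfsg.IsPSolvable 2 H)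
    (hO : Cfsg.pPrimeCore 2 H = ⊥) (hS4 : ¬ Cfsg.Involves (Equiv.Perm (Fin 4)) H)
    (T : Sylow 2 H)
    (hcl : ∀ x ∈ (T : Subgroup H), ∀ y ∈ (T : Subgroup H), ∀ z ∈ (T : Subgroup H),
      ⁅⁅x, y⁆, z⁆ = 1) :
    (Cfsg.thompsonSubgroupOf 2 (T : Subgroup H)).Normal := by
  have hc := Cfsg.Agent.Lib.H10.centralizer_pCore_le_of_isPSolvable 2 hsol hO
  obtain ⟨hVn, hVe, -⟩ := Cfsg.Agent.S0601.result hc
  have hTF := thompsonFactorizable_of_sfour_free hsol hO hS4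
  have hJ := (Cfsg.Agent.S0608.result hO).1 hTF
  obtain ⟨A₀, hA₀, hA₀T⟩ := Cfsg.Agent.Lib.H3.exists_maxElemAb_le_sylow T
  have hJT := Cfsg.Agent.Lib.H3.thompsonSubgroupOf_eq_sSup hA₀ hA₀T
  have hQT : Cfsg.pCore 2 H ≤ (T : Subgroup H) := Cfsg.Agent.Lib.H1.pCore_le_sylow T
  have hV2 : ∀ v ∈ V0 H, v ^ 2 = 1 := hVe.2
  have hJQ : Cfsg.thompsonSubgroupOf 2 (T : Subgroup H) ≤ Cfsg.pCore 2 H := by
    rw [hJT]
    apply sSup_le
    rintro A ⟨hA, hAT⟩ a ha
    have haT : a ∈ (T : Subgroup H) := hAT ha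
    have ha2 : a ^ 2 = 1 := hA.1.2 a ha
    have := hVn
    apply mem_pCore_of_chain hc (V := V0 H) hV2
    · intro v hv
      have h1 : a ∈ Subgroup.centralizer ((V0 H : Subgroup H) : Set H) :=
        hJ (Cfsg.Agent.Lib.H3.le_thompson hA ha)
      exact (Subgroup.mem_centralizer_iff.1 h1 v hv).symm
    · intro q hq
      have hqT : q ∈ (T : Subgroup H) := hQT hq
      obtain ⟨c, hcdef⟩ : ∃ c, c = a * q * a⁻¹ * q⁻¹ := ⟨_, rfl⟩
      rw [← hcdef]
      have hcT : c ∈ (T : Subgroup H) := by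
        rw [hcdef]
        exact Subgroup.mul_mem _ (Subgroup.mul_mem _ (Subgroup.mul_mem _ haT hqT)
          (Subgroup.inv_mem _ haT)) (Subgroup.inv_mem _ hqT)
      have hcz : ∀ z ∈ (T : Subgroup H), z * c = c * z := by
        intro z hz
        have h3 := hcl a haT q hqT z hz
        have h4 : ⁅a, q⁆ = c := by rw [hcdef, commutatorElement_def]
        rw [h4, commutatorElement_def] at h3
        have : c * z = (c * z * c⁻¹ * z⁻¹) * (z * c) := by group
        rw [this, h3, one_mul]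
      have hca : a * c = c * a := hcz a haT
      have hainv : a⁻¹ = a := by
        have : a * a = 1 := by rw [← pow_two]; exact ha2
        exact inv_eq_of_mul_eq_one_left this
      have hc2 : c ^ 2 = 1 := by
        have e1 : c * c = c * (a * q * a⁻¹ * q⁻¹) := by rw [← hcdef]
        have e2 : c * (a * q * a⁻¹ * q⁻¹) = (c * a) * (q * a⁻¹ * q⁻¹) := by group
        have e3 : (a * c) * (q * a⁻¹ * q⁻¹) = a * (a * q * a⁻¹ * q⁻¹) * (q * a⁻¹ * q⁻¹) := by
          rw [← hcdef]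
        have e4 : a * (a * q * a⁻¹ * q⁻¹) * (q * a⁻¹ * q⁻¹) = (a * a) * q * (a⁻¹ * a⁻¹) * q⁻¹ := by
          group
        rw [pow_two, e1, e2, ← hca, e3, e4, hainv]
        have : a * a = 1 := by rw [← pow_two]; exact ha2
        rw [this]; group
      have hmem : c ∈ Cfsg.omegaOne 2 ((T : Subgroup H) ⊓
          Subgroup.centralizer ((T : Subgroup H) : Set H)) := by
        apply Subgroup.subset_closure
        have hcc : c ∈ Subgroup.centralizer ((T : Subgroup H) : Set H) := by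
          rw [Subgroup.mem_centralizer_iff]
          exact hcz
        exact ⟨⟨hcT, hcc⟩, hc2⟩
      exact (le_iSup (fun S : Sylow 2 H => Cfsg.omegaOne 2 ((S : Subgroup H) ⊓
        Subgroup.centralizer ((S : Subgroup H) : Set H))) T) hmem
  have heq := Cfsg.Agent.Lib.L0.thompsonSubgroupOf_eq_of_le 2 hQT hJQ
  have hQn : (Cfsg.pCore 2 H).Normal := Cfsg.Agent.Lib.H1.pCore_normal 2 H
  rw [← heq, ← Subgroup.normalizer_eq_top_iff, eq_top_iff]
  refine le_trans ?_ (Cfsg.Agent.Lib.L0.normalizer_le_normalizer_thompsonSubgroupOf 2 _)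
  rw [Subgroup.normalizer_eq_top]

/-- **Glauberman**: a finite solvable `S₄`-free group whose Sylow `2`-subgroup `S` has class at
most two satisfies `G = N_G(J_e(S)) O(G)`. -/
theorem normalizer_sup_pPrimeCore_eq_top {G : Type*} [Group G] [Finite G] [Group.IsSolvable G]
    (hS4 : ¬ Cfsg.Involves (Equiv.Perm (Fin 4)) G) (S : Sylow 2 G)
    (hcl : Subgroup.lowerCentralSeries (S : Subgroup G) 2 = ⊥) :
    Subgroup.normalizer ((Cfsg.thompsonSubgroupOf 2 (S : Subgroup G)) : Set G) ⊔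
      Cfsg.pPrimeCore 2 G = ⊤ := by
  obtain ⟨O, hOdef⟩ : ∃ O, O = Cfsg.pPrimeCore 2 G := ⟨_, rfl⟩
  have hOn : O.Normal := hOdef ▸ inferInstance
  have hOc : (Nat.card O).Coprime 2 := hOdef ▸ Cfsg.Agent.Lib.H22.card_pPrimeCore_coprime 2
  have hO' : Cfsg.pPrimeCore 2 (G ⧸ O) = ⊥ := by
    subst hOdef
    exact Cfsg.Agent.Lib.H9.pPrimeCore_quotient_eq_bot 2
  have hsurj : Function.Surjective (QuotientGroup.mk' O) := QuotientGroup.mk'_surjective O
  have hsol' : Cfsg.IsPSolvable 2 (G ⧸ O) :=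
    Cfsg.Agent.Lib.H1.PSolvOfSolv.isPSolvable_of_isSolvable 2 (G ⧸ O)
  have hS4' : ¬ Cfsg.Involves (Equiv.Perm (Fin 4)) (G ⧸ O) := fun h =>
    hS4 (Cfsg.Agent.Lib.H14.SFour.involves_of_surj (QuotientGroup.mk' O) hsurj h)
  have hcl3 : ∀ x ∈ (S : Subgroup G), ∀ y ∈ (S : Subgroup G), ∀ z ∈ (S : Subgroup G),
      ⁅⁅x, y⁆, z⁆ = 1 := by
    intro x hx y hy z hz
    have h1 : ⁅⁅x, y⁆, z⁆ ∈ Subgroup.lowerCentralSeries (S : Subgroup G) 2 := by
      rw [Subgroup.lowerCentralSeries_succ, Subgroup.lowerCentralSeries_succ,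
        Subgroup.lowerCentralSeries_zero]
      exact Subgroup.commutator_mem_commutator (Subgroup.commutator_mem_commutator hx hy) hz
    rw [hcl, Subgroup.mem_bot] at h1
    exact h1
  have hcl' : ∀ x ∈ ((S.mapSurjective hsurj : Sylow 2 (G ⧸ O)) : Subgroup (G ⧸ O)),
      ∀ y ∈ ((S.mapSurjective hsurj : Sylow 2 (G ⧸ O)) : Subgroup (G ⧸ O)),
      ∀ z ∈ ((S.mapSurjective hsurj : Sylow 2 (G ⧸ O)) : Subgroup (G ⧸ O)), ⁅⁅x, y⁆, z⁆ = 1 := by
    rintro _ ⟨x, hx, rfl⟩ _ ⟨y, hy, rfl⟩ _ ⟨z, hz, rfl⟩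
    rw [← map_commutatorElement, ← map_commutatorElement, hcl3 x hx y hy z hz, map_one]
  have hN := thompsonSubgroupOf_normal hsol' hO' hS4' (S.mapSurjective hsurj) hcl'
  rw [Sylow.coe_mapSurjective] at hN
  -- injectivity on `S`
  have hSO : (S : Subgroup G) ⊓ O = ⊥ := by
    apply disjoint_iff.1
    apply Subgroup.disjoint_of_coprime_natCard
    obtain ⟨n, hn⟩ := IsPGroup.iff_card.mp S.2
    rw [hn]
    exact (Nat.Coprime.pow_left n hOc.symm)
  have hinj : Set.InjOn (QuotientGroup.mk' O) ((S : Subgroup G) : Set G) := by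
    intro a ha b hb hab
    have h1 : a⁻¹ * b ∈ O := by
      rw [← QuotientGroup.eq]
      exact hab
    have h2 : a⁻¹ * b ∈ (S : Subgroup G) ⊓ O :=
      ⟨Subgroup.mul_mem _ (Subgroup.inv_mem _ ha) hb, h1⟩
    rw [hSO, Subgroup.mem_bot] at h2
    exact (inv_mul_eq_one.1 h2)
  rw [Cfsg.Agent.Lib.L0.thompsonSubgroupOf_map 2 (QuotientGroup.mk' O) (S : Subgroup G) hinj] at hN
  obtain ⟨J, hJdef⟩ : ∃ J, J = Cfsg.thompsonSubgroupOf 2 (S : Subgroup G) := ⟨_, rfl⟩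
  rw [← hJdef] at hN ⊢
  rw [← hOdef]
  have hJS : J ≤ (S : Subgroup G) := hJdef ▸ Cfsg.Agent.Lib.L0.thompsonSubgroupOf_le' 2 _
  have hJ2 : IsPGroup 2 J := S.2.to_le hJS
  -- `M = J O` is normal
  obtain ⟨M, hMdef⟩ : ∃ M, M = (J.map (QuotientGroup.mk' O)).comap (QuotientGroup.mk' O) := ⟨_, rfl⟩
  have hMn : M.Normal := hMdef ▸ hN.comap _
  have hMeq : M = J ⊔ O := by
    rw [hMdef, Subgroup.comap_map_eq, QuotientGroup.ker_mk']
  have hJM : J ≤ M := hMeq ▸ le_sup_left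
  have hidx : ¬ 2 ∣ (J.subgroupOf M).index := by
    have h1 : Nat.card M ∣ Nat.card J * Nat.card O := by
      rw [hMeq]; exact Cfsg.Agent.Lib.H22.card_sup_dvd_mul J O
    have h2 : Nat.card J * J.relIndex M = Nat.card M := by
      have := Subgroup.relIndex_mul_relIndex ⊥ J M bot_le hJM
      rwa [Subgroup.relIndex_bot_left, Subgroup.relIndex_bot_left] at this
    rw [← h2] at h1
    have h3 : J.relIndex M ∣ Nat.card O := Nat.dvd_of_mul_dvd_mul_left Nat.card_pos h1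
    intro h4
    have h5 : 2 ∣ Nat.card O := h4.trans h3
    have := Nat.Coprime.eq_one_of_dvd hOc.symm h5
    omega
  have hJM2 : IsPGroup 2 (J.subgroupOf M) := hJ2.comap_subtype
  have hFr := Sylow.normalizer_sup_eq_top (hJM2.toSylow hidx)
  have hco : ((hJM2.toSylow hidx : Sylow 2 M) : Subgroup M) = J.subgroupOf M := rfl
  rw [hco, Subgroup.map_subgroupOf_eq_of_le hJM, hMeq] at hFr
  rw [eq_top_iff, ← hFr]
  apply sup_le le_sup_left
  apply sup_le _ le_sup_right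
  exact le_trans Subgroup.le_normalizer le_sup_left

end Cfsg.Agent.Lib.H10.SFourClassTwo
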