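import Mathlib
import Cfsg.Prelude.Def_Local
import Cfsg.Agent.Lib.H24.SG.Defs
import Cfsg.Agent.Lib.H10.SFBAL

/-!
S2924 piece BAL in the exact signature of `tools/blueprints/S2924_sigs.lean`
(wrapper of `Cfsg.Agent.Lib.H10.SF.bal_core`).
-/

set_option autoImplicit false

namespace Cfsg.Agent.Lib.H10.SG

open Cfsg Cfsg.Agent.Lib.H24.SG

theorem bal {X : Type*} [Group X] [Finite X] (u y : X) (hy : orderOf y = 2) (huy : u * y = y * u)
    (hE : Cfsg.layer (↥(Subgroup.centralizer ({u} : Set X)) ⧸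
      Cfsg.pPrimeCore 2 ↥(Subgroup.centralizer ({u} : Set X))) = ⊥) :
    theta X y ⊓ Subgroup.centralizer ({u} : Set X) ≤ theta X u := by
  have hy1 : y ≠ 1 := by
    intro h
    rw [h, orderOf_one] at hy
    norm_num at hy
  have hy2 : y ^ 2 = 1 := by
    rw [← hy]
    exact pow_orderOf_eq_one y
  exact Cfsg.Agent.Lib.H10.SF.bal_core y u hy1 hy2 huy hE

end Cfsg.Agent.Lib.H10.SG
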