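import Mathlib

/-!
# S3016 (odd-p Shult), CASE B (`N_G(H)` transitive on `H#`): the pure arithmetic endgame for `q ≥ 5` (helper10)

Odd-`p` twin of helper25's `endB_arith`. `s` = the principal `p`-block as a Finset, `i₀` = the trivial character,
`q = |H| ≥ 5` (a power of the odd prime `p`, only `3 ≤ p ≤ q` is used), `d i = χ(a)` (an integer, `a ∈ H#`),
`f i = χ(1)`, `R i` = the (real) average of `χ(a g a g⁻¹)` over the `g` with `a g a g⁻¹` a `p`-regular element.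
* `hCS`  : the class-sum identity at `b = a`: `d²/f = ((q-2) d + R)/(q-1)`;
* `hEV`  : the odd eigenvalue bound `R ≥ 4 m - 3 f`, `m = (f + (p-1) d)/p` the dimension of the fixed space of `a`;
* `hORTH`: block orthogonality `∑ d R = 0`;
* `hmult`: `(f - d)/q` is the multiplicity of a nontrivial linear character of `H` in `χ|_H`.
-/

set_option autoImplicit false

namespace Cfsg.Agent.Lib.H10.SHP

/-- the integer inequality behind one term: `d² ((q-2) f - (q-1) d) > f` when `d ≠ 0` -/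
theorem term_gt_one_p (p q : ℤ) (hp : 3 ≤ p) (hpq : p ≤ q) (hq : 5 ≤ q) (d f : ℤ) (hf : 0 < f)
    (hd : d ≠ 0) (hlt : d < f)
    (hev : 0 ≤ (p * (q - 1) * d - (3 * p - 4) * f) * (d - f)) (hmult : q ∣ f - d) :
    f < d ^ 2 * ((q - 2) * f - (q - 1) * d) := by
  -- `p (q-1) d ≤ (3p-4) f`
  have hu : p * (q - 1) * d - (3 * p - 4) * f ≤ 0 := by
    by_contra hcon
    push Not at hcon
    have h1 : d - f < 0 := by linarith
    have := mul_neg_of_pos_of_neg hcon h1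
    linarith
  have hd2 : 1 ≤ d ^ 2 := by
    have : 0 < d ^ 2 := by positivity
    linarith
  rcases lt_or_gt_of_ne hd with hneg | hpos
  · -- `d < 0`: `u ≥ (q-2) f + (q-1) > f`
    have hbase : f < (q - 2) * f - (q - 1) * d := by nlinarith
    nlinarith
  · -- `d > 0`
    -- `p u ≥ (p q - 5 p + 4) f`
    have hpu : (p * q - 5 * p + 4) * f ≤ p * ((q - 2) * f - (q - 1) * d) := by nlinarith
    rcases eq_or_lt_of_le hq with h5 | h6
    · -- `q = 5`
      subst h5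
      rcases eq_or_lt_of_le (show (1 : ℤ) ≤ d by omega) with h1 | h2
      · -- `d = 1`
        subst h1
        obtain ⟨k, hk⟩ := hmult
        have hk1 : 1 ≤ k := by
          by_contra hcon
          push Not at hcon
          have : k ≤ 0 := by omega
          nlinarith
        nlinarith
      · -- `d ≥ 2`, `p u ≥ 4 f`, `p ≤ 5`
        have hd4 : 4 ≤ d ^ 2 := by nlinarith
        have hpu' : 4 * f ≤ p * ((5 - 2) * f - (5 - 1) * d) := by nlinarith
        have hupos : 0 < (5 - 2) * f - (5 - 1) * d := by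
          by_contra hcon
          push Not at hcon
          nlinarith
        -- `5 u ≥ p u ≥ 4 f`
        have h5u : 4 * f ≤ 5 * ((5 - 2) * f - (5 - 1) * d) := by nlinarith
        nlinarith
    · -- `q ≥ 6`: `p u ≥ (p + 4) f`, so `u > f`
      have hq6 : 6 ≤ q := by omega
      have h0 : 0 ≤ p * (q - 6) * f :=
        mul_nonneg (mul_nonneg (by omega) (by omega)) hf.le
      have h1 : (p + 4) * f ≤ p * ((q - 2) * f - (q - 1) * d) := by nlinarith [h0, hpu]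
      have hgt : f < (q - 2) * f - (q - 1) * d := by
        by_contra hcon
        push Not at hcon
        nlinarith
      nlinarith

/-- (ENDB-p) the arithmetic contradiction of CASE B at an odd prime, `q ≥ 5` -/
theorem endBp_arith {ι : Type*} (s : Finset ι) (i₀ : ι) (hi₀ : i₀ ∈ s) (p q : ℕ) (hp : 3 ≤ p)
    (hpq : p ≤ q) (hq : 5 ≤ q)
    (d : ι → ℤ) (f : ι → ℕ) (R : ι → ℝ)
    (hf : ∀ i ∈ s, 0 < f i) (hd0 : d i₀ = 1) (hf0 : f i₀ = 1)
    (hdf : ∀ i ∈ s, i ≠ i₀ → d i ≠ f i) (hdle : ∀ i ∈ s, d i ≤ f i)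
    (hmult : ∀ i ∈ s, (q : ℤ) ∣ (f i : ℤ) - d i)
    (hCS : ∀ i ∈ s, ((q : ℝ) - 1) * (d i : ℝ) ^ 2 = (f i : ℝ) * (((q : ℝ) - 2) * (d i : ℝ) + R i))
    (hEV : ∀ i ∈ s,
      ((4 - 3 * (p : ℝ)) * (f i : ℝ) + 4 * ((p : ℝ) - 1) * (d i : ℝ)) / (p : ℝ) ≤ R i)
    (hORTH : ∑ i ∈ s, (d i : ℝ) * R i = 0) : False := by
  classical
  have hpZ : (3 : ℤ) ≤ (p : ℤ) := by exact_mod_cast hp
  have hpqZ : (p : ℤ) ≤ (q : ℤ) := by exact_mod_cast hpq
  have hqZ : (5 : ℤ) ≤ (q : ℤ) := by exact_mod_cast hq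
  have hpR : (0 : ℝ) < (p : ℝ) := by
    have : (3 : ℝ) ≤ (p : ℝ) := by exact_mod_cast hp
    linarith
  -- the trivial term
  have hR0 : (d i₀ : ℝ) * R i₀ = 1 := by
    have h := hCS i₀ hi₀
    rw [hd0, hf0] at h
    rw [hd0]
    push_cast at h ⊢
    linarith
  -- the other terms
  have hterm : ∀ i ∈ s.erase i₀, (d i : ℝ) * R i ≤ 0 ∧ ((d i : ℝ) * R i = 0 ∨ (d i : ℝ) * R i < -1) := by
    intro i hi
    obtain ⟨hne, his⟩ := Finset.mem_erase.1 hi
    have hfpos : (0 : ℝ) < (f i : ℝ) := by exact_mod_cast hf i his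
    have hcs := hCS i his
    have hev := hEV i his
    by_cases hd : d i = 0
    · simp [hd]
    · have hlt : d i < (f i : ℤ) := lt_of_le_of_ne (hdle i his) (hdf i his hne)
      -- `f R = (q-1) d² - (q-2) d f`
      have hfR : (f i : ℝ) * R i = ((q : ℝ) - 1) * (d i : ℝ) ^ 2 - ((q : ℝ) - 2) * (d i : ℝ) * (f i : ℝ) := by
        linarith
      -- `p R ≥ (4 - 3p) f + 4 (p-1) d`
      have hev' : (4 - 3 * (p : ℝ)) * (f i : ℝ) + 4 * ((p : ℝ) - 1) * (d i : ℝ) ≤ (p : ℝ) * R i := by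
        have := (div_le_iff₀ hpR).1 hev
        linarith
      -- eigenvalue bound in integers
      have hevR : (0 : ℝ) ≤ ((p : ℝ) * ((q : ℝ) - 1) * (d i : ℝ) - (3 * (p : ℝ) - 4) * (f i : ℝ)) *
          ((d i : ℝ) - (f i : ℝ)) := by
        have h1 : (f i : ℝ) * ((4 - 3 * (p : ℝ)) * (f i : ℝ) + 4 * ((p : ℝ) - 1) * (d i : ℝ)) ≤
            (f i : ℝ) * ((p : ℝ) * R i) := mul_le_mul_of_nonneg_left hev' hfpos.le
        have h2 : (f i : ℝ) * ((p : ℝ) * R i) = (p : ℝ) * ((f i : ℝ) * R i) := by ring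
        rw [h2, hfR] at h1
        nlinarith
      have hevZ : (0 : ℤ) ≤ ((p : ℤ) * ((q : ℤ) - 1) * d i - (3 * (p : ℤ) - 4) * (f i : ℤ)) *
          (d i - (f i : ℤ)) := by
        exact_mod_cast hevR
      have hkey := term_gt_one_p (p : ℤ) (q : ℤ) hpZ hpqZ hqZ (d i) (f i : ℤ)
        (by exact_mod_cast hf i his) hd hlt hevZ (hmult i his)
      have hkeyR : (f i : ℝ) < (d i : ℝ) ^ 2 * (((q : ℝ) - 2) * (f i : ℝ) - ((q : ℝ) - 1) * (d i : ℝ)) := by
        exact_mod_cast hkey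
      -- `f * (d R) = - d² ((q-2) f - (q-1) d) < - f`
      have hfdR : (f i : ℝ) * ((d i : ℝ) * R i) =
          -((d i : ℝ) ^ 2 * (((q : ℝ) - 2) * (f i : ℝ) - ((q : ℝ) - 1) * (d i : ℝ))) := by
        have : (f i : ℝ) * ((d i : ℝ) * R i) = (d i : ℝ) * ((f i : ℝ) * R i) := by ring
        rw [this, hfR]
        ring
      have hlt1 : (f i : ℝ) * ((d i : ℝ) * R i) < (f i : ℝ) * (-1) := by
        rw [hfdR]
        linarith
      have hlt2 : (d i : ℝ) * R i < -1 := lt_of_mul_lt_mul_left hlt1 hfpos.le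
      exact ⟨by linarith, Or.inr hlt2⟩
  have hsum : ∑ i ∈ s.erase i₀, (d i : ℝ) * R i = -1 := by
    have h := Finset.add_sum_erase s (fun i => (d i : ℝ) * R i) hi₀
    rw [hORTH, hR0] at h
    linarith
  by_cases hall : ∀ i ∈ s.erase i₀, (d i : ℝ) * R i = 0
  · rw [Finset.sum_eq_zero hall] at hsum
    norm_num at hsum
  · push Not at hall
    obtain ⟨i₁, hi₁, hne⟩ := hall
    have hlt : (d i₁ : ℝ) * R i₁ < -1 := by
      rcases (hterm i₁ hi₁).2 with h | h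
      · exact absurd h hne
      · exact h
    have hrest : ∑ i ∈ (s.erase i₀).erase i₁, (d i : ℝ) * R i ≤ 0 :=
      Finset.sum_nonpos fun i hi => (hterm i (Finset.mem_of_mem_erase hi)).1
    have h := Finset.add_sum_erase (s.erase i₀) (fun i => (d i : ℝ) * R i) hi₁
    rw [hsum] at h
    linarith

/-- (ENDB-p) the same over a set `B` of a finite type, with a `finsum` (the shape of sums over
`principalBlock M G`) -/
theorem endBp_arith_finsum {ι : Type*} [Finite ι] (B : Set ι) (i₀ : ι) (hi₀ : i₀ ∈ B) (p q : ℕ)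
    (hp : 3 ≤ p) (hpq : p ≤ q) (hq : 5 ≤ q)
    (d : ι → ℤ) (f : ι → ℕ) (R : ι → ℝ)
    (hf : ∀ i ∈ B, 0 < f i) (hd0 : d i₀ = 1) (hf0 : f i₀ = 1)
    (hdf : ∀ i ∈ B, i ≠ i₀ → d i ≠ f i) (hdle : ∀ i ∈ B, d i ≤ f i)
    (hmult : ∀ i ∈ B, (q : ℤ) ∣ (f i : ℤ) - d i)
    (hCS : ∀ i ∈ B, ((q : ℝ) - 1) * (d i : ℝ) ^ 2 = (f i : ℝ) * (((q : ℝ) - 2) * (d i : ℝ) + R i))
    (hEV : ∀ i ∈ B,
      ((4 - 3 * (p : ℝ)) * (f i : ℝ) + 4 * ((p : ℝ) - 1) * (d i : ℝ)) / (p : ℝ) ≤ R i)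
    (hORTH : ∑ᶠ i ∈ B, (d i : ℝ) * R i = 0) : False := by
  have hB : B.Finite := Set.toFinite B
  have hmem : ∀ i, i ∈ hB.toFinset ↔ i ∈ B := fun i => Set.Finite.mem_toFinset hB
  refine endBp_arith hB.toFinset i₀ ((hmem i₀).2 hi₀) p q hp hpq hq d f R
    (fun i hi => hf i ((hmem i).1 hi)) hd0 hf0 (fun i hi => hdf i ((hmem i).1 hi))
    (fun i hi => hdle i ((hmem i).1 hi)) (fun i hi => hmult i ((hmem i).1 hi))
    (fun i hi => hCS i ((hmem i).1 hi)) (fun i hi => hEV i ((hmem i).1 hi)) ?_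
  rw [← finsum_mem_eq_finite_toFinset_sum _ hB]
  exact hORTH

end Cfsg.Agent.Lib.H10.SHP
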