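import Mathlib

/-!
# S3016 (odd-p Shult), CASE B with `q = |H| = 3`: the pure arithmetic endgame (helper10, twin of helper26's Q3-ARITH)

`s` = the principal `3`-block as a Finset, `i₀` = the trivial character, `d i = χ(a)` (an integer), `f i = χ(1)`,
`R i` = the (real) average of `χ(a g a⁻¹ g⁻¹)` over the `g` of type `-`.
* `hCS`  : the class-sum identity `2 d² = f (d + R)`;
* `hQ3`  : the averaged pointwise bound `R ≥ 2 d - f` (Lemma Q3);
* `hORTH`: block orthogonality `∑ d R = 0`;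
* `hE1`  : block orthogonality `∑ d f = 0`.
-/

set_option autoImplicit false

namespace Cfsg.Agent.Lib.H10.SHP

/-- (Q3-ARITH) the arithmetic contradiction of CASE B for `q = 3` -/
theorem endB3_arith {ι : Type*} (s : Finset ι) (i₀ : ι) (hi₀ : i₀ ∈ s)
    (d : ι → ℤ) (f : ι → ℕ) (R : ι → ℝ)
    (hf : ∀ i ∈ s, 0 < f i) (hd0 : d i₀ = 1) (hf0 : f i₀ = 1)
    (hdlt : ∀ i ∈ s, i ≠ i₀ → d i < f i)
    (hCS : ∀ i ∈ s, 2 * (d i : ℝ) ^ 2 = (f i : ℝ) * ((d i : ℝ) + R i))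
    (hQ3 : ∀ i ∈ s, 2 * (d i : ℝ) - (f i : ℝ) ≤ R i)
    (hORTH : ∑ i ∈ s, (d i : ℝ) * R i = 0)
    (hE1 : ∑ i ∈ s, (d i : ℝ) * (f i : ℝ) = 0) : False := by
  classical
  -- the trivial term
  have hR0 : (d i₀ : ℝ) * R i₀ = 1 := by
    have h := hCS i₀ hi₀
    rw [hd0, hf0] at h
    rw [hd0]
    push_cast at h ⊢
    linarith
  -- the other terms
  have hterm : ∀ i ∈ s.erase i₀, (d i : ℝ) * R i ≤ 0 ∧ (d i < 0 → (d i : ℝ) * R i < -1) := by
    intro i hi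
    obtain ⟨hne, his⟩ := Finset.mem_erase.1 hi
    have hfpos : (0 : ℝ) < (f i : ℝ) := by exact_mod_cast hf i his
    have hcs := hCS i his
    have hq3 := hQ3 i his
    have hlt : (d i : ℝ) < (f i : ℝ) := by exact_mod_cast hdlt i his hne
    -- `f R = 2 d² - d f`
    have hfR : (f i : ℝ) * R i = 2 * (d i : ℝ) ^ 2 - (d i : ℝ) * (f i : ℝ) := by linarith
    -- `(2 d - f)(d - f) ≥ 0`, hence `2 d ≤ f`
    have hprod : (0 : ℝ) ≤ (2 * (d i : ℝ) - (f i : ℝ)) * ((d i : ℝ) - (f i : ℝ)) := by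
      have h1 : (f i : ℝ) * (2 * (d i : ℝ) - (f i : ℝ)) ≤ (f i : ℝ) * R i :=
        mul_le_mul_of_nonneg_left hq3 hfpos.le
      nlinarith
    have h2d : 2 * (d i : ℝ) - (f i : ℝ) ≤ 0 := by
      by_contra hcon
      push Not at hcon
      have h1 : (d i : ℝ) - (f i : ℝ) < 0 := by linarith
      have := mul_neg_of_pos_of_neg hcon h1
      linarith
    -- `f (d R) = d² (2 d - f)`
    have hfdR : (f i : ℝ) * ((d i : ℝ) * R i) = (d i : ℝ) ^ 2 * (2 * (d i : ℝ) - (f i : ℝ)) := by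
      have : (f i : ℝ) * ((d i : ℝ) * R i) = (d i : ℝ) * ((f i : ℝ) * R i) := by ring
      rw [this, hfR]
      ring
    constructor
    · have h1 : (f i : ℝ) * ((d i : ℝ) * R i) ≤ 0 := by
        rw [hfdR]
        exact mul_nonpos_of_nonneg_of_nonpos (sq_nonneg _) h2d
      by_contra hcon
      push Not at hcon
      have := mul_pos hfpos hcon
      linarith
    · intro hneg
      have hnegR : (d i : ℝ) ≤ -1 := by
        have : d i ≤ -1 := by omega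
        exact_mod_cast this
      have hd2 : 1 ≤ (d i : ℝ) ^ 2 := by nlinarith
      have hlt1 : (f i : ℝ) * ((d i : ℝ) * R i) < (f i : ℝ) * (-1) := by
        rw [hfdR]
        nlinarith
      exact lt_of_mul_lt_mul_left hlt1 hfpos.le
  have hsum : ∑ i ∈ s.erase i₀, (d i : ℝ) * R i = -1 := by
    have h := Finset.add_sum_erase s (fun i => (d i : ℝ) * R i) hi₀
    rw [hORTH, hR0] at h
    linarith
  -- all `d ≥ 0` off the trivial character
  have hnonneg : ∀ i ∈ s.erase i₀, 0 ≤ d i := by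
    intro i₁ hi₁
    by_contra hcon
    push Not at hcon
    have hlt := (hterm i₁ hi₁).2 hcon
    have hrest : ∑ i ∈ (s.erase i₀).erase i₁, (d i : ℝ) * R i ≤ 0 :=
      Finset.sum_nonpos fun i hi => (hterm i (Finset.mem_of_mem_erase hi)).1
    have h := Finset.add_sum_erase (s.erase i₀) (fun i => (d i : ℝ) * R i) hi₁
    rw [hsum] at h
    linarith
  -- `∑ d f ≥ 1`
  have h := Finset.add_sum_erase s (fun i => (d i : ℝ) * (f i : ℝ)) hi₀
  rw [hE1, hd0, hf0] at h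
  have hrest : 0 ≤ ∑ i ∈ s.erase i₀, (d i : ℝ) * (f i : ℝ) :=
    Finset.sum_nonneg fun i hi => by
      have h1 : (0 : ℝ) ≤ (d i : ℝ) := by exact_mod_cast hnonneg i hi
      have h2 : (0 : ℝ) ≤ (f i : ℝ) := Nat.cast_nonneg _
      exact mul_nonneg h1 h2
  push_cast at h
  linarith

/-- (Q3-ARITH) the same over a set `B` of a finite type, with `finsum`s -/
theorem endB3_arith_finsum {ι : Type*} [Finite ι] (B : Set ι) (i₀ : ι) (hi₀ : i₀ ∈ B)
    (d : ι → ℤ) (f : ι → ℕ) (R : ι → ℝ)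
    (hf : ∀ i ∈ B, 0 < f i) (hd0 : d i₀ = 1) (hf0 : f i₀ = 1)
    (hdlt : ∀ i ∈ B, i ≠ i₀ → d i < f i)
    (hCS : ∀ i ∈ B, 2 * (d i : ℝ) ^ 2 = (f i : ℝ) * ((d i : ℝ) + R i))
    (hQ3 : ∀ i ∈ B, 2 * (d i : ℝ) - (f i : ℝ) ≤ R i)
    (hORTH : ∑ᶠ i ∈ B, (d i : ℝ) * R i = 0)
    (hE1 : ∑ᶠ i ∈ B, (d i : ℝ) * (f i : ℝ) = 0) : False := by
  have hB : B.Finite := Set.toFinite B
  have hmem : ∀ i, i ∈ hB.toFinset ↔ i ∈ B := fun i => Set.Finite.mem_toFinset hB
  refine endB3_arith hB.toFinset i₀ ((hmem i₀).2 hi₀) d f R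
    (fun i hi => hf i ((hmem i).1 hi)) hd0 hf0 (fun i hi => hdlt i ((hmem i).1 hi))
    (fun i hi => hCS i ((hmem i).1 hi)) (fun i hi => hQ3 i ((hmem i).1 hi)) ?_ ?_
  · rw [← finsum_mem_eq_finite_toFinset_sum _ hB]
    exact hORTH
  · rw [← finsum_mem_eq_finite_toFinset_sum _ hB]
    exact hE1

end Cfsg.Agent.Lib.H10.SHP
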