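import Mathlib
import Cfsg.Prelude.Def_Characters
import Cfsg.Agent.Lib.L0.FiniteOrderEnd
import Cfsg.Agent.Lib.H17.SHINV2

/-!
# The eigenvalue bound for products of two elements of order `p` (S3016, piece INV-p; helper10)

Odd-`p` twin of helper17's `SHINV2`. For endomorphisms `A`, `B` of a finite-dimensional complex space with
`A ^ p = B ^ p = 1` and `A * B` of finite order:
`2 dim Fix A + 2 dim Fix B - 3 dim V ≤ Re tr (A * B)` and `p * dim Fix A = ∑_{k < p} tr (A ^ k)`;
hence for a character `χ` of a finite group and `x ^ p = 1 = y ^ p` with `χ (x ^ k) = d = χ (y ^ k)` for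
`0 < k < p`: `((4 - 3 p) χ 1 + 4 (p - 1) d) / p ≤ Re χ (x * y)`.
-/

set_option autoImplicit false

open Module

namespace Cfsg.Agent.Lib.H10.SHP

open Cfsg.Agent.Lib.L0

section LinAlg

variable {V : Type*} [AddCommGroup V] [Module ℂ V] [FiniteDimensional ℂ V]

/-- a `p`-th root of unity other than `1` has vanishing power sum -/
theorem sum_pow_eq_zero_of_ne_one (μ : ℂ) (p : ℕ) (hμ : μ ^ p = 1) (hne : μ ≠ 1) :
    ∑ k ∈ Finset.range p, μ ^ k = 0 := by
  have h := geom_sum_mul μ p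
  rw [hμ, sub_self] at h
  rcases mul_eq_zero.1 h with h' | h'
  · exact h'
  · exact absurd (sub_eq_zero.1 h') hne

/-- the dimension of the fixed space of an endomorphism of order dividing `p` is the average of the
traces of its powers -/
theorem sum_trace_pow_eq (A : End ℂ V) (p : ℕ) (hp : 0 < p) (hA : A ^ p = 1) :
    ∑ k ∈ Finset.range p, LinearMap.trace ℂ V (A ^ k) = (p : ℂ) * (finrank ℂ (A.eigenspace 1) : ℂ) := by
  classical
  have hf := isSemisimple_of_pow_eq_one hp hA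
  have h1 : ∀ k, LinearMap.trace ℂ V (A ^ k) =
      ∑ μ : A.Eigenvalues, (finrank ℂ (A.eigenspace (μ : ℂ)) : ℂ) * (μ : ℂ) ^ k :=
    fun k => trace_pow_eq_sum hf k
  simp_rw [h1]
  rw [Finset.sum_comm]
  rw [← Cfsg.Agent.Lib.H17.SH.sum_ite_finrank_eigenspace_one A]
  push_cast
  rw [Finset.mul_sum]
  refine Finset.sum_congr rfl fun μ _ => ?_
  rw [← Finset.mul_sum]
  by_cases hμ : (μ : ℂ) = 1
  · rw [if_pos hμ, hμ]
    simp
    ring
  · rw [if_neg hμ, sum_pow_eq_zero_of_ne_one (μ : ℂ) p (eigenvalue_pow_eq_one hA μ) hμ]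
    simp

/-- the eigenvalue bound for a product of two endomorphisms of finite order, in terms of fixed spaces -/
theorem re_trace_mul_ge_fix (A B : End ℂ V) (m : ℕ) (hm : 0 < m) (hAB : (A * B) ^ m = 1) :
    2 * (finrank ℂ (A.eigenspace 1) : ℝ) + 2 * (finrank ℂ (B.eigenspace 1) : ℝ) - 3 * (finrank ℂ V : ℝ) ≤
      (LinearMap.trace ℂ V (A * B)).re := by
  have hle : A.eigenspace 1 ⊓ B.eigenspace 1 ≤ (A * B).eigenspace 1 := by
    intro v hv
    rw [Submodule.mem_inf, Module.End.mem_eigenspace_iff, Module.End.mem_eigenspace_iff] at hv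
    rw [Module.End.mem_eigenspace_iff, Module.End.mul_apply, hv.2, one_smul, hv.1, one_smul]
  have hdim := Submodule.finrank_sup_add_finrank_inf_eq (A.eigenspace 1) (B.eigenspace 1)
  have hsup : finrank ℂ ↥(A.eigenspace 1 ⊔ B.eigenspace 1) ≤ finrank ℂ V := Submodule.finrank_le _
  have hinf : finrank ℂ ↥(A.eigenspace 1 ⊓ B.eigenspace 1) ≤
      finrank ℂ ↥((A * B).eigenspace 1) := Submodule.finrank_mono hle
  have h1 := Cfsg.Agent.Lib.H17.SH.re_trace_ge_of_pow_eq_one (A * B) m hm hAB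
  have h2 : (finrank ℂ (A.eigenspace 1) : ℝ) + finrank ℂ (B.eigenspace 1) ≤
      (finrank ℂ V : ℝ) + finrank ℂ ↥((A * B).eigenspace 1) := by
    have : finrank ℂ (A.eigenspace 1) + finrank ℂ (B.eigenspace 1) ≤
        finrank ℂ V + finrank ℂ ↥((A * B).eigenspace 1) := by omega
    exact_mod_cast this
  linarith

end LinAlg

section Character

variable {G : Type*} [Group G] [Finite G]

/-- (INV-p) the character form: `x ^ p = 1 = y ^ p`, `χ (x ^ k) = d = χ (y ^ k)` for `0 < k < p`: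
`((4 - 3 p) χ 1 + 4 (p - 1) d) / p ≤ Re χ (x * y)` -/
theorem char_mul_pElements_ge (χ : G → ℂ) (hχ : Cfsg.IsCharacter G χ) (p : ℕ) (hp : 0 < p) (x y : G)
    (hx : x ^ p = 1) (hy : y ^ p = 1) (d : ℝ)
    (hxd : ∀ k : ℕ, 0 < k → k < p → χ (x ^ k) = (d : ℂ))
    (hyd : ∀ k : ℕ, 0 < k → k < p → χ (y ^ k) = (d : ℂ)) :
    ((4 - 3 * (p : ℝ)) * (χ 1).re + 4 * ((p : ℝ) - 1) * d) / (p : ℝ) ≤ (χ (x * y)).re := by
  obtain ⟨n, ρ, rfl⟩ := hχ
  have hpR : (0 : ℝ) < (p : ℝ) := by exact_mod_cast hp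
  have hA : (ρ x) ^ p = 1 := by rw [← map_pow, hx, map_one]
  have hB : (ρ y) ^ p = 1 := by rw [← map_pow, hy, map_one]
  have hm : 0 < orderOf (x * y) := orderOf_pos (x * y)
  have hAB : (ρ x * ρ y) ^ orderOf (x * y) = 1 := by
    rw [← map_mul, ← map_pow, pow_orderOf_eq_one, map_one]
  have h := re_trace_mul_ge_fix (ρ x) (ρ y) _ hm hAB
  have h1 : (ρ.character 1).re = (finrank ℂ (Fin n → ℂ) : ℝ) := by
    rw [Representation.char_one]
    simp
  -- the fixed space dimensions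
  have hsum : ∀ z : G, z ^ p = 1 → (∀ k : ℕ, 0 < k → k < p → ρ.character (z ^ k) = (d : ℂ)) →
      (p : ℝ) * (finrank ℂ (Module.End.eigenspace (ρ z) 1) : ℝ) =
        (finrank ℂ (Fin n → ℂ) : ℝ) + ((p : ℝ) - 1) * d := by
    intro z hz hzd
    have hZ : (ρ z) ^ p = 1 := by rw [← map_pow, hz, map_one]
    have hs := sum_trace_pow_eq (ρ z) p hp hZ
    obtain ⟨p', rfl⟩ : ∃ p', p = p' + 1 := ⟨p - 1, by omega⟩
    rw [Finset.sum_range_succ'] at hs
    have hterm : ∀ k ∈ Finset.range p', LinearMap.trace ℂ (Fin n → ℂ) ((ρ z) ^ (k + 1)) = (d : ℂ) := by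
      intro k hk
      have hk' := Finset.mem_range.1 hk
      have := hzd (k + 1) (by omega) (by omega)
      simp only [Representation.character] at this
      rw [← map_pow]
      exact this
    rw [Finset.sum_congr rfl hterm, Finset.sum_const, Finset.card_range, pow_zero] at hs
    rw [show (1 : End ℂ (Fin n → ℂ)) = LinearMap.id from rfl, LinearMap.trace_id] at hs
    have hre := congrArg Complex.re hs
    simp only [nsmul_eq_mul, Complex.add_re, Complex.mul_re, Complex.natCast_re, Complex.natCast_im,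
      Complex.ofReal_re, Complex.ofReal_im, mul_zero, sub_zero] at hre
    push_cast at hre ⊢
    linarith
  have hX := hsum x hx hxd
  have hY := hsum y hy hyd
  simp only [Representation.character] at h1 ⊢
  rw [h1, map_mul, div_le_iff₀ hpR]
  have h' : (p : ℝ) * (2 * (finrank ℂ (Module.End.eigenspace (ρ x) 1) : ℝ) +
      2 * (finrank ℂ (Module.End.eigenspace (ρ y) 1) : ℝ) - 3 * (finrank ℂ (Fin n → ℂ) : ℝ)) ≤
      (p : ℝ) * (LinearMap.trace ℂ (Fin n → ℂ) (ρ x * ρ y)).re :=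
    mul_le_mul_of_nonneg_left h hpR.le
  nlinarith

end Character

end Cfsg.Agent.Lib.H10.SHP
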