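import Mathlib
import Cfsg.Prelude.Def_Characters
import Cfsg.Agent.Lib.L0.FiniteOrderEnd
import Cfsg.Agent.Lib.H17.SHINV2

/-!
# Lemma Q3 (S3016, CASE B with `|H| = 3`; helper10, after helper26's note)

`χ` a character of a finite group, `L` a subgroup, `a` normalising `L` with `χ (a * l) = χ a` for all `l ∈ L`.
Then `2 Re χ a - χ 1 ≤ Re χ y` for every `y ∈ L`.

Proof: `e` = the averaging projection of `L` onto `W = V^L`; `ρ a` preserves `W`, `tr (ρ a ∘ e) = χ a` is the trace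
of the finite-order map `ρ a |_W`, so `Re χ a ≤ dim W`; `y ∈ L` fixes `W` pointwise, so `dim Fix (ρ y) ≥ dim W` and
`Re χ y ≥ 2 dim Fix (ρ y) - χ 1`.
-/

set_option autoImplicit false

open Module

namespace Cfsg.Agent.Lib.H10.SHP

open Cfsg.Agent.Lib.L0

section Group

variable {G : Type*} [Group G] [Finite G]

/-- in a finite group, `a L a⁻¹ ≤ L` implies `a⁻¹ L a ≤ L` -/
theorem inv_conj_mem_of_conj_mem (L : Subgroup G) (a : G) (hnorm : ∀ l ∈ L, a * l * a⁻¹ ∈ L) :
    ∀ l ∈ L, a⁻¹ * l * a ∈ L := by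
  have hpow : ∀ k : ℕ, ∀ l ∈ L, a ^ k * l * (a ^ k)⁻¹ ∈ L := by
    intro k
    induction k with
    | zero => intro l hl; simpa using hl
    | succ k ih =>
      intro l hl
      have h1 := hnorm _ (ih l hl)
      have h2 : a ^ (k + 1) * l * (a ^ (k + 1))⁻¹ = a * (a ^ k * l * (a ^ k)⁻¹) * a⁻¹ := by
        rw [pow_succ']
        group
      rw [h2]
      exact h1
  intro l hl
  have hm : 0 < orderOf a := orderOf_pos a
  have h1 : a ^ (orderOf a - 1) = a⁻¹ := by
    have h2 : a ^ (orderOf a - 1) * a = 1 := by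
      rw [← pow_succ, Nat.sub_add_cancel hm, pow_orderOf_eq_one]
    exact eq_inv_of_mul_eq_one_left h2
  have h3 := hpow (orderOf a - 1) l hl
  rw [h1, inv_inv] at h3
  exact h3

end Group

section Rep

variable {G : Type*} [Group G] [Finite G]

/-- (Q3-REP) Lemma Q3 -/
theorem char_re_ge_of_const_on_coset (χ : G → ℂ) (hχ : Cfsg.IsCharacter G χ) (L : Subgroup G) (a : G)
    (hnorm : ∀ l ∈ L, a * l * a⁻¹ ∈ L) (hconst : ∀ l ∈ L, χ (a * l) = χ a) (y : G) (hy : y ∈ L) :
    2 * (χ a).re - (χ 1).re ≤ (χ y).re := by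
  classical
  obtain ⟨n, ρ, rfl⟩ := hχ
  let _ : Fintype ↥L := Fintype.ofFinite _
  let _ : Invertible ((Fintype.card ↥L : ℕ) : ℂ) :=
    invertibleOfNonzero (by exact_mod_cast Fintype.card_ne_zero)
  have hnorm' := inv_conj_mem_of_conj_mem L a hnorm
  -- the restricted representation, its averaging projection and its invariants
  set ρL : Representation ℂ ↥L (Fin n → ℂ) := ρ.comp L.subtype with hρL
  set e : End ℂ (Fin n → ℂ) := ρL.averageMap with he
  set W : Submodule ℂ (Fin n → ℂ) := ρL.invariants with hW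
  have hproj : LinearMap.IsProj W e := ρL.isProj_averageMap
  have hρLapp : ∀ l : ↥L, ρL l = ρ (l : G) := fun l => rfl
  -- `ρ a` preserves `W`
  have hWa : ∀ w ∈ W, ρ a w ∈ W := by
    intro w hw
    rw [hW, Representation.mem_invariants] at hw ⊢
    intro l
    have h1 := hw ⟨a⁻¹ * (l : G) * a, hnorm' _ l.2⟩
    rw [hρLapp] at h1 ⊢
    have h2 : (l : G) * a = a * (a⁻¹ * (l : G) * a) := by group
    calc ρ (l : G) (ρ a w) = ρ ((l : G) * a) w := by rw [map_mul]; rfl
      _ = ρ (a * (a⁻¹ * (l : G) * a)) w := by rw [← h2]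
      _ = ρ a (ρ (a⁻¹ * (l : G) * a) w) := by rw [map_mul]; rfl
      _ = ρ a w := by rw [h1]
  -- the restriction of `ρ a` to `W` has finite order
  set AW : End ℂ ↥W := (ρ a).restrict hWa with hAW
  have hm : 0 < orderOf a := orderOf_pos a
  have hAWpow : AW ^ orderOf a = 1 := by
    rw [hAW, Module.End.pow_restrict]
    ext w
    have : (ρ a) ^ orderOf a = 1 := by rw [← map_pow, pow_orderOf_eq_one, map_one]
    simp [LinearMap.restrict_apply, this]
  have hAWnorm : ‖LinearMap.trace ℂ ↥W AW‖ ≤ finrank ℂ ↥W := norm_trace_le hm hAWpow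
  -- `tr (ρ a ∘ e) = tr AW`
  set π : (Fin n → ℂ) →ₗ[ℂ] ↥W := e.codRestrict W hproj.map_mem with hπ
  have hιπ : W.subtype ∘ₗ π = e := by
    ext v i
    simp [hπ]
  have hπι : π ∘ₗ ((ρ a) ∘ₗ W.subtype) = AW := by
    ext w i
    have h1 : e (ρ a (w : Fin n → ℂ)) = ρ a (w : Fin n → ℂ) := hproj.map_id _ (hWa _ w.2)
    simp [hπ, hAW, LinearMap.restrict_apply, h1]
  have htr1 : LinearMap.trace ℂ (Fin n → ℂ) ((ρ a) ∘ₗ e) = LinearMap.trace ℂ ↥W AW := by
    rw [← hιπ, ← LinearMap.comp_assoc, LinearMap.trace_comp_comm', hπι]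
  -- `tr (ρ a ∘ e) = χ a`
  have htr2 : LinearMap.trace ℂ (Fin n → ℂ) ((ρ a) ∘ₗ e) = ρ.character a := by
    have hexp : e = ⅟((Fintype.card ↥L : ℕ) : ℂ) • ∑ l : ↥L, ρ (l : G) := by
      rw [he]
      simp [Representation.averageMap, GroupAlgebra.average, map_sum, hρLapp]
    have hmul : (ρ a) ∘ₗ e = (ρ a) * e := rfl
    rw [hmul, hexp, mul_smul_comm, map_smul, Finset.mul_sum, map_sum]
    have hterm : ∀ l : ↥L, LinearMap.trace ℂ (Fin n → ℂ) ((ρ a) * ρ (l : G)) = ρ.character a := by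
      intro l
      have := hconst (l : G) l.2
      simp only [Representation.character] at this ⊢
      rw [← this, map_mul ρ a (l : G)]
    rw [Finset.sum_congr rfl fun l _ => hterm l, Finset.sum_const, Finset.card_univ, nsmul_eq_mul,
      smul_eq_mul, ← mul_assoc, invOf_mul_self, one_mul]
  -- `Re χ a ≤ dim W`
  have hle1 : (ρ.character a).re ≤ (finrank ℂ ↥W : ℝ) := by
    rw [← htr2, htr1]
    exact (Complex.re_le_norm _).trans hAWnorm
  -- `W ≤ Fix (ρ y)`
  have hWy : W ≤ Module.End.eigenspace (ρ y) 1 := by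
    intro w hw
    rw [hW, Representation.mem_invariants] at hw
    rw [Module.End.mem_eigenspace_iff, one_smul]
    exact hw ⟨y, hy⟩
  have hle2 : (finrank ℂ ↥W : ℝ) ≤ (finrank ℂ ↥(Module.End.eigenspace (ρ y) 1) : ℝ) := by
    exact_mod_cast Submodule.finrank_mono hWy
  have hmy : 0 < orderOf y := orderOf_pos y
  have hypow : (ρ y) ^ orderOf y = 1 := by rw [← map_pow, pow_orderOf_eq_one, map_one]
  have h3 := Cfsg.Agent.Lib.H17.SH.re_trace_ge_of_pow_eq_one (ρ y) _ hmy hypow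
  have h1 : (ρ.character 1).re = (finrank ℂ (Fin n → ℂ) : ℝ) := by
    rw [Representation.char_one]
    simp
  simp only [Representation.character] at h1 hle1 ⊢
  rw [h1]
  linarith

end Rep

end Cfsg.Agent.Lib.H10.SHP
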