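import Mathlib
import Cfsg.Agent.Lib.H4.SLKDefs

/-!
# S2479 piece P19 (`sum_idx_eq`), version with the inputs as hypotheses (helper10)

Double counting over the torus `(Fˣ)^n` acting on tuples by rescaling of the constant terms.
-/

set_option autoImplicit false
open Polynomial

namespace Cfsg.Agent.Lib.H10.SLK

open Cfsg.Agent.Lib.H12.Cls Cfsg.Agent.Lib.H4.SLK

universe u
variable {F : Type u} [Field F]

/-- UP2 from its five inputs (SCL1, SCL2, SCL3, SCL4, CYC). -/
theorem sum_idx_eq_of [Fintype F] (n : ℕ)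
    (h_props : ∀ (a : Fin n → Fˣ) (g : Fin n → F[X]),
      (∀ j, (g j).Monic ∧ (g j).coeff 0 ≠ 0) →
      (∀ j, (scl a g j).Monic ∧ (scl a g j).coeff 0 ≠ 0) ∧
        (∀ j, (scl a g j).natDegree = (g j).natDegree) ∧ supp (scl a g) = supp g)
    (h_om : ∀ (g : Fin n → F[X]), (∀ j, (g j).Monic) →
      scl 1 g = g ∧ ∀ a b : Fin n → Fˣ, scl a (scl b g) = scl (a * b) g)
    (h_Dt : ∀ (a : Fin n → Fˣ) (g : Fin n → F[X]), (∀ j, (g j).Monic) →
      Dt (scl a g) = Dt g * (chi g a : F))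
    (h_chi : ∀ (g : Fin n → F[X]), (∀ j, (g j).Monic ∧ (g j).coeff 0 ≠ 0) →
      ∃ c : Fin n → Fˣ, Dt g = (chi g c : F))
    (h_cyc : ∀ (inst : Fintype Fˣ) (s : Finset (Fin n)) (w : Fin n → ℕ) (c : Fin n → Fˣ),
      @Fintype.card Fˣ inst *
        Nat.card {a : Fin n → Fˣ // (∏ j ∈ s, c j ^ w j) * (∏ j ∈ s, a j ^ w j) = 1} =
      Nat.gcd (@Fintype.card Fˣ inst) (s.gcd w) * @Fintype.card Fˣ inst ^ n) :
    (Fintype.card F - 1) * ∑ τ : TSet F n n, wt τ.1 =
      ∑ τ : TSet F n n, idx τ.1 ^ 2 := by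
  classical
  have hcardU : Fintype.card Fˣ = Fintype.card F - 1 := Fintype.card_units F
  have hQpos : 0 < Fintype.card F - 1 := by
    have : 1 < Fintype.card F := Fintype.one_lt_card
    omega
  have hmon : ∀ τ : TSet F n n, ∀ j, (τ.1 j).Monic := fun τ j => (τ.2.1 j).1
  -- the rescaling as a permutation of `TSet`
  let σ : (Fin n → Fˣ) → TSet F n n → TSet F n n := fun a τ =>
    ⟨scl a τ.1, (h_props a τ.1 τ.2.1).1, by
      have h := (h_props a τ.1 τ.2.1).2.1
      simp only [h]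
      exact τ.2.2⟩
  have hσ1 : ∀ τ, σ 1 τ = τ := fun τ => Subtype.ext (h_om τ.1 (hmon τ)).1
  have hσmul : ∀ a b τ, σ a (σ b τ) = σ (a * b) τ :=
    fun a b τ => Subtype.ext ((h_om τ.1 (hmon τ)).2 a b)
  let e : (Fin n → Fˣ) → TSet F n n ≃ TSet F n n := fun a =>
    { toFun := σ a
      invFun := σ a⁻¹
      left_inv := fun τ => by rw [hσmul, inv_mul_cancel, hσ1]
      right_inv := fun τ => by rw [hσmul, mul_inv_cancel, hσ1] }
  have hsum_a : ∀ a : Fin n → Fˣ,
      ∑ τ : TSet F n n, wt (scl a τ.1) = ∑ τ : TSet F n n, wt τ.1 := by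
    intro a
    exact Equiv.sum_comp (e a) (fun τ => wt τ.1)
  -- the count for one tuple
  have hτ : ∀ τ : TSet F n n,
      (Fintype.card F - 1) * ∑ a : Fin n → Fˣ, wt (scl a τ.1) =
        idx τ.1 ^ 2 * (Fintype.card F - 1) ^ n := by
    intro τ
    obtain ⟨c, hc⟩ := h_chi τ.1 τ.2.1
    have hwt : ∀ a : Fin n → Fˣ,
        wt (scl a τ.1) = if chi τ.1 c * chi τ.1 a = 1 then idx τ.1 else 0 := by
      intro a
      have hidx : idx (scl a τ.1) = idx τ.1 := by
        unfold idx dg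
        rw [(h_props a τ.1 τ.2.1).2.2]
      have hD : Dt (scl a τ.1) = ((chi τ.1 c * chi τ.1 a : Fˣ) : F) := by
        rw [h_Dt a τ.1 (hmon τ), hc, Units.val_mul]
      by_cases h : chi τ.1 c * chi τ.1 a = 1
      · rw [if_pos h, wt_of_eq _ (by rw [hD, h, Units.val_one]), hidx]
      · rw [if_neg h, wt_of_ne]
        rw [hD]
        intro h'
        exact h (Units.ext (by rw [h', Units.val_one]))
    simp only [hwt]
    rw [← Finset.sum_filter, Finset.sum_const, smul_eq_mul]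
    have hcyc := h_cyc inferInstance (supp τ.1) (fun j => (j : ℕ) + 1) c
    have hcard : Nat.card {a : Fin n → Fˣ //
        (∏ j ∈ supp τ.1, c j ^ ((j : ℕ) + 1)) * (∏ j ∈ supp τ.1, a j ^ ((j : ℕ) + 1)) = 1} =
        (Finset.univ.filter (fun a : Fin n → Fˣ => chi τ.1 c * chi τ.1 a = 1)).card := by
      rw [Nat.card_eq_fintype_card, Fintype.card_subtype]
      rfl
    rw [hcard, hcardU] at hcyc
    have hidx : idx τ.1 = Nat.gcd (Fintype.card F - 1) ((supp τ.1).gcd fun j => (j : ℕ) + 1) := rfl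
    rw [← hidx] at hcyc
    calc (Fintype.card F - 1) *
          ((Finset.univ.filter (fun a : Fin n → Fˣ => chi τ.1 c * chi τ.1 a = 1)).card * idx τ.1)
        = ((Fintype.card F - 1) *
          (Finset.univ.filter (fun a : Fin n → Fˣ => chi τ.1 c * chi τ.1 a = 1)).card) *
            idx τ.1 := by ring
      _ = idx τ.1 ^ 2 * (Fintype.card F - 1) ^ n := by rw [hcyc]; ring
  -- double counting
  have hcardA : Fintype.card (Fin n → Fˣ) = (Fintype.card F - 1) ^ n := by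
    rw [Fintype.card_fun, hcardU, Fintype.card_fin]
  have h1 : (Fintype.card F - 1) ^ n * ∑ τ : TSet F n n, wt τ.1 =
      ∑ τ : TSet F n n, ∑ a : Fin n → Fˣ, wt (scl a τ.1) := by
    rw [Finset.sum_comm]
    simp only [hsum_a]
    rw [Finset.sum_const, Finset.card_univ, hcardA, smul_eq_mul]
  have h2 : (Fintype.card F - 1) ^ n * ((Fintype.card F - 1) * ∑ τ : TSet F n n, wt τ.1) =
      (Fintype.card F - 1) ^ n * ∑ τ : TSet F n n, idx τ.1 ^ 2 := by
    calc (Fintype.card F - 1) ^ n * ((Fintype.card F - 1) * ∑ τ : TSet F n n, wt τ.1)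
        = (Fintype.card F - 1) * ((Fintype.card F - 1) ^ n * ∑ τ : TSet F n n, wt τ.1) := by ring
      _ = ∑ τ : TSet F n n, (Fintype.card F - 1) * ∑ a : Fin n → Fˣ, wt (scl a τ.1) := by
          rw [h1, Finset.mul_sum]
      _ = ∑ τ : TSet F n n, idx τ.1 ^ 2 * (Fintype.card F - 1) ^ n :=
          Finset.sum_congr rfl (fun τ _ => hτ τ)
      _ = (Fintype.card F - 1) ^ n * ∑ τ : TSet F n n, idx τ.1 ^ 2 := by
          rw [Finset.mul_sum]
          exact Finset.sum_congr rfl (fun τ _ => by ring)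
  exact Nat.eq_of_mul_eq_mul_left (pow_pos hQpos n) h2

end Cfsg.Agent.Lib.H10.SLK
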