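import Mathlib
import Cfsg.Agent.Lib.H4.SLKDefs
import Cfsg.Agent.Lib.H9.SLKP16
import Cfsg.Agent.Lib.H7.SLKP18
import Cfsg.Agent.Lib.H10.SLKP19of

/-!
# S2479 piece P19 (`sum_idx_eq`, UP2), exact signature (helper10)
-/

set_option autoImplicit false
open Polynomial

namespace Cfsg.Agent.Lib.H10.SLK

open Cfsg.Agent.Lib.H12.Cls Cfsg.Agent.Lib.H4.SLK

universe u v
variable {F : Type u} [Field F]

/-- UP2 -/
theorem sum_idx_eq [Fintype F] (n : ℕ) :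
    (Fintype.card F - 1) * ∑ τ : TSet F n n, wt τ.1 =
      ∑ τ : TSet F n n, idx τ.1 ^ 2 :=
  sum_idx_eq_of n
    (fun a g hg => Cfsg.Agent.Lib.H9.SLK.scl_props a g hg)
    (fun g hg => Cfsg.Agent.Lib.H9.SLK.scl_one_mul g hg)
    (fun a g hg => Cfsg.Agent.Lib.H9.SLK.Dt_scl a g hg)
    (fun g hg => Cfsg.Agent.Lib.H9.SLK.Dt_eq_chi g hg)
    (fun inst s w c => @Cfsg.Agent.Lib.H7.SLK.card_fiber_prod_pow Fˣ _ inst _ n s w c)

end Cfsg.Agent.Lib.H10.SLK
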