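import Mathlib
import Cfsg.Agent.Lib.H4.SLKDefs

/-!
# S2479 piece P22 (`sum_idx_sq_le`, UP3), version with the inputs as hypotheses (helper10)
-/

set_option autoImplicit false
open Polynomial

namespace Cfsg.Agent.Lib.H10.SLK

open Cfsg.Agent.Lib.H12.Cls Cfsg.Agent.Lib.H4.SLK

universe u
variable {F : Type u} [Field F]

/-- UP3 from IDXDVD and INJ. -/
theorem sum_idx_sq_le_of [Fintype F] (n : ℕ)
    (h_dvd : ∀ τ : TSet F n n, idx τ.1 ∣ Nat.gcd n (Fintype.card F - 1))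
    (h_card : ∀ m : ℕ, 1 ≤ m →
      Nat.card {τ : TSet F n n // m ∣ dg τ.1} ≤ Nat.card (TSet F (n / m) (n / m))) :
    ∑ τ : TSet F n n, idx τ.1 ^ 2 ≤ Rn (Fintype.card F - 1) n := by
  classical
  have hQpos : 0 < Fintype.card F - 1 := by
    have : 1 < Fintype.card F := Fintype.one_lt_card
    omega
  have hgpos : 0 < Nat.gcd n (Fintype.card F - 1) := Nat.gcd_pos_of_pos_right _ hQpos
  have hmemdiv : ∀ τ : TSet F n n, idx τ.1 ∈ Nat.divisors (Nat.gcd n (Fintype.card F - 1)) :=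
    fun τ => Nat.mem_divisors.mpr ⟨h_dvd τ, hgpos.ne'⟩
  have hipos : ∀ τ : TSet F n n, 1 ≤ idx τ.1 ^ 2 := fun τ =>
    Nat.one_le_pow _ _ (Nat.pos_of_mem_divisors (hmemdiv τ))
  have h1 : ∑ τ : TSet F n n, idx τ.1 ^ 2 =
      Fintype.card (TSet F n n) + ∑ τ : TSet F n n, (idx τ.1 ^ 2 - 1) := by
    rw [← Finset.card_univ, Finset.card_eq_sum_ones, ← Finset.sum_add_distrib]
    exact Finset.sum_congr rfl (fun τ _ => by have := hipos τ; omega)
  unfold Rn
  rw [h1, card_TSet]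
  refine Nat.add_le_add_left ?_ _
  rw [← Finset.sum_fiberwise_of_maps_to (s := Finset.univ)
    (t := Nat.divisors (Nat.gcd n (Fintype.card F - 1))) (g := fun τ : TSet F n n => idx τ.1)
    (fun τ _ => hmemdiv τ)]
  have h1mem : 1 ∈ Nat.divisors (Nat.gcd n (Fintype.card F - 1)) :=
    Nat.mem_divisors.mpr ⟨one_dvd _, hgpos.ne'⟩
  rw [← Finset.add_sum_erase _ _ h1mem]
  have hzero : ∑ τ ∈ Finset.univ.filter (fun τ : TSet F n n => idx τ.1 = 1),
      (idx τ.1 ^ 2 - 1) = 0 := by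
    refine Finset.sum_eq_zero ?_
    intro τ hτ
    rw [(Finset.mem_filter.mp hτ).2]
    norm_num
  rw [hzero, zero_add]
  refine Finset.sum_le_sum ?_
  intro m hm
  have hm1 : 1 ≤ m := Nat.pos_of_mem_divisors (Finset.mem_of_mem_erase hm)
  have hsum : ∑ τ ∈ Finset.univ.filter (fun τ : TSet F n n => idx τ.1 = m), (idx τ.1 ^ 2 - 1) =
      (Finset.univ.filter (fun τ : TSet F n n => idx τ.1 = m)).card * (m ^ 2 - 1) := by
    rw [Finset.card_eq_sum_ones, Finset.sum_mul]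
    refine Finset.sum_congr rfl ?_
    intro τ hτ
    rw [(Finset.mem_filter.mp hτ).2, one_mul]
  rw [hsum, mul_comm]
  refine Nat.mul_le_mul_left _ ?_
  have hsub : Finset.univ.filter (fun τ : TSet F n n => idx τ.1 = m) ⊆
      Finset.univ.filter (fun τ : TSet F n n => m ∣ dg τ.1) := by
    intro τ hτ
    rw [Finset.mem_filter] at hτ ⊢
    refine ⟨hτ.1, ?_⟩
    rw [← hτ.2]
    exact Nat.gcd_dvd_right _ _
  have hc := h_card m hm1
  rw [Nat.card_eq_fintype_card, Nat.card_eq_fintype_card, Fintype.card_subtype, card_TSet] at hc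
  exact (Finset.card_le_card hsub).trans hc

end Cfsg.Agent.Lib.H10.SLK
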