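/-
S5778 piece E6b: the model computation over `F_25 = F_5[t]`, `t^2 = 2`, on Nat codes (`a + b t` coded `a + 5 b`).
Pure `Nat` arithmetic, all checks by kernel evaluation.
-/
import Mathlib

set_option autoImplicit false

namespace Cfsg.Agent.Lib.H10.SU3.M25

/-- addition of codes. -/
def addN (x y : ℕ) : ℕ := (x % 5 + y % 5) % 5 + 5 * ((x / 5 + y / 5) % 5)
/-- multiplication of codes (`t^2 = 2`). -/
def mulN (x y : ℕ) : ℕ :=
  ((x % 5) * (y % 5) + 2 * ((x / 5) * (y / 5))) % 5 + 5 * (((x % 5) * (y / 5) + (x / 5) * (y % 5)) % 5)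
/-- negation of codes. -/
def negN (x : ℕ) : ℕ := (5 - x % 5) % 5 + 5 * ((5 - (x / 5) % 5) % 5)
/-- subtraction of codes. -/
def subN (x y : ℕ) : ℕ := addN x (negN y)
/-- the Frobenius `x ↦ x^5` on codes (`t ↦ -t`). -/
def conjN (x : ℕ) : ℕ := x % 5 + 5 * ((5 - (x / 5) % 5) % 5)
/-- the code represents a non-zero element. -/
def nz (x : ℕ) : Bool := (x % 5 != 0) || ((x / 5) % 5 != 0)
/-- inverses (table). -/
def invN (x : ℕ) : ℕ :=
  [0, 1, 3, 2, 4, 15, 9, 11, 14, 6, 20, 7, 17, 18, 8, 5, 22, 12, 13, 23, 10, 24, 16, 19, 21].getD x 0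

abbrev V3 := ℕ × ℕ × ℕ
abbrev M3 := V3 × V3 × V3

/-- evaluation forcing (the kernel evaluates `n` to a literal before continuing); equal to `k n`. -/
def forceN {α : Type} (n : ℕ) (k : ℕ → α) : α := Nat.rec (k 0) (fun m _ => k (m + 1)) n
theorem forceN_eq {α : Type} (n : ℕ) (k : ℕ → α) : forceN n k = k n := by cases n <;> rfl
def forceV {α : Type} (v : V3) (k : V3 → α) : α :=
  forceN v.1 fun a => forceN v.2.1 fun b => forceN v.2.2 fun c => k (a, b, c)
theorem forceV_eq {α : Type} (v : V3) (k : V3 → α) : forceV v k = k v := by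
  simp only [forceV, forceN_eq]
def forceM {α : Type} (A : M3) (k : M3 → α) : α :=
  forceV A.1 fun a => forceV A.2.1 fun b => forceV A.2.2 fun c => k (a, b, c)
theorem forceM_eq {α : Type} (A : M3) (k : M3 → α) : forceM A k = k A := by
  simp only [forceM, forceV_eq]

def dotN (u v : V3) : ℕ := addN (addN (mulN u.1 v.1) (mulN u.2.1 v.2.1)) (mulN u.2.2 v.2.2)
def mvN (A : M3) (v : V3) : V3 := (dotN A.1 v, dotN A.2.1 v, dotN A.2.2 v)
def smulN (c : ℕ) (v : V3) : V3 := (mulN c v.1, mulN c v.2.1, mulN c v.2.2)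
def conjV (v : V3) : V3 := (conjN v.1, conjN v.2.1, conjN v.2.2)
def hermN (u v : V3) : ℕ := dotN u (conjV v)
/-- the transpose: the columns as rows. -/
def trN (A : M3) : M3 :=
  ((A.1.1, A.2.1.1, A.2.2.1), (A.1.2.1, A.2.1.2.1, A.2.2.2.1), (A.1.2.2, A.2.1.2.2, A.2.2.2.2))
def rowMul (r : V3) (Bt : M3) : V3 := (dotN r Bt.1, dotN r Bt.2.1, dotN r Bt.2.2)
def mmN (A B : M3) : M3 := (rowMul A.1 (trN B), rowMul A.2.1 (trN B), rowMul A.2.2 (trN B))
/-- the matrix with columns `u v w`. -/
def colsN (u v w : V3) : M3 := trN (u, v, w)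
def addV (u v : V3) : V3 := (addN u.1 v.1, addN u.2.1 v.2.1, addN u.2.2 v.2.2)
def addM (A B : M3) : M3 := (addV A.1 B.1, addV A.2.1 B.2.1, addV A.2.2 B.2.2)
def crossN (u v : V3) : V3 :=
  (subN (mulN u.2.1 v.2.2) (mulN u.2.2 v.2.1), subN (mulN u.2.2 v.1) (mulN u.1 v.2.2),
    subN (mulN u.1 v.2.1) (mulN u.2.1 v.1))
def detN (A : M3) : ℕ := dotN (crossN A.1 A.2.1) A.2.2
def nzV (v : V3) : Bool := nz v.1 || nz v.2.1 || nz v.2.2
/-- conjugate transpose. -/
def ctN (A : M3) : M3 := (conjV (trN A).1, conjV (trN A).2.1, conjV (trN A).2.2)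
def outerN (p r : V3) : M3 := (smulN p.1 r, smulN p.2.1 r, smulN p.2.2 r)
def I3 : M3 := ((1,0,0),(0,1,0),(0,0,1))
/-- `1 + A + A^2`. -/
def piN (A : M3) : M3 := addM I3 (addM A (mmN A A))
/-- the row of `P` at the first coordinate of `p` which is `1` (for normalised `p`). -/
def projRow (P : M3) (p : V3) : V3 := if p.1 == 1 then P.1 else if p.2.1 == 1 then P.2.1 else P.2.2
/-- some entry differs (as field elements). -/
def diffM (A B : M3) : Bool :=
  nzV (addV A.1 (smulN 4 B.1)) || nzV (addV A.2.1 (smulN 4 B.2.1)) || nzV (addV A.2.2 (smulN 4 B.2.2))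

def Xc : M3 := ((1,0,0),(0,12,0),(0,0,17))
def Yc : M3 := ((0,0,1),(1,0,0),(0,1,0))
def Rlist : List M3 := [((1,0,0),(0,1,0),(0,0,1)), ((0,0,1),(1,0,0),(0,1,0)), ((0,1,0),(0,0,1),(1,0,0)), ((1,0,0),(0,12,0),(0,0,17)), ((0,0,1),(12,0,0),(0,17,0)), ((0,1,0),(0,0,12),(17,0,0)), ((1,0,0),(0,17,0),(0,0,12)), ((0,0,1),(17,0,0),(0,12,0)), ((0,1,0),(0,0,17),(12,0,0)), ((12,0,0),(0,12,0),(0,0,12)), ((0,0,12),(12,0,0),(0,12,0)), ((0,12,0),(0,0,12),(12,0,0)), ((12,0,0),(0,17,0),(0,0,1)), ((0,0,12),(17,0,0),(0,1,0)), ((0,12,0),(0,0,17),(1,0,0)), ((12,0,0),(0,1,0),(0,0,17)), ((0,0,12),(1,0,0),(0,17,0)), ((0,12,0),(0,0,1),(17,0,0)), ((17,0,0),(0,17,0),(0,0,17)), ((0,0,17),(17,0,0),(0,17,0)), ((0,17,0),(0,0,17),(17,0,0)), ((17,0,0),(0,1,0),(0,0,12)), ((0,0,17),(1,0,0),(0,12,0)), ((0,17,0),(0,0,1),(12,0,0)), ((17,0,0),(0,12,0),(0,0,1)), ((0,0,17),(12,0,0),(0,1,0)), ((0,17,0),(0,0,12),(1,0,0))]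
def L12 : List V3 := [(0,0,1), (0,1,0), (1,0,0), (1,1,1), (1,1,12), (1,1,17), (1,12,1), (1,12,12), (1,12,17), (1,17,1), (1,17,12), (1,17,17)]
def S36 : List V3 := [(1,1,5), (1,1,14), (1,1,19), (1,1,20), (1,5,1), (1,5,12), (1,7,8), (1,7,15), (1,8,7), (1,8,8), (1,10,10), (1,10,22), (1,11,12), (1,11,17), (1,12,5), (1,12,11), (1,12,16), (1,12,19), (1,14,1), (1,14,17), (1,15,7), (1,15,15), (1,16,12), (1,16,17), (1,17,11), (1,17,14), (1,17,16), (1,17,20), (1,19,1), (1,19,12), (1,20,1), (1,20,17), (1,22,10), (1,22,23), (1,23,22), (1,23,23)]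
def hc : M3 := ((0,5,5),(20,2,3),(20,3,2))
def g0c : M3 := ((0,0,1),(0,1,0),(4,0,0))
def q0 : V3 := (1,1,5)

/-- `g` maps every point of `S36` to a point of `S36` (all have first coordinate `1`). -/
def stabN (g : M3) : Bool :=
  forceM g fun g => S36.all fun q =>
    forceV (mvN g q) fun u => forceV (smulN (invN u.1) u) fun q' =>
    nz u.1 && S36.contains q' && (smulN u.1 q' == u)

/-- the candidate `[v | B v | B² v]`. -/
def candN (B : M3) (v : V3) : M3 := colsN v (mvN B v) (mvN B (mvN B v))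

/-- closure of `Rlist` under products, cubes are `1`. -/
def chkClosure : Bool :=
  Rlist.all fun A => (mmN A (mmN A A) == I3) && Rlist.all fun B => Rlist.contains (mmN A B)
/-- the projector `1 + A + A²` has rank one, with image spanned by a point of `L12`. -/
def chkProj : Bool :=
  Rlist.all fun A => (A == I3) || L12.any fun p => piN A == outerN p (projRow (piN A) p)
/-- the main check at one of the 12 points. -/
def chkMainAt (p : V3) : Bool :=
  (List.range 25).all fun c =>
    forceV (smulN c p) fun v =>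
    nz (subN (hermN v v) 1) || Rlist.all fun B => forceM (candN B v) fun g => nz (subN (detN g) 1) || stabN g
/-- the main check: the 216 candidates stabilise `S36`. -/
def chkMain : Bool := L12.all chkMainAt
/-- `hc` is unitary of determinant one, stabilises `S36`, and does not normalise `Rlist`. -/
def chkH : Bool :=
  (mmN (ctN hc) hc == I3) && (mmN hc hc == I3) && (detN hc == 1) && stabN hc &&
    Rlist.all fun A => diffM (mmN (mmN hc Xc) hc) A
/-- `g0c` is unitary of determinant one and moves `q0` out of `S36`. -/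
def chkG0 : Bool :=
  (mmN (ctN g0c) g0c == I3) && (mmN g0c (ctN g0c) == I3) && (detN g0c == 1) && S36.contains q0 &&
    S36.all fun q' => nzV (crossN (mvN g0c q0) q')

set_option maxRecDepth 100000 in
theorem chkClosure_eq : chkClosure = true := by decide +kernel
set_option maxRecDepth 100000 in
theorem chkProj_eq : chkProj = true := by decide +kernel
set_option maxRecDepth 100000 in
theorem chkH_eq : chkH = true := by decide +kernel
set_option maxRecDepth 100000 in
theorem chkG0_eq : chkG0 = true := by decide +kernel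
set_option maxRecDepth 100000 in
theorem chkMain_0 : chkMainAt (0,0,1) = true := by decide +kernel
set_option maxRecDepth 100000 in
theorem chkMain_1 : chkMainAt (0,1,0) = true := by decide +kernel
set_option maxRecDepth 100000 in
theorem chkMain_2 : chkMainAt (1,0,0) = true := by decide +kernel
set_option maxRecDepth 100000 in
theorem chkMain_3 : chkMainAt (1,1,1) = true := by decide +kernel
set_option maxRecDepth 100000 in
theorem chkMain_4 : chkMainAt (1,1,12) = true := by decide +kernel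
set_option maxRecDepth 100000 in
theorem chkMain_5 : chkMainAt (1,1,17) = true := by decide +kernel
set_option maxRecDepth 100000 in
theorem chkMain_6 : chkMainAt (1,12,1) = true := by decide +kernel
set_option maxRecDepth 100000 in
theorem chkMain_7 : chkMainAt (1,12,12) = true := by decide +kernel
set_option maxRecDepth 100000 in
theorem chkMain_8 : chkMainAt (1,12,17) = true := by decide +kernel
set_option maxRecDepth 100000 in
theorem chkMain_9 : chkMainAt (1,17,1) = true := by decide +kernel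
set_option maxRecDepth 100000 in
theorem chkMain_10 : chkMainAt (1,17,12) = true := by decide +kernel
set_option maxRecDepth 100000 in
theorem chkMain_11 : chkMainAt (1,17,17) = true := by decide +kernel
theorem chkMain_eq : chkMain = true := by
  simp only [chkMain, L12, List.all_cons, List.all_nil, chkMain_0, chkMain_1, chkMain_2, chkMain_3, chkMain_4, chkMain_5, chkMain_6, chkMain_7, chkMain_8, chkMain_9, chkMain_10, chkMain_11, Bool.and_self]

end Cfsg.Agent.Lib.H10.SU3.M25
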