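/-
S5778 piece E6b: decoding the Nat codes of `SU3E6Model` into a field `F` with 25 elements (`t * t = 2`), bridging lemmas.
-/
import Cfsg.Agent.Lib.H10.SU3E6Model

set_option autoImplicit false

namespace Cfsg.Agent.Lib.H10.SU3.M25

open scoped Matrix

variable {F : Type*} [Field F] [CharP F 5]

/-- the element `a + b t` coded by `a + 5 b`. -/
def dec (t : F) (x : ℕ) : F := ((x % 5 : ℕ) : F) + ((x / 5 : ℕ) : F) * t

omit [CharP F 5] in
lemma five_eq_zero [CharP F 5] : (5 : F) = 0 := by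
  have := CharP.cast_eq_zero F 5
  exact_mod_cast this

lemma cast_mod5 (n : ℕ) : ((n % 5 : ℕ) : F) = (n : F) := by
  conv_rhs => rw [← Nat.mod_add_div n 5]
  push_cast
  rw [five_eq_zero (F := F)]
  ring

lemma dec_code (t : F) (a b : ℕ) : dec t (a % 5 + 5 * (b % 5)) = (a : F) + (b : F) * t := by
  unfold dec
  have h1 : (a % 5 + 5 * (b % 5)) % 5 = a % 5 := by omega
  have h2 : (a % 5 + 5 * (b % 5)) / 5 = b % 5 := by omega
  rw [h1, h2, cast_mod5, cast_mod5]

lemma dec_add (t : F) (x y : ℕ) : dec t (addN x y) = dec t x + dec t y := by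
  unfold addN
  rw [dec_code]
  unfold dec
  push_cast
  ring

lemma dec_mul (t : F) (ht : t * t = 2) (x y : ℕ) : dec t (mulN x y) = dec t x * dec t y := by
  unfold mulN
  rw [dec_code]
  unfold dec
  push_cast
  linear_combination (-((x / 5 : ℕ) : F) * ((y / 5 : ℕ) : F)) * ht

lemma dec_neg (t : F) (x : ℕ) : dec t (negN x) = - dec t x := by
  unfold negN
  rw [dec_code]
  unfold dec
  have h1 : x % 5 ≤ 5 := by omega
  have h2 : (x / 5) % 5 ≤ 5 := by omega
  rw [Nat.cast_sub h1, Nat.cast_sub h2, cast_mod5 (x / 5)]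
  push_cast
  linear_combination (1 + t) * five_eq_zero (F := F)

lemma dec_sub (t : F) (x y : ℕ) : dec t (subN x y) = dec t x - dec t y := by
  unfold subN
  rw [dec_add, dec_neg, sub_eq_add_neg]

omit [CharP F 5] in
@[simp] lemma dec_zero (t : F) : dec t 0 = 0 := by simp [dec]
omit [CharP F 5] in
@[simp] lemma dec_one (t : F) : dec t 1 = 1 := by simp [dec]
lemma dec_four (t : F) : dec t 4 = -1 := by
  simp only [dec]
  norm_num
  linear_combination five_eq_zero (F := F)

lemma natCast_pow_five (k : ℕ) (hk : k < 5) : ((k : ℕ) : F) ^ 5 = (k : F) := by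
  have h5 := five_eq_zero (F := F)
  interval_cases k
  · simp
  · simp
  · push_cast; linear_combination 6 * h5
  · push_cast; linear_combination 48 * h5
  · push_cast; linear_combination 204 * h5

lemma dec_conj (t : F) (ht : t * t = 2) (x : ℕ) : dec t (conjN x) = dec t x ^ 5 := by
  haveI : Fact (Nat.Prime 5) := ⟨by norm_num⟩
  unfold conjN
  rw [dec_code]
  unfold dec
  have h2 : (x / 5) % 5 ≤ 5 := by omega
  have ht5 : t ^ 5 = - t := by
    have : t ^ 5 = t * (t * t) * (t * t) := by ring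
    rw [this, ht]
    linear_combination t * five_eq_zero (F := F)
  rw [add_pow_char, mul_pow, ht5, natCast_pow_five _ (Nat.mod_lt _ (by norm_num)), ← cast_mod5 (x / 5),
    natCast_pow_five _ (Nat.mod_lt _ (by norm_num)), Nat.cast_sub h2, cast_mod5 x]
  push_cast
  linear_combination t * five_eq_zero (F := F)

lemma dec_eq_zero (t : F) (ht : t * t = 2) {x : ℕ} (h : dec t x = 0) : nz x = false := by
  have h' : ((x % 5 : ℕ) : F) + (((x / 5) % 5 : ℕ) : F) * t = 0 := by
    rw [cast_mod5 (x / 5)]; exact h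
  have hd : ((((x % 5) * (x % 5) + 3 * (((x / 5) % 5) * ((x / 5) % 5)) : ℕ)) : F) = 0 := by
    push_cast
    linear_combination (((x % 5 : ℕ) : F) - (((x / 5) % 5 : ℕ) : F) * t) * h'
      + (((x / 5) % 5 : ℕ) : F) * (((x / 5) % 5 : ℕ) : F) * ht
      + (((x / 5) % 5 : ℕ) : F) * (((x / 5) % 5 : ℕ) : F) * five_eq_zero (F := F)
  rw [CharP.cast_eq_zero_iff F 5] at hd
  have ha : x % 5 < 5 := Nat.mod_lt _ (by norm_num)
  have hb : (x / 5) % 5 < 5 := Nat.mod_lt _ (by norm_num)
  have key : ∀ a < 5, ∀ b < 5, 5 ∣ a * a + 3 * (b * b) → a = 0 ∧ b = 0 := by decide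
  obtain ⟨h1, h2⟩ := key _ ha _ hb hd
  simp [nz, h1, h2]

lemma dec_inj (t : F) (ht : t * t = 2) {x y : ℕ} (hx : x < 25) (hy : y < 25) (h : dec t x = dec t y) : x = y := by
  have h0 : dec t (subN x y) = 0 := by rw [dec_sub, h, sub_self]
  have h1 := dec_eq_zero t ht h0
  simp only [nz, Bool.or_eq_false_iff, bne_eq_false_iff_eq] at h1
  unfold subN addN negN at h1
  omega

lemma dec_surj [Fintype F] (hF : Fintype.card F = 25) (t : F) (ht : t * t = 2) (z : F) :
    ∃ x, x < 25 ∧ dec t x = z := by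
  have hinj : Function.Injective (fun i : Fin 25 => dec t (i : ℕ)) := by
    intro i j h
    exact Fin.ext (dec_inj t ht i.2 j.2 h)
  have hbij : Function.Bijective (fun i : Fin 25 => dec t (i : ℕ)) := by
    rw [Fintype.bijective_iff_injective_and_card]
    exact ⟨hinj, by simp [hF]⟩
  obtain ⟨i, hi⟩ := hbij.2 z
  exact ⟨i, i.2, hi⟩

end Cfsg.Agent.Lib.H10.SU3.M25
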