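/-
S5778 piece E6b: decoding vectors and matrices, bridging lemmas.
-/
import Cfsg.Agent.Lib.H10.SU3E6Base
import Cfsg.Prelude.Def_Classical

set_option autoImplicit false
set_option linter.unusedSectionVars false

namespace Cfsg.Agent.Lib.H10.SU3.M25

open scoped Matrix

variable {F : Type*} [Field F] [CharP F 5] (t : F) (ht : t * t = 2)

/-- the vector coded by a triple. -/
def decV (v : V3) : Fin 3 → F := ![dec t v.1, dec t v.2.1, dec t v.2.2]

/-- the matrix coded by three rows. -/
def decM (A : M3) : Matrix (Fin 3) (Fin 3) F := Matrix.of ![decV t A.1, decV t A.2.1, decV t A.2.2]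

omit [CharP F 5] in
@[simp] lemma decV_zero (v : V3) : decV t v 0 = dec t v.1 := rfl
omit [CharP F 5] in
@[simp] lemma decV_one (v : V3) : decV t v 1 = dec t v.2.1 := rfl
omit [CharP F 5] in
@[simp] lemma decV_two (v : V3) : decV t v 2 = dec t v.2.2 := rfl
omit [CharP F 5] in
@[simp] lemma decM_zero (A : M3) (j : Fin 3) : decM t A 0 j = decV t A.1 j := rfl
omit [CharP F 5] in
@[simp] lemma decM_one (A : M3) (j : Fin 3) : decM t A 1 j = decV t A.2.1 j := rfl
omit [CharP F 5] in
@[simp] lemma decM_two (A : M3) (j : Fin 3) : decM t A 2 j = decV t A.2.2 j := rfl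

include ht

lemma decV_smulN (c : ℕ) (v : V3) : decV t (smulN c v) = dec t c • decV t v := by
  ext i; fin_cases i <;> simp [smulN, dec_mul t ht]

lemma dec_dotN (u v : V3) : dec t (dotN u v) = decV t u ⬝ᵥ decV t v := by
  simp [dotN, dec_add, dec_mul t ht, dotProduct, Fin.sum_univ_three]

lemma decV_mvN (A : M3) (v : V3) : decV t (mvN A v) = decM t A *ᵥ decV t v := by
  ext i; fin_cases i <;> simp [mvN, dec_dotN t ht, Matrix.mulVec, dotProduct, Fin.sum_univ_three]

omit ht in
lemma decM_trN (A : M3) : decM t (trN A) = (decM t A)ᵀ := by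
  ext i j; fin_cases i <;> fin_cases j <;> simp [trN]

lemma decM_mmN (A B : M3) : decM t (mmN A B) = decM t A * decM t B := by
  ext i j
  fin_cases i <;> fin_cases j <;>
    simp [mmN, rowMul, trN, dec_dotN t ht, Matrix.mul_apply, dotProduct, Fin.sum_univ_three]

omit ht in
lemma decM_addM (A B : M3) : decM t (addM A B) = decM t A + decM t B := by
  ext i j; fin_cases i <;> fin_cases j <;> simp [addM, addV, dec_add]

omit ht [CharP F 5] in
lemma decM_I3 : decM t I3 = (1 : Matrix (Fin 3) (Fin 3) F) := by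
  ext i j; fin_cases i <;> fin_cases j <;> simp [I3]

lemma decM_piN (A : M3) : decM t (piN A) = 1 + decM t A + decM t A * decM t A := by
  unfold piN
  rw [decM_addM, decM_addM, decM_I3, decM_mmN t ht, add_assoc]

omit ht in
lemma decM_colsN_apply (u v w : V3) (i : Fin 3) :
    decM t (colsN u v w) i 0 = decV t u i ∧ decM t (colsN u v w) i 1 = decV t v i ∧
      decM t (colsN u v w) i 2 = decV t w i := by
  fin_cases i <;> simp [colsN, trN]

lemma dec_hermN (u v : V3) : dec t (hermN u v) = Cfsg.hermForm 3 F 5 (decV t u) (decV t v) := by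
  simp [hermN, dec_dotN t ht, conjV, dec_conj t ht, Cfsg.hermForm, dotProduct, Fin.sum_univ_three]

lemma dec_detN (A : M3) : dec t (detN A) = (decM t A).det := by
  rw [Matrix.det_fin_three]
  simp [detN, crossN, dec_dotN t ht, dec_sub, dec_mul t ht, dotProduct, Fin.sum_univ_three]
  ring

lemma decM_ctN (A : M3) : decM t (ctN A) = ((decM t A).map (fun x => x ^ 5))ᵀ := by
  ext i j; fin_cases i <;> fin_cases j <;> simp [ctN, trN, conjV, dec_conj t ht]

lemma decM_outerN_mulVec (p r : V3) (x : Fin 3 → F) :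
    decM t (outerN p r) *ᵥ x = (decV t r ⬝ᵥ x) • decV t p := by
  ext i
  fin_cases i <;>
    simp [outerN, smulN, dec_mul t ht, Matrix.mulVec, dotProduct, Fin.sum_univ_three] <;> ring

lemma decV_crossN (u v : V3) :
    decV t (crossN u v) = ![decV t u 1 * decV t v 2 - decV t u 2 * decV t v 1,
      decV t u 2 * decV t v 0 - decV t u 0 * decV t v 2, decV t u 0 * decV t v 1 - decV t u 1 * decV t v 0] := by
  ext i; fin_cases i <;> simp [crossN, dec_sub, dec_mul t ht]

end Cfsg.Agent.Lib.H10.SU3.M25
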