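/-
S5778 piece E6 (`q = 5`, `3^{1+2}:Q_8 < 3.M_10`; architect of the row: helper27): definitions and statements of the
sub-pieces (`tools/blueprints/SU3E6_sigs.lean`).  Light file.
-/
import Cfsg.Agent.Lib.H27.SU3Defs

set_option autoImplicit false

namespace Cfsg.Agent.Lib.H10.SU3

open Cfsg Cfsg.Geo Cfsg.Agent.Lib.Lead.Asch Cfsg.Agent.Lib.H27.SU3
open scoped MatrixGroups Matrix Kronecker

/-- `X = diag(1, w, w²)`. -/
def Xm {F : Type*} [Field F] (w : F) : Matrix (Fin 3) (Fin 3) F := Matrix.diagonal ![1, w, w ^ 2]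

/-- the cyclic permutation matrix, `Y e_i = e_{i+1}`. -/
def Ym {F : Type*} [Field F] : Matrix (Fin 3) (Fin 3) F := !![0, 0, 1; 1, 0, 0; 0, 1, 0]

/-- `R_std = ⟨X, Y⟩` (extraspecial `3^{1+2}` when `w` is a primitive cube root of unity). -/
def Rstd {F : Type*} [Field F] (w : F) : Subgroup (GL (Fin 3) F) :=
  Subgroup.closure {g | (g : Matrix (Fin 3) (Fin 3) F) = Xm w ∨ (g : Matrix (Fin 3) (Fin 3) F) = Ym}

/-- **E6a1** (group theory): a pair of generators in normal position. -/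
def E6a1Stmt (F : Type*) [Field F] [Fintype F] : Prop :=
  ∀ w : F, w ^ 2 + w + 1 = 0 → ∀ R : Subgroup (GL (Fin 3) F), IsSymplecticTypeGroup 3 R →
    R ≤ similarityGroup (hermForm 3 F 5) → Nat.card R = 27 → Nat.card (Subgroup.center R) = 3 →
    (∀ x ∈ R, ∀ y ∈ R, x * y * x⁻¹ * y⁻¹ ∈ scalars (Fin 3) F) →
    ∃ x y : GL (Fin 3) F, x ∈ R ∧ y ∈ R ∧ x ∈ GU 3 F 5 ∧ y ∈ GU 3 F 5 ∧ x ^ 3 = 1 ∧ y ^ 3 = 1 ∧
      (x : Matrix (Fin 3) (Fin 3) F) * (y : Matrix (Fin 3) (Fin 3) F) =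
        w • ((y : Matrix (Fin 3) (Fin 3) F) * (x : Matrix (Fin 3) (Fin 3) F)) ∧
      (∃ v : Fin 3 → F, v ≠ 0 ∧ (x : Matrix (Fin 3) (Fin 3) F) *ᵥ v = v) ∧
      R = Subgroup.closure {x, y}

/-- **E6a2** (linear algebra): the orthonormal eigenbasis `v, y v, y² v`. -/
def E6a2Stmt (F : Type*) [Field F] [Fintype F] : Prop :=
  ∀ w : F, w ^ 2 + w + 1 = 0 → ∀ x y : GL (Fin 3) F, x ∈ GU 3 F 5 → y ∈ GU 3 F 5 → x ^ 3 = 1 → y ^ 3 = 1 →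
    (x : Matrix (Fin 3) (Fin 3) F) * (y : Matrix (Fin 3) (Fin 3) F) =
        w • ((y : Matrix (Fin 3) (Fin 3) F) * (x : Matrix (Fin 3) (Fin 3) F)) →
    (∃ v : Fin 3 → F, v ≠ 0 ∧ (x : Matrix (Fin 3) (Fin 3) F) *ᵥ v = v) →
    ∃ g : GL (Fin 3) F, g ∈ GU 3 F 5 ∧
      (x : Matrix (Fin 3) (Fin 3) F) * (g : Matrix (Fin 3) (Fin 3) F) = (g : Matrix (Fin 3) (Fin 3) F) * Xm w ∧
      (y : Matrix (Fin 3) (Fin 3) F) * (g : Matrix (Fin 3) (Fin 3) F) = (g : Matrix (Fin 3) (Fin 3) F) * Ym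

/-- **E6a**: every `R` of `E6Stmt` is `GU_3(5)`-conjugate to `R_std`. -/
def E6aStmt (F : Type*) [Field F] [Fintype F] : Prop :=
  ∀ w : F, w ^ 2 + w + 1 = 0 → ∀ R : Subgroup (GL (Fin 3) F), IsSymplecticTypeGroup 3 R →
    R ≤ similarityGroup (hermForm 3 F 5) → Nat.card R = 27 → Nat.card (Subgroup.center R) = 3 →
    (∀ x ∈ R, ∀ y ∈ R, x * y * x⁻¹ * y⁻¹ ∈ scalars (Fin 3) F) →
    ∃ g : GL (Fin 3) F, g ∈ GU 3 F 5 ∧ R = (Rstd w).map (MulAut.conj g).toMonoidHom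

/-- **E6b** (model computation): `N(R_std) ∩ SU_3(5)` lies in a proper subgroup `M` (`= 3.M_10`) not normalising `R_std`. -/
def E6bStmt (F : Type*) [Field F] [Fintype F] : Prop :=
  ∃ w : F, w ^ 2 + w + 1 = 0 ∧ ∃ M : Subgroup (GL (Fin 3) F),
    subgroupNormalizer (Rstd w) ⊓ SU3 F 5 ≤ M ∧ M ≤ SU3 F 5 ∧ M ≠ SU3 F 5 ∧ ¬ M ≤ subgroupNormalizer (Rstd w)

end Cfsg.Agent.Lib.H10.SU3
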