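/-
S5778 piece E6b: `N(R_std) ∩ SU_3(5)` lies in the stabiliser `M` of 36 isotropic points, a proper subgroup not
normalising `R_std`.
-/
import Cfsg.Agent.Lib.H10.SU3E6Base2
import Cfsg.Agent.Lib.H10.SU3E6Defs

set_option autoImplicit false
set_option linter.unusedSectionVars false

namespace Cfsg.Agent.Lib.H10.SU3

open Cfsg Cfsg.Geo Cfsg.Agent.Lib.Lead.Asch Cfsg.Agent.Lib.H27.SU3 M25
open scoped MatrixGroups Matrix Kronecker

variable {F : Type*} [Field F] [CharP F 5] (t : F) (ht : t * t = 2)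

/-- the non-zero multiples of the 36 points. -/
def Sig : Set (Fin 3 → F) := {u | ∃ q ∈ S36, ∃ k : F, k ≠ 0 ∧ u = k • decV t q}

include ht

lemma dec_ne_zero {x : ℕ} (h : nz x = true) : dec t x ≠ 0 := by
  intro h0
  rw [dec_eq_zero t ht h0] at h
  exact Bool.false_ne_true h

lemma stab_sound {g : M3} (h : stabN g = true) : ∀ u ∈ Sig t, decM t g *ᵥ u ∈ Sig t := by
  rintro u ⟨q, hq, k, hk, rfl⟩
  unfold stabN at h
  rw [forceM_eq, List.all_eq_true] at h
  have h1 := h q hq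
  simp only [forceV_eq, Bool.and_eq_true, List.contains_iff_mem, beq_iff_eq] at h1
  obtain ⟨⟨h1, h2⟩, h3⟩ := h1
  refine ⟨_, h2, k * dec t (mvN g q).1, mul_ne_zero hk (dec_ne_zero t ht h1), ?_⟩
  rw [Matrix.mulVec_smul, ← decV_mvN t ht, mul_smul, ← decV_smulN t ht, h3]


omit ht in
/-- a submonoid-like subset of a finite group is closed under inverses. -/
lemma inv_mem_of_finite {G : Type*} [Group G] [Finite G] (S : Set G) (h1 : (1 : G) ∈ S)
    (hmul : ∀ a b, a ∈ S → b ∈ S → a * b ∈ S) {g : G} (hg : g ∈ S) : g⁻¹ ∈ S := by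
  have hpow : ∀ n : ℕ, g ^ n ∈ S := by
    intro n
    induction n with
    | zero => simpa using h1
    | succ n ih => rw [pow_succ]; exact hmul _ _ ih hg
  obtain ⟨n, hn, hgn⟩ := (isOfFinOrder_of_finite g).exists_pow_eq_one
  have : g⁻¹ = g ^ (n - 1) := by
    apply inv_eq_of_mul_eq_one_right
    rw [← pow_succ', Nat.sub_add_cancel hn, hgn]
  rw [this]
  exact hpow _

omit ht in
/-- the stabiliser of the 36 points in `SU_3(5)`. -/
def Mstab [Fintype F] : Subgroup (GL (Fin 3) F) where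
  carrier := {g | g ∈ SU3 F 5 ∧ ∀ u ∈ Sig t, (g : Matrix (Fin 3) (Fin 3) F) *ᵥ u ∈ Sig t}
  mul_mem' := fun {a b} ha hb => ⟨mul_mem ha.1 hb.1, fun u hu => by
    rw [Units.val_mul, ← Matrix.mulVec_mulVec]; exact ha.2 _ (hb.2 u hu)⟩
  one_mem' := ⟨one_mem _, fun u hu => by simpa using hu⟩
  inv_mem' := fun {a} ha => by
    refine inv_mem_of_finite {g | g ∈ SU3 F 5 ∧ ∀ u ∈ Sig t, (g : Matrix (Fin 3) (Fin 3) F) *ᵥ u ∈ Sig t}
      ⟨one_mem _, fun u hu => by simpa using hu⟩ ?_ ha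
    intro a b ha hb
    exact ⟨mul_mem ha.1 hb.1, fun u hu => by
      rw [Units.val_mul, ← Matrix.mulVec_mulVec]; exact ha.2 _ (hb.2 u hu)⟩

omit ht in
lemma mem_Mstab [Fintype F] {g : GL (Fin 3) F} :
    g ∈ Mstab t ↔ g ∈ SU3 F 5 ∧ ∀ u ∈ Sig t, (g : Matrix (Fin 3) (Fin 3) F) *ᵥ u ∈ Sig t := Iff.rfl

/-! ### the group `R_std` -/

lemma decM_Xc : decM t Xc = Xm (dec t 12) := by
  have h17 : dec t 17 = dec t 12 ^ 2 := by
    rw [pow_two, ← dec_mul t ht]; rfl
  ext i j
  fin_cases i <;> fin_cases j <;> simp [Xc, Xm, h17]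

omit ht in
lemma decM_Yc : decM t Yc = (Ym : Matrix (Fin 3) (Fin 3) F) := by
  ext i j
  fin_cases i <;> fin_cases j <;> simp [Yc, Ym]

lemma w_root : dec t 12 ^ 2 + dec t 12 + 1 = 0 := by
  have h17 : dec t 17 = dec t 12 ^ 2 := by
    rw [pow_two, ← dec_mul t ht]; rfl
  have h : dec t (addN (addN 17 12) 1) = 0 := by
    have : addN (addN 17 12) 1 = 0 := by decide
    rw [this, dec_zero]
  rw [dec_add, dec_add, h17, dec_one] at h
  exact h

lemma Rlist_closed {A B : M3} (hA : A ∈ Rlist) (hB : B ∈ Rlist) : mmN A B ∈ Rlist := by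
  have h := chkClosure_eq
  unfold chkClosure at h
  rw [List.all_eq_true] at h
  have h1 := h A hA
  rw [Bool.and_eq_true, List.all_eq_true] at h1
  have h2 := h1.2 B hB
  rwa [List.contains_iff_mem] at h2

lemma Rlist_cube {A : M3} (hA : A ∈ Rlist) : mmN A (mmN A A) = I3 := by
  have h := chkClosure_eq
  unfold chkClosure at h
  rw [List.all_eq_true] at h
  have h1 := h A hA
  rw [Bool.and_eq_true, beq_iff_eq] at h1
  exact h1.1

/-- every element of `R_std` is coded in `Rlist`. -/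
lemma Rstd_sub (r : GL (Fin 3) F) (hr : r ∈ Rstd (dec t 12)) :
    ∃ A ∈ Rlist, (r : Matrix (Fin 3) (Fin 3) F) = decM t A := by
  unfold Rstd at hr
  induction hr using Subgroup.closure_induction with
  | mem x hx =>
    rcases hx with hx | hx
    · exact ⟨Xc, by decide, by rw [hx, decM_Xc t ht]⟩
    · exact ⟨Yc, by decide, by rw [hx, decM_Yc]⟩
  | one => exact ⟨I3, by decide, by rw [decM_I3]; rfl⟩
  | mul x y _ _ hx hy =>
    obtain ⟨A, hA, hxA⟩ := hx
    obtain ⟨B, hB, hyB⟩ := hy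
    exact ⟨mmN A B, Rlist_closed t ht hA hB, by rw [Units.val_mul, hxA, hyB, decM_mmN t ht]⟩
  | inv x _ hx =>
    obtain ⟨A, hA, hxA⟩ := hx
    refine ⟨mmN A A, Rlist_closed t ht hA hA, ?_⟩
    have h3 : x * (x * x) = 1 := by
      apply Units.ext
      rw [Units.val_mul, Units.val_mul, hxA, ← decM_mmN t ht, ← decM_mmN t ht, Rlist_cube t ht hA, decM_I3]
      rfl
    have : x⁻¹ = x * x := inv_eq_of_mul_eq_one_right h3
    rw [this, Units.val_mul, hxA, decM_mmN t ht]


omit ht in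
lemma three_ne_zero' : (3 : F) ≠ 0 := by
  have h : ((3 : ℕ) : F) ≠ 0 := by
    rw [Ne, CharP.cast_eq_zero_iff F 5]
    norm_num
  exact_mod_cast h

/-- a fixed vector of a non-trivial element of `Rlist` is a multiple of one of the 12 points. -/
lemma proj_sound {A : M3} (hA : A ∈ Rlist) (hne : A ≠ I3) (v : Fin 3 → F) (hv : decM t A *ᵥ v = v) :
    ∃ p ∈ L12, ∃ c : F, v = c • decV t p := by
  have h := chkProj_eq
  unfold chkProj at h
  rw [List.all_eq_true] at h
  have h1 := h A hA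
  rw [Bool.or_eq_true, beq_iff_eq, List.any_eq_true] at h1
  rcases h1 with h1 | ⟨p, hp, h1⟩
  · exact absurd h1 hne
  · rw [beq_iff_eq] at h1
    obtain ⟨r, hr⟩ : ∃ r, r = projRow (piN A) p := ⟨_, rfl⟩
    rw [← hr] at h1
    refine ⟨p, hp, 3⁻¹ * (decV t r ⬝ᵥ v), ?_⟩
    have h3 : (3 : F) ≠ 0 := three_ne_zero' (F := F)
    have e1 : decM t (piN A) *ᵥ v = (3 : F) • v := by
      rw [decM_piN t ht, Matrix.add_mulVec, Matrix.add_mulVec, Matrix.one_mulVec, ← Matrix.mulVec_mulVec, hv, hv]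
      ext i
      simp only [Pi.add_apply, Pi.smul_apply, smul_eq_mul]
      ring
    have e2 : decM t (piN A) *ᵥ v = (decV t r ⬝ᵥ v) • decV t p := by
      rw [h1, decM_outerN_mulVec t ht]
    rw [mul_smul, ← e2, e1, smul_smul, inv_mul_cancel₀ h3, one_smul]

lemma main_sound {p : V3} {B : M3} {c : ℕ} (hp : p ∈ L12) (hB : B ∈ Rlist) (hc : c < 25)
    (h1 : nz (subN (hermN (smulN c p) (smulN c p)) 1) = false)
    (h2 : nz (subN (detN (candN B (smulN c p))) 1) = false) : stabN (candN B (smulN c p)) = true := by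
  have h := chkMain_eq
  unfold chkMain at h
  rw [List.all_eq_true] at h
  have h3 := h p hp
  unfold chkMainAt at h3
  rw [List.all_eq_true] at h3
  have h4 := h3 c (List.mem_range.2 hc)
  simp only [forceV_eq, h1, Bool.false_or] at h4
  rw [List.all_eq_true] at h4
  have h5 := h4 B hB
  simp only [forceM_eq, h2, Bool.false_or] at h5
  exact h5

omit ht in
/-- matrices with `M^* M = 1` preserve the hermitian form. -/
lemma herm_pres (M : Matrix (Fin 3) (Fin 3) F) (H : (M.map (fun x => x ^ 5))ᵀ * M = 1) (u v : Fin 3 → F) :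
    hermForm 3 F 5 (M *ᵥ u) (M *ᵥ v) = hermForm 3 F 5 u v := by
  have hp5 : Fact (Nat.Prime 5) := ⟨by norm_num⟩
  have E : ∀ k j : Fin 3, M 0 k ^ 5 * M 0 j + M 1 k ^ 5 * M 1 j + M 2 k ^ 5 * M 2 j =
      (1 : Matrix (Fin 3) (Fin 3) F) k j := by
    intro k j
    have := congrFun (congrFun H k) j
    simpa [Matrix.mul_apply, Fin.sum_univ_three] using this
  have h00 := E 0 0; have h01 := E 0 1; have h02 := E 0 2
  have h10 := E 1 0; have h11 := E 1 1; have h12 := E 1 2
  have h20 := E 2 0; have h21 := E 2 1; have h22 := E 2 2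
  simp only [Matrix.one_apply_eq, ne_eq, Fin.reduceEq, not_false_eq_true, Matrix.one_apply_ne, Fin.isValue]
    at h00 h01 h02 h10 h11 h12 h20 h21 h22
  simp only [hermForm, Matrix.mulVec, dotProduct, Fin.sum_univ_three, add_pow_char, mul_pow]
  linear_combination (u 0 * v 0 ^ 5) * h00 + (u 1 * v 0 ^ 5) * h01 + (u 2 * v 0 ^ 5) * h02 +
    (u 0 * v 1 ^ 5) * h10 + (u 1 * v 1 ^ 5) * h11 + (u 2 * v 1 ^ 5) * h12 +
    (u 0 * v 2 ^ 5) * h20 + (u 1 * v 2 ^ 5) * h21 + (u 2 * v 2 ^ 5) * h22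

/-- a coded unitary matrix of determinant one lies in `SU_3(5)`. -/
lemma mem_SU3_of_code [Fintype F] (G : GL (Fin 3) F) (A : M3) (hG : (G : Matrix (Fin 3) (Fin 3) F) = decM t A)
    (h1 : mmN (ctN A) A = I3) (h2 : detN A = 1) : G ∈ SU3 F 5 := by
  refine ⟨?_, ?_⟩
  · intro u v
    change hermForm 3 F 5 ((G : Matrix (Fin 3) (Fin 3) F) *ᵥ u) ((G : Matrix (Fin 3) (Fin 3) F) *ᵥ v) = _
    rw [hG]
    apply herm_pres
    rw [← decM_ctN t ht, ← decM_mmN t ht, h1, decM_I3]
  · show Matrix.GeneralLinearGroup.det G = 1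
    apply Units.ext
    rw [Matrix.GeneralLinearGroup.val_det_apply, hG, ← dec_detN t ht, h2, dec_one]
    rfl


/-- the generator `X` as an element of `GL`. -/
noncomputable def XG : GL (Fin 3) F :=
  ⟨decM t Xc, decM t (mmN Xc Xc),
    by rw [← decM_mmN t ht, Rlist_cube t ht (by decide : Xc ∈ Rlist), decM_I3],
    by rw [← decM_mmN t ht, (by decide : mmN (mmN Xc Xc) Xc = I3), decM_I3]⟩

/-- the generator `Y` as an element of `GL`. -/
noncomputable def YG : GL (Fin 3) F :=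
  ⟨decM t Yc, decM t (mmN Yc Yc),
    by rw [← decM_mmN t ht, Rlist_cube t ht (by decide : Yc ∈ Rlist), decM_I3],
    by rw [← decM_mmN t ht, (by decide : mmN (mmN Yc Yc) Yc = I3), decM_I3]⟩

lemma XG_mem : XG t ht ∈ Rstd (dec t 12) :=
  Subgroup.subset_closure (Or.inl (decM_Xc t ht))

lemma YG_mem : YG t ht ∈ Rstd (dec t 12) :=
  Subgroup.subset_closure (Or.inr (decM_Yc t))

omit ht in
lemma mulVec_e (M : Matrix (Fin 3) (Fin 3) F) (i : Fin 3) :
    (M *ᵥ decV t (1, 0, 0)) i = M i 0 ∧ (M *ᵥ decV t (0, 1, 0)) i = M i 1 ∧ (M *ᵥ decV t (0, 0, 1)) i = M i 2 := by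
  simp [Matrix.mulVec, dotProduct, Fin.sum_univ_three]

/-- the main inclusion `N(R_std) ∩ SU_3(5) ≤ M`. -/
lemma main_incl [Fintype F] (hF : Fintype.card F = 25) (g : GL (Fin 3) F)
    (hgN : g ∈ subgroupNormalizer (Rstd (dec t 12))) (hgS : g ∈ SU3 F 5) : g ∈ Mstab t := by
  unfold subgroupNormalizer at hgN
  have hX := (Subgroup.mem_normalizer_iff.1 hgN (XG t ht)).1 (XG_mem t ht)
  have hY := (Subgroup.mem_normalizer_iff.1 hgN (YG t ht)).1 (YG_mem t ht)
  obtain ⟨A, hA, hXA⟩ := Rstd_sub t ht _ hX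
  obtain ⟨B, hB, hYB⟩ := Rstd_sub t ht _ hY
  -- relations as matrices
  have hgX : (g : Matrix (Fin 3) (Fin 3) F) * decM t Xc = decM t A * (g : Matrix (Fin 3) (Fin 3) F) := by
    rw [← hXA, ← Units.val_mul, inv_mul_cancel_right]
    rfl
  have hgY : (g : Matrix (Fin 3) (Fin 3) F) * decM t Yc = decM t B * (g : Matrix (Fin 3) (Fin 3) F) := by
    rw [← hYB, ← Units.val_mul, inv_mul_cancel_right]
    rfl
  -- A is not the identity
  have hne : A ≠ I3 := by
    intro h
    rw [h, decM_I3] at hgX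
    have h1 : decM t Xc = (1 : Matrix (Fin 3) (Fin 3) F) := by
      have := congrArg (fun M => ((g⁻¹ : GL (Fin 3) F) : Matrix (Fin 3) (Fin 3) F) * M) hgX
      simp only [Matrix.one_mul] at this
      rwa [← Matrix.mul_assoc, ← Units.val_mul, inv_mul_cancel, Units.val_one, Matrix.one_mul] at this
    have h2 := congrFun (congrFun h1 1) 1
    simp only [decM_one, decV_one, Matrix.one_apply_eq] at h2
    have h3 : dec t (subN 12 1) = 0 := by
      rw [dec_sub, dec_one]
      have : dec t (Xc.2.1.2.1) = dec t 12 := rfl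
      rw [← this, h2, sub_self]
    have := dec_eq_zero t ht h3
    revert this
    decide
  -- the first column
  set v : Fin 3 → F := (g : Matrix (Fin 3) (Fin 3) F) *ᵥ decV t (1, 0, 0) with hv
  have hAv : decM t A *ᵥ v = v := by
    rw [hv, Matrix.mulVec_mulVec, ← hgX, ← Matrix.mulVec_mulVec, ← decV_mvN t ht]
    rfl
  obtain ⟨p, hp, c, hvc⟩ := proj_sound t ht hA hne v hAv
  obtain ⟨c', hc', rfl⟩ := dec_surj hF t ht c
  rw [← decV_smulN t ht] at hvc
  have hv1 : (g : Matrix (Fin 3) (Fin 3) F) *ᵥ decV t (0, 1, 0) = decV t (mvN B (smulN c' p)) := by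
    have : decV t (0, 1, 0) = decM t Yc *ᵥ decV t (1, 0, 0) := by
      rw [← decV_mvN t ht]; rfl
    rw [this, Matrix.mulVec_mulVec, hgY, ← Matrix.mulVec_mulVec, ← hv, hvc, ← decV_mvN t ht]
  have hv2 : (g : Matrix (Fin 3) (Fin 3) F) *ᵥ decV t (0, 0, 1) = decV t (mvN B (mvN B (smulN c' p))) := by
    have : decV t (0, 0, 1) = decM t Yc *ᵥ decV t (0, 1, 0) := by
      rw [← decV_mvN t ht]; rfl
    rw [this, Matrix.mulVec_mulVec, hgY, ← Matrix.mulVec_mulVec, hv1, ← decV_mvN t ht]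
  -- g is the coded candidate
  have hg : (g : Matrix (Fin 3) (Fin 3) F) = decM t (candN B (smulN c' p)) := by
    ext i j
    obtain ⟨e0, e1, e2⟩ := mulVec_e t (g : Matrix (Fin 3) (Fin 3) F) i
    obtain ⟨f0, f1, f2⟩ := decM_colsN_apply t (smulN c' p) (mvN B (smulN c' p)) (mvN B (mvN B (smulN c' p))) i
    unfold candN
    fin_cases j
    · exact (e0.symm.trans (by rw [← hv, hvc])).trans f0.symm
    · exact (e1.symm.trans (by rw [hv1])).trans f1.symm
    · exact (e2.symm.trans (by rw [hv2])).trans f2.symm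
  -- norm and determinant
  have h1 : nz (subN (hermN (smulN c' p) (smulN c' p)) 1) = false := by
    apply dec_eq_zero t ht
    rw [dec_sub, dec_one, dec_hermN t ht, ← hvc, hv]
    have := hgS.1 (decV t (1, 0, 0)) (decV t (1, 0, 0))
    change hermForm 3 F 5 ((g : Matrix (Fin 3) (Fin 3) F) *ᵥ _) ((g : Matrix (Fin 3) (Fin 3) F) *ᵥ _) = _ at this
    rw [this]
    simp [hermForm, Fin.sum_univ_three]
  have h2 : nz (subN (detN (candN B (smulN c' p))) 1) = false := by
    apply dec_eq_zero t ht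
    rw [dec_sub, dec_one, dec_detN t ht, ← hg]
    have hd : Matrix.GeneralLinearGroup.det g = 1 := hgS.2
    have := congrArg Units.val hd
    rw [Matrix.GeneralLinearGroup.val_det_apply] at this
    rw [this]
    simp
  have h3 := main_sound t ht hp hB hc' h1 h2
  refine ⟨hgS, ?_⟩
  rw [hg]
  exact stab_sound t ht h3


/-! ### the element `h ∈ M` which does not normalise `R_std` -/

lemma chkH_parts : mmN (ctN hc) hc = I3 ∧ mmN hc hc = I3 ∧ detN hc = 1 ∧ stabN hc = true ∧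
    ∀ A ∈ Rlist, diffM (mmN (mmN hc Xc) hc) A = true := by
  have h := chkH_eq
  unfold chkH at h
  simp only [Bool.and_eq_true, beq_iff_eq, List.all_eq_true] at h
  obtain ⟨⟨⟨⟨h1, h2⟩, h3⟩, h4⟩, h5⟩ := h
  exact ⟨h1, h2, h3, h4, h5⟩

/-- `h` as an element of `GL` (an involution). -/
noncomputable def hG : GL (Fin 3) F :=
  ⟨decM t hc, decM t hc,
    by rw [← decM_mmN t ht, (chkH_parts t ht).2.1, decM_I3],
    by rw [← decM_mmN t ht, (chkH_parts t ht).2.1, decM_I3]⟩

lemma diff_sound {C A : M3} (h : diffM C A = true) : decM t C ≠ decM t A := by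
  intro heq
  have key : ∀ c a : ℕ, dec t c = dec t a → nz (addN c (mulN 4 a)) = false := by
    intro c a h
    apply dec_eq_zero t ht
    rw [dec_add, dec_mul t ht, dec_four, h]
    ring
  have e : ∀ i j, decM t C i j = decM t A i j := fun i j => by rw [heq]
  have e00 := e 0 0; have e01 := e 0 1; have e02 := e 0 2
  have e10 := e 1 0; have e11 := e 1 1; have e12 := e 1 2
  have e20 := e 2 0; have e21 := e 2 1; have e22 := e 2 2
  simp only [decM_zero, decM_one, decM_two, decV_zero, decV_one, decV_two] at e00 e01 e02 e10 e11 e12 e20 e21 e22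
  have : diffM C A = false := by
    simp only [diffM, nzV, addV, smulN, key _ _ e00, key _ _ e01, key _ _ e02, key _ _ e10, key _ _ e11,
      key _ _ e12, key _ _ e20, key _ _ e21, key _ _ e22, Bool.or_self]
  rw [this] at h
  exact Bool.false_ne_true h

lemma hG_mem [Fintype F] : hG t ht ∈ Mstab t := by
  obtain ⟨h1, _, h3, h4, _⟩ := chkH_parts t ht
  exact ⟨mem_SU3_of_code t ht (hG t ht) hc rfl h1 h3, stab_sound t ht h4⟩

lemma hG_not_mem : hG t ht ∉ subgroupNormalizer (Rstd (dec t 12)) := by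
  intro hN
  unfold subgroupNormalizer at hN
  have hX := (Subgroup.mem_normalizer_iff.1 hN (XG t ht)).1 (XG_mem t ht)
  obtain ⟨A, hA, hXA⟩ := Rstd_sub t ht _ hX
  have h5 := (chkH_parts t ht).2.2.2.2 A hA
  apply diff_sound t ht h5
  rw [← hXA, decM_mmN t ht, decM_mmN t ht]
  rfl

/-! ### the element `g₀ ∈ SU_3(5)` outside `M` -/

lemma chkG0_parts : mmN (ctN g0c) g0c = I3 ∧ mmN g0c (ctN g0c) = I3 ∧ detN g0c = 1 ∧ q0 ∈ S36 ∧
    ∀ q' ∈ S36, nzV (crossN (mvN g0c q0) q') = true := by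
  have h := chkG0_eq
  unfold chkG0 at h
  simp only [Bool.and_eq_true, beq_iff_eq, List.all_eq_true, List.contains_iff_mem] at h
  obtain ⟨⟨⟨⟨h1, h2⟩, h3⟩, h4⟩, h5⟩ := h
  exact ⟨h1, h2, h3, h4, h5⟩

/-- `g₀` as an element of `GL`. -/
noncomputable def g0G : GL (Fin 3) F :=
  ⟨decM t g0c, decM t (ctN g0c),
    by rw [← decM_mmN t ht, (chkG0_parts t ht).2.1, decM_I3],
    by rw [← decM_mmN t ht, (chkG0_parts t ht).1, decM_I3]⟩

lemma cross_sound {u q' : V3} {k : F} (h : decV t u = k • decV t q') : nzV (crossN u q') = false := by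
  have hc := decV_crossN t ht u q'
  have h0 : decV t u 0 = k * decV t q' 0 := by rw [h]; rfl
  have h1 : decV t u 1 = k * decV t q' 1 := by rw [h]; rfl
  have h2 : decV t u 2 = k * decV t q' 2 := by rw [h]; rfl
  have c0 : nz (crossN u q').1 = false := by
    apply dec_eq_zero t ht
    have := congrFun hc 0
    simp only [decV_zero, Matrix.cons_val_zero] at this
    rw [this, h1, h2]; ring
  have c1 : nz (crossN u q').2.1 = false := by
    apply dec_eq_zero t ht
    have := congrFun hc 1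
    simp only [decV_one, Matrix.cons_val_one, Matrix.cons_val_zero] at this
    rw [this, h0, h2]; ring
  have c2 : nz (crossN u q').2.2 = false := by
    apply dec_eq_zero t ht
    have := congrFun hc 2
    simp only [decV_two, Matrix.cons_val_two, Matrix.tail_cons, Matrix.head_cons] at this
    rw [this, h0, h1]; ring
  simp [nzV, c0, c1, c2]

lemma g0G_mem [Fintype F] : g0G t ht ∈ SU3 F 5 := by
  obtain ⟨h1, _, h3, _, _⟩ := chkG0_parts t ht
  exact mem_SU3_of_code t ht (g0G t ht) g0c rfl h1 h3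

lemma g0G_not_mem [Fintype F] : g0G t ht ∉ Mstab t := by
  intro hM
  obtain ⟨_, _, _, h4, h5⟩ := chkG0_parts t ht
  have hq : decV t q0 ∈ Sig t := ⟨q0, h4, 1, one_ne_zero, by rw [one_smul]⟩
  obtain ⟨q', hq', k, _, hk⟩ := hM.2 _ hq
  have : ((g0G t ht : GL (Fin 3) F) : Matrix (Fin 3) (Fin 3) F) = decM t g0c := rfl
  rw [this, ← decV_mvN t ht] at hk
  have := cross_sound t ht hk
  rw [h5 q' hq'] at this
  exact Bool.false_ne_true this.symm


end Cfsg.Agent.Lib.H10.SU3

namespace Cfsg.Agent.Lib.H10.SU3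

open Cfsg Cfsg.Geo Cfsg.Agent.Lib.Lead.Asch Cfsg.Agent.Lib.H27.SU3 M25
open scoped MatrixGroups Matrix Kronecker

variable {F : Type*} [Field F] [Fintype F]

theorem e6b_charP (hF : Fintype.card F = 5 ^ 2) : CharP F 5 := by
  obtain ⟨r, hr⟩ := CharP.exists F
  have := hr
  have hprime : r.Prime := by
    rcases CharP.char_is_prime_or_zero F r with h | h
    · exact h
    · exfalso
      subst h
      haveI : CharZero F := CharP.charP_to_charZero F
      exact not_injective_infinite_finite (fun n : ℕ => (n : F)) Nat.cast_injective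
  have h0 : ((5 ^ 2 : ℕ) : F) = 0 := by
    rw [← hF]; exact FiniteField.cast_card_eq_zero F
  have hdvd : r ∣ 5 ^ 2 := (CharP.cast_eq_zero_iff F r _).1 h0
  have hrp : r ∣ 5 := hprime.dvd_of_dvd_pow hdvd
  have : r = 5 := (Nat.prime_dvd_prime_iff_eq hprime (by norm_num)).1 hrp
  subst this
  exact hr

theorem e6b_exists_t (hF : Fintype.card F = 5 ^ 2) : ∃ t : F, t * t = 2 := by
  haveI := e6b_charP hF
  have h5 : (5 : F) = 0 := M25.five_eq_zero
  have h2 : (2 : F) ≠ 0 := by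
    intro h
    have : (1 : F) = 0 := by linear_combination h5 - 2 * h
    exact one_ne_zero this
  have hch : ringChar F ≠ 2 := by
    rw [ringChar.eq F 5]; norm_num
  have hsq : IsSquare (2 : F) := by
    rw [FiniteField.isSquare_iff hch h2, hF]
    norm_num
    linear_combination 819 * h5
  obtain ⟨r, hr⟩ := hsq
  exact ⟨r, hr.symm⟩

/-- **E6b**: `N(R_std) ∩ SU_3(5)` lies in a proper subgroup `M` of `SU_3(5)` which does not normalise `R_std`. -/
theorem e6b (hF : Fintype.card F = 5 ^ 2) : E6bStmt F := by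
  haveI := e6b_charP hF
  obtain ⟨t, ht⟩ := e6b_exists_t hF
  refine ⟨dec t 12, w_root t ht, Mstab t, ?_, ?_, ?_, ?_⟩
  · intro g hg
    exact main_incl t ht (by rw [hF]; norm_num) g hg.1 hg.2
  · intro g hg
    exact hg.1
  · intro h
    apply g0G_not_mem t ht
    rw [h]
    exact g0G_mem t ht
  · intro h
    exact hG_not_mem t ht (h (hG_mem t ht))

end Cfsg.Agent.Lib.H10.SU3
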