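/-
S5778 piece **E6** (`q = 5`, `3^{1+2}:Q_8 < 3.M_10`): assembly of e6a1 (helper3), e6a2 (helper18), e6b (helper10).
-/
import Cfsg.Agent.Lib.H10.SU3E6b
import Cfsg.Agent.Lib.H3.SU3E6a1
import Cfsg.Agent.Lib.H18.SU3E6a2

set_option autoImplicit false

namespace Cfsg.Agent.Lib.H10.SU3

open Cfsg Cfsg.Geo Cfsg.Agent.Lib.Lead.Asch Cfsg.Agent.Lib.H27.SU3
open scoped MatrixGroups Matrix Kronecker

variable {F : Type*} [Field F] [Fintype F]

/-- assembly of E6a. -/
theorem e6a_of (h1 : E6a1Stmt F) (h2 : E6a2Stmt F) : E6aStmt F := by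
  intro w hw R hsym hsim hcard hcen hcomm
  obtain ⟨x, y, hxR, hyR, hxU, hyU, hx3, hy3, hrel, hv, hR⟩ := h1 w hw R hsym hsim hcard hcen hcomm
  obtain ⟨g, hgU, hgx, hgy⟩ := h2 w hw x y hxU hyU hx3 hy3 hrel hv
  refine ⟨g, hgU, ?_⟩
  have hx' : ((g⁻¹ * x * g : GL (Fin 3) F) : Matrix (Fin 3) (Fin 3) F) = Xm w := by
    rw [Units.val_mul, Units.val_mul, Matrix.mul_assoc, hgx, ← Matrix.mul_assoc, ← Units.val_mul,
      inv_mul_cancel, Units.val_one, Matrix.one_mul]
  have hy' : ((g⁻¹ * y * g : GL (Fin 3) F) : Matrix (Fin 3) (Fin 3) F) = Ym := by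
    rw [Units.val_mul, Units.val_mul, Matrix.mul_assoc, hgy, ← Matrix.mul_assoc, ← Units.val_mul,
      inv_mul_cancel, Units.val_one, Matrix.one_mul]
  have hset : {h : GL (Fin 3) F | (h : Matrix (Fin 3) (Fin 3) F) = Xm w ∨ (h : Matrix (Fin 3) (Fin 3) F) = Ym}
      = {g⁻¹ * x * g, g⁻¹ * y * g} := by
    ext h
    simp only [Set.mem_insert_iff, Set.mem_singleton_iff]
    constructor
    · rintro (hh | hh)
      · left; exact Units.ext (hh.trans hx'.symm)
      · right; exact Units.ext (hh.trans hy'.symm)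
    · rintro (rfl | rfl)
      · left; exact hx'
      · right; exact hy'
  rw [hR, Rstd, hset, MonoidHom.map_closure]
  congr 1
  ext h
  simp only [Set.mem_insert_iff, Set.mem_singleton_iff, Set.mem_image, MulEquiv.coe_toMonoidHom,
    MulAut.conj_apply, exists_eq_or_imp, exists_eq_left]
  constructor
  · rintro (rfl | rfl)
    · left; group
    · right; group
  · rintro (h | h)
    · left; rw [← h]; group
    · right; rw [← h]; group

theorem e6_of (ha : E6aStmt F) (hb : E6bStmt F) : E6Stmt F := by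
  intro R hsym _ hsim hcard hcen hcomm hmax
  obtain ⟨w, hw, M, hNM, hMS, hMne, hMN⟩ := hb
  obtain ⟨g, hgU, hR⟩ := ha w hw R hsym hsim hcard hcen hcomm
  set c : GL (Fin 3) F →* GL (Fin 3) F := (MulAut.conj g).toMonoidHom with hc
  have hcinj : Function.Injective c := (MulAut.conj g).injective
  -- SU3 is normalised by g
  have hSU : (SU3 F 5).map c = SU3 F 5 := by
    have hle : ∀ k : GL (Fin 3) F, k ∈ GU 3 F 5 → (SU3 F 5).map (MulAut.conj k).toMonoidHom ≤ SU3 F 5 := by
      intro k hk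
      rintro _ ⟨s, hs, rfl⟩
      refine ⟨(GU 3 F 5).mul_mem ((GU 3 F 5).mul_mem hk hs.1) ((GU 3 F 5).inv_mem hk), ?_⟩
      have hs2 : Matrix.GeneralLinearGroup.det s = 1 := hs.2
      show Matrix.GeneralLinearGroup.det (k * s * k⁻¹) = 1
      rw [map_mul, map_mul, hs2, mul_one, map_inv, mul_inv_cancel]
    apply le_antisymm (hle g hgU)
    intro s hs
    have := hle g⁻¹ ((GU 3 F 5).inv_mem hgU) (Subgroup.mem_map_of_mem _ hs)
    refine ⟨_, this, ?_⟩
    simp only [MulEquiv.coe_toMonoidHom, MulAut.conj_apply, inv_inv]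
    group
  have hN : subgroupNormalizer R = (subgroupNormalizer (Rstd w)).map c := by
    unfold subgroupNormalizer
    rw [hR]
    exact (Subgroup.map_equiv_normalizer_eq (Rstd w) (MulAut.conj g)).symm
  have hH : subgroupNormalizer R ⊓ SU3 F 5 = (subgroupNormalizer (Rstd w) ⊓ SU3 F 5).map c := by
    rw [Subgroup.map_inf _ _ c hcinj, hSU, hN]
  obtain ⟨_, hmax2⟩ := hmax
  rcases hmax2 (M.map c) (by rw [hH]; exact Subgroup.map_mono hNM)
      (by rw [← hSU]; exact Subgroup.map_mono hMS) with h | h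
  · rw [hH] at h
    have := Subgroup.map_injective hcinj h
    exact hMN (this ▸ inf_le_left)
  · rw [← hSU] at h
    exact hMne (Subgroup.map_injective hcinj h)

/-- **E6** (`q = 5`): the normaliser of `3^{1+2}` is not maximal (it lies in `3.M_10`). -/
theorem e6 (hF : Fintype.card F = 5 ^ 2) : E6Stmt F :=
  e6_of (e6a_of (Cfsg.Agent.Lib.H3.SU3.e6a1 hF) (Cfsg.Agent.Lib.H18.SU3.e6a2 hF)) (e6b hF)

end Cfsg.Agent.Lib.H10.SU3
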