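import Mathlib

/-!
# S2112 piece K0CARD: the values of a central, biadditive, torus-invariant pairing on the field of order 8
generate a group of order at most 4 and exponent at most 2.
-/

set_option autoImplicit false

namespace Cfsg.Agent.Lib.H10.SZ8

/-- **K0CARD** (abstract): the values of a central, biadditive, torus-invariant pairing with `δ 1 1 = 1` on
the field of order 8 generate a group of order `≤ 4` and exponent `≤ 2`. -/
theorem card_closure_le_four {F : Type*} [Field F] [Fintype F] [CharP F 2] (hF : Fintype.card F = 8)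
    {Γ : Type*} [Group Γ] (δ : F → F → Γ) (hcen : ∀ x y, δ x y ∈ Subgroup.center Γ)
    (hadd₁ : ∀ x x' y, δ (x + x') y = δ x y * δ x' y)
    (hadd₂ : ∀ x y y', δ x (y + y') = δ x y * δ x y')
    (hinv : ∀ k : F, k ≠ 0 → ∀ x y, δ (k * x) (k * k ^ 4 * y) = δ x y)
    (hself : δ 1 1 = 1) :
    Nat.card (Subgroup.closure {z : Γ | ∃ x y : F, z = δ x y}) ≤ 4 ∧
      ∀ z ∈ Subgroup.closure {z : Γ | ∃ x y : F, z = δ x y}, z * z = 1 := by
  classical
  -- the additive character `Ψ t = δ 1 t`
  let Ψ : Multiplicative F →* Γ :=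
    MonoidHom.mk' (fun t => δ 1 (Multiplicative.toAdd t)) (fun a b => by
      simpa using hadd₂ 1 (Multiplicative.toAdd a) (Multiplicative.toAdd b))
  have hΨ : ∀ t : F, Ψ (Multiplicative.ofAdd t) = δ 1 t := fun t => rfl
  have hzero : ∀ y, δ 0 y = 1 := by
    intro y
    have h := hadd₁ 0 0 y
    rw [add_zero] at h
    exact (mul_eq_left.mp h.symm)
  have hval : ∀ x y, δ x y ∈ Ψ.range := by
    intro x y
    by_cases hx : x = 0
    · subst hx
      rw [hzero]
      exact Ψ.range.one_mem
    · have hk : x * x ^ 4 ≠ 0 := mul_ne_zero hx (pow_ne_zero _ hx)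
      refine ⟨Multiplicative.ofAdd ((x * x ^ 4)⁻¹ * y), ?_⟩
      rw [hΨ]
      have h := hinv x hx 1 ((x * x ^ 4)⁻¹ * y)
      rw [mul_one, ← mul_assoc, mul_inv_cancel₀ hk, one_mul] at h
      exact h.symm
  have hcl : Subgroup.closure {z : Γ | ∃ x y : F, z = δ x y} = Ψ.range := by
    apply le_antisymm
    · rw [Subgroup.closure_le]
      rintro z ⟨x, y, rfl⟩
      exact hval x y
    · rintro z ⟨t, rfl⟩
      apply Subgroup.subset_closure
      exact ⟨1, Multiplicative.toAdd t, rfl⟩
  rw [hcl]
  constructor
  · -- cardinality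
    have hcardF : Nat.card (Multiplicative F) = 8 := by
      rw [Nat.card_eq_fintype_card]
      simpa using hF
    have h1 : Nat.card (Multiplicative F ⧸ Ψ.ker) = Nat.card Ψ.range :=
      Nat.card_congr (QuotientGroup.quotientKerEquivRange Ψ).toEquiv
    have h2 : Nat.card (Multiplicative F) = Nat.card (Multiplicative F ⧸ Ψ.ker) * Nat.card Ψ.ker :=
      Subgroup.card_eq_card_quotient_mul_card_subgroup Ψ.ker
    have h3 : 1 < Nat.card Ψ.ker := by
      rw [Subgroup.one_lt_card_iff_ne_bot]
      intro hbot
      have hmem : Multiplicative.ofAdd (1 : F) ∈ Ψ.ker := by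
        rw [MonoidHom.mem_ker, hΨ]
        exact hself
      rw [hbot, Subgroup.mem_bot] at hmem
      have : (1 : F) = 0 := by
        have := congrArg Multiplicative.toAdd hmem
        simp at this
      exact one_ne_zero this
    rw [hcardF, h1] at h2
    nlinarith
  · rintro z ⟨t, rfl⟩
    rw [← map_mul]
    have : t * t = 1 := by
      have h : Multiplicative.toAdd t + Multiplicative.toAdd t = 0 := CharTwo.add_self_eq_zero _
      have := congrArg Multiplicative.ofAdd h
      simpa using this
    rw [this, map_one]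

end Cfsg.Agent.Lib.H10.SZ8
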