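import Mathlib
import Cfsg.Prelude.Def_LocalEven
import Cfsg.Agent.Lib.H10.SecMain
import Cfsg.Agent.Lib.H10.PStableQuot
import Cfsg.Agent.Lib.H10.KInfCritical

/-! A functor whose value at the Sylow subgroups of every `p`-constrained section is normal there
controls strong fusion; `p`-stability in the normalizer form passes to subgroups; the K-infinity
subgroups are normal in `p`-constrained groups all of whose quotients are `p`-stable (helper10). -/

set_option autoImplicit false

namespace Cfsg.Agent.Lib.H10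

open Cfsg

universe u

/-- a chain for a single functor ends in the normalizer -/
theorem mem_normalizer_of_FC_single {H : Type u} [Group H] {W₀ : Subgroup H → Subgroup H}
    {X T : Subgroup H} {A : Set H} {c : H} (h : FC {W₀} X T A c) :
    c ∈ Subgroup.normalizer ((W₀ T : Subgroup H) : Set H) := by
  induction h with
  | nil A _ => exact Subgroup.one_mem _
  | cons A e g W hW he _ _ ih =>
    have hW' : W = W₀ := hW
    rw [hW'] at he
    exact Subgroup.mul_mem _ he.2 ih

/-- If `W(T)` is normal in `H` for every `p`-constrained section `H` of `G` and every Sylow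
`p`-subgroup `T` of `H`, then `W(S)` controls strong fusion in `G`. -/
theorem controlsStrongFusion_of_normal_in_constrained_sections {G : Type u} [Group G] [Finite G]
    {p : ℕ} [hp : Fact p.Prime] (W : ∀ (Q : Type u) [Group Q], Subgroup Q)
    (hW : IsCharPFunctor.{u} p W)
    (hloc : ∀ (H : Type u) [Group H] [Finite H], IsSec G H →
      Subgroup.centralizer ((pCore p H : Subgroup H) : Set H) ≤ pCore p H →
      ∀ T : Sylow p H, (inducedFunctor (G := H) W (T : Subgroup H)).Normal)
    (S : Sylow p G) : ControlsStrongFusion p (inducedFunctor (G := G) W (S : Subgroup G)) := by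
  have hW1 : ∀ W' ∈ ({W} : Set (∀ (Q : Type u) [Group Q], Subgroup Q)), IsCharPFunctor.{u} p W' := by
    intro W' hW'
    rw [Set.mem_singleton_iff.1 hW']
    exact hW
  have hIF : ∀ (H : Type u) [Group H], IF {W} H = {inducedFunctor (G := H) W} := by
    intro H _
    unfold IF
    rw [Set.image_singleton]
  have hloc' : ∀ (H : Type u) [Group H], IsSec G H →
      Subgroup.centralizer ((pCore p H : Subgroup H) : Set H) ≤ pCore p H →
      FamilyControlsStrongFusionIn p (IF {W} H) ⊤ := by
    intro H _ hsec hcon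
    have : Finite H := hsec.finite
    have T₀ : Sylow p H := default
    apply familyControls_of_ctlF T₀.2 T₀.not_dvd_index
    intro A g hA hAg
    have hn := hloc H hsec hcon T₀
    refine GoodF.single (W := inducedFunctor W) ⟨W, rfl, rfl⟩ ?_ hA hAg
    rw [Subgroup.normalizer_eq_top]
    exact Subgroup.mem_top g
  have hmain := familyControls_of_constrained_sections G {W} hW1 hloc' _ G rfl isSec_self
  have hctl : CtlF (IF {W} G) (S : Subgroup G) :=
    ctlF_of_familyControls (isConjugacyFunctor_of_mem_IF hW1) hmain S.2 S.not_dvd_index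
  refine ⟨S, Subgroup.map_subtype_le _, ?_⟩
  intro A hA
  refine ⟨hA, ?_⟩
  intro g hg
  have hAg : rconj g⁻¹ A ⊆ ((S : Subgroup G) : Set G) := by
    rintro _ ⟨a, ha, rfl⟩
    have := hg ⟨a, ha, rfl⟩
    simpa using this
  obtain ⟨c, hc, hca⟩ := hctl A g⁻¹ hA hAg
  rw [hIF] at hc
  have hcN := mem_normalizer_of_FC_single hc
  refine ⟨c⁻¹, Subgroup.inv_mem _ hcN, ?_⟩
  intro a ha
  have := hca a ha
  rw [inv_inv] at this ⊢
  exact this.symm

/-- `p`-stability in the normalizer form passes to subgroups (along injective homomorphisms) -/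
theorem isNormalizerPStable_of_injective {H₁ H₂ : Type*} [Group H₁] [Group H₂] {p : ℕ}
    [Fact p.Prime]
    (e : H₁ →* H₂) (he : Function.Injective e) (h : IsNormalizerPStable p H₂) :
    IsNormalizerPStable p H₁ := by
  intro P hP g hg hquad
  have hP' : IsPGroup p ↥(P.map e) := hP.map e
  have hnorm : ∀ x ∈ Subgroup.normalizer ((P : Subgroup H₁) : Set H₁),
      e x ∈ Subgroup.normalizer ((P.map e : Subgroup H₂) : Set H₂) := by
    intro x hx
    exact Subgroup.le_normalizer_map e ⟨x, hx, rfl⟩
  have hquad' : ⁅⁅P.map e, Subgroup.zpowers (e g)⁆, Subgroup.zpowers (e g)⁆ = ⊥ := by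
    rw [← MonoidHom.map_zpowers, ← Subgroup.map_commutator, ← Subgroup.map_commutator, hquad,
      Subgroup.map_bot]
  have hmem := h (P.map e) hP' (e g) (hnorm g hg) hquad'
  set N₁ := Subgroup.normalizer ((P : Subgroup H₁) : Set H₁) with hN₁
  set C₁ := (Subgroup.centralizer ((P : Subgroup H₁) : Set H₁)).subgroupOf N₁ with hC₁
  set N₂ := Subgroup.normalizer ((P.map e : Subgroup H₂) : Set H₂) with hN₂
  set C₂ := (Subgroup.centralizer ((P.map e : Subgroup H₂) : Set H₂)).subgroupOf N₂ with hC₂
  let θ : ↥N₁ →* ↥N₂ := (e.comp N₁.subtype).codRestrict N₂ (fun x => hnorm x x.2)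
  let f : ↥N₁ →* ↥N₂ ⧸ C₂ := (QuotientGroup.mk' C₂).comp θ
  have hker : C₁ ≤ f.ker := by
    intro x hx
    rw [MonoidHom.mem_ker]
    show QuotientGroup.mk' C₂ (θ x) = 1
    rw [QuotientGroup.mk'_apply, QuotientGroup.eq_one_iff, hC₂, Subgroup.mem_subgroupOf]
    rw [hC₁, Subgroup.mem_subgroupOf] at hx
    show e (x : H₁) ∈ Subgroup.centralizer ((P.map e : Subgroup H₂) : Set H₂)
    rw [Subgroup.mem_centralizer_iff]
    rintro _ ⟨y, hy, rfl⟩
    rw [← map_mul, ← map_mul, Subgroup.mem_centralizer_iff.mp hx y hy]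
  let f' : ↥N₁ ⧸ C₁ →* ↥N₂ ⧸ C₂ := QuotientGroup.lift C₁ f hker
  have hinj : Function.Injective f' := by
    rw [injective_iff_map_eq_one]
    intro q hq
    induction q using QuotientGroup.induction_on with
    | H x =>
    have h1 : QuotientGroup.mk' C₂ (θ x) = 1 := hq
    rw [QuotientGroup.mk'_apply, QuotientGroup.eq_one_iff, hC₂, Subgroup.mem_subgroupOf] at h1
    have h2 : e (x : H₁) ∈ Subgroup.centralizer ((P.map e : Subgroup H₂) : Set H₂) := h1
    rw [QuotientGroup.eq_one_iff, hC₁, Subgroup.mem_subgroupOf, Subgroup.mem_centralizer_iff]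
    intro y hy
    apply he
    rw [map_mul, map_mul]
    exact Subgroup.mem_centralizer_iff.mp h2 (e y) ⟨y, hy, rfl⟩
  set X := (pCore p (↥N₂ ⧸ C₂)).comap f' with hX
  have hXn : X.Normal := (H1.pCore_normal p _).comap f'
  have hXp : IsPGroup p ↥X := (H1.pCore_isPGroup p _).comap_of_injective f' hinj
  have hle : X ≤ pCore p (↥N₁ ⧸ C₁) := H1.le_pCore hXn hXp
  apply hle
  exact hmem

/-- **Glauberman**: in a `p`-constrained group all of whose quotients are `p`-stable in the
normalizer form, the K-infinity subgroups of a Sylow `p`-subgroup are normal. -/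
theorem kInf_normal_of_pstable_quotients {H : Type u} [Group H] [Finite H] {p : ℕ}
    [hp : Fact p.Prime]
    (hcon : Subgroup.centralizer ((pCore p H : Subgroup H) : Set H) ≤ pCore p H)
    (hst : ∀ (V : Subgroup H) [V.Normal], IsNormalizerPStable p (H ⧸ V)) (T : Sylow p H) :
    (inducedFunctor kInfLower (T : Subgroup H)).Normal ∧
      (inducedFunctor kInfUpper (T : Subgroup H)).Normal := by
  by_contra hnot
  have hK : ¬ (inducedFunctor kInfLower (T : Subgroup H)).Normal ∨
      ¬ (inducedFunctor kInfUpper (T : Subgroup H)).Normal := not_and_or.mp hnot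
  obtain ⟨A, hAn, hAT, -, hA2, hA3, hA4⟩ := exists_critical_pCore H p
  have := hAn
  have hA5 := coprime_aut_trivial_of_critical A hAT hA4
  obtain ⟨g, -, -, -, -, U, V, hUV, hUA, hq, hn⟩ :=
    exists_goodElt_of_not_normal T A hAT hA2 hA3 hA4 hA5 hcon hK
  have hVn : V.Normal := hUV.2.2.1
  exact not_isNormalizerPStable_of_quadratic hUV
    ((H1.pCore_isPGroup p H).to_le (hUA.trans hAT)) g hq hn (hst V)

/-- the sections form: all sections of `G` are `p`-stable in the normalizer form -/
theorem kInf_normal_of_pstable_sections {G : Type u} [Group G] [Finite G] {p : ℕ}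
    [hp : Fact p.Prime]
    (hst : ∀ (K R : Subgroup G) [(R.subgroupOf K).Normal],
      IsNormalizerPStable p (↥K ⧸ R.subgroupOf K))
    (H : Type u) [Group H] [Finite H] (hsec : IsSec G H)
    (hcon : Subgroup.centralizer ((pCore p H : Subgroup H) : Set H) ≤ pCore p H) (T : Sylow p H) :
    (inducedFunctor kInfLower (T : Subgroup H)).Normal ∧
      (inducedFunctor kInfUpper (T : Subgroup H)).Normal := by
  apply kInf_normal_of_pstable_quotients hcon _ T
  intro V hVn
  obtain ⟨K, R, _, ⟨ε⟩⟩ := (hsec.quotient V).exists_equiv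
  exact isNormalizerPStable_of_injective ε.symm.toMonoidHom ε.symm.injective (hst K R)

end Cfsg.Agent.Lib.H10
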