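import Mathlib
import Cfsg.Agent.Lib.H10.SfC

/-!
# Subfield subgroups of `SL_n(F)` (part E): the action on a two-dimensional quotient
-/

set_option autoImplicit false
set_option linter.unusedSectionVars false
set_option linter.unusedVariables false

namespace Cfsg.Agent.Lib.H10.Sf

open Matrix Cfsg.Agent.Lib.H6.TransvCent Cfsg.Agent.Lib.H6.TransvSL

variable {F : Type*} [Field F] {n : ℕ}

section LR

variable (Lm : Matrix (Fin n) (Fin 2) F) (Rm : Matrix (Fin 2) (Fin n) F)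

/-- the projection onto the kernel of `Rm` along the image of `Lm` -/
def EE : Matrix (Fin n) (Fin n) F := 1 - Lm * Rm

theorem R_mul_EE (hRL : Rm * Lm = 1) : Rm * EE Lm Rm = 0 := by
  unfold EE
  rw [Matrix.mul_sub, Matrix.mul_one, ← Matrix.mul_assoc, hRL, Matrix.one_mul, sub_self]

theorem EE_mul_L (hRL : Rm * Lm = 1) : EE Lm Rm * Lm = 0 := by
  unfold EE
  rw [Matrix.sub_mul, Matrix.one_mul, Matrix.mul_assoc, hRL, Matrix.mul_one, sub_self]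

theorem decomp (g : Matrix (Fin n) (Fin n) F) (hg : g * EE Lm Rm = EE Lm Rm) :
    g = g * Lm * Rm + EE Lm Rm := by
  have h1 : g * EE Lm Rm = g - g * Lm * Rm := by
    unfold EE
    rw [Matrix.mul_sub, Matrix.mul_one, ← Matrix.mul_assoc]
  rw [h1] at hg
  rw [← hg]
  abel

theorem rho_mul (hRL : Rm * Lm = 1) (g h : Matrix (Fin n) (Fin n) F)
    (hg : g * EE Lm Rm = EE Lm Rm) :
    Rm * (g * h) * Lm = (Rm * g * Lm) * (Rm * h * Lm) := by
  have h0 : Rm * (EE Lm Rm * h) * Lm = 0 := by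
    rw [← Matrix.mul_assoc, R_mul_EE _ _ hRL, Matrix.zero_mul, Matrix.zero_mul]
  calc Rm * (g * h) * Lm = Rm * ((g * Lm * Rm + EE Lm Rm) * h) * Lm := by rw [← decomp Lm Rm g hg]
    _ = Rm * (g * Lm * Rm * h) * Lm + Rm * (EE Lm Rm * h) * Lm := by
        rw [Matrix.add_mul, Matrix.mul_add, Matrix.add_mul]
    _ = (Rm * g * Lm) * (Rm * h * Lm) := by
        rw [h0, add_zero]
        simp only [Matrix.mul_assoc]

/-- the induced subgroup of `SL₂(F)` -/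
def Lsub (H : Subgroup (Matrix.SpecialLinearGroup (Fin n) F)) (hRL : Rm * Lm = 1) :
    Subgroup (Matrix.SpecialLinearGroup (Fin 2) F) where
  carrier := {A | ∃ g ∈ H, g.1 * EE Lm Rm = EE Lm Rm ∧ Rm * g.1 * Lm = A.1}
  one_mem' := by
    refine ⟨1, H.one_mem, ?_, ?_⟩
    · rw [val_one', Matrix.one_mul]
    · rw [val_one', Matrix.mul_one, hRL]; rfl
  mul_mem' := by
    rintro A B ⟨g, hg, hgE, hgA⟩ ⟨h, hh, hhE, hhB⟩
    refine ⟨g * h, H.mul_mem hg hh, ?_, ?_⟩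
    · rw [val_mul', Matrix.mul_assoc, hhE, hgE]
    · rw [val_mul', rho_mul Lm Rm hRL _ _ hgE, hgA, hhB]; rfl
  inv_mem' := by
    rintro A ⟨g, hg, hgE, hgA⟩
    have hiE : (g⁻¹).1 * EE Lm Rm = EE Lm Rm := by
      calc (g⁻¹).1 * EE Lm Rm = (g⁻¹).1 * (g.1 * EE Lm Rm) := by rw [hgE]
        _ = EE Lm Rm := by rw [← Matrix.mul_assoc, val_inv_mul, Matrix.one_mul]
    refine ⟨g⁻¹, H.inv_mem hg, hiE, ?_⟩
    have h1 : (Rm * (g⁻¹).1 * Lm) * (Rm * g.1 * Lm) = 1 := by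
      rw [← rho_mul Lm Rm hRL _ _ hiE, val_inv_mul, Matrix.mul_one, hRL]
    rw [hgA] at h1
    calc Rm * (g⁻¹).1 * Lm = Rm * (g⁻¹).1 * Lm * (A.1 * (A⁻¹).1) := by
          rw [val_mul_inv, Matrix.mul_one]
      _ = (A⁻¹).1 := by rw [← Matrix.mul_assoc, h1, Matrix.one_mul]

variable {Lm Rm}

theorem mem_Lsub {H : Subgroup (Matrix.SpecialLinearGroup (Fin n) F)} {hRL : Rm * Lm = 1}
    {A : Matrix.SpecialLinearGroup (Fin 2) F} :
    A ∈ Lsub Lm Rm H hRL ↔ ∃ g ∈ H, g.1 * EE Lm Rm = EE Lm Rm ∧ Rm * g.1 * Lm = A.1 := Iff.rfl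

/-- transvections whose covector comes from `Rm` map into `Lsub` -/
theorem mem_Lsub_of_tv {H : Subgroup (Matrix.SpecialLinearGroup (Fin n) F)} (hRL : Rm * Lm = 1)
    {a b : Fin n → F} (c : Fin 2 → F) (hb : b = c ᵥ* Rm) (h : Tv H a b)
    (A : Matrix.SpecialLinearGroup (Fin 2) F) (hA : A.1 = 1 + vecMulVec (Rm *ᵥ a) c) :
    A ∈ Lsub Lm Rm H hRL := by
  obtain ⟨t, ht, htv⟩ := h
  refine ⟨t, ht, ?_, ?_⟩
  · have : b ᵥ* EE Lm Rm = 0 := by
      rw [hb, vecMul_vecMul, R_mul_EE _ _ hRL, vecMul_zero]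
    rw [htv, Matrix.add_mul, Matrix.one_mul, vecMulVec_mul, this, vecMulVec_zero, add_zero]
  · have : b ᵥ* Lm = c := by
      rw [hb, vecMul_vecMul, hRL, vecMul_one]
    rw [htv, Matrix.mul_add, Matrix.add_mul, Matrix.mul_one, hRL, mul_vecMulVec, vecMulVec_mul,
      this, hA]

/-- row action of a lift -/
theorem vecMul_lift (hRL : Rm * Lm = 1) {z : Matrix (Fin n) (Fin n) F}
    (hz : z * EE Lm Rm = EE Lm Rm) (c : Fin 2 → F) :
    (c ᵥ* Rm) ᵥ* z = (c ᵥ* (Rm * z * Lm)) ᵥ* Rm := by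
  conv_lhs => rw [decomp Lm Rm z hz]
  rw [Matrix.vecMul_add, vecMul_vecMul, vecMul_vecMul, R_mul_EE _ _ hRL, vecMul_zero, add_zero,
    vecMul_vecMul]
  simp only [Matrix.mul_assoc]

/-- column action of a lift -/
theorem lift_mulVec {z : Matrix (Fin n) (Fin n) F}
    (hz : z * EE Lm Rm = EE Lm Rm) (u : Fin n → F) :
    z *ᵥ u = z *ᵥ (Lm *ᵥ (Rm *ᵥ u)) + (u - Lm *ᵥ (Rm *ᵥ u)) := by
  conv_lhs => rw [decomp Lm Rm z hz]
  rw [Matrix.add_mulVec]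
  congr 1
  · rw [mulVec_mulVec, mulVec_mulVec, Matrix.mul_assoc]
  · unfold EE
    rw [Matrix.sub_mulVec, Matrix.one_mulVec, mulVec_mulVec]

end LR

section concrete

/-- the matrix with columns `u`, `x` -/
def Lmat (u x : Fin n → F) : Matrix (Fin n) (Fin 2) F := Matrix.of fun i k => ![u i, x i] k

/-- the matrix with rows `ψ`, `f` -/
def Rmat (ψ f : Fin n → F) : Matrix (Fin 2) (Fin n) F := Matrix.of ![ψ, f]

theorem Rmat_mulVec (ψ f v : Fin n → F) : Rmat ψ f *ᵥ v = ![ψ ⬝ᵥ v, f ⬝ᵥ v] := by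
  ext k
  fin_cases k <;> simp [Rmat, Matrix.mulVec]

theorem vecMul_Rmat (ψ f : Fin n → F) (c : Fin 2 → F) : c ᵥ* Rmat ψ f = c 0 • ψ + c 1 • f := by
  ext i
  simp [Rmat, Matrix.vecMul, dotProduct, Fin.sum_univ_two]

theorem Lmat_mulVec (u x : Fin n → F) (a : Fin 2 → F) : Lmat u x *ᵥ a = a 0 • u + a 1 • x := by
  ext i
  simp [Lmat, Matrix.mulVec, dotProduct, Fin.sum_univ_two, mul_comm]

theorem Rmat_mul_Lmat (ψ f u x : Fin n → F) :
    Rmat ψ f * Lmat u x = !![ψ ⬝ᵥ u, ψ ⬝ᵥ x; f ⬝ᵥ u, f ⬝ᵥ x] := by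
  ext i k
  fin_cases i <;> fin_cases k <;> simp [Rmat, Lmat, Matrix.mul_apply, dotProduct]

end concrete

end Cfsg.Agent.Lib.H10.Sf
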