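import Mathlib
import Cfsg.Agent.Lib.H10.SfD
import Cfsg.Agent.Lib.H10.SfE

/-!
# Subfield subgroups of `SL_n(F)` (part F): every transvection of an overgroup with rational
coefficient field kills a rational vector
-/

set_option autoImplicit false
set_option linter.unusedSectionVars false
set_option linter.unusedVariables false
set_option linter.unusedSimpArgs false

namespace Cfsg.Agent.Lib.H10.Sf

open Matrix Cfsg.Agent.Lib.H6.TransvCent Cfsg.Agent.Lib.H6.TransvSL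
open Cfsg.Agent.Lib.H4.Dickson

variable {F : Type*} [Field F] [Finite F] {n : ℕ} {F₀ : Subfield F}
variable {H : Subgroup (Matrix.SpecialLinearGroup (Fin n) F)}

theorem exists_three_ne (hn : 4 ≤ n) (j : Fin n) :
    ∃ a b c : Fin n, a ≠ j ∧ b ≠ j ∧ c ≠ j ∧ a ≠ b ∧ a ≠ c ∧ b ≠ c := by
  have hc : 2 < ((Finset.univ : Finset (Fin n)).erase j).card := by
    rw [Finset.card_erase_of_mem (Finset.mem_univ j), Finset.card_univ, Fintype.card_fin]
    omega
  obtain ⟨a, b, c, ha, hb, hc', hab, hac, hbc⟩ := Finset.two_lt_card_iff.1 hc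
  exact ⟨a, b, c, (Finset.mem_erase.1 ha).1, (Finset.mem_erase.1 hb).1, (Finset.mem_erase.1 hc').1,
    hab, hac, hbc⟩

section hyp

variable (hKH : KK n F₀ ≤ H) (hn : 4 ≤ n)
  (hL : ∀ c, TvE H (⟨0, by omega⟩ : Fin n) ⟨1, by omega⟩ c → c ∈ F₀)
include hKH hn hL

/-- the normalised form of the key step -/
theorem key_norm {x ψ : Fin n → F} {j : Fin n} (hxj : x j = 1) (h : Tv H x ψ)
    (hcon : ∀ u₀ : Fin n → F, IsRat F₀ u₀ → u₀ ≠ 0 → ψ ⬝ᵥ u₀ ≠ 0) : False := by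
  have hn3 : 3 ≤ n := by omega
  obtain ⟨a, b, c, haj, hbj, hcj, hab, hac, hbc⟩ := exists_three_ne hn j
  have hψx : ψ ⬝ᵥ x = 0 := h.dot
  -- coordinates of `ψ` are non-zero and pairwise independent over `F₀`
  have hψne : ∀ k : Fin n, ψ k ≠ 0 := by
    intro k h0
    apply hcon (ee k) (ee_rat k) (ee_ne_zero k)
    rw [dot_ee, h0]
  have hindep : ∀ k l : Fin n, k ≠ l → ∀ r : F, r ∈ F₀ → ψ k ≠ r * ψ l := by
    intro k l hkl r hr h0
    apply hcon (ee k - r • ee l) ((ee_rat k).sub ((ee_rat l).smul hr))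
    · intro hz
      have := congrFun hz k
      simp only [Pi.sub_apply, Pi.smul_apply, smul_eq_mul, Pi.zero_apply] at this
      rw [ee_apply_same, ee_apply_ne hkl, mul_zero, sub_zero] at this
      exact one_ne_zero this
    · rw [dotProduct_sub, dotProduct_smul, dot_ee, dot_ee, smul_eq_mul, h0, sub_self]
  -- the data
  set f : Fin n → F := ee j with hf
  set u' : Fin n → F := (ψ a)⁻¹ • ee a with hu'
  have hfx : f ⬝ᵥ x = 1 := by rw [hf, ee_dot, hxj]
  have hψu' : ψ ⬝ᵥ u' = 1 := by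
    rw [hu', dotProduct_smul, dot_ee, smul_eq_mul, inv_mul_cancel₀ (hψne a)]
  have hfu' : f ⬝ᵥ u' = 0 := by
    rw [hf, hu', ee_dot, Pi.smul_apply, ee_apply_ne (Ne.symm haj), smul_zero]
  have hRL : Rmat ψ f * Lmat u' x = 1 := by
    rw [Rmat_mul_Lmat, hψu', hψx, hfu', hfx]
    exact Matrix.one_fin_two.symm
  -- the subgroup of `SL₂`
  have hll : ll (1 : F) ∈ Lsub (Lmat u' x) (Rmat ψ f) H hRL := by
    apply mem_Lsub_of_tv hRL ![1, 0] _ h
    · rw [Rmat_mulVec, hψx, hfx, ll_val]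
      ext i k
      fin_cases i <;> fin_cases k <;> simp [vecMulVec_apply]
    · rw [vecMul_Rmat]
      simp
  have huu : ∀ u : Fin n → F, IsRat F₀ u → u j = 0 →
      uu (ψ ⬝ᵥ u) ∈ Lsub (Lmat u' x) (Rmat ψ f) H hRL := by
    intro u hu huj
    have hfu : f ⬝ᵥ u = 0 := by rw [hf, ee_dot, huj]
    have ht : Tv H u f := tv_rat hKH hu (ee_rat j) hfu
    apply mem_Lsub_of_tv hRL ![0, 1] _ ht
    · rw [Rmat_mulVec, hfu, uu_val]
      ext i k
      fin_cases i <;> fin_cases k <;> simp [vecMulVec_apply]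
    · rw [vecMul_Rmat]
      simp
  have hA := huu (ee a) (ee_rat a) (ee_apply_ne (Ne.symm haj))
  have hB := huu (ee b) (ee_rat b) (ee_apply_ne (Ne.symm hbj))
  rw [dot_ee] at hA hB
  have hne1 : ψ a ≠ ψ b := by
    have := hindep a b hab 1 F₀.one_mem
    rwa [one_mul] at this
  have hne2 : ψ a + ψ b ≠ 0 := by
    intro h0
    apply hindep a b hab (-1) (F₀.neg_mem F₀.one_mem)
    linear_combination h0
  obtain ⟨ζ, hζ0, hζ1, A, hAL, hAv⟩ := exists_diag _ hll (hψne a) (hψne b) hne1 hne2 hA hB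
  obtain ⟨z, hzH, hzE, hzA⟩ := mem_Lsub.1 hAL
  rw [hAv] at hzA
  -- row actions
  have hfz : f ᵥ* z.1 = ζ⁻¹ • f := by
    have := vecMul_lift hRL hzE ![0, 1]
    rw [hzA, vecMul_Rmat, vecMul_Rmat] at this
    simpa using this
  have hψz : ψ ᵥ* z.1 = ζ • ψ := by
    have := vecMul_lift hRL hzE ![1, 0]
    rw [hzA, vecMul_Rmat, vecMul_Rmat] at this
    simpa using this
  have hfzi : f ᵥ* (z⁻¹).1 = ζ • f := by
    have h1 : (f ᵥ* z.1) ᵥ* (z⁻¹).1 = f := by rw [vecMul_vecMul, val_mul_inv, vecMul_one]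
    rw [hfz, Matrix.smul_vecMul] at h1
    calc f ᵥ* (z⁻¹).1 = ζ • (ζ⁻¹ • (f ᵥ* (z⁻¹).1)) := by
          rw [smul_smul, mul_inv_cancel₀ hζ0, one_smul]
      _ = ζ • f := by rw [h1]
  -- the vector `w`
  set w : Fin n → F := z.1 *ᵥ u' - u' with hw
  have hψw : ψ ⬝ᵥ w = ζ - 1 := by
    rw [hw, dotProduct_sub, dotProduct_mulVec, hψz, smul_dotProduct, hψu', smul_eq_mul, mul_one]
  have hzu : ∀ u : Fin n → F, u j = 0 → z.1 *ᵥ u = u + (ψ ⬝ᵥ u) • w := by
    intro u huj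
    have hfu : f ⬝ᵥ u = 0 := by rw [hf, ee_dot, huj]
    rw [lift_mulVec hzE u, Rmat_mulVec, hfu, Lmat_mulVec]
    simp only [Matrix.cons_val_zero, Matrix.cons_val_one, zero_smul, add_zero]
    rw [Matrix.mulVec_smul, hw, smul_sub]
    abel
  -- rationality
  have hrat : ∀ u : Fin n → F, IsRat F₀ u → u j = 0 → IsRat F₀ (ζ • (u + (ψ ⬝ᵥ u) • w)) := by
    intro u hu huj
    have hfu : f ⬝ᵥ u = 0 := by rw [hf, ee_dot, huj]
    have ht : Tv H u f := tv_rat hKH hu (ee_rat j) hfu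
    have h1 := ht.conj hzH
    rw [hfzi, hzu u huj] at h1
    exact rat_left hKH hn3 hL (ee_rat j) (ee_ne_zero j) h1.smul_swap'
  have hent : ∀ k i : Fin n, k ≠ j → i ≠ k → ζ * (ψ k * w i) ∈ F₀ := by
    intro k i hkj hik
    have := hrat (ee k) (ee_rat k) (ee_apply_ne (Ne.symm hkj)) i
    rw [dot_ee] at this
    simp only [Pi.smul_apply, Pi.add_apply, smul_eq_mul] at this
    rwa [ee_apply_ne hik, zero_add] at this
  -- `w = 0`
  have hw0 : ∀ i, w i = 0 := by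
    intro i
    by_contra hwi
    -- two of `a, b, c` differ from `i`
    obtain ⟨k, l, hkj, hlj, hkl, hik, hil⟩ : ∃ k l : Fin n, k ≠ j ∧ l ≠ j ∧ k ≠ l ∧ i ≠ k ∧ i ≠ l := by
      by_cases hia : i = a
      · exact ⟨b, c, hbj, hcj, hbc, by rw [hia]; exact hab, by rw [hia]; exact hac⟩
      · by_cases hib : i = b
        · exact ⟨a, c, haj, hcj, hac, hia, by rw [hib]; exact hbc⟩
        · exact ⟨a, b, haj, hbj, hab, hia, hib⟩
    have h1 := hent k i hkj hik
    have h2 := hent l i hlj hil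
    have h2ne : ζ * (ψ l * w i) ≠ 0 := mul_ne_zero hζ0 (mul_ne_zero (hψne l) hwi)
    apply hindep k l hkl _ (F₀.div_mem h1 h2)
    rw [div_mul_eq_mul_div, eq_div_iff h2ne]
    ring
  apply sub_ne_zero.2 hζ1
  rw [← hψw]
  have : w = 0 := funext hw0
  rw [this, dotProduct_zero]

/-- **key step**: every transvection in `H` kills a non-zero rational vector -/
theorem exists_rat_ker {x ψ : Fin n → F} (hx : x ≠ 0) (h : Tv H x ψ) :
    ∃ u₀ : Fin n → F, IsRat F₀ u₀ ∧ u₀ ≠ 0 ∧ ψ ⬝ᵥ u₀ = 0 := by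
  by_contra hcon
  push Not at hcon
  obtain ⟨j, hj⟩ : ∃ j, x j ≠ 0 := by
    by_contra h0
    push Not at h0
    exact hx (funext h0)
  have h' : Tv H ((x j)⁻¹ • x) (x j • ψ) :=
    h.congr (by rw [smul_vecMulVec, vecMulVec_smul, smul_smul, inv_mul_cancel₀ hj, one_smul])
  apply key_norm hKH hn hL (j := j) _ h'
  · intro u₀ hu hu0
    rw [smul_dotProduct, smul_eq_mul]
    exact mul_ne_zero hj (hcon u₀ hu hu0)
  · rw [Pi.smul_apply, smul_eq_mul, inv_mul_cancel₀ hj]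

end hyp

end Cfsg.Agent.Lib.H10.Sf
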