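import Mathlib
import Cfsg.Agent.Lib.H10.SfF

/-!
# Subfield subgroups of `SL_n(F)` (part G): maximality inside `SL_n(F)`
-/

set_option autoImplicit false
set_option linter.unusedSectionVars false
set_option linter.unusedVariables false
set_option linter.unusedSimpArgs false

namespace Cfsg.Agent.Lib.H10.Sf

open Matrix Cfsg.Agent.Lib.H6.TransvCent Cfsg.Agent.Lib.H6.TransvSL

variable {F : Type*} [Field F] [Finite F] {n : ℕ} {F₀ : Subfield F}
variable {H : Subgroup (Matrix.SpecialLinearGroup (Fin n) F)}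

section hyp

variable (hKH : KK n F₀ ≤ H) (hn : 4 ≤ n)
  (hL : ∀ c, TvE H (⟨0, by omega⟩ : Fin n) ⟨1, by omega⟩ c → c ∈ F₀)
include hKH hn hL

/-- every transvection in `H` is rational -/
theorem tv_entries {x ψ : Fin n → F} (h : Tv H x ψ) : ∀ i j, x i * ψ j ∈ F₀ := by
  have hn3 : 3 ≤ n := by omega
  intro i j
  by_cases hx : x = 0
  · rw [hx, Pi.zero_apply, zero_mul]; exact F₀.zero_mem
  by_cases hψ : ψ = 0
  · rw [hψ, Pi.zero_apply, mul_zero]; exact F₀.zero_mem
  obtain ⟨u₀, hu, hu0, hψu⟩ := exists_rat_ker hKH hn hL hx h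
  by_cases hcase : ∀ f₀ : Fin n → F, IsRat F₀ f₀ → f₀ ⬝ᵥ u₀ = 0 → f₀ ⬝ᵥ x = 0
  · -- `x` is a multiple of `u₀`
    obtain ⟨k, hk⟩ : ∃ k, u₀ k ≠ 0 := by
      by_contra h0
      push Not at h0
      exact hu0 (funext h0)
    have hxl : x = (x k / u₀ k) • u₀ := by
      ext m
      have := hcase (u₀ k • ee m - u₀ m • ee k)
        (((ee_rat m).smul (hu k)).sub ((ee_rat k).smul (hu m)))
        (by rw [sub_dotProduct, smul_dotProduct, smul_dotProduct, ee_dot, ee_dot]
            simp only [smul_eq_mul]; ring)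
      rw [sub_dotProduct, smul_dotProduct, smul_dotProduct, ee_dot, ee_dot] at this
      simp only [smul_eq_mul] at this
      rw [Pi.smul_apply, smul_eq_mul, div_mul_eq_mul_div, eq_div_iff hk]
      linear_combination this
    set l : F := x k / u₀ k with hl
    have h1 : Tv H u₀ (l • ψ) := by
      rw [hxl] at h
      exact h.smul_swap
    have h2 := rat_right hKH hn3 hL hu hu0 h1
    have : x i * ψ j = u₀ i * (l • ψ) j := by
      rw [hxl, Pi.smul_apply, Pi.smul_apply, smul_eq_mul, smul_eq_mul]; ring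
    rw [this]
    exact F₀.mul_mem (hu i) (h2 j)
  · push Not at hcase
    obtain ⟨f₀, hf, hfu, hfx⟩ := hcase
    have ht : Tv H u₀ f₀ := tv_rat hKH hu hf hfu
    have h1 := (Tv.comm_alpha h ht hψu).smul_swap
    set c : F := -(f₀ ⬝ᵥ x) with hc
    have hc0 : c ≠ 0 := neg_ne_zero.2 hfx
    have h2 : IsRat F₀ (c • ψ) := rat_right hKH hn3 hL hu hu0 h1
    have h3 : Tv H (c⁻¹ • x) (c • ψ) :=
      h.congr (by rw [smul_vecMulVec, vecMulVec_smul, smul_smul, inv_mul_cancel₀ hc0, one_smul])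
    have hcψ : c • ψ ≠ 0 := by
      intro h0
      apply hψ
      have := congrArg (fun v => c⁻¹ • v) h0
      simpa [smul_smul, inv_mul_cancel₀ hc0] using this
    have h4 : IsRat F₀ (c⁻¹ • x) := rat_left hKH hn3 hL h2 hcψ h3
    have : x i * ψ j = (c⁻¹ • x) i * (c • ψ) j := by
      rw [Pi.smul_apply, Pi.smul_apply, smul_eq_mul, smul_eq_mul]
      field_simp
    rw [this]
    exact F₀.mul_mem (h4 i) (h2 j)

/-- entries of an element of `H` against entries of its inverse -/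
theorem entries_mul {h : Matrix.SpecialLinearGroup (Fin n) F} (hh : h ∈ H) {k k' : Fin n}
    (hkk : k ≠ k') (i j : Fin n) : h.1 i k * (h⁻¹).1 k' j ∈ F₀ := by
  have ht : Tv H (ee k) (ee k') := by
    apply tv_rat hKH (ee_rat k) (ee_rat k')
    rw [ee_dot, ee_apply_ne (Ne.symm hkk)]
  have h1 := tv_entries hKH hn hL (ht.conj hh) i j
  have e1 : (h.1 *ᵥ ee k) i = h.1 i k := by
    unfold ee
    rw [Matrix.mulVec_single_one]; rfl
  have e2 : (ee k' ᵥ* (h⁻¹).1) j = (h⁻¹).1 k' j := by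
    unfold ee
    rw [Matrix.single_one_vecMul]; rfl
  rwa [e1, e2] at h1

/-- **`H ≤ KK`** when the coefficient field of `H` is `F₀` -/
theorem le_KK : H ≤ KK n F₀ := by
  intro h hh
  have hMN : (h⁻¹).1 * h.1 = 1 := val_inv_mul h
  have hrow : ∀ k : Fin n, ∃ j, (h⁻¹).1 k j ≠ 0 := by
    intro k
    by_contra h0
    push Not at h0
    have := congrFun (congrFun hMN k) k
    rw [Matrix.mul_apply, Matrix.one_apply_eq] at this
    simp only [h0, zero_mul, Finset.sum_const_zero] at this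
    exact zero_ne_one this
  have hcol : ∀ k : Fin n, ∃ i, h.1 i k ≠ 0 := by
    intro k
    by_contra h0
    push Not at h0
    have := congrFun (congrFun hMN k) k
    rw [Matrix.mul_apply, Matrix.one_apply_eq] at this
    simp only [h0, mul_zero, Finset.sum_const_zero] at this
    exact zero_ne_one this
  have h01 : (⟨0, by omega⟩ : Fin n) ≠ ⟨1, by omega⟩ := by
    intro h; simp [Fin.ext_iff] at h
  have h02 : (⟨0, by omega⟩ : Fin n) ≠ ⟨2, by omega⟩ := by
    intro h; simp [Fin.ext_iff] at h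
  have h12 : (⟨1, by omega⟩ : Fin n) ≠ ⟨2, by omega⟩ := by
    intro h; simp [Fin.ext_iff] at h
  obtain ⟨j, hj⟩ := hrow ⟨0, by omega⟩
  obtain ⟨j', hj'⟩ := hrow ⟨1, by omega⟩
  obtain ⟨i₂, hi₂⟩ := hcol ⟨2, by omega⟩
  set ν := (h⁻¹).1 ⟨0, by omega⟩ j with hν
  set ν' := (h⁻¹).1 ⟨1, by omega⟩ j' with hν'
  have hr1 : h.1 i₂ ⟨2, by omega⟩ * ν ∈ F₀ := entries_mul hKH hn hL hh (Ne.symm h02) i₂ j
  have hr2 : h.1 i₂ ⟨2, by omega⟩ * ν' ∈ F₀ := entries_mul hKH hn hL hh (Ne.symm h12) i₂ j'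
  have hr2ne : h.1 i₂ ⟨2, by omega⟩ * ν' ≠ 0 := mul_ne_zero hi₂ hj'
  have hratio : ν / ν' ∈ F₀ := by
    have := F₀.div_mem hr1 hr2
    have e : h.1 i₂ ⟨2, by omega⟩ * ν / (h.1 i₂ ⟨2, by omega⟩ * ν') = ν / ν' := by
      field_simp
    rwa [e] at this
  rw [mem_KK]
  refine ⟨ν, hj, fun i k => ?_⟩
  by_cases hk : k = ⟨0, by omega⟩
  · have h1 : h.1 i k * ν' ∈ F₀ := by
      rw [hk]
      exact entries_mul hKH hn hL hh h01 i j'
    have := F₀.mul_mem hratio h1
    have e : ν / ν' * (h.1 i k * ν') = ν * h.1 i k := by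
      field_simp
    rwa [e] at this
  · have := entries_mul hKH hn hL hh hk i j
    rwa [mul_comm] at this

end hyp

/-- `KK` is a proper subgroup -/
theorem KK_ne_top (hn : 2 ≤ n) (hF₀ : ∃ l : F, l ∉ F₀) : KK n F₀ ≠ ⊤ := by
  obtain ⟨l, hl⟩ := hF₀
  have h01 : (⟨0, by omega⟩ : Fin n) ≠ ⟨1, by omega⟩ := by
    intro h; simp [Fin.ext_iff] at h
  intro htop
  have hd : (ee (⟨1, by omega⟩ : Fin n) : Fin n → F) ⬝ᵥ (l • ee (⟨0, by omega⟩ : Fin n)) = 0 := by
    rw [ee_dot, Pi.smul_apply, ee_apply_ne (Ne.symm h01), smul_zero]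
  have hm : mk (l • ee (⟨0, by omega⟩ : Fin n)) (ee (⟨1, by omega⟩ : Fin n)) hd ∈ KK n F₀ := by
    rw [htop]; exact Subgroup.mem_top _
  rw [mem_KK] at hm
  obtain ⟨c, hc0, hc⟩ := hm
  have h00 := hc ⟨0, by omega⟩ ⟨0, by omega⟩
  have h01' := hc ⟨0, by omega⟩ ⟨1, by omega⟩
  rw [mk_val, Matrix.add_apply, vecMulVec_apply, Matrix.one_apply_eq, Pi.smul_apply,
    ee_apply_same, ee_apply_ne h01, mul_zero, add_zero, mul_one] at h00
  rw [mk_val, Matrix.add_apply, vecMulVec_apply, Matrix.one_apply_ne h01, Pi.smul_apply,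
    ee_apply_same, ee_apply_same, zero_add, smul_eq_mul, mul_one, mul_one] at h01'
  apply hl
  have := F₀.div_mem h01' h00
  rwa [mul_div_cancel_left₀ _ hc0] at this

/-- **maximality of the subfield subgroup in `SL_n(F)`** -/
theorem KK_maximal [Fintype F] (hn : 4 ≤ n) {r : ℕ} (hr : r.Prime)
    (hcard : Fintype.card F = Nat.card F₀ ^ r) :
    KK n F₀ ≠ ⊤ ∧ ∀ H : Subgroup (Matrix.SpecialLinearGroup (Fin n) F), KK n F₀ ≤ H →
      H = KK n F₀ ∨ H = ⊤ := by
  constructor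
  · apply KK_ne_top (by omega)
    by_contra h0
    push Not at h0
    have htop : F₀ = ⊤ := by
      rw [eq_top_iff]; intro x _; exact h0 x
    have h1 : Nat.card F₀ = Fintype.card F := by
      rw [htop, ← Nat.card_eq_fintype_card]
      exact Nat.card_congr Subfield.topEquiv.toEquiv
    rw [← h1] at hcard
    have h2 : 2 ≤ Nat.card F₀ := by
      have : 1 < Nat.card F₀ := Finite.one_lt_card
      omega
    have h3 : Nat.card F₀ ^ 1 = Nat.card F₀ ^ r := by rw [pow_one]; exact hcard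
    have := Nat.pow_right_injective h2 h3
    exact hr.one_lt.ne this
  · intro H hKH
    rcases Lam_dichotomy hKH (by omega) hr hcard with hL | hall
    · left
      exact le_antisymm (le_KK hKH hn hL) hKH
    · right
      exact eq_top_of_all hKH (by omega) hall

end Cfsg.Agent.Lib.H10.Sf
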