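import Mathlib
import Cfsg.Agent.Lib.H10.SfG
import Cfsg.Agent.Lib.H2.SLCard

/-!
# Subfield subgroups of `SL_n(F)` (part H): the statement inside `GL_n(F)`
-/

set_option autoImplicit false
set_option linter.unusedSectionVars false
set_option linter.unusedVariables false

namespace Cfsg.Agent.Lib.H10.Sf

open Matrix

/-- maximality is transported by automorphisms -/
theorem isMaximalIn_map {G : Type*} [Group G] (e : G ≃* G) {K H : Subgroup G}
    (h : Cfsg.Geo.IsMaximalIn K H) :
    Cfsg.Geo.IsMaximalIn (K.map e.toMonoidHom) (H.map e.toMonoidHom) := by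
  obtain ⟨hlt, hmax⟩ := h
  have hinj : Function.Injective e.toMonoidHom := e.injective
  have hsurj : Function.Surjective e.toMonoidHom := e.surjective
  refine ⟨(Subgroup.map_lt_map_iff_of_injective hinj).2 hlt, fun M hHM hMK => ?_⟩
  have h1 : H ≤ M.comap e.toMonoidHom := (Subgroup.map_le_iff_le_comap).1 hHM
  have h2 : M.comap e.toMonoidHom ≤ K := by
    intro x hx
    have := hMK hx
    obtain ⟨y, hy, hyx⟩ := this
    have : y = x := hinj hyx
    rw [← this]; exact hy
  have hM : (M.comap e.toMonoidHom).map e.toMonoidHom = M :=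
    Subgroup.map_comap_eq_self_of_surjective hsurj M
  rcases hmax _ h1 h2 with h3 | h3
  · left; rw [← hM, h3]
  · right; rw [← hM, h3]

variable {F : Type*} [Field F] [Fintype F] {n : ℕ}

/-- the standard subfield subgroup is maximal in `SL_n(F)` inside `GL_n(F)` -/
theorem maximal_one (hn : 4 ≤ n) (F₀ : Subfield F) {r : ℕ} (hr : r.Prime)
    (hcard : Fintype.card F = Nat.card F₀ ^ r) :
    Cfsg.Geo.IsMaximalIn (Cfsg.Geo.specialLinear (Fin n) F)
      (Cfsg.Geo.subfieldSubgroup F₀ (1 : GL (Fin n) F) ⊓ Cfsg.Geo.specialLinear (Fin n) F) := by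
  obtain ⟨hne, hmax⟩ := KK_maximal (F₀ := F₀) hn hr hcard
  set T : Matrix.SpecialLinearGroup (Fin n) F →* GL (Fin n) F := Matrix.SpecialLinearGroup.toGL
    with hT
  have hrange : T.range = Cfsg.Geo.specialLinear (Fin n) F :=
    Cfsg.Agent.Lib.H2.range_toGL_eq_ker_det
  have hmap : (KK n F₀).map T =
      Cfsg.Geo.subfieldSubgroup F₀ (1 : GL (Fin n) F) ⊓ Cfsg.Geo.specialLinear (Fin n) F := by
    unfold KK
    rw [Subgroup.map_comap_eq, hrange, inf_comm]
  have hinj : Function.Injective T := Matrix.SpecialLinearGroup.toGL_injective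
  constructor
  · refine lt_of_le_of_ne inf_le_right ?_
    intro heq
    apply hne
    rw [eq_top_iff]
    intro x _
    show T x ∈ Cfsg.Geo.subfieldSubgroup F₀ (1 : GL (Fin n) F)
    have : T x ∈ Cfsg.Geo.specialLinear (Fin n) F := by rw [← hrange]; exact ⟨x, rfl⟩
    rw [← heq] at this
    exact this.1
  · intro M hHM hMK
    have hK : KK n F₀ ≤ M.comap T := by
      rw [← Subgroup.map_le_iff_le_comap, hmap]
      exact hHM
    have hM : (M.comap T).map T = M := by
      rw [Subgroup.map_comap_eq, hrange]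
      exact inf_eq_right.2 hMK
    rcases hmax _ hK with h3 | h3
    · left; rw [← hM, h3, hmap]
    · right; rw [← hM, h3, ← hrange, MonoidHom.range_eq_map]

/-- the general form with a change of basis -/
theorem maximal_conj (hn : 4 ≤ n) (F₀ : Subfield F) {r : ℕ} (hr : r.Prime)
    (hcard : Fintype.card F = Nat.card F₀ ^ r) (P : GL (Fin n) F) :
    Cfsg.Geo.IsMaximalIn (Cfsg.Geo.specialLinear (Fin n) F)
      (Cfsg.Geo.subfieldSubgroup F₀ P ⊓ Cfsg.Geo.specialLinear (Fin n) F) := by
  have h1 := isMaximalIn_map (MulAut.conj P) (maximal_one hn F₀ hr hcard)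
  have hSL : (Cfsg.Geo.specialLinear (Fin n) F).map (MulAut.conj P).toMonoidHom =
      Cfsg.Geo.specialLinear (Fin n) F := by
    haveI : (Cfsg.Geo.specialLinear (Fin n) F).Normal := by
      unfold Cfsg.Geo.specialLinear; infer_instance
    apply le_antisymm
    · rintro _ ⟨x, hx, rfl⟩
      exact ‹(Cfsg.Geo.specialLinear (Fin n) F).Normal›.conj_mem x hx P
    · intro x hx
      refine ⟨P⁻¹ * x * P, ?_, ?_⟩
      · have := ‹(Cfsg.Geo.specialLinear (Fin n) F).Normal›.conj_mem x hx P⁻¹
        rwa [inv_inv] at this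
      · show P * (P⁻¹ * x * P) * P⁻¹ = x
        group
  have hsub : Cfsg.Geo.subfieldSubgroup F₀ P =
      (Cfsg.Geo.subfieldSubgroup F₀ (1 : GL (Fin n) F)).map (MulAut.conj P).toMonoidHom := by
    unfold Cfsg.Geo.subfieldSubgroup
    rw [map_one]
    congr 1
    exact (Subgroup.map_id _).symm
  rw [Subgroup.map_inf _ _ _ (MulAut.conj P).injective, hSL, ← hsub] at h1
  exact h1

end Cfsg.Agent.Lib.H10.Sf
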