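import Mathlib

/-!
# S3685 / S3385, blueprint section 2b (piece LOC, standalone form)

`K` a finite group, `T ≤ K` of index `3`, a `2`-group, not normal.  Then `Q := T.normalCore` has
index `2` in `T`, `K ⧸ Q` is `S₃`, and the usual local facts hold.  Conjugates of `T` are written
`MulAut.conj g • T`.
-/

set_option autoImplicit false
set_option linter.unusedSectionVars false
open scoped Pointwise

namespace Cfsg.Agent.Lib.H10.Sims

variable {K : Type*} [Group K] [Finite K] (T : Subgroup K)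

/-- the action on the three cosets, transported to `Fin 3` -/
noncomputable def psi (h3 : T.index = 3) : K →* Equiv.Perm (Fin 3) :=
  ((Finite.equivFinOfCardEq (T.index_eq_card ▸ h3 : Nat.card (K ⧸ T) = 3)).permCongrHom).toMonoidHom.comp
    (MulAction.toPermHom K (K ⧸ T))

/-- the base point (the coset `T`) -/
noncomputable def i0 (h3 : T.index = 3) : Fin 3 :=
  Finite.equivFinOfCardEq (T.index_eq_card ▸ h3 : Nat.card (K ⧸ T) = 3) ((1 : K) : K ⧸ T)

theorem psi_apply (h3 : T.index = 3) (g : K) (x : K ⧸ T) :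
    psi T h3 g (Finite.equivFinOfCardEq (T.index_eq_card ▸ h3 : Nat.card (K ⧸ T) = 3) x) =
      Finite.equivFinOfCardEq (T.index_eq_card ▸ h3 : Nat.card (K ⧸ T) = 3) (g • x) := by
  simp [psi, Equiv.permCongrHom, Equiv.permCongr_apply]

theorem psi_ker (h3 : T.index = 3) : (psi T h3).ker = T.normalCore := by
  rw [Subgroup.normalCore_eq_ker]
  ext g
  simp only [MonoidHom.mem_ker, psi, MonoidHom.comp_apply, MulEquiv.coe_toMonoidHom,
    EmbeddingLike.map_eq_one_iff]

theorem psi_i0 (h3 : T.index = 3) (g : K) : psi T h3 g (i0 T h3) = i0 T h3 ↔ g ∈ T := by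
  unfold i0
  rw [psi_apply, EmbeddingLike.apply_eq_iff_eq]
  rw [show g • ((1 : K) : K ⧸ T) = ((g * 1 : K) : K ⧸ T) from rfl, mul_one]
  rw [eq_comm, QuotientGroup.eq, inv_one, one_mul]

theorem mem_conj_iff (h3 : T.index = 3) (g k : K) :
    k ∈ MulAut.conj g • T ↔ psi T h3 k (psi T h3 g (i0 T h3)) = psi T h3 g (i0 T h3) := by
  rw [Subgroup.mem_pointwise_smul_iff_inv_smul_mem, MulAut.smul_def, ← map_inv, MulAut.conj_apply,
    inv_inv, ← psi_i0 T h3]
  simp only [map_mul, map_inv, Equiv.Perm.coe_mul, Function.comp_apply]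
  rw [Equiv.Perm.inv_eq_iff_eq]

theorem psi_trans (h3 : T.index = 3) (j : Fin 3) : ∃ g : K, psi T h3 g (i0 T h3) = j := by
  obtain ⟨x, rfl⟩ := (Finite.equivFinOfCardEq (T.index_eq_card ▸ h3 : Nat.card (K ⧸ T) = 3)).surjective j
  obtain ⟨g, rfl⟩ := QuotientGroup.mk_surjective x
  refine ⟨g, ?_⟩
  unfold i0
  rw [psi_apply]
  rw [show g • ((1 : K) : K ⧸ T) = ((g * 1 : K) : K ⧸ T) from rfl, mul_one]

theorem card_eq (h3 : T.index = 3) : Nat.card K = 3 * Nat.card T := by
  rw [← T.index_mul_card, h3]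

/-- prime index: a subgroup strictly above `T` is everything -/
theorem eq_top_of_le_of_not_le (h3 : T.index = 3) (H : Subgroup K) (hTH : T ≤ H) (hne : ¬ H ≤ T) :
    H = ⊤ := by
  have h := Subgroup.relIndex_mul_index hTH
  rw [h3] at h
  have hd : H.index ∣ 3 := Dvd.intro_left _ h
  rcases (Nat.dvd_prime Nat.prime_three).1 hd with h1 | h1
  · exact Subgroup.index_eq_one.1 h1
  · exfalso
    rw [h1] at h
    have : T.relIndex H = 1 := by omega
    exact hne (Subgroup.relIndex_eq_one.1 this)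

theorem core_relIndex (h3 : T.index = 3) (hnn : ¬ T.Normal) : T.normalCore.relIndex T = 2 := by
  have h := Subgroup.relIndex_mul_index (T.normalCore_le)
  rw [h3] at h
  have hd : T.normalCore.index ∣ 6 := by
    rw [← psi_ker T h3, Subgroup.index_ker]
    have := Subgroup.card_subgroup_dvd_card (psi T h3).range
    rw [Nat.card_perm, Nat.card_fin] at this
    exact this
  rw [← h] at hd
  have h2 : T.normalCore.relIndex T ∣ 2 := by
    have : T.normalCore.relIndex T * 3 ∣ 2 * 3 := by simpa using hd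
    exact Nat.dvd_of_mul_dvd_mul_right (by norm_num) this
  rcases (Nat.dvd_prime Nat.prime_two).1 h2 with h1 | h1
  · exfalso
    apply hnn
    have : T ≤ T.normalCore := Subgroup.relIndex_eq_one.1 h1
    have e : T.normalCore = T := le_antisymm T.normalCore_le this
    rw [← e]
    infer_instance
  · exact h1

theorem core_index (h3 : T.index = 3) (hnn : ¬ T.Normal) : T.normalCore.index = 6 := by
  rw [← Subgroup.relIndex_mul_index (T.normalCore_le), h3, core_relIndex T h3 hnn]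

theorem psi_surj (h3 : T.index = 3) (hnn : ¬ T.Normal) : Function.Surjective (psi T h3) := by
  rw [← MonoidHom.range_eq_top]
  apply Subgroup.eq_top_of_card_eq
  rw [← Subgroup.index_ker, psi_ker, core_index T h3 hnn, Nat.card_perm, Nat.card_fin]
  rfl

theorem mem_core_iff (h3 : T.index = 3) (g : K) : g ∈ T.normalCore ↔ psi T h3 g = 1 := by
  rw [← psi_ker T h3, MonoidHom.mem_ker]

theorem smul_eq_self_iff (h3 : T.index = 3) (hnn : ¬ T.Normal) (g : K) :
    MulAut.conj g • T = T ↔ g ∈ T := by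
  constructor
  · intro h
    rw [← psi_i0 T h3]
    by_contra hne
    have key : ∀ i j : Fin 3, i ≠ j → ∃ σ : Equiv.Perm (Fin 3), σ i = i ∧ σ j ≠ j := by decide
    obtain ⟨σ, hσ1, hσ2⟩ := key (i0 T h3) (psi T h3 g (i0 T h3)) (Ne.symm hne)
    obtain ⟨k, rfl⟩ := psi_surj T h3 hnn σ
    have hk : k ∈ T := (psi_i0 T h3 k).1 hσ1
    rw [← h, mem_conj_iff T h3] at hk
    exact hσ2 hk
  · intro hg
    ext k
    rw [Subgroup.mem_pointwise_smul_iff_inv_smul_mem, MulAut.smul_def, ← map_inv, MulAut.conj_apply,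
      inv_inv]
    constructor
    · intro h
      have := T.mul_mem (T.mul_mem hg h) (T.inv_mem hg)
      simpa [mul_assoc] using this
    · intro h
      exact T.mul_mem (T.mul_mem (T.inv_mem hg) h) hg

theorem conj_eq_iff (h3 : T.index = 3) (hnn : ¬ T.Normal) (g g' : K) :
    MulAut.conj g • T = MulAut.conj g' • T ↔ psi T h3 g (i0 T h3) = psi T h3 g' (i0 T h3) := by
  constructor
  · intro h
    have : MulAut.conj (g'⁻¹ * g) • T = T := by
      rw [map_mul, mul_smul, h, ← mul_smul, ← map_mul, inv_mul_cancel, map_one, one_smul]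
    have h2 := (smul_eq_self_iff T h3 hnn _).1 this
    rw [← psi_i0 T h3] at h2
    simp only [map_mul, map_inv, Equiv.Perm.coe_mul, Function.comp_apply] at h2
    rw [Equiv.Perm.inv_eq_iff_eq] at h2
    exact h2
  · intro h
    ext k
    rw [mem_conj_iff T h3, mem_conj_iff T h3, h]

theorem inf_conj (h3 : T.index = 3) (hnn : ¬ T.Normal) (g g' : K)
    (hne : MulAut.conj g • T ≠ MulAut.conj g' • T) :
    MulAut.conj g • T ⊓ MulAut.conj g' • T = T.normalCore := by
  have hij : psi T h3 g (i0 T h3) ≠ psi T h3 g' (i0 T h3) := fun h =>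
    hne ((conj_eq_iff T h3 hnn g g').2 h)
  ext k
  rw [Subgroup.mem_inf, mem_conj_iff T h3, mem_conj_iff T h3, mem_core_iff T h3]
  have key : ∀ (σ : Equiv.Perm (Fin 3)) (i j : Fin 3), i ≠ j → (σ i = i ∧ σ j = j ↔ σ = 1) := by
    decide
  exact key _ _ _ hij

theorem conj_not_le (h3 : T.index = 3) (hnn : ¬ T.Normal) (g g' : K)
    (hne : MulAut.conj g • T ≠ MulAut.conj g' • T) : ¬ MulAut.conj g' • T ≤ MulAut.conj g • T := by
  intro hle
  have hij : psi T h3 g (i0 T h3) ≠ psi T h3 g' (i0 T h3) := fun h =>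
    hne ((conj_eq_iff T h3 hnn g g').2 h)
  have key : ∀ i j : Fin 3, i ≠ j → ∃ σ : Equiv.Perm (Fin 3), σ i = i ∧ σ j ≠ j := by decide
  obtain ⟨σ, hσ1, hσ2⟩ := key _ _ (Ne.symm hij)
  obtain ⟨k, rfl⟩ := psi_surj T h3 hnn σ
  have hk : k ∈ MulAut.conj g' • T := (mem_conj_iff T h3 g' k).2 hσ1
  exact hσ2 ((mem_conj_iff T h3 g k).1 (hle hk))

theorem index_conj (h3 : T.index = 3) (g : K) : (MulAut.conj g • T).index = 3 := by
  have : MulAut.conj g • T = T.map ((MulAut.conj g : K ≃* K) : K →* K) := rfl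
  rw [this, Subgroup.index_map_equiv, h3]

theorem sup_conj (h3 : T.index = 3) (hnn : ¬ T.Normal) (g g' : K)
    (hne : MulAut.conj g • T ≠ MulAut.conj g' • T) :
    MulAut.conj g • T ⊔ MulAut.conj g' • T = ⊤ := by
  apply eq_top_of_le_of_not_le (MulAut.conj g • T) (index_conj T h3 g) _ le_sup_left
  intro h
  exact conj_not_le T h3 hnn g g' hne (le_trans le_sup_right h)

theorem conj_conj (g s : K) : MulAut.conj s • (MulAut.conj g • T) = MulAut.conj (s * g) • T := by
  rw [← mul_smul, ← map_mul]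

theorem third (h3 : T.index = 3) (hnn : ¬ T.Normal) (g g' : K)
    (hne : MulAut.conj g • T ≠ MulAut.conj g' • T) (s : K) (hs : s ∈ MulAut.conj g • T)
    (hsQ : s ∉ T.normalCore) :
    MulAut.conj s • (MulAut.conj g' • T) ≠ MulAut.conj g' • T ∧
      MulAut.conj s • (MulAut.conj g' • T) ≠ MulAut.conj g • T := by
  have hij : psi T h3 g (i0 T h3) ≠ psi T h3 g' (i0 T h3) := fun h =>
    hne ((conj_eq_iff T h3 hnn g g').2 h)
  rw [mem_conj_iff T h3] at hs
  rw [mem_core_iff T h3] at hsQ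
  rw [conj_conj, Ne, Ne, conj_eq_iff T h3 hnn, conj_eq_iff T h3 hnn]
  simp only [map_mul, Equiv.Perm.coe_mul, Function.comp_apply]
  have key : ∀ (σ : Equiv.Perm (Fin 3)) (i j : Fin 3), i ≠ j → σ i = i → σ ≠ 1 →
      (¬ σ j = j ∧ ¬ σ j = i) := by decide
  exact key _ _ _ hij hs hsQ

theorem three_conj (h3 : T.index = 3) (hnn : ¬ T.Normal) (g g' : K)
    (hne : MulAut.conj g • T ≠ MulAut.conj g' • T) (x : K) :
    MulAut.conj x • T = MulAut.conj g • T ∨ MulAut.conj x • T = MulAut.conj g' • T ∨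
      ∀ s ∈ MulAut.conj g • T, s ∉ T.normalCore →
        MulAut.conj x • T = MulAut.conj s • (MulAut.conj g' • T) := by
  have hij : psi T h3 g (i0 T h3) ≠ psi T h3 g' (i0 T h3) := fun h =>
    hne ((conj_eq_iff T h3 hnn g g').2 h)
  by_cases h1 : MulAut.conj x • T = MulAut.conj g • T
  · exact Or.inl h1
  by_cases h2 : MulAut.conj x • T = MulAut.conj g' • T
  · exact Or.inr (Or.inl h2)
  refine Or.inr (Or.inr ?_)
  intro s hs hsQ
  rw [conj_eq_iff T h3 hnn] at h1 h2
  rw [mem_conj_iff T h3] at hs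
  rw [mem_core_iff T h3] at hsQ
  rw [conj_conj, conj_eq_iff T h3 hnn]
  simp only [map_mul, Equiv.Perm.coe_mul, Function.comp_apply]
  have key : ∀ (σ : Equiv.Perm (Fin 3)) (i j l : Fin 3), i ≠ j → l ≠ i → l ≠ j → σ i = i → σ ≠ 1 →
      l = σ j := by decide
  exact key _ _ _ _ hij h1 h2 hs hsQ

theorem exists_orderOf_three (h3 : T.index = 3) : ∃ t : K, orderOf t = 3 := by
  have : Fact (Nat.Prime 3) := ⟨Nat.prime_three⟩
  apply exists_prime_orderOf_dvd_card' 3
  rw [card_eq T h3]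
  exact Dvd.intro _ rfl

theorem not_mem_of_orderOf_three (h2 : IsPGroup 2 T) (g : K) (t : K) (ht : orderOf t = 3) :
    t ∉ MulAut.conj g • T := by
  intro hmem
  rw [Subgroup.mem_pointwise_smul_iff_inv_smul_mem, MulAut.smul_def] at hmem
  obtain ⟨n, hn⟩ := h2 ⟨_, hmem⟩
  have h1 : ((MulAut.conj g)⁻¹ t) ^ 2 ^ n = 1 := by
    have := congrArg Subtype.val hn
    simpa using this
  rw [← map_pow] at h1
  have h3' : t ^ 2 ^ n = 1 := by
    have := (MulAut.conj g)⁻¹.injective (h1.trans (map_one _).symm)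
    exact this
  have hd : 3 ∣ 2 ^ n := ht ▸ orderOf_dvd_of_pow_eq_one h3'
  have := (Nat.Prime.dvd_of_dvd_pow Nat.prime_three hd)
  omega

theorem mem_of_normal_not_le (h3 : T.index = 3) (h2 : IsPGroup 2 T) (N : Subgroup K) [N.Normal]
    (hN : ¬ N ≤ T.normalCore) (t : K) (ht : orderOf t = 3) : t ∈ N := by
  have hNT : ¬ N ≤ T := fun h => hN (Subgroup.normal_le_normalCore.2 h)
  have htop : T ⊔ N = ⊤ := by
    apply eq_top_of_le_of_not_le T h3 _ le_sup_left
    intro h
    exact hNT (le_trans le_sup_right h)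
  -- `T → K ⧸ N` is surjective
  have hsurj : Function.Surjective ((QuotientGroup.mk' N).comp T.subtype) := by
    intro y
    obtain ⟨k, rfl⟩ := QuotientGroup.mk'_surjective N y
    have hk : k ∈ T ⊔ N := htop ▸ Subgroup.mem_top k
    have hk' : k ∈ ((T ⊔ N : Subgroup K) : Set K) := hk
    rw [Subgroup.mul_normal, Set.mem_mul] at hk'
    obtain ⟨a, ha, b, hb, rfl⟩ := hk'
    refine ⟨⟨a, ha⟩, ?_⟩
    simp only [MonoidHom.comp_apply, Subgroup.coe_subtype, QuotientGroup.mk'_apply]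
    rw [QuotientGroup.eq]
    simpa using hb
  have hp : IsPGroup 2 (K ⧸ N) := h2.of_surjective _ hsurj
  obtain ⟨n, hn⟩ := hp (QuotientGroup.mk' N t)
  have ht3' : t ^ 3 = 1 := by
    have := pow_orderOf_eq_one t
    rwa [ht] at this
  have h3' : (QuotientGroup.mk' N t) ^ 3 = 1 := by
    rw [← map_pow, ht3', map_one]
  have hone : QuotientGroup.mk' N t = 1 := by
    have hc : Nat.Coprime (2 ^ n) 3 := Nat.Coprime.pow_left n (by norm_num)
    have hd1 := orderOf_dvd_of_pow_eq_one hn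
    have hd2 := orderOf_dvd_of_pow_eq_one h3'
    have : orderOf (QuotientGroup.mk' N t) = 1 := Nat.eq_one_of_dvd_coprimes hc hd1 hd2
    exact orderOf_eq_one_iff.1 this
  exact (QuotientGroup.eq_one_iff t).1 hone

theorem sup_zpowers (h3 : T.index = 3) (h2 : IsPGroup 2 T) (g : K) (t : K) (ht : orderOf t = 3) :
    MulAut.conj g • T ⊔ Subgroup.zpowers t = ⊤ := by
  apply eq_top_of_le_of_not_le (MulAut.conj g • T) (index_conj T h3 g) _ le_sup_left
  intro h
  exact not_mem_of_orderOf_three T h2 g t ht (h (le_sup_right (a := MulAut.conj g • T)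
    (Subgroup.mem_zpowers t)))

theorem normal_two_le_core (h3 : T.index = 3) (h2 : IsPGroup 2 T) (N : Subgroup K) [N.Normal]
    (hN : IsPGroup 2 N) : N ≤ T.normalCore := by
  by_contra hle
  obtain ⟨t, ht⟩ := exists_orderOf_three T h3
  have htN := mem_of_normal_not_le T h3 h2 N hle t ht
  obtain ⟨n, hn⟩ := hN ⟨t, htN⟩
  have h1 : t ^ 2 ^ n = 1 := by
    have := congrArg Subtype.val hn
    simpa using this
  have hd : 3 ∣ 2 ^ n := ht ▸ orderOf_dvd_of_pow_eq_one h1
  have := (Nat.Prime.dvd_of_dvd_pow Nat.prime_three hd)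
  omega

theorem conj_order_three (h3 : T.index = 3) (h2 : IsPGroup 2 T) (g : K) (s : K)
    (hs : s ∈ MulAut.conj g • T) (hsQ : s ∉ T.normalCore) (t : K) (ht : orderOf t = 3) :
    s * t * s⁻¹ * t ∈ T.normalCore := by
  rw [mem_conj_iff T h3] at hs
  rw [mem_core_iff T h3] at hsQ ⊢
  have ht1 : psi T h3 t ≠ 1 := by
    intro h
    have hmem : t ∈ T.normalCore := (mem_core_iff T h3 t).2 h
    have hmem' : t ∈ MulAut.conj (1 : K) • T := by
      rw [map_one, one_smul]; exact T.normalCore_le hmem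
    exact not_mem_of_orderOf_three T h2 1 t ht hmem'
  have ht3' : t ^ 3 = 1 := by
    have := pow_orderOf_eq_one t
    rwa [ht] at this
  have ht3 : (psi T h3 t) ^ 3 = 1 := by
    rw [← map_pow, ht3', map_one]
  simp only [map_mul, map_inv]
  have key : ∀ (σ τ : Equiv.Perm (Fin 3)) (i : Fin 3), σ i = i → σ ≠ 1 → τ ≠ 1 → τ ^ 3 = 1 →
      σ * τ * σ⁻¹ * τ = 1 := by decide
  exact key _ _ _ hs hsQ ht1 ht3

theorem core_le_conj (g : K) : T.normalCore ≤ MulAut.conj g • T := by
  intro k hk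
  rw [Subgroup.mem_pointwise_smul_iff_inv_smul_mem, MulAut.smul_def, ← map_inv, MulAut.conj_apply,
    inv_inv]
  have := T.normalCore_le (T.normalCore_normal.conj_mem k hk g⁻¹)
  rwa [inv_inv] at this

theorem smul_conj_eq_self_iff (h3 : T.index = 3) (hnn : ¬ T.Normal) (g x : K) :
    MulAut.conj x • (MulAut.conj g • T) = MulAut.conj g • T ↔ x ∈ MulAut.conj g • T := by
  rw [conj_conj, conj_eq_iff T h3 hnn, mem_conj_iff T h3]
  simp only [map_mul, Equiv.Perm.coe_mul, Function.comp_apply]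

theorem exists_not_mem_core (h3 : T.index = 3) (hnn : ¬ T.Normal) (g : K) :
    ∃ s ∈ MulAut.conj g • T, s ∉ T.normalCore := by
  have key : ∀ i : Fin 3, ∃ σ : Equiv.Perm (Fin 3), σ i = i ∧ σ ≠ 1 := by decide
  obtain ⟨σ, h1, h2⟩ := key (psi T h3 g (i0 T h3))
  obtain ⟨k, rfl⟩ := psi_surj T h3 hnn σ
  exact ⟨k, (mem_conj_iff T h3 g k).2 h1, fun h => h2 ((mem_core_iff T h3 k).1 h)⟩

theorem mul_mem_core (h3 : T.index = 3) (g s s' : K) (hs : s ∈ MulAut.conj g • T)
    (hs' : s' ∈ MulAut.conj g • T) (hsQ : s ∉ T.normalCore) (hsQ' : s' ∉ T.normalCore) :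
    s * s' ∈ T.normalCore := by
  rw [mem_conj_iff T h3] at hs hs'
  rw [mem_core_iff T h3] at hsQ hsQ' ⊢
  rw [map_mul]
  have key : ∀ (σ τ : Equiv.Perm (Fin 3)) (i : Fin 3), σ i = i → τ i = i → σ ≠ 1 → τ ≠ 1 →
      σ * τ = 1 := by decide
  exact key _ _ _ hs hs' hsQ hsQ'

theorem sq_mem_core (h3 : T.index = 3) (g s : K) (hs : s ∈ MulAut.conj g • T) :
    s ^ 2 ∈ T.normalCore := by
  rw [mem_conj_iff T h3] at hs
  rw [mem_core_iff T h3, map_pow]
  have key : ∀ (σ : Equiv.Perm (Fin 3)) (i : Fin 3), σ i = i → σ ^ 2 = 1 := by decide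
  exact key _ _ hs

theorem smul_order_three_ne (h3 : T.index = 3) (hnn : ¬ T.Normal) (h2 : IsPGroup 2 T) (g t : K)
    (ht : orderOf t = 3) : MulAut.conj t • (MulAut.conj g • T) ≠ MulAut.conj g • T := by
  intro h
  exact not_mem_of_orderOf_three T h2 g t ht ((smul_conj_eq_self_iff T h3 hnn g t).1 h)

/-- an element of order three permutes the three conjugates cyclically -/
theorem smul_order_three_cycle (h3 : T.index = 3) (hnn : ¬ T.Normal) (h2 : IsPGroup 2 T) (g t : K)
    (ht : orderOf t = 3) (x : K) :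
    MulAut.conj x • T = MulAut.conj g • T ∨ MulAut.conj x • T = MulAut.conj t • (MulAut.conj g • T) ∨
      MulAut.conj x • T = MulAut.conj (t * t) • (MulAut.conj g • T) := by
  have ht1 : psi T h3 t ≠ 1 := by
    intro h
    have hmem : t ∈ T.normalCore := (mem_core_iff T h3 t).2 h
    exact not_mem_of_orderOf_three T h2 1 t ht (core_le_conj T 1 hmem)
  have ht3' : t ^ 3 = 1 := by
    have := pow_orderOf_eq_one t
    rwa [ht] at this
  have ht3 : (psi T h3 t) ^ 3 = 1 := by
    rw [← map_pow, ht3', map_one]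
  rw [conj_conj, conj_conj, conj_eq_iff T h3 hnn, conj_eq_iff T h3 hnn, conj_eq_iff T h3 hnn]
  simp only [map_mul, Equiv.Perm.coe_mul, Function.comp_apply]
  have key : ∀ (τ : Equiv.Perm (Fin 3)) (i l : Fin 3), τ ≠ 1 → τ ^ 3 = 1 →
      l = i ∨ l = τ i ∨ l = τ (τ i) := by decide
  exact key _ _ _ ht1 ht3

end Cfsg.Agent.Lib.H10.Sims
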