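import Cfsg.Agent.Lib.H10.SimsLOC
import Cfsg.Agent.Lib.H5.Sims.Defs

/-!
# S3685 / S3385, blueprint section 2 (piece LOC, exact-signature form)

`loc (S : Setup G) (hb : S.Bent) : S.Loc`, by applying `SimsLOC.lean` to `K := P_j`,
`T := T_j.subgroupOf P_j`.  Non-normality of `T_j` in `P_j` comes from the bent hypothesis
`T_(j-1) ≠ T_j` together with Sylow's theorem.
-/

set_option autoImplicit false

namespace Cfsg.Agent.Lib.H10.Sims

open scoped Pointwise

section inK

variable {K : Type*} [Group K] [Finite K] (T : Subgroup K)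

omit [Finite K] in
theorem card_conj (g : K) : Nat.card ↥(MulAut.conj g • T) = Nat.card T :=
  Nat.card_congr (Subgroup.equivSMul (MulAut.conj g) T).symm.toEquiv

/-- a subgroup of the order of `T` is a conjugate of `T` (Sylow) -/
theorem exists_conj_of_card_eq (h3 : T.index = 3) (h2 : IsPGroup 2 T) (X : Subgroup K)
    (hX : Nat.card X = Nat.card T) : ∃ g : K, X = MulAut.conj g • T := by
  have hf : Fact (Nat.Prime 2) := ⟨Nat.prime_two⟩
  have hX2 : IsPGroup 2 X := by
    obtain ⟨n, hn⟩ := (IsPGroup.iff_card).1 h2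
    exact IsPGroup.of_card (n := n) (hX.trans hn)
  have hnd : ¬ 2 ∣ T.index := by rw [h3]; decide
  obtain ⟨Q, hQ⟩ := hX2.exists_le_sylow
  obtain ⟨g, hg⟩ := MulAction.exists_smul_eq K (h2.toSylow hnd) Q
  refine ⟨g, ?_⟩
  have hQe : (Q : Subgroup K) = MulAut.conj g • T := by
    rw [← hg]; rfl
  have hle : X ≤ MulAut.conj g • T := by
    rw [← hQe]; exact hQ
  apply Subgroup.eq_of_le_of_card_ge hle
  rw [hX, card_conj]

theorem not_normal_of_ne (h3 : T.index = 3) (h2 : IsPGroup 2 T) (X : Subgroup K)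
    (hX : Nat.card X = Nat.card T) (hne : X ≠ T) : ¬ T.Normal := by
  intro hn
  obtain ⟨g, hg⟩ := exists_conj_of_card_eq T h3 h2 X hX
  apply hne
  rw [hg, Subgroup.Normal.conj_smul_eq_self]

end inK

section inG

variable {G : Type*} [Group G]

theorem map_conj_smul (P : Subgroup G) (g : P) (Y : Subgroup P) :
    (MulAut.conj g • Y).map P.subtype = MulAut.conj (g : G) • Y.map P.subtype := by
  ext x
  simp only [Subgroup.mem_map, Subgroup.mem_pointwise_smul_iff_inv_smul_mem, MulAut.smul_def,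
    ← map_inv, MulAut.conj_apply, inv_inv]
  constructor
  · rintro ⟨y, hy, rfl⟩
    exact ⟨g⁻¹ * y * g, hy, by simp⟩
  · rintro ⟨y, hy, hyx⟩
    have hyx' : (y : G) = (g : G)⁻¹ * x * (g : G) := hyx
    have hx : x ∈ P := by
      have h1 : (g : G) * (y : G) * (g : G)⁻¹ ∈ P := P.mul_mem (P.mul_mem g.2 y.2) (P.inv_mem g.2)
      rw [hyx'] at h1
      have h2 : x = (g : G) * ((g : G)⁻¹ * x * (g : G)) * (g : G)⁻¹ := by group
      rwa [h2]
    refine ⟨⟨x, hx⟩, ?_, rfl⟩
    have : g⁻¹ * ⟨x, hx⟩ * g = y := by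
      apply Subtype.ext
      simp [hyx']
    rw [this]; exact hy

theorem map_subgroupOf (P X : Subgroup G) (hX : X ≤ P) : (X.subgroupOf P).map P.subtype = X := by
  rw [Subgroup.subgroupOf_map_subtype, inf_eq_left.2 hX]

theorem map_top_subtype (P : Subgroup G) : (⊤ : Subgroup P).map P.subtype = P := by
  rw [← MonoidHom.range_eq_map, Subgroup.range_subtype]

theorem le_normalizer_of_conj_mem (P X : Subgroup G)
    (h : ∀ p ∈ P, ∀ x ∈ X, p * x * p⁻¹ ∈ X) : P ≤ Subgroup.normalizer (X : Set G) := by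
  intro p hp
  rw [Subgroup.mem_normalizer_iff]
  intro x
  constructor
  · exact h p hp x
  · intro hx
    have := h p⁻¹ (P.inv_mem hp) _ hx
    simpa [mul_assoc] using this

theorem card_subgroupOf [Finite G] (P X : Subgroup G) (hX : X ≤ P) :
    Nat.card (X.subgroupOf P) = Nat.card X :=
  Nat.card_congr (Subgroup.subgroupOfEquivOfLe hX).toEquiv

/-- the local hypothesis at one `P_j` -/
structure LocHyp [Finite G] (P T T' : Subgroup G) (n : ℕ) : Prop where
  le : T ≤ P
  le' : T' ≤ P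
  cardP : Nat.card P = 3 * n
  card : Nat.card T = n
  card' : Nat.card T' = n
  two : IsPGroup 2 T
  ne : T' ≠ T

namespace LocHyp

variable [Finite G] {P T T' : Subgroup G} {n : ℕ} (H : LocHyp P T T' n)
include H

theorem n_pos : 0 < n := by
  rw [← H.card]; exact Nat.card_pos

theorem h3 : (T.subgroupOf P).index = 3 := by
  have h1 := (T.subgroupOf P).index_mul_card
  rw [card_subgroupOf P T H.le, H.card, H.cardP] at h1
  exact Nat.eq_of_mul_eq_mul_right H.n_pos h1

theorem h2 : IsPGroup 2 (T.subgroupOf P) := H.two.comap_subtype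

theorem cardK (X : Subgroup G) (hX : X ≤ P) (hc : Nat.card X = n) :
    Nat.card (X.subgroupOf P) = Nat.card (T.subgroupOf P) := by
  rw [card_subgroupOf P X hX, card_subgroupOf P T H.le, hc, H.card]

theorem hnn : ¬ (T.subgroupOf P).Normal := by
  apply not_normal_of_ne _ H.h3 H.h2 (T'.subgroupOf P) (H.cardK T' H.le' H.card')
  intro h
  apply H.ne
  rw [← map_subgroupOf P T' H.le', h, map_subgroupOf P T H.le]

/-- every "Sylow" of `P` is a `P`-conjugate of `T` -/
theorem syl (X : Subgroup G) (hX : X ≤ P) (hc : Nat.card X = n) :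
    ∃ g : P, X = (MulAut.conj g • T.subgroupOf P).map P.subtype := by
  obtain ⟨g, hg⟩ := exists_conj_of_card_eq _ H.h3 H.h2 (X.subgroupOf P) (H.cardK X hX hc)
  exact ⟨g, by rw [← hg, map_subgroupOf P X hX]⟩

omit [Finite G] H in
theorem map_inj {A B : Subgroup P} (h : A.map P.subtype = B.map P.subtype) : A = B :=
  Subgroup.map_injective P.subtype_injective h

theorem core_eq : (T.subgroupOf P).normalCore.map P.subtype = T' ⊓ T := by
  obtain ⟨g, hg⟩ := H.syl T' H.le' H.card'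
  have hT : T = (MulAut.conj (1 : P) • T.subgroupOf P).map P.subtype := by
    rw [map_one, one_smul, map_subgroupOf P T H.le]
  have hne : MulAut.conj g • T.subgroupOf P ≠ MulAut.conj (1 : P) • T.subgroupOf P := by
    intro h
    apply H.ne
    rw [hg, h, ← hT]
  rw [← inf_conj _ H.h3 H.hnn g 1 hne, Subgroup.map_inf _ _ _ P.subtype_injective, ← hg, ← hT]

theorem cardQ : n = 2 * Nat.card ↥(T' ⊓ T) := by
  have h1 := core_relIndex _ H.h3 H.hnn
  have h2 := ((T.subgroupOf P).normalCore.subgroupOf (T.subgroupOf P)).index_mul_card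
  rw [Subgroup.relIndex] at h1
  rw [h1, card_subgroupOf _ _ (Subgroup.normalCore_le _), card_subgroupOf P T H.le, H.card] at h2
  rw [← h2, ← H.core_eq]
  congr 1
  exact Nat.card_congr
    (Subgroup.equivMapOfInjective _ P.subtype P.subtype_injective).toEquiv

theorem Q_norm : P ≤ Subgroup.normalizer ((T' ⊓ T : Subgroup G) : Set G) := by
  rw [← H.core_eq]
  apply le_normalizer_of_conj_mem
  rintro p hp x ⟨q, hq, rfl⟩
  exact ⟨⟨p, hp⟩ * q * ⟨p, hp⟩⁻¹, (Subgroup.normalCore_normal _).conj_mem q hq ⟨p, hp⟩, by simp⟩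

theorem syl_inf (X X' : Subgroup G) (hX : X ≤ P) (hc : Nat.card X = n) (hX' : X' ≤ P)
    (hc' : Nat.card X' = n) (hne : X ≠ X') : X ⊓ X' = T' ⊓ T := by
  obtain ⟨g, hg⟩ := H.syl X hX hc
  obtain ⟨g', hg'⟩ := H.syl X' hX' hc'
  have hne' : MulAut.conj g • T.subgroupOf P ≠ MulAut.conj g' • T.subgroupOf P := by
    intro h; apply hne; rw [hg, hg', h]
  rw [← H.core_eq, ← inf_conj _ H.h3 H.hnn g g' hne',
    Subgroup.map_inf _ _ _ P.subtype_injective, ← hg, ← hg']

theorem syl_sup (X X' : Subgroup G) (hX : X ≤ P) (hc : Nat.card X = n) (hX' : X' ≤ P)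
    (hc' : Nat.card X' = n) (hne : X ≠ X') : X ⊔ X' = P := by
  obtain ⟨g, hg⟩ := H.syl X hX hc
  obtain ⟨g', hg'⟩ := H.syl X' hX' hc'
  have hne' : MulAut.conj g • T.subgroupOf P ≠ MulAut.conj g' • T.subgroupOf P := by
    intro h; apply hne; rw [hg, hg', h]
  have := congrArg (Subgroup.map P.subtype) (sup_conj _ H.h3 H.hnn g g' hne')
  rw [Subgroup.map_sup, ← hg, ← hg', map_top_subtype] at this
  exact this

theorem syl_conj (X X' : Subgroup G) (hX : X ≤ P) (hc : Nat.card X = n) (hX' : X' ≤ P)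
    (hc' : Nat.card X' = n) : ∃ x ∈ P, MulAut.conj x • X = X' := by
  obtain ⟨g, hg⟩ := H.syl X hX hc
  obtain ⟨g', hg'⟩ := H.syl X' hX' hc'
  refine ⟨((g' * g⁻¹ : P) : G), (g' * g⁻¹ : P).2, ?_⟩
  rw [hg, hg', ← map_conj_smul, conj_conj, inv_mul_cancel_right]

theorem syl_selfnorm (X : Subgroup G) (hX : X ≤ P) (hc : Nat.card X = n) (x : G) (hx : x ∈ P)
    (hxX : MulAut.conj x • X = X) : x ∈ X := by
  obtain ⟨g, hg⟩ := H.syl X hX hc
  have h1 : MulAut.conj (⟨x, hx⟩ : P) • (MulAut.conj g • T.subgroupOf P) =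
      MulAut.conj g • T.subgroupOf P := by
    apply LocHyp.map_inj
    rw [map_conj_smul, ← hg]
    exact hxX
  have h2 := (smul_conj_eq_self_iff _ H.h3 H.hnn g ⟨x, hx⟩).1 h1
  rw [hg]
  exact ⟨⟨x, hx⟩, h2, rfl⟩

theorem exists_three : ∃ t ∈ P, orderOf t = 3 := by
  obtain ⟨t, ht⟩ := exists_orderOf_three _ H.h3
  exact ⟨(t : G), t.2, by rw [Subgroup.orderOf_coe]; exact ht⟩

theorem sup_three (X : Subgroup G) (hX : X ≤ P) (hc : Nat.card X = n) (t : G) (ht : t ∈ P)
    (ho : orderOf t = 3) : X ⊔ Subgroup.zpowers t = P := by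
  obtain ⟨g, hg⟩ := H.syl X hX hc
  have ho' : orderOf (⟨t, ht⟩ : P) = 3 := by rw [← Subgroup.orderOf_coe]; exact ho
  have := congrArg (Subgroup.map P.subtype) (sup_zpowers _ H.h3 H.h2 g ⟨t, ht⟩ ho')
  rw [Subgroup.map_sup, ← hg, map_top_subtype, MonoidHom.map_zpowers] at this
  exact this

theorem three_mem (N : Subgroup G) (hN : N ≤ P) (hn : P ≤ Subgroup.normalizer (N : Set G))
    (hNQ : ¬ N ≤ T' ⊓ T) (t : G) (ht : t ∈ P) (ho : orderOf t = 3) : t ∈ N := by
  have ho' : orderOf (⟨t, ht⟩ : P) = 3 := by rw [← Subgroup.orderOf_coe]; exact ho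
  have hnorm : (N.subgroupOf P).Normal := (Subgroup.normal_subgroupOf_iff_le_normalizer hN).2 hn
  have hle : ¬ N.subgroupOf P ≤ (T.subgroupOf P).normalCore := by
    intro h
    apply hNQ
    rw [← H.core_eq, ← map_subgroupOf P N hN]
    exact Subgroup.map_mono h
  have := mem_of_normal_not_le _ H.h3 H.h2 (N.subgroupOf P) hle ⟨t, ht⟩ ho'
  exact this

theorem two_le (N : Subgroup G) (hN : N ≤ P) (hn : P ≤ Subgroup.normalizer (N : Set G))
    (hN2 : IsPGroup 2 ↥N) : N ≤ T' ⊓ T := by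
  have hnorm : (N.subgroupOf P).Normal := (Subgroup.normal_subgroupOf_iff_le_normalizer hN).2 hn
  have := normal_two_le_core _ H.h3 H.h2 (N.subgroupOf P) hN2.comap_subtype
  rw [← H.core_eq, ← map_subgroupOf P N hN]
  exact Subgroup.map_mono this

end LocHyp

end inG

section adapter

open Cfsg.Agent.Lib.H5.Sims

variable {G : Type*} [Group G] [Finite G]

omit [Finite G] in
theorem bent_all (S : Setup G) (hb : S.Bent) (j : ℤ) : S.Tj (j - 1) ≠ S.Tj j := by
  intro h
  apply hb.bent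
  have h1 := S.conj_Tj (-j) (j - 1)
  have h2 := S.conj_Tj (-j) j
  rw [h] at h1
  rw [show -j + (j - 1) = -1 by ring] at h1
  rw [show -j + j = 0 by ring] at h2
  rw [← h1, ← h2]

theorem two_all (S : Setup G) (hb : S.Bent) (j : ℤ) : IsPGroup 2 ↥(S.Tj j) := by
  have hf : Fact (Nat.Prime 2) := ⟨Nat.prime_two⟩
  obtain ⟨n, hn⟩ := (IsPGroup.iff_card).1 hb.two
  exact IsPGroup.of_card (n := n) ((S.card_Tj j).trans hn)

theorem locHyp (S : Setup G) (hb : S.Bent) (j : ℤ) :
    LocHyp (S.Pj j) (S.Tj j) (S.Tj (j - 1)) (Nat.card (S.Tj 0)) where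
  le := S.Tj_le_left j
  le' := S.Tj_pred_le j
  cardP := S.card_Pj_eq j
  card := S.card_Tj j
  card' := S.card_Tj (j - 1)
  two := two_all S hb j
  ne := bent_all S hb j

theorem P_ne (S : Setup G) (j : ℤ) : S.Pj j ≠ S.Pj (j + 1) := by
  intro h
  have h1 : S.Tj j = S.Pj j := by
    rw [Setup.Tj, ← h, inf_idem]
  have h2 := S.card_Pj_eq j
  rw [← h1, S.card_Tj j] at h2
  have : 0 < Nat.card (S.Tj 0) := Nat.card_pos
  omega

theorem loc (S : Setup G) (hb : S.Bent) : S.Loc where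
  bent := bent_all S hb
  P_ne := P_ne S
  P_ne2 := by
    intro j h
    apply bent_all S hb j
    rw [Setup.Tj, Setup.Tj, sub_add_cancel, h, inf_comm]
  cardQ := fun j => (locHyp S hb j).cardQ
  Q_norm := fun j => (locHyp S hb j).Q_norm
  syl_inf := fun j X X' hX hX' hne => (locHyp S hb j).syl_inf X X' hX.1 hX.2 hX'.1 hX'.2 hne
  syl_sup := fun j X X' hX hX' hne => (locHyp S hb j).syl_sup X X' hX.1 hX.2 hX'.1 hX'.2 hne
  syl_conj := fun j X X' hX hX' => (locHyp S hb j).syl_conj X X' hX.1 hX.2 hX'.1 hX'.2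
  syl_selfnorm := fun j X hX x hx hxX => (locHyp S hb j).syl_selfnorm X hX.1 hX.2 x hx hxX
  exists_three := fun j => (locHyp S hb j).exists_three
  sup_three := fun j X hX t ht ho => (locHyp S hb j).sup_three X hX.1 hX.2 t ht ho
  three_mem := fun j N hN hn hNQ t ht ho => (locHyp S hb j).three_mem N hN hn hNQ t ht ho
  two_le := fun j N hN hn hN2 => (locHyp S hb j).two_le N hN hn hN2
  Q_ne := by
    intro j hQ h
    apply hQ
    apply S.no_common_normal_Pj j (j + 1) (S.Qj j) (S.Qj_le j) ((locHyp S hb j).Q_norm)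
    · have := (locHyp S hb (j + 1)).Q_norm
      rw [h]
      exact this
    · exact P_ne S j

end adapter

end Cfsg.Agent.Lib.H10.Sims
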