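import Cfsg.Agent.Lib.H10.SimsLOC2

/-!
# S3685 / S3385, blueprint section 2: the extra `S_3`-facts for an arbitrary Sylow of `P_j`

`loc_extra (S : Setup G) (hb : S.Bent)`: `Q_j ≤ X`, `X \ Q_j ≠ ∅`, `|X : Q_j| = 2` in product form,
and `s t s⁻¹ t ∈ Q_j` for `s ∈ X \ Q_j`, `t` of order 3.
-/

set_option autoImplicit false

namespace Cfsg.Agent.Lib.H10.Sims

open scoped Pointwise

section inG

variable {G : Type*} [Group G]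

theorem mem_map_subtype_iff (P : Subgroup G) (A : Subgroup P) (x : G) (hx : x ∈ P) :
    x ∈ A.map P.subtype ↔ (⟨x, hx⟩ : P) ∈ A := by
  rw [Subgroup.mem_map]
  constructor
  · rintro ⟨y, hy, rfl⟩
    exact hy
  · intro h
    exact ⟨⟨x, hx⟩, h, rfl⟩

namespace LocHyp

variable [Finite G] {P T T' : Subgroup G} {n : ℕ} (H : LocHyp P T T' n)
include H

theorem Q_le (X : Subgroup G) (hX : X ≤ P) (hc : Nat.card X = n) : T' ⊓ T ≤ X := by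
  obtain ⟨g, hg⟩ := H.syl X hX hc
  rw [← H.core_eq, hg]
  exact Subgroup.map_mono (core_le_conj _ g)

theorem ex_not_mem (X : Subgroup G) (hX : X ≤ P) (hc : Nat.card X = n) :
    ∃ s ∈ X, s ∉ T' ⊓ T := by
  obtain ⟨g, hg⟩ := H.syl X hX hc
  obtain ⟨s, hs, hsQ⟩ := exists_not_mem_core _ H.h3 H.hnn g
  refine ⟨(s : G), ?_, ?_⟩
  · rw [hg]; exact ⟨s, hs, rfl⟩
  · rw [← H.core_eq, mem_map_subtype_iff P _ _ s.2]
    exact hsQ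

theorem mul_mem_Q (X : Subgroup G) (hX : X ≤ P) (hc : Nat.card X = n) (s : G) (hs : s ∈ X)
    (s' : G) (hs' : s' ∈ X) (hsQ : s ∉ T' ⊓ T) (hsQ' : s' ∉ T' ⊓ T) : s * s' ∈ T' ⊓ T := by
  obtain ⟨g, hg⟩ := H.syl X hX hc
  have hsP : s ∈ P := hX hs
  have hsP' : s' ∈ P := hX hs'
  rw [← H.core_eq, mem_map_subtype_iff P _ _ hsP] at hsQ
  rw [← H.core_eq, mem_map_subtype_iff P _ _ hsP'] at hsQ'
  rw [hg, mem_map_subtype_iff P _ _ hsP] at hs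
  rw [hg, mem_map_subtype_iff P _ _ hsP'] at hs'
  rw [← H.core_eq, mem_map_subtype_iff P _ _ (P.mul_mem hsP hsP')]
  exact mul_mem_core _ H.h3 g ⟨s, hsP⟩ ⟨s', hsP'⟩ hs hs' hsQ hsQ'

theorem conj_three (X : Subgroup G) (hX : X ≤ P) (hc : Nat.card X = n) (s : G) (hs : s ∈ X)
    (hsQ : s ∉ T' ⊓ T) (t : G) (ht : t ∈ P) (ho : orderOf t = 3) :
    s * t * s⁻¹ * t ∈ T' ⊓ T := by
  obtain ⟨g, hg⟩ := H.syl X hX hc
  have hsP : s ∈ P := hX hs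
  have ho' : orderOf (⟨t, ht⟩ : P) = 3 := by rw [← Subgroup.orderOf_coe]; exact ho
  rw [← H.core_eq, mem_map_subtype_iff P _ _ hsP] at hsQ
  rw [hg, mem_map_subtype_iff P _ _ hsP] at hs
  rw [← H.core_eq, mem_map_subtype_iff P _ _
    (P.mul_mem (P.mul_mem (P.mul_mem hsP ht) (P.inv_mem hsP)) ht)]
  exact conj_order_three _ H.h3 H.h2 g ⟨s, hsP⟩ hs hsQ ⟨t, ht⟩ ho'

theorem sq_mem_Q (X : Subgroup G) (hX : X ≤ P) (hc : Nat.card X = n) (s : G) (hs : s ∈ X) :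
    s ^ 2 ∈ T' ⊓ T := by
  obtain ⟨g, hg⟩ := H.syl X hX hc
  have hsP : s ∈ P := hX hs
  rw [hg, mem_map_subtype_iff P _ _ hsP] at hs
  rw [← H.core_eq, mem_map_subtype_iff P _ _ (P.pow_mem hsP 2)]
  exact sq_mem_core _ H.h3 g ⟨s, hsP⟩ hs

end LocHyp

end inG

section adapter

open Cfsg.Agent.Lib.H5.Sims

variable {G : Type*} [Group G] [Finite G]

theorem loc_extra (S : Setup G) (hb : S.Bent) :
    (∀ (j : ℤ) (X : Subgroup G), S.IsSyl j X → S.Qj j ≤ X) ∧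
    (∀ (j : ℤ) (X : Subgroup G), S.IsSyl j X → ∃ s ∈ X, s ∉ S.Qj j) ∧
    (∀ (j : ℤ) (X : Subgroup G), S.IsSyl j X → ∀ s ∈ X, ∀ s' ∈ X, s ∉ S.Qj j → s' ∉ S.Qj j →
      s * s' ∈ S.Qj j) ∧
    (∀ (j : ℤ) (X : Subgroup G), S.IsSyl j X → ∀ s ∈ X, s ∉ S.Qj j → ∀ t ∈ S.Pj j,
      orderOf t = 3 → s * t * s⁻¹ * t ∈ S.Qj j) :=
  ⟨fun j X hX => (locHyp S hb j).Q_le X hX.1 hX.2,
   fun j X hX => (locHyp S hb j).ex_not_mem X hX.1 hX.2,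
   fun j X hX s hs s' hs' hsQ hsQ' => (locHyp S hb j).mul_mem_Q X hX.1 hX.2 s hs s' hs' hsQ hsQ',
   fun j X hX s hs hsQ t ht ho => (locHyp S hb j).conj_three X hX.1 hX.2 s hs hsQ t ht ho⟩

theorem loc_sq_mem (S : Setup G) (hb : S.Bent) (j : ℤ) (X : Subgroup G) (hX : S.IsSyl j X) :
    ∀ s ∈ X, s ^ 2 ∈ S.Qj j :=
  fun s hs => (locHyp S hb j).sq_mem_Q X hX.1 hX.2 s hs

end adapter

end Cfsg.Agent.Lib.H10.Sims
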