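import Cfsg.Agent.Lib.H10.SimsLOC3

/-!
# S3685 / S3385, blueprint section 2: more `S_3`-facts at `P_j` (for MOD / L2 / L3)

* `syl_cycle`: the Sylows of `P_j` are `X`, `X^t`, `X^(t t)` for any Sylow `X` and `t` of order 3.
* `three_coset`: two elements of order 3 of `P_j` are equal or inverse modulo `Q_j`.
* `three_not_mem`: an element of order 3 lies in no Sylow of `P_j`.
* `syl_three_ne`: `X^t ≠ X`.
-/

set_option autoImplicit false

namespace Cfsg.Agent.Lib.H10.Sims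

open scoped Pointwise

section inK

variable {K : Type*} [Group K] [Finite K] (T : Subgroup K)

/-- two elements of order three are equal or inverse modulo the core -/
theorem order_three_coset (h3 : T.index = 3) (h2 : IsPGroup 2 T) (t t' : K)
    (ht : orderOf t = 3) (ht' : orderOf t' = 3) :
    t' * t⁻¹ ∈ T.normalCore ∨ t' * t ∈ T.normalCore := by
  have hne : ∀ u : K, orderOf u = 3 → psi T h3 u ≠ 1 := by
    intro u hu h
    have hmem : u ∈ T.normalCore := (mem_core_iff T h3 u).2 h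
    exact not_mem_of_orderOf_three T h2 1 u hu (core_le_conj T 1 hmem)
  have hpow : ∀ u : K, orderOf u = 3 → (psi T h3 u) ^ 3 = 1 := by
    intro u hu
    have := pow_orderOf_eq_one u
    rw [hu] at this
    rw [← map_pow, this, map_one]
  rw [mem_core_iff T h3, mem_core_iff T h3, map_mul, map_mul, map_inv]
  have key : ∀ (τ τ' : Equiv.Perm (Fin 3)), τ ≠ 1 → τ ^ 3 = 1 → τ' ≠ 1 → τ' ^ 3 = 1 →
      τ' * τ⁻¹ = 1 ∨ τ' * τ = 1 := by decide
  exact key _ _ (hne t ht) (hpow t ht) (hne t' ht') (hpow t' ht')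

end inK

section inG

variable {G : Type*} [Group G]

namespace LocHyp

variable [Finite G] {P T T' : Subgroup G} {n : ℕ} (H : LocHyp P T T' n)
include H

theorem syl_cycle (X : Subgroup G) (hX : X ≤ P) (hc : Nat.card X = n) (t : G) (ht : t ∈ P)
    (ho : orderOf t = 3) (X' : Subgroup G) (hX' : X' ≤ P) (hc' : Nat.card X' = n) :
    X' = X ∨ X' = MulAut.conj t • X ∨ X' = MulAut.conj (t * t) • X := by
  obtain ⟨g, hg⟩ := H.syl X hX hc
  obtain ⟨x, hx⟩ := H.syl X' hX' hc'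
  have ho' : orderOf (⟨t, ht⟩ : P) = 3 := by rw [← Subgroup.orderOf_coe]; exact ho
  have h1 : MulAut.conj t • X =
      (MulAut.conj (⟨t, ht⟩ : P) • (MulAut.conj g • T.subgroupOf P)).map P.subtype := by
    rw [map_conj_smul, ← hg]
  have h2 : MulAut.conj (t * t) • X =
      (MulAut.conj ((⟨t, ht⟩ : P) * ⟨t, ht⟩) • (MulAut.conj g • T.subgroupOf P)).map P.subtype := by
    rw [map_conj_smul, ← hg]; rfl
  rw [h1, h2, hx, hg]
  rcases smul_order_three_cycle _ H.h3 H.hnn H.h2 g ⟨t, ht⟩ ho' x with h | h | h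
  · left; rw [h]
  · right; left; rw [h]
  · right; right; rw [h]

theorem three_not_mem (X : Subgroup G) (hX : X ≤ P) (hc : Nat.card X = n) (t : G) (ht : t ∈ P)
    (ho : orderOf t = 3) : t ∉ X := by
  obtain ⟨g, hg⟩ := H.syl X hX hc
  have ho' : orderOf (⟨t, ht⟩ : P) = 3 := by rw [← Subgroup.orderOf_coe]; exact ho
  rw [hg, mem_map_subtype_iff P _ _ ht]
  exact not_mem_of_orderOf_three _ H.h2 g ⟨t, ht⟩ ho'

theorem three_coset (t : G) (ht : t ∈ P) (ho : orderOf t = 3) (t' : G) (ht' : t' ∈ P)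
    (ho' : orderOf t' = 3) : t' * t⁻¹ ∈ T' ⊓ T ∨ t' * t ∈ T' ⊓ T := by
  have h1 : orderOf (⟨t, ht⟩ : P) = 3 := by rw [← Subgroup.orderOf_coe]; exact ho
  have h2 : orderOf (⟨t', ht'⟩ : P) = 3 := by rw [← Subgroup.orderOf_coe]; exact ho'
  rw [← H.core_eq, mem_map_subtype_iff P _ _ (P.mul_mem ht' (P.inv_mem ht)),
    mem_map_subtype_iff P _ _ (P.mul_mem ht' ht)]
  exact order_three_coset _ H.h3 H.h2 ⟨t, ht⟩ ⟨t', ht'⟩ h1 h2

end LocHyp

end inG

section adapter

open Cfsg.Agent.Lib.H5.Sims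

variable {G : Type*} [Group G] [Finite G]

/-- the Sylows of `P_j` are `X`, `X^t`, `X^(t t)` -/
theorem syl_cycle (S : Setup G) (hb : S.Bent) (j : ℤ) (X : Subgroup G) (hX : S.IsSyl j X)
    (t : G) (ht : t ∈ S.Pj j) (ho : orderOf t = 3) (X' : Subgroup G) (hX' : S.IsSyl j X') :
    X' = X ∨ X' = MulAut.conj t • X ∨ X' = MulAut.conj (t * t) • X :=
  (locHyp S hb j).syl_cycle X hX.1 hX.2 t ht ho X' hX'.1 hX'.2

/-- an element of order 3 lies in no Sylow of `P_j` -/
theorem three_not_mem (S : Setup G) (hb : S.Bent) (j : ℤ) (X : Subgroup G) (hX : S.IsSyl j X)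
    (t : G) (ht : t ∈ S.Pj j) (ho : orderOf t = 3) : t ∉ X :=
  (locHyp S hb j).three_not_mem X hX.1 hX.2 t ht ho

/-- two elements of order 3 of `P_j` are equal or inverse modulo `Q_j` -/
theorem three_coset (S : Setup G) (hb : S.Bent) (j : ℤ) (t : G) (ht : t ∈ S.Pj j)
    (ho : orderOf t = 3) (t' : G) (ht' : t' ∈ S.Pj j) (ho' : orderOf t' = 3) :
    t' * t⁻¹ ∈ S.Qj j ∨ t' * t ∈ S.Qj j :=
  (locHyp S hb j).three_coset t ht ho t' ht' ho'

omit [Finite G] in
/-- a conjugate by an element of `P_j` of a Sylow of `P_j` is a Sylow of `P_j` -/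
theorem isSyl_conj (S : Setup G) (j : ℤ) (X : Subgroup G) (hX : S.IsSyl j X) (x : G)
    (hx : x ∈ S.Pj j) : S.IsSyl j (MulAut.conj x • X) := by
  refine ⟨?_, ?_⟩
  · intro y hy
    rw [mem_conj_smul] at hy
    have := (S.Pj j).mul_mem ((S.Pj j).mul_mem hx (hX.1 hy)) ((S.Pj j).inv_mem hx)
    simpa [mul_assoc] using this
  · rw [← hX.2]
    exact Nat.card_congr (Subgroup.equivSMul (MulAut.conj x) X).symm.toEquiv

/-- `X^t ≠ X` for `t` of order 3 -/
theorem syl_three_ne (S : Setup G) (hb : S.Bent) (j : ℤ) (X : Subgroup G) (hX : S.IsSyl j X)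
    (t : G) (ht : t ∈ S.Pj j) (ho : orderOf t = 3) : MulAut.conj t • X ≠ X := by
  intro h
  exact three_not_mem S hb j X hX t ht ho ((loc S hb).syl_selfnorm j X hX t ht h)

end adapter

end Cfsg.Agent.Lib.H10.Sims
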