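import Mathlib
import Cfsg.Agent.Lib.H11.SuPar1
import Cfsg.Agent.Lib.H10.SfA

/-!
# Subfield subgroups of `SU_n(q)` (part A): Siegel elements and their calculus

Everything is phrased with matrices: `InH H M` says that the matrix `M` is (the matrix of) an
element of the subgroup `H` of `GL_n(F)`.  The Siegel (Eichler) element with centre `y` is
`Em φ y w s : x ↦ x + B(y,x) w + (s B(y,x) - B(w,x)) y` (from `S0781`), where `B = Bs φ n`.
Special cases: the transvection `Um φ y c = Em φ y 0 c` and the short root element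
`Sm φ y y' β = Em φ y' (β • y) 0 : x ↦ x + β B(y',x) y - φ β B(y,x) y'`.
-/

set_option autoImplicit false
set_option linter.unusedSectionVars false
set_option linter.unusedVariables false
set_option linter.unusedSimpArgs false

namespace Cfsg.Agent.Lib.H10.Su

open Matrix
open Cfsg.Agent.S0837 (Bs Bs_apply Bs_symm Bs_nondeg)
open Cfsg.Agent.S0782 (Tm Tm_mulVec Tm_det Bs_eq_herm gu_preserves)
open Cfsg.Agent.S0781 (Em Em_mulVec Em_det Em_preserves Em_comm)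
open Cfsg.Agent.Lib.H11.UGen (Um Um_mulVec)

variable {F : Type*} [Field F] {n : ℕ}

/-! ### matrices lying in a subgroup -/

/-- the matrix `M` is the matrix of an element of `H` -/
def InH (H : Subgroup (GL (Fin n) F)) (M : Matrix (Fin n) (Fin n) F) : Prop :=
  ∃ g ∈ H, (g : Matrix (Fin n) (Fin n) F) = M

theorem InH.one (H : Subgroup (GL (Fin n) F)) : InH H 1 := ⟨1, H.one_mem, rfl⟩

theorem inH_val {H : Subgroup (GL (Fin n) F)} {g : GL (Fin n) F} (hg : g ∈ H) :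
    InH H (g : Matrix (Fin n) (Fin n) F) := ⟨g, hg, rfl⟩

theorem InH.mem {H : Subgroup (GL (Fin n) F)} {g : GL (Fin n) F}
    (hg : InH H (g : Matrix (Fin n) (Fin n) F)) : g ∈ H := by
  obtain ⟨g', hg', h⟩ := hg
  have : g' = g := Units.ext h
  rwa [← this]

theorem InH.mul {H : Subgroup (GL (Fin n) F)} {A B : Matrix (Fin n) (Fin n) F}
    (hA : InH H A) (hB : InH H B) : InH H (A * B) := by
  obtain ⟨a, ha, rfl⟩ := hA
  obtain ⟨b, hb, rfl⟩ := hB
  exact ⟨a * b, H.mul_mem ha hb, rfl⟩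

theorem InH.inv_of_mul {H : Subgroup (GL (Fin n) F)} {A B : Matrix (Fin n) (Fin n) F}
    (hA : InH H A) (hAB : A * B = 1) : InH H B := by
  obtain ⟨a, ha, rfl⟩ := hA
  refine ⟨a⁻¹, H.inv_mem ha, ?_⟩
  calc ((a⁻¹ : GL (Fin n) F) : Matrix (Fin n) (Fin n) F)
      = ((a⁻¹ : GL (Fin n) F) : Matrix (Fin n) (Fin n) F) * ((a : Matrix (Fin n) (Fin n) F) * B) := by
        rw [hAB, mul_one]
    _ = B := by
        rw [← mul_assoc, ← Units.val_mul, inv_mul_cancel, Units.val_one, one_mul]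

theorem InH.mono {H K : Subgroup (GL (Fin n) F)} (h : H ≤ K) {A : Matrix (Fin n) (Fin n) F}
    (hA : InH H A) : InH K A := by
  obtain ⟨a, ha, rfl⟩ := hA
  exact ⟨a, h ha, rfl⟩

theorem InH.congr {H : Subgroup (GL (Fin n) F)} {A B : Matrix (Fin n) (Fin n) F}
    (hA : InH H A) (h : A = B) : InH H B := h ▸ hA

/-- if `A B = D (B A)` with `A`, `B` in `H` then `D` is in `H` -/
theorem InH.of_comm {H : Subgroup (GL (Fin n) F)} {A B D : Matrix (Fin n) (Fin n) F}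
    (hA : InH H A) (hB : InH H B) (h : A * B = D * (B * A)) : InH H D := by
  obtain ⟨a, ha, rfl⟩ := hA
  obtain ⟨b, hb, rfl⟩ := hB
  refine ⟨a * b * (b * a)⁻¹, H.mul_mem (H.mul_mem ha hb) (H.inv_mem (H.mul_mem hb ha)), ?_⟩
  have h1 : ((a * b * (b * a)⁻¹ : GL (Fin n) F) : Matrix (Fin n) (Fin n) F) =
      D * (((b * a : GL (Fin n) F) : Matrix (Fin n) (Fin n) F) *
        (((b * a)⁻¹ : GL (Fin n) F) : Matrix (Fin n) (Fin n) F)) := by
    rw [← mul_assoc]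
    show (a : Matrix (Fin n) (Fin n) F) * b * _ = D * (b * a) * _
    rw [h]
  rw [h1, ← Units.val_mul, mul_inv_cancel, Units.val_one, mul_one]

/-! ### the calculus of Siegel elements -/

section siegel
variable (φ : F →+* F)

theorem B_symm' (hφ2 : ∀ x, φ (φ x) = x) (u v : Fin n → F) : φ (Bs φ n u v) = Bs φ n v u :=
  (Bs_symm φ hφ2 n).eq u v

theorem B_zero_symm (hφ2 : ∀ x, φ (φ x) = x) {u v : Fin n → F} (h : Bs φ n u v = 0) :
    Bs φ n v u = 0 := by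
  rw [← B_symm' φ hφ2 u v, h, map_zero]

theorem Em_zero (hφ2 : ∀ x, φ (φ x) = x) (y : Fin n → F) (hyy : Bs φ n y y = 0) :
    Em φ y 0 0 = 1 := by
  rw [Matrix.ext_iff_mulVec]
  intro x
  rw [Em_mulVec φ hφ2 y 0 0 hyy, Matrix.one_mulVec]
  simp

theorem Um_eq_Em (hφ2 : ∀ x, φ (φ x) = x) (y : Fin n → F) (c : F) (hyy : Bs φ n y y = 0) :
    Um φ y c = Em φ y 0 c := by
  rw [Matrix.ext_iff_mulVec]
  intro x
  rw [Em_mulVec φ hφ2 y 0 c hyy, Um_mulVec]
  simp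

/-- product of two Siegel elements with the same centre -/
theorem Em_mul (hφ2 : ∀ x, φ (φ x) = x) (y w w' : Fin n → F) (s s' : F)
    (hyy : Bs φ n y y = 0) (hyw' : Bs φ n y w' = 0) (hwy : Bs φ n w y = 0) :
    Em φ y w s * Em φ y w' s' = Em φ y (w + w') (s + s' - Bs φ n w w') := by
  rw [Matrix.ext_iff_mulVec]
  intro x
  rw [← Matrix.mulVec_mulVec]
  simp only [Em_mulVec φ hφ2 _ _ _ hyy]
  simp only [map_add, map_sub, map_smul, LinearMap.add_apply, LinearMap.sub_apply, smul_eq_mul, hyy,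
    hyw', hwy, mul_zero, add_zero, sub_zero]
  module

/-- scaling the centre -/
theorem Em_smul (hφ2 : ∀ x, φ (φ x) = x) (y w : Fin n → F) (s a : F) (hyy : Bs φ n y y = 0) :
    Em φ (a • y) w s = Em φ y (φ a • w) (s * a * φ a) := by
  have hyy' : Bs φ n (a • y) (a • y) = 0 := by
    simp only [map_smulₛₗ, map_smul, LinearMap.smul_apply, smul_eq_mul, hyy, mul_zero]
  rw [Matrix.ext_iff_mulVec]
  intro x
  rw [Em_mulVec φ hφ2 _ _ _ hyy', Em_mulVec φ hφ2 _ _ _ hyy]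
  simp only [map_smulₛₗ, map_smul, LinearMap.smul_apply, smul_eq_mul, hφ2]
  module

/-- conjugation by an isometry -/
theorem Em_conj (hφ2 : ∀ x, φ (φ x) = x) (y w : Fin n → F) (s : F) (hyy : Bs φ n y y = 0)
    (g gi : Matrix (Fin n) (Fin n) F) (hgi : g * gi = 1)
    (hg : ∀ u v, Bs φ n (g *ᵥ u) (g *ᵥ v) = Bs φ n u v) :
    g * Em φ y w s * gi = Em φ (g *ᵥ y) (g *ᵥ w) s := by
  have hyy' : Bs φ n (g *ᵥ y) (g *ᵥ y) = 0 := by rw [hg]; exact hyy
  have hinv : ∀ u x, Bs φ n u (gi *ᵥ x) = Bs φ n (g *ᵥ u) x := by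
    intro u x
    rw [← hg u (gi *ᵥ x), Matrix.mulVec_mulVec, hgi, Matrix.one_mulVec]
  rw [Matrix.ext_iff_mulVec]
  intro x
  rw [← Matrix.mulVec_mulVec, ← Matrix.mulVec_mulVec, Em_mulVec φ hφ2 _ _ _ hyy,
    Em_mulVec φ hφ2 _ _ _ hyy', hinv, hinv]
  simp only [Matrix.mulVec_add, Matrix.mulVec_smul, Matrix.mulVec_mulVec, hgi, Matrix.one_mulVec]

/-- the commutator relation of two Siegel elements with the same centre, on matrices -/
theorem Em_comm_mat (hφ2 : ∀ x, φ (φ x) = x) (y w₁ w₂ : Fin n → F) (s₁ s₂ : F)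
    (hyy : Bs φ n y y = 0) (hyw₁ : Bs φ n y w₁ = 0) (hyw₂ : Bs φ n y w₂ = 0) :
    Em φ y w₁ s₁ * Em φ y w₂ s₂ =
      Um φ y (Bs φ n w₂ w₁ - Bs φ n w₁ w₂) * (Em φ y w₂ s₂ * Em φ y w₁ s₁) := by
  rw [Matrix.ext_iff_mulVec]
  intro x
  rw [← Matrix.mulVec_mulVec, ← Matrix.mulVec_mulVec, ← Matrix.mulVec_mulVec]
  exact Em_comm φ hφ2 y w₁ w₂ s₁ s₂ hyy hyw₁ (B_zero_symm φ hφ2 hyw₁) hyw₂
    (B_zero_symm φ hφ2 hyw₂) x

/-! ### short root elements -/

/-- the short root element `x ↦ x + β B(y',x) y - φ β B(y,x) y'` -/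
def Sm (y y' : Fin n → F) (β : F) : Matrix (Fin n) (Fin n) F := Em φ y' (β • y) 0

theorem Sm_mulVec (hφ2 : ∀ x, φ (φ x) = x) (y y' : Fin n → F) (β : F) (hy' : Bs φ n y' y' = 0)
    (x : Fin n → F) :
    Sm φ y y' β *ᵥ x = x + (β * Bs φ n y' x) • y - (φ β * Bs φ n y x) • y' := by
  rw [Sm, Em_mulVec φ hφ2 _ _ _ hy']
  simp only [map_smulₛₗ, LinearMap.smul_apply, smul_eq_mul, zero_mul, zero_sub]
  module

theorem Sm_symm (hφ2 : ∀ x, φ (φ x) = x) (y y' : Fin n → F) (β : F) (hy : Bs φ n y y = 0)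
    (hy' : Bs φ n y' y' = 0) : Sm φ y y' β = Sm φ y' y (-φ β) := by
  rw [Matrix.ext_iff_mulVec]
  intro x
  rw [Sm_mulVec φ hφ2 _ _ _ hy', Sm_mulVec φ hφ2 _ _ _ hy]
  simp only [map_neg, hφ2]
  module

theorem Sm_zero (hφ2 : ∀ x, φ (φ x) = x) (y y' : Fin n → F) (hy' : Bs φ n y' y' = 0) :
    Sm φ y y' 0 = 1 := by
  rw [Sm, zero_smul]
  exact Em_zero φ hφ2 y' hy'

theorem Sm_add (hφ2 : ∀ x, φ (φ x) = x) (y y' : Fin n → F) (β γ : F) (hy : Bs φ n y y = 0)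
    (hy' : Bs φ n y' y' = 0) (hyy' : Bs φ n y y' = 0) :
    Sm φ y y' β * Sm φ y y' γ = Sm φ y y' (β + γ) := by
  have h' : Bs φ n y' y = 0 := B_zero_symm φ hφ2 hyy'
  rw [Sm, Sm, Sm, Em_mul φ hφ2 _ _ _ _ _ hy']
  · congr 1
    · rw [add_smul]
    · simp only [map_smulₛₗ, map_smul, LinearMap.smul_apply, smul_eq_mul, hy, mul_zero, add_zero,
        sub_zero]
  · rw [map_smul, h', smul_zero]
  · rw [map_smulₛₗ, LinearMap.smul_apply, hyy', smul_zero]

theorem Sm_smul_left (y y' : Fin n → F) (a β : F) : Sm φ (a • y) y' β = Sm φ y y' (β * a) := by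
  rw [Sm, Sm, smul_smul]

theorem Sm_smul_right (hφ2 : ∀ x, φ (φ x) = x) (y y' : Fin n → F) (a β : F)
    (hy' : Bs φ n y' y' = 0) : Sm φ y (a • y') β = Sm φ y y' (φ a * β) := by
  rw [Sm, Sm, Em_smul φ hφ2 _ _ _ _ hy', smul_smul, zero_mul, zero_mul]

/-- the `A₂` commutator relation: `(y', z)` is a hyperbolic pair, everything else orthogonal -/
theorem Sm_comm (hφ2 : ∀ x, φ (φ x) = x) (y y' z z' : Fin n → F) (β γ : F)
    (hy : Bs φ n y y = 0) (hy' : Bs φ n y' y' = 0) (hz : Bs φ n z z = 0) (hz' : Bs φ n z' z' = 0)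
    (hyy' : Bs φ n y y' = 0) (hzz' : Bs φ n z z' = 0) (hyz : Bs φ n y z = 0)
    (hyz' : Bs φ n y z' = 0) (hy'z' : Bs φ n y' z' = 0) (hy'z : Bs φ n y' z = 1) :
    Sm φ y y' β * Sm φ z z' γ = Sm φ y z' (β * γ) * (Sm φ z z' γ * Sm φ y y' β) := by
  have h1 : Bs φ n y' y = 0 := B_zero_symm φ hφ2 hyy'
  have h2 : Bs φ n z' z = 0 := B_zero_symm φ hφ2 hzz'
  have h3 : Bs φ n z y = 0 := B_zero_symm φ hφ2 hyz
  have h4 : Bs φ n z' y = 0 := B_zero_symm φ hφ2 hyz'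
  have h5 : Bs φ n z' y' = 0 := B_zero_symm φ hφ2 hy'z'
  have h6 : Bs φ n z y' = 1 := by rw [← B_symm' φ hφ2 y' z, hy'z, map_one]
  rw [Matrix.ext_iff_mulVec]
  intro x
  rw [← Matrix.mulVec_mulVec, ← Matrix.mulVec_mulVec, ← Matrix.mulVec_mulVec]
  simp only [Sm_mulVec φ hφ2 _ _ _ hy', Sm_mulVec φ hφ2 _ _ _ hz']
  simp only [map_add, map_sub, map_smul, map_mul, LinearMap.add_apply, LinearMap.sub_apply,
    smul_eq_mul, hy, hy', hz, hz', hyy', hzz', hyz, hyz', hy'z', hy'z, h1, h2, h3, h4, h5, h6,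
    mul_zero, add_zero, sub_zero, mul_one]
  module

/-- decomposition of a transvection with centre in a totally isotropic plane -/
theorem Um_add (hφ2 : ∀ x, φ (φ x) = x) (y y' : Fin n → F) (a b c : F) (hc : c + φ c = 0)
    (hy : Bs φ n y y = 0) (hy' : Bs φ n y' y' = 0) (hyy' : Bs φ n y y' = 0) :
    Um φ (a • y + b • y') c =
      Um φ y (c * a * φ a) * (Um φ y' (c * b * φ b) * Sm φ y y' (c * a * φ b)) := by
  have h1 : Bs φ n y' y = 0 := B_zero_symm φ hφ2 hyy'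
  have hφc : φ c = -c := by linear_combination hc
  rw [Matrix.ext_iff_mulVec]
  intro x
  rw [← Matrix.mulVec_mulVec, ← Matrix.mulVec_mulVec]
  simp only [Um_mulVec, Sm_mulVec φ hφ2 _ _ _ hy']
  simp only [map_add, map_sub, map_smul, map_smulₛₗ, map_mul, LinearMap.add_apply,
    LinearMap.sub_apply, LinearMap.smul_apply, smul_eq_mul, hy, hy', hyy', h1, mul_zero, add_zero,
    sub_zero, hφ2, hφc]
  module

end siegel

end Cfsg.Agent.Lib.H10.Su
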