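import Mathlib
import Cfsg.Agent.Lib.H10.SuA
import Cfsg.Agent.Lib.H24.OSfA
import Cfsg.Agent.Lib.H11.Subf1

/-!
# Orthogonal subfield subgroups of `SU_n(q)` (part A): rational structures

`F = F_{q²}`, `F₀ = F_q` the fixed field of `φ = (·)^q`.  A rational structure is given by an
invertible matrix `P`: the rational vectors are the `F₀`-combinations of the columns of `P`,
and the hermitian form `Bs φ n` takes values in `F₀` on them (so it is symmetric there).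
We transfer the existence results for rational quadratic forms (helper24, `OSfA`) to this setting.
-/

set_option autoImplicit false
set_option linter.unusedSectionVars false
set_option linter.unusedVariables false
set_option linter.unusedSimpArgs false

namespace Cfsg.Agent.Lib.H10.So

open Matrix
open Cfsg.Agent.S0837 (Bs Bs_apply Bs_symm Bs_nondeg)
open Cfsg.Agent.S0781 (Em Em_mulVec)
open Cfsg.Agent.Lib.H11.UGen (Um Um_mulVec)
open Cfsg.Agent.Lib.H10.Sf (IsRat)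
open Cfsg.Agent.Lib.H10.Su

variable {F : Type*} [Field F] [Fintype F] {n q : ℕ}

/-- the rational vectors of the rational structure spanned by the columns of `P` -/
def RatV (F₀ : Subfield F) (P : GL (Fin n) F) (x : Fin n → F) : Prop :=
  ∃ u : Fin n → F, IsRat F₀ u ∧ x = (P : Matrix (Fin n) (Fin n) F) *ᵥ u

section basic
variable {F₀ : Subfield F} {P : GL (Fin n) F}

theorem RatV.zero : RatV F₀ P (0 : Fin n → F) := ⟨0, IsRat.zero, by rw [Matrix.mulVec_zero]⟩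

theorem RatV.add {x y : Fin n → F} (hx : RatV F₀ P x) (hy : RatV F₀ P y) : RatV F₀ P (x + y) := by
  obtain ⟨u, hu, rfl⟩ := hx
  obtain ⟨v, hv, rfl⟩ := hy
  exact ⟨u + v, hu.add hv, by rw [Matrix.mulVec_add]⟩

theorem RatV.neg {x : Fin n → F} (hx : RatV F₀ P x) : RatV F₀ P (-x) := by
  obtain ⟨u, hu, rfl⟩ := hx
  exact ⟨-u, hu.neg, by rw [Matrix.mulVec_neg]⟩

theorem RatV.sub {x y : Fin n → F} (hx : RatV F₀ P x) (hy : RatV F₀ P y) : RatV F₀ P (x - y) := by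
  rw [sub_eq_add_neg]; exact hx.add hy.neg

theorem RatV.smul {x : Fin n → F} (hx : RatV F₀ P x) {c : F} (hc : c ∈ F₀) :
    RatV F₀ P (c • x) := by
  obtain ⟨u, hu, rfl⟩ := hx
  exact ⟨c • u, hu.smul hc, by rw [Matrix.mulVec_smul]⟩

theorem ratV_mulVec {u : Fin n → F} (hu : IsRat F₀ u) :
    RatV F₀ P ((P : Matrix (Fin n) (Fin n) F) *ᵥ u) := ⟨u, hu, rfl⟩

theorem gl_inv_mulVec (P : GL (Fin n) F) (x : Fin n → F) :
    ((P⁻¹ : GL (Fin n) F) : Matrix (Fin n) (Fin n) F) *ᵥ ((P : Matrix (Fin n) (Fin n) F) *ᵥ x) = x := by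
  rw [Matrix.mulVec_mulVec, ← Units.val_mul, inv_mul_cancel, Units.val_one, Matrix.one_mulVec]

theorem gl_mulVec_inv (P : GL (Fin n) F) (x : Fin n → F) :
    (P : Matrix (Fin n) (Fin n) F) *ᵥ (((P⁻¹ : GL (Fin n) F) : Matrix (Fin n) (Fin n) F) *ᵥ x) = x := by
  rw [Matrix.mulVec_mulVec, ← Units.val_mul, mul_inv_cancel, Units.val_one, Matrix.one_mulVec]

theorem ratV_iff {x : Fin n → F} :
    RatV F₀ P x ↔ IsRat F₀ (((P⁻¹ : GL (Fin n) F) : Matrix (Fin n) (Fin n) F) *ᵥ x) := by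
  constructor
  · rintro ⟨u, hu, rfl⟩
    rwa [gl_inv_mulVec]
  · intro h
    exact ⟨_, h, (gl_mulVec_inv P x).symm⟩

theorem mulVec_injective (P : GL (Fin n) F) {x y : Fin n → F}
    (h : (P : Matrix (Fin n) (Fin n) F) *ᵥ x = (P : Matrix (Fin n) (Fin n) F) *ᵥ y) : x = y := by
  have := congrArg (fun z => ((P⁻¹ : GL (Fin n) F) : Matrix (Fin n) (Fin n) F) *ᵥ z) h
  simpa only [gl_inv_mulVec] using this

end basic

/-! ### the Gram matrix and the associated quadratic form -/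

/-- the Gram matrix of the hermitian form on the columns of `P` -/
def gram (φ : F →+* F) (P : GL (Fin n) F) : Matrix (Fin n) (Fin n) F :=
  ((P : Matrix (Fin n) (Fin n) F).map φ)ᵀ * (P : Matrix (Fin n) (Fin n) F)

theorem B_mulVec (φ : F →+* F) (P : GL (Fin n) F) (u x : Fin n → F) :
    Bs φ n ((P : Matrix (Fin n) (Fin n) F) *ᵥ u) ((P : Matrix (Fin n) (Fin n) F) *ᵥ x) =
      (φ ∘ u) ⬝ᵥ (gram φ P *ᵥ x) := by
  rw [Bs_apply, gram, ← Matrix.mulVec_mulVec, Matrix.dotProduct_mulVec, Matrix.vecMul_transpose]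
  rw [dotProduct_comm]
  unfold dotProduct
  refine Finset.sum_congr rfl fun i _ => ?_
  rw [RingHom.map_mulVec]

/-- the quadratic form `x ↦ ½ xᵀ J x` of the Gram matrix -/
noncomputable def Qj (φ : F →+* F) (P : GL (Fin n) F) : QuadraticForm F (Fin n → F) :=
  LinearMap.BilinMap.toQuadraticMap (Matrix.toLinearMap₂' F ((2 : F)⁻¹ • gram φ P))

theorem Qj_apply (φ : F →+* F) (P : GL (Fin n) F) (x : Fin n → F) :
    Qj φ P x = (2 : F)⁻¹ * (x ⬝ᵥ (gram φ P *ᵥ x)) := by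
  unfold Qj
  rw [LinearMap.BilinMap.toQuadraticMap_apply, Matrix.toLinearMap₂'_apply']
  rw [Matrix.smul_mulVec, dotProduct_smul, smul_eq_mul]

theorem polar_Qj (φ : F →+* F) (P : GL (Fin n) F) (x y : Fin n → F) :
    QuadraticMap.polar (⇑(Qj φ P)) x y =
      (2 : F)⁻¹ * (x ⬝ᵥ (gram φ P *ᵥ y)) + (2 : F)⁻¹ * (y ⬝ᵥ (gram φ P *ᵥ x)) := by
  unfold Qj
  rw [LinearMap.BilinMap.polar_toQuadraticMap, Matrix.toLinearMap₂'_apply',
    Matrix.toLinearMap₂'_apply']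
  simp only [Matrix.smul_mulVec, dotProduct_smul, smul_eq_mul]

/-- the standing hypotheses on the field and the rational structure -/
structure RS (φ : F →+* F) (n q : ℕ) (F₀ : Subfield F) (P : GL (Fin n) F) : Prop where
  hF : Fintype.card F = q ^ 2
  hφ : ∀ x, φ x = x ^ q
  hφ2 : ∀ x, φ (φ x) = x
  hfix : ∀ x, x ∈ F₀ ↔ φ x = x
  h2 : (2 : F) ≠ 0
  hB : ∀ u v, RatV F₀ P u → RatV F₀ P v → Bs φ n u v ∈ F₀
  hn : 13 ≤ n

section rs
variable {φ : F →+* F} {F₀ : Subfield F} {P : GL (Fin n) F}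

theorem RS.fix (R : RS φ n q F₀ P) {a : F} (ha : a ∈ F₀) : φ a = a := (R.hfix a).1 ha

theorem RS.comp_rat (R : RS φ n q F₀ P) {u : Fin n → F} (hu : IsRat F₀ u) : φ ∘ u = u := by
  funext i
  exact R.fix (hu i)

theorem RS.B_symm (R : RS φ n q F₀ P) {u v : Fin n → F} (hu : RatV F₀ P u) (hv : RatV F₀ P v) :
    Bs φ n u v = Bs φ n v u := by
  rw [← B_symm' φ R.hφ2 u v]
  exact (R.fix (R.hB u v hu hv)).symm

theorem RS.B_rat (R : RS φ n q F₀ P) {u : Fin n → F} (hu : IsRat F₀ u) (x : Fin n → F) :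
    Bs φ n ((P : Matrix (Fin n) (Fin n) F) *ᵥ u) ((P : Matrix (Fin n) (Fin n) F) *ᵥ x) =
      u ⬝ᵥ (gram φ P *ᵥ x) := by
  rw [B_mulVec, R.comp_rat hu]

theorem RS.gram_mem (R : RS φ n q F₀ P) (i j : Fin n) : gram φ P i j ∈ F₀ := by
  have h := R.hB _ _ (ratV_mulVec (P := P) (Cfsg.Agent.Lib.H10.Sf.ee_rat (F₀ := F₀) i))
    (ratV_mulVec (P := P) (Cfsg.Agent.Lib.H10.Sf.ee_rat (F₀ := F₀) j))
  rw [R.B_rat (Cfsg.Agent.Lib.H10.Sf.ee_rat i)] at h
  unfold Cfsg.Agent.Lib.H10.Sf.ee at h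
  rw [single_dotProduct, one_mul, Matrix.mulVec_single_one] at h
  exact h

theorem RS.gram_symm (R : RS φ n q F₀ P) (i j : Fin n) : gram φ P i j = gram φ P j i := by
  have h1 : gram φ P i j = Bs φ n ((P : Matrix (Fin n) (Fin n) F) *ᵥ Pi.single i 1)
      ((P : Matrix (Fin n) (Fin n) F) *ᵥ Pi.single j 1) := by
    rw [R.B_rat (IsRat.single i F₀.one_mem), single_dotProduct, one_mul, Matrix.mulVec_single_one]
    rfl
  have h2 : gram φ P j i = Bs φ n ((P : Matrix (Fin n) (Fin n) F) *ᵥ Pi.single j 1)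
      ((P : Matrix (Fin n) (Fin n) F) *ᵥ Pi.single i 1) := by
    rw [R.B_rat (IsRat.single j F₀.one_mem), single_dotProduct, one_mul, Matrix.mulVec_single_one]
    rfl
  rw [h1, h2]
  exact R.B_symm (ratV_mulVec (IsRat.single i F₀.one_mem)) (ratV_mulVec (IsRat.single j F₀.one_mem))

theorem RS.gram_dot_symm (R : RS φ n q F₀ P) (x y : Fin n → F) :
    x ⬝ᵥ (gram φ P *ᵥ y) = y ⬝ᵥ (gram φ P *ᵥ x) := by
  have ht : (gram φ P)ᵀ = gram φ P := by
    ext i j
    rw [Matrix.transpose_apply]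
    exact R.gram_symm j i
  rw [Matrix.dotProduct_mulVec, ← Matrix.mulVec_transpose, ht, dotProduct_comm]

theorem RS.polar (R : RS φ n q F₀ P) (x y : Fin n → F) :
    QuadraticMap.polar (⇑(Qj φ P)) x y = x ⬝ᵥ (gram φ P *ᵥ y) := by
  rw [polar_Qj, R.gram_dot_symm y x]
  have := R.h2
  field_simp
  ring

/-- the bridge between the hermitian form and the polar form -/
theorem RS.B_eq_polar (R : RS φ n q F₀ P) {u : Fin n → F} (hu : IsRat F₀ u) (x : Fin n → F) :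
    Bs φ n ((P : Matrix (Fin n) (Fin n) F) *ᵥ u) ((P : Matrix (Fin n) (Fin n) F) *ᵥ x) =
      QuadraticMap.polar (⇑(Qj φ P)) u x := by
  rw [R.B_rat hu, R.polar]

theorem RS.two_mem (R : RS φ n q F₀ P) : (2 : F) ∈ F₀ := by
  have : (2 : F) = 1 + 1 := by norm_num
  rw [this]; exact F₀.add_mem F₀.one_mem F₀.one_mem

theorem RS.ratForm (R : RS φ n q F₀ P) : Cfsg.Agent.Lib.H24.OSf.RatForm (Qj φ P) F₀ := by
  intro v hv
  rw [Qj_apply]
  refine F₀.mul_mem (F₀.inv_mem R.two_mem) (IsRat.dot hv ?_)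
  intro i
  unfold Matrix.mulVec
  exact IsRat.dot (fun j => R.gram_mem i j) hv

theorem gram_det_ne (φ : F →+* F) (P : GL (Fin n) F) : (gram φ P).det ≠ 0 := by
  unfold gram
  rw [Matrix.det_mul, Matrix.det_transpose, ← RingHom.mapMatrix_apply, ← RingHom.map_det]
  have hP : (P : Matrix (Fin n) (Fin n) F).det ≠ 0 := by
    have := P.isUnit
    have h2 := (Matrix.isUnit_iff_isUnit_det _).1 this
    exact h2.ne_zero
  exact mul_ne_zero ((map_ne_zero φ).2 hP) hP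

theorem RS.nondeg (R : RS φ n q F₀ P) : (QuadraticMap.polarBilin (Qj φ P)).Nondegenerate := by
  have hdet := gram_det_ne φ P
  have hu : IsUnit (gram φ P) := (Matrix.isUnit_iff_isUnit_det _).2 (isUnit_iff_ne_zero.2 hdet)
  constructor
  · intro x hx
    have h1 : ∀ y, x ⬝ᵥ (gram φ P *ᵥ y) = 0 := by
      intro y
      have := hx y
      rw [QuadraticMap.polarBilin_apply_apply, R.polar] at this
      exact this
    funext i
    have h2 := h1 ((gram φ P)⁻¹ *ᵥ Pi.single i 1)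
    rw [Matrix.mulVec_mulVec, Matrix.mul_nonsing_inv _ ((Matrix.isUnit_iff_isUnit_det _).1 hu),
      Matrix.one_mulVec, dotProduct_single, mul_one] at h2
    exact h2
  · intro y hy
    have h1 : ∀ x, x ⬝ᵥ (gram φ P *ᵥ y) = 0 := by
      intro x
      have := hy x
      rw [QuadraticMap.polarBilin_apply_apply, R.polar] at this
      exact this
    have h2 : gram φ P *ᵥ y = 0 := by
      funext i
      have := h1 (Pi.single i 1)
      rw [single_dotProduct, one_mul] at this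
      exact this
    have h3 := congrArg (fun z => (gram φ P)⁻¹ *ᵥ z) h2
    simp only [Matrix.mulVec_mulVec, Matrix.mulVec_zero] at h3
    rw [Matrix.nonsing_inv_mul _ ((Matrix.isUnit_iff_isUnit_det _).1 hu), Matrix.one_mulVec] at h3
    exact h3

/-! ### real and imaginary parts -/

theorem RS.exists_theta (R : RS φ n q F₀ P) : ∃ θ : F, θ ≠ 0 ∧ φ θ = -θ ∧ θ ∉ F₀ := by
  have hne := Cfsg.Agent.S0837.phi_ne_id φ R.hF R.hφ
  obtain ⟨ω, hω⟩ : ∃ ω, φ ω ≠ ω := by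
    by_contra hcon
    push Not at hcon
    exact hne (RingHom.ext hcon)
  have h0 : ω - φ ω ≠ 0 := sub_ne_zero.2 (Ne.symm hω)
  have h1 : φ (ω - φ ω) = -(ω - φ ω) := by rw [map_sub, R.hφ2]; ring
  refine ⟨ω - φ ω, h0, h1, fun hmem => ?_⟩
  have h2 := R.fix hmem
  rw [h1] at h2
  have h3 : (2 : F) * (ω - φ ω) = 0 := by linear_combination -h2
  rcases mul_eq_zero.1 h3 with h | h
  · exact R.h2 h
  · exact h0 h

theorem RS.phi_two (R : RS φ n q F₀ P) : φ (2 : F) = 2 := R.fix R.two_mem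

theorem RS.scalar_decomp (R : RS φ n q F₀ P) {θ : F} (hθ0 : θ ≠ 0) (hθ : φ θ = -θ) (t : F) :
    ∃ a b : F, a ∈ F₀ ∧ b ∈ F₀ ∧ t = a + θ * b := by
  have h2 := R.h2
  refine ⟨(t + φ t) / 2, (t - φ t) / (2 * θ), ?_, ?_, ?_⟩
  · rw [R.hfix, map_div₀, map_add, R.hφ2, R.phi_two]; ring
  · rw [R.hfix, map_div₀, map_sub, map_mul, R.hφ2, R.phi_two, hθ]
    field_simp
    ring
  · field_simp
    ring

theorem RS.scalar_unique (R : RS φ n q F₀ P) {θ : F} (hθ0 : θ ≠ 0) (hθ : φ θ = -θ) {a b : F}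
    (ha : a ∈ F₀) (hb : b ∈ F₀) (h : a + θ * b = 0) : a = 0 ∧ b = 0 := by
  have h1 := congrArg φ h
  rw [map_add, map_mul, R.fix ha, R.fix hb, hθ, map_zero] at h1
  have h3 : (2 : F) * a = 0 := by linear_combination h + h1
  have ha0 : a = 0 := (mul_eq_zero.1 h3).resolve_left R.h2
  rw [ha0, zero_add] at h
  exact ⟨ha0, (mul_eq_zero.1 h).resolve_left hθ0⟩

theorem RS.mem_of_add_mul (R : RS φ n q F₀ P) {θ : F} (hθ0 : θ ≠ 0) (hθ : φ θ = -θ) {a b : F}
    (ha : a ∈ F₀) (hb : b ∈ F₀) (h : a + θ * b ∈ F₀) : b = 0 := by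
  have h1 : (a - (a + θ * b)) + θ * b = 0 := by ring
  exact (R.scalar_unique hθ0 hθ (F₀.sub_mem ha h) hb h1).2

/-- every vector is `a + θ b` with `a`, `b` rational -/
theorem RS.decomp (R : RS φ n q F₀ P) {θ : F} (hθ0 : θ ≠ 0) (hθ : φ θ = -θ) (x : Fin n → F) :
    ∃ a b : Fin n → F, RatV F₀ P a ∧ RatV F₀ P b ∧ x = a + θ • b := by
  have h := fun i => R.scalar_decomp hθ0 hθ
    ((((P⁻¹ : GL (Fin n) F) : Matrix (Fin n) (Fin n) F) *ᵥ x) i)
  choose a b ha hb hab using h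
  refine ⟨(P : Matrix (Fin n) (Fin n) F) *ᵥ a, (P : Matrix (Fin n) (Fin n) F) *ᵥ b,
    ratV_mulVec ha, ratV_mulVec hb, ?_⟩
  rw [← Matrix.mulVec_smul, ← Matrix.mulVec_add]
  have : a + θ • b = ((P⁻¹ : GL (Fin n) F) : Matrix (Fin n) (Fin n) F) *ᵥ x := by
    funext i
    rw [hab i]
    rfl
  rw [this, gl_mulVec_inv]

theorem RS.decomp_unique (R : RS φ n q F₀ P) {θ : F} (hθ0 : θ ≠ 0) (hθ : φ θ = -θ)
    {a b : Fin n → F} (ha : RatV F₀ P a) (hb : RatV F₀ P b) (h : a + θ • b = 0) :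
    a = 0 ∧ b = 0 := by
  obtain ⟨u, hu, rfl⟩ := ha
  obtain ⟨v, hv, rfl⟩ := hb
  rw [← Matrix.mulVec_smul, ← Matrix.mulVec_add] at h
  have h1 : u + θ • v = 0 := by
    apply mulVec_injective P
    rw [h, Matrix.mulVec_zero]
  have h2 : ∀ i, u i = 0 ∧ v i = 0 := by
    intro i
    have := congrFun h1 i
    exact R.scalar_unique hθ0 hθ (hu i) (hv i) this
  have hu0 : u = 0 := funext fun i => (h2 i).1
  have hv0 : v = 0 := funext fun i => (h2 i).2
  rw [hu0, hv0, Matrix.mulVec_zero]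
  exact ⟨rfl, rfl⟩

/-- a rational vector which is an irrational multiple of a rational vector vanishes -/
theorem RS.mem_of_smul_ratV (R : RS φ n q F₀ P) {v : Fin n → F} {c : F} (hv : RatV F₀ P v)
    (hv0 : v ≠ 0) (hcv : RatV F₀ P (c • v)) : c ∈ F₀ := by
  obtain ⟨u, hu, rfl⟩ := hv
  obtain ⟨w, hw, hw'⟩ := hcv
  rw [← Matrix.mulVec_smul] at hw'
  have h1 := mulVec_injective P hw'
  have hu0 : u ≠ 0 := by
    rintro rfl
    exact hv0 (Matrix.mulVec_zero _)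
  have h2 : IsRat F₀ (c • u) := h1 ▸ hw
  obtain ⟨i, hi⟩ : ∃ i, u i ≠ 0 := by
    by_contra hcon
    push Not at hcon
    exact hu0 (funext hcon)
  have h3 := h2 i
  rw [Pi.smul_apply, smul_eq_mul] at h3
  have : c = c * u i * (u i)⁻¹ := by field_simp
  rw [this]
  exact F₀.mul_mem h3 (F₀.inv_mem (hu i))

/-! ### the hermitian form against rational vectors -/

theorem RS.nondeg_rat (R : RS φ n q F₀ P) {x : Fin n → F}
    (h : ∀ w, RatV F₀ P w → Bs φ n w x = 0) : x = 0 := by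
  obtain ⟨θ, hθ0, hθ, -⟩ := R.exists_theta
  apply (Bs_nondeg φ n).2 x
  intro w
  obtain ⟨a, b, ha, hb, rfl⟩ := R.decomp hθ0 hθ w
  rw [map_add, map_smulₛₗ, LinearMap.add_apply, LinearMap.smul_apply, h a ha, h b hb]
  simp

end rs

end Cfsg.Agent.Lib.H10.So
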