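import Mathlib
import Cfsg.Agent.Lib.H10.SoA

/-!
# Orthogonal subfield subgroups of `SU_n(q)` (part B): existence of rational singular vectors,
double perpendiculars, membership in the subfield subgroup
-/

set_option autoImplicit false
set_option linter.unusedSectionVars false
set_option linter.unusedVariables false
set_option linter.unusedSimpArgs false

namespace Cfsg.Agent.Lib.H10.So

open Matrix
open Cfsg.Agent.S0837 (Bs Bs_apply Bs_symm Bs_nondeg)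
open Cfsg.Agent.S0781 (Em Em_mulVec)
open Cfsg.Agent.Lib.H11.UGen (Um Um_mulVec)
open Cfsg.Agent.Lib.H10.Sf (IsRat)
open Cfsg.Agent.Lib.H10.Su

variable {F : Type*} [Field F] [Fintype F] {n q : ℕ}
variable {φ : F →+* F} {F₀ : Subfield F} {P : GL (Fin n) F}

theorem RS.B_self (R : RS φ n q F₀ P) {u : Fin n → F} (hu : IsRat F₀ u) :
    Bs φ n ((P : Matrix (Fin n) (Fin n) F) *ᵥ u) ((P : Matrix (Fin n) (Fin n) F) *ᵥ u) =
      2 * Qj φ P u := by
  rw [R.B_eq_polar hu, QuadraticMap.polar_self, two_smul, two_mul]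

/-- a rational hyperbolic pair orthogonal to finitely many rational vectors -/
theorem RS.exists_hyp_perp (R : RS φ n q F₀ P) {k : ℕ} (vs : Fin k → Fin n → F)
    (hvs : ∀ i, RatV F₀ P (vs i)) (hk : 2 * k + 3 ≤ n) :
    ∃ e f, RatV F₀ P e ∧ RatV F₀ P f ∧ Bs φ n e e = 0 ∧ Bs φ n f f = 0 ∧ Bs φ n e f = 1 ∧
      (∀ i, Bs φ n (vs i) e = 0) ∧ ∀ i, Bs φ n (vs i) f = 0 := by
  choose u hu hvu using hvs
  obtain ⟨e, f, he, hf, hQe, hQf, hef, hve, hvf⟩ :=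
    Cfsg.Agent.Lib.H24.OSf.exists_rat_hyp_perp R.ratForm R.nondeg u hu hk
  refine ⟨(P : Matrix (Fin n) (Fin n) F) *ᵥ e, (P : Matrix (Fin n) (Fin n) F) *ᵥ f,
    ratV_mulVec he, ratV_mulVec hf, ?_, ?_, ?_, fun i => ?_, fun i => ?_⟩
  · rw [R.B_self he, hQe, mul_zero]
  · rw [R.B_self hf, hQf, mul_zero]
  · rw [R.B_eq_polar he, hef]
  · rw [hvu i, R.B_eq_polar (hu i), hve i]
  · rw [hvu i, R.B_eq_polar (hu i), hvf i]

/-- a rational singular vector with prescribed rational pairings against an independent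
rational family -/
theorem RS.exists_sing_pairing (R : RS φ n q F₀ P) {k : ℕ} (x : Fin k → Fin n → F)
    (hx : ∀ i, RatV F₀ P (x i)) (hli : LinearIndependent F x) (t : Fin k → F)
    (ht : ∀ j, t j ∈ F₀) (hk : 2 * (k + 1) + 3 ≤ n) :
    ∃ v, RatV F₀ P v ∧ Bs φ n v v = 0 ∧ ∀ j, Bs φ n v (x j) = t j := by
  choose u hu hxu using hx
  have hli' : LinearIndependent F u := by
    have h1 : x = (Matrix.mulVecLin (P : Matrix (Fin n) (Fin n) F)) ∘ u := by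
      funext i
      rw [hxu i]
      rfl
    rw [h1] at hli
    exact LinearIndependent.of_comp _ hli
  obtain ⟨v, hv, hQv, hvx⟩ :=
    Cfsg.Agent.Lib.H24.OSf.exists_rat_sing_pairing R.ratForm R.nondeg u hu hli' t ht hk
  refine ⟨(P : Matrix (Fin n) (Fin n) F) *ᵥ v, ratV_mulVec hv, ?_, fun j => ?_⟩
  · rw [R.B_self hv, hQv, mul_zero]
  · rw [hxu j, R.B_eq_polar hv, hvx j]

/-- a rational hyperbolic partner -/
theorem RS.exists_partner (R : RS φ n q F₀ P) {u : Fin n → F} (hu : RatV F₀ P u) (hu0 : u ≠ 0)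
    (huu : Bs φ n u u = 0) : ∃ f, RatV F₀ P f ∧ Bs φ n f f = 0 ∧ Bs φ n u f = 1 := by
  obtain ⟨u', hu', rfl⟩ := hu
  have hu'0 : u' ≠ 0 := by
    rintro rfl
    exact hu0 (Matrix.mulVec_zero _)
  have hQ : Qj φ P u' = 0 := by
    have := R.B_self hu'
    rw [huu] at this
    exact (mul_eq_zero.1 this.symm).resolve_left R.h2
  obtain ⟨f, hf, hQf, huf⟩ :=
    Cfsg.Agent.Lib.H24.OSf.exists_rat_partner R.ratForm R.nondeg u' hu' hu'0 hQ
  refine ⟨(P : Matrix (Fin n) (Fin n) F) *ᵥ f, ratV_mulVec hf, ?_, ?_⟩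
  · rw [R.B_self hf, hQf, mul_zero]
  · rw [R.B_eq_polar hu', huf]

/-! ### double perpendiculars -/

/-- a vector orthogonal to all rational vectors of `z^⊥` is a multiple of `z` -/
theorem RS.perp1 (R : RS φ n q F₀ P) {z : Fin n → F} (hz : RatV F₀ P z) (hz0 : z ≠ 0)
    (hzz : Bs φ n z z = 0) {x : Fin n → F}
    (hx : ∀ w, RatV F₀ P w → Bs φ n z w = 0 → Bs φ n w x = 0) : ∃ κ : F, x = κ • z := by
  obtain ⟨z₂, hz₂, hz₂z₂, hzz₂⟩ := R.exists_partner hz hz0 hzz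
  have hz₂z : Bs φ n z₂ z = 1 := by rw [R.B_symm hz₂ hz]; exact hzz₂
  refine ⟨Bs φ n z₂ x, ?_⟩
  have h0 : x - Bs φ n z₂ x • z = 0 := by
    apply R.nondeg_rat
    intro w hw
    have hc : Bs φ n z w ∈ F₀ := R.hB z w hz hw
    have hw₁ : RatV F₀ P (w - Bs φ n z w • z₂) := hw.sub (hz₂.smul hc)
    have hzw₁ : Bs φ n z (w - Bs φ n z w • z₂) = 0 := by
      rw [map_sub, map_smul, hzz₂, smul_eq_mul, mul_one, sub_self]
    have h1 := hx _ hw₁ hzw₁
    have h2 : Bs φ n (w - Bs φ n z w • z₂) z = 0 := by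
      rw [R.B_symm hw₁ hz]; exact hzw₁
    have e : w = (w - Bs φ n z w • z₂) + Bs φ n z w • z₂ := by rw [sub_add_cancel]
    rw [e]
    simp only [map_add, map_sub, map_smulₛₗ, map_smul, LinearMap.add_apply, LinearMap.sub_apply,
      LinearMap.smul_apply, smul_eq_mul, R.fix hc] at h1 h2 ⊢
    rw [hz₂z₂, hz₂z] at *
    linear_combination h1 - (Bs φ n z₂ x) * h2
  exact sub_eq_zero.1 h0

/-- a vector orthogonal to all rational vectors of `⟨z, w₀⟩^⊥` lies in `⟨z, w₀⟩` -/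
theorem RS.perp2 (R : RS φ n q F₀ P) {z w₀ : Fin n → F} (hz : RatV F₀ P z) (hw₀ : RatV F₀ P w₀)
    (hli : LinearIndependent F ![z, w₀]) {x : Fin n → F}
    (hx : ∀ a, RatV F₀ P a → Bs φ n z a = 0 → Bs φ n w₀ a = 0 → Bs φ n a x = 0) :
    ∃ κ κ' : F, x = κ • z + κ' • w₀ := by
  have hrat : ∀ i, RatV F₀ P (![z, w₀] i) := by
    intro i; fin_cases i
    · exact hz
    · exact hw₀
  have hn := R.hn
  obtain ⟨z₂, hz₂, -, hz₂p⟩ := R.exists_sing_pairing ![z, w₀] hrat hli ![1, 0]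
    (by intro j; fin_cases j
        · exact F₀.one_mem
        · exact F₀.zero_mem) (by omega)
  obtain ⟨w₂, hw₂, -, hw₂p⟩ := R.exists_sing_pairing ![z, w₀] hrat hli ![0, 1]
    (by intro j; fin_cases j
        · exact F₀.zero_mem
        · exact F₀.one_mem) (by omega)
  have hz₂z : Bs φ n z₂ z = 1 := by simpa using hz₂p 0
  have hz₂w : Bs φ n z₂ w₀ = 0 := by simpa using hz₂p 1
  have hw₂z : Bs φ n w₂ z = 0 := by simpa using hw₂p 0
  have hw₂w : Bs φ n w₂ w₀ = 1 := by simpa using hw₂p 1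
  have hzz₂ : Bs φ n z z₂ = 1 := by rw [R.B_symm hz hz₂]; exact hz₂z
  have hwz₂ : Bs φ n w₀ z₂ = 0 := by rw [R.B_symm hw₀ hz₂]; exact hz₂w
  have hzw₂ : Bs φ n z w₂ = 0 := by rw [R.B_symm hz hw₂]; exact hw₂z
  have hww₂ : Bs φ n w₀ w₂ = 1 := by rw [R.B_symm hw₀ hw₂]; exact hw₂w
  refine ⟨Bs φ n z₂ x, Bs φ n w₂ x, ?_⟩
  have h0 : x - (Bs φ n z₂ x • z + Bs φ n w₂ x • w₀) = 0 := by
    apply R.nondeg_rat
    intro a ha
    have hc : Bs φ n z a ∈ F₀ := R.hB z a hz ha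
    have hd : Bs φ n w₀ a ∈ F₀ := R.hB w₀ a hw₀ ha
    have ha₁ : RatV F₀ P (a - Bs φ n z a • z₂ - Bs φ n w₀ a • w₂) :=
      (ha.sub (hz₂.smul hc)).sub (hw₂.smul hd)
    have hza₁ : Bs φ n z (a - Bs φ n z a • z₂ - Bs φ n w₀ a • w₂) = 0 := by
      simp only [map_sub, map_smul, smul_eq_mul, hzz₂, hzw₂]; ring
    have hwa₁ : Bs φ n w₀ (a - Bs φ n z a • z₂ - Bs φ n w₀ a • w₂) = 0 := by
      simp only [map_sub, map_smul, smul_eq_mul, hwz₂, hww₂]; ring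
    have h1 := hx _ ha₁ hza₁ hwa₁
    have h2 : Bs φ n (a - Bs φ n z a • z₂ - Bs φ n w₀ a • w₂) z = 0 := by
      rw [R.B_symm ha₁ hz]; exact hza₁
    have h3 : Bs φ n (a - Bs φ n z a • z₂ - Bs φ n w₀ a • w₂) w₀ = 0 := by
      rw [R.B_symm ha₁ hw₀]; exact hwa₁
    have e : a = (a - Bs φ n z a • z₂ - Bs φ n w₀ a • w₂) + Bs φ n z a • z₂ +
        Bs φ n w₀ a • w₂ := by abel
    rw [e]
    simp only [map_add, map_sub, map_smulₛₗ, map_smul, LinearMap.add_apply, LinearMap.sub_apply,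
      LinearMap.smul_apply, smul_eq_mul, R.fix hc, R.fix hd] at h1 h2 h3 ⊢
    rw [hz₂z, hz₂w, hw₂z, hw₂w] at *
    linear_combination h1 - (Bs φ n z₂ x) * h2 - (Bs φ n w₂ x) * h3
  exact sub_eq_zero.1 h0

/-! ### membership in the subfield subgroup -/

theorem subfield_eq_map' (F₀ : Subfield F) (P : GL (Fin n) F) :
    Cfsg.Geo.subfieldSubgroup F₀ P =
      (Cfsg.Geo.subfieldSubgroup F₀ (1 : GL (Fin n) F)).map (MulAut.conj P).toMonoidHom := by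
  unfold Cfsg.Geo.subfieldSubgroup
  rw [map_one]
  congr 1
  exact (Subgroup.map_id _).symm

theorem mem_sub_iff (F₀ : Subfield F) (P g : GL (Fin n) F) :
    g ∈ Cfsg.Geo.subfieldSubgroup F₀ P ↔
      ∃ c : F, c ≠ 0 ∧ ∀ i j, c * ((P⁻¹ * g * P : GL (Fin n) F) : Matrix (Fin n) (Fin n) F) i j ∈ F₀ := by
  rw [subfield_eq_map', ← Cfsg.Agent.Lib.H11.Subf.mem_subfield_one_iff]
  constructor
  · rintro ⟨k, hk, rfl⟩
    have : P⁻¹ * (MulAut.conj P).toMonoidHom k * P = k := by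
      show P⁻¹ * (P * k * P⁻¹) * P = k
      group
    rw [this]
    exact hk
  · intro h
    refine ⟨P⁻¹ * g * P, h, ?_⟩
    show P * (P⁻¹ * g * P) * P⁻¹ = g
    group

theorem mem_sub_of_ratV {g : GL (Fin n) F} {c : F} (hc : c ≠ 0)
    (h : ∀ x, RatV F₀ P x → RatV F₀ P (c • ((g : Matrix (Fin n) (Fin n) F) *ᵥ x))) :
    g ∈ Cfsg.Geo.subfieldSubgroup F₀ P := by
  rw [mem_sub_iff]
  refine ⟨c, hc, fun i j => ?_⟩
  obtain ⟨u, hu, hu'⟩ := h _ (ratV_mulVec (P := P) (IsRat.single (F₀ := F₀) j F₀.one_mem))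
  have h1 : c • (((P⁻¹ * g * P : GL (Fin n) F) : Matrix (Fin n) (Fin n) F) *ᵥ Pi.single j 1) = u := by
    simp only [Units.val_mul]
    rw [← Matrix.mulVec_mulVec, ← Matrix.mulVec_mulVec, ← Matrix.mulVec_smul, hu', gl_inv_mulVec]
  have h2 := congrFun h1 i
  rw [Matrix.mulVec_single_one] at h2
  have h3 : c * ((P⁻¹ * g * P : GL (Fin n) F) : Matrix (Fin n) (Fin n) F) i j = u i := h2
  rw [h3]
  exact hu i

theorem ratV_of_mem_sub {g : GL (Fin n) F} (hg : g ∈ Cfsg.Geo.subfieldSubgroup F₀ P) :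
    ∃ c : F, c ≠ 0 ∧
      ∀ x, RatV F₀ P x → RatV F₀ P (c • ((g : Matrix (Fin n) (Fin n) F) *ᵥ x)) := by
  rw [mem_sub_iff] at hg
  obtain ⟨c, hc, h⟩ := hg
  refine ⟨c, hc, ?_⟩
  rintro _ ⟨u, hu, rfl⟩
  refine ⟨(c • ((P⁻¹ * g * P : GL (Fin n) F) : Matrix (Fin n) (Fin n) F)) *ᵥ u, ?_, ?_⟩
  · intro i
    unfold Matrix.mulVec
    refine IsRat.dot (fun j => ?_) hu
    rw [Matrix.smul_apply, smul_eq_mul]
    exact h i j
  · rw [Matrix.smul_mulVec, Matrix.mulVec_smul]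
    simp only [Units.val_mul]
    rw [← Matrix.mulVec_mulVec, ← Matrix.mulVec_mulVec, gl_mulVec_inv]

end Cfsg.Agent.Lib.H10.So
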