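import Mathlib
import Cfsg.Agent.Lib.H10.SuA
import Cfsg.Agent.Lib.H11.Subf1
import Cfsg.Agent.Lib.H11.UnitaryGen5

/-!
# Subfield subgroups of `SU_n(q)` (part B): the standard rational structure

`N₁ n q F₀` is the standard subfield subgroup of `SU_n(q)`: matrices of `SU_n(q)` which are a
scalar multiple of a matrix with entries in `F₀`.  `yv i j ζ = e_i + ζ e_j` are the standard
isotropic rational vectors (`ζ φ ζ = -1`).
-/

set_option autoImplicit false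
set_option linter.unusedSectionVars false
set_option linter.unusedVariables false
set_option linter.unusedSimpArgs false

namespace Cfsg.Agent.Lib.H10.Su

open Matrix
open Cfsg.Agent.S0837 (Bs Bs_apply Bs_symm Bs_nondeg)
open Cfsg.Agent.S0782 (Tm Tm_mulVec Tm_det Bs_eq_herm gu_preserves)
open Cfsg.Agent.S0781 (Em Em_mulVec Em_det Em_preserves Em_comm)
open Cfsg.Agent.Lib.H11.UGen (Um Um_mulVec B_single_left B_single_right)
open Cfsg.Agent.Lib.H10.Sf (IsRat)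

variable {F : Type*} [Field F] {n q : ℕ}

/-! ### the standard subfield subgroup -/

/-- the standard subfield subgroup of `SU_n(q)` -/
def N₁ (n q : ℕ) (F₀ : Subfield F) : Subgroup (GL (Fin n) F) :=
  Cfsg.Geo.subfieldSubgroup F₀ (1 : GL (Fin n) F) ⊓
    (Cfsg.GU n F q ⊓ Cfsg.Geo.specialLinear (Fin n) F)

section rat
variable (φ : F →+* F) {F₀ : Subfield F}

theorem phi_mem (hφ : ∀ x, φ x = x ^ q) {a : F} (ha : a ∈ F₀) : φ a ∈ F₀ := by
  rw [hφ]; exact F₀.pow_mem ha q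

theorem B_mem (hφ : ∀ x, φ x = x ^ q) {u v : Fin n → F} (hu : IsRat F₀ u) (hv : IsRat F₀ v) :
    Bs φ n u v ∈ F₀ := by
  rw [Bs_apply]
  exact F₀.sum_mem fun i _ => F₀.mul_mem (hv i) (phi_mem φ hφ (hu i))

/-- membership of `GU` in terms of `Bs` -/
theorem mem_GU_iff (hφ : ∀ x, φ x = x ^ q) (g : GL (Fin n) F) :
    g ∈ Cfsg.GU n F q ↔
      ∀ u v, Bs φ n ((g : Matrix (Fin n) (Fin n) F) *ᵥ u) ((g : Matrix (Fin n) (Fin n) F) *ᵥ v) =
        Bs φ n u v := by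
  constructor
  · intro hg u v
    exact gu_preserves φ hφ ⟨g, hg⟩ u v
  · intro h u v
    show Cfsg.hermForm n F q ((g : Matrix (Fin n) (Fin n) F) *ᵥ u)
      ((g : Matrix (Fin n) (Fin n) F) *ᵥ v) = _
    rw [← Bs_eq_herm φ hφ, ← Bs_eq_herm φ hφ]
    exact h v u

/-- a rational isometry of determinant one lies in `N₁` -/
theorem inH_N₁ (hφ : ∀ x, φ x = x ^ q) {M : Matrix (Fin n) (Fin n) F} (hM : ∀ i j, M i j ∈ F₀)
    (hdet : M.det = 1) (hpres : ∀ u v, Bs φ n (M *ᵥ u) (M *ᵥ v) = Bs φ n u v) :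
    InH (N₁ n q F₀) M := by
  have hd : M.det ≠ 0 := by rw [hdet]; exact one_ne_zero
  refine ⟨Matrix.GeneralLinearGroup.mkOfDetNeZero M hd,
    Subgroup.mem_inf.2 ⟨?_, Subgroup.mem_inf.2 ⟨?_, ?_⟩⟩, rfl⟩
  · rw [Cfsg.Agent.Lib.H11.Subf.mem_subfield_one_iff]
    refine ⟨1, one_ne_zero, fun i j => ?_⟩
    rw [one_mul]
    exact hM i j
  · rw [mem_GU_iff φ hφ]
    exact hpres
  · rw [Cfsg.Agent.Lib.H28.mem_specialLinear_iff]
    exact hdet

/-- entries of a matrix from its action on rational vectors -/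
theorem entries_of_mulVec {M : Matrix (Fin n) (Fin n) F}
    (h : ∀ x : Fin n → F, IsRat F₀ x → IsRat F₀ (M *ᵥ x)) : ∀ i j, M i j ∈ F₀ := by
  intro i j
  have h1 := h (Pi.single j 1) (Cfsg.Agent.Lib.H10.Sf.IsRat.single j F₀.one_mem) i
  rwa [Matrix.mulVec_single_one] at h1

theorem Em_rat (hφ : ∀ x, φ x = x ^ q) (hφ2 : ∀ x, φ (φ x) = x) {y w : Fin n → F} {s : F}
    (hy : IsRat F₀ y) (hw : IsRat F₀ w) (hs : s ∈ F₀) (hyy : Bs φ n y y = 0) :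
    ∀ i j, Em φ y w s i j ∈ F₀ := by
  apply entries_of_mulVec
  intro x hx
  rw [Em_mulVec φ hφ2 y w s hyy]
  have h1 := B_mem φ hφ hy hx
  have h2 := B_mem φ hφ hw hx
  exact (hx.add (hw.smul h1)).add (hy.smul (F₀.sub_mem (F₀.mul_mem hs h1) h2))

/-- rational Siegel elements lie in `N₁` -/
theorem Em_inH_N₁ (hφ : ∀ x, φ x = x ^ q) (hφ2 : ∀ x, φ (φ x) = x) {y w : Fin n → F} {s : F}
    (hy : IsRat F₀ y) (hw : IsRat F₀ w) (hs : s ∈ F₀) (hyy : Bs φ n y y = 0)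
    (hyw : Bs φ n y w = 0) (hss : s + φ s + Bs φ n w w = 0) :
    InH (N₁ n q F₀) (Em φ y w s) := by
  have hwy : Bs φ n w y = 0 := B_zero_symm φ hφ2 hyw
  exact inH_N₁ φ hφ (Em_rat φ hφ hφ2 hy hw hs hyy) (Em_det φ hφ2 y w s hyy hyw hwy)
    (Em_preserves φ hφ2 y w s hyy hyw hwy hss)

/-- rational short root elements lie in `N₁` -/
theorem Sm_inH_N₁ (hφ : ∀ x, φ x = x ^ q) (hφ2 : ∀ x, φ (φ x) = x) {y y' : Fin n → F} {β : F}
    (hy : IsRat F₀ y) (hy' : IsRat F₀ y') (hβ : β ∈ F₀) (hyy : Bs φ n y y = 0)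
    (hy'y' : Bs φ n y' y' = 0) (hyy' : Bs φ n y y' = 0) :
    InH (N₁ n q F₀) (Sm φ y y' β) := by
  have h1 : Bs φ n y' y = 0 := B_zero_symm φ hφ2 hyy'
  refine Em_inH_N₁ φ hφ hφ2 hy' (hy.smul hβ) F₀.zero_mem hy'y' ?_ ?_
  · rw [map_smul, h1, smul_zero]
  · simp only [map_smulₛₗ, map_smul, LinearMap.smul_apply, smul_eq_mul, hyy, mul_zero, map_zero,
      add_zero]

/-- rational transvections lie in `N₁` -/
theorem Um_inH_N₁ (hφ : ∀ x, φ x = x ^ q) (hφ2 : ∀ x, φ (φ x) = x) {y : Fin n → F} {c : F}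
    (hy : IsRat F₀ y) (hc : c ∈ F₀) (hyy : Bs φ n y y = 0) (hcc : c + φ c = 0) :
    InH (N₁ n q F₀) (Um φ y c) := by
  rw [Um_eq_Em φ hφ2 y c hyy]
  refine Em_inH_N₁ φ hφ hφ2 hy (Cfsg.Agent.Lib.H10.Sf.IsRat.zero) hc hyy ?_ ?_
  · rw [map_zero]
  · simp only [map_zero, LinearMap.zero_apply, add_zero]; exact hcc


end rat

/-! ### elements of subgroups of `GU` -/

section gu
variable (φ : F →+* F)

theorem InH.pres (hφ : ∀ x, φ x = x ^ q) {H : Subgroup (GL (Fin n) F)} (hH : H ≤ Cfsg.GU n F q)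
    {M : Matrix (Fin n) (Fin n) F} (hM : InH H M) (u v : Fin n → F) :
    Bs φ n (M *ᵥ u) (M *ᵥ v) = Bs φ n u v := by
  obtain ⟨g, hg, rfl⟩ := hM
  exact (mem_GU_iff φ hφ g).1 (hH hg) u v

/-- conjugating a Siegel element by an element of `H` -/
theorem InH.conj_Em (hφ : ∀ x, φ x = x ^ q) (hφ2 : ∀ x, φ (φ x) = x)
    {H : Subgroup (GL (Fin n) F)} (hH : H ≤ Cfsg.GU n F q)
    {M : Matrix (Fin n) (Fin n) F} (hM : InH H M) {y w : Fin n → F} {s : F}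
    (hyy : Bs φ n y y = 0) (hE : InH H (Em φ y w s)) : InH H (Em φ (M *ᵥ y) (M *ᵥ w) s) := by
  have hp := hM.pres φ hφ hH
  obtain ⟨g, hg, rfl⟩ := hM
  have hgi : (g : Matrix (Fin n) (Fin n) F) * ((g⁻¹ : GL (Fin n) F) : Matrix (Fin n) (Fin n) F) = 1 := by
    rw [← Units.val_mul, mul_inv_cancel, Units.val_one]
  rw [← Em_conj φ hφ2 y w s hyy _ _ hgi hp]
  exact ((inH_val hg).mul hE).mul (inH_val (H.inv_mem hg))

theorem InH.conj_Um (hφ : ∀ x, φ x = x ^ q) (hφ2 : ∀ x, φ (φ x) = x)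
    {H : Subgroup (GL (Fin n) F)} (hH : H ≤ Cfsg.GU n F q)
    {M : Matrix (Fin n) (Fin n) F} (hM : InH H M) {y : Fin n → F} {c : F}
    (hyy : Bs φ n y y = 0) (hE : InH H (Um φ y c)) : InH H (Um φ (M *ᵥ y) c) := by
  have hp := hM.pres φ hφ hH
  have hyy' : Bs φ n (M *ᵥ y) (M *ᵥ y) = 0 := by rw [hp]; exact hyy
  rw [Um_eq_Em φ hφ2 _ c hyy'] 
  rw [Um_eq_Em φ hφ2 _ c hyy] at hE
  have := hM.conj_Em φ hφ hφ2 hH hyy hE
  rwa [Matrix.mulVec_zero] at this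

theorem InH.conj_Sm (hφ : ∀ x, φ x = x ^ q) (hφ2 : ∀ x, φ (φ x) = x)
    {H : Subgroup (GL (Fin n) F)} (hH : H ≤ Cfsg.GU n F q)
    {M : Matrix (Fin n) (Fin n) F} (hM : InH H M) {y y' : Fin n → F} {β : F}
    (hy'y' : Bs φ n y' y' = 0) (hE : InH H (Sm φ y y' β)) :
    InH H (Sm φ (M *ᵥ y) (M *ᵥ y') β) := by
  have := hM.conj_Em φ hφ hφ2 hH hy'y' hE
  rwa [Matrix.mulVec_smul] at this

end gu

/-! ### the standard isotropic vectors -/

section yv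
variable [Fintype F] (φ : F →+* F)

/-- the vector `e_i + ζ e_j` -/
def yv (i j : Fin n) (ζ : F) : Fin n → F := Pi.single i 1 + ζ • Pi.single j 1

theorem yv_rat {F₀ : Subfield F} (i j : Fin n) {ζ : F} (hζ : ζ ∈ F₀) : IsRat F₀ (yv i j ζ) :=
  (Cfsg.Agent.Lib.H10.Sf.IsRat.single i F₀.one_mem).add
    ((Cfsg.Agent.Lib.H10.Sf.IsRat.single j F₀.one_mem).smul hζ)

theorem B_yv_left (i j : Fin n) (ζ : F) (x : Fin n → F) :
    Bs φ n (yv i j ζ) x = x i + φ ζ * x j := by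
  rw [yv, map_add, map_smulₛₗ, LinearMap.add_apply, LinearMap.smul_apply, B_single_left,
    B_single_left, smul_eq_mul]

theorem B_yv_right (hφ2 : ∀ x, φ (φ x) = x) (i j : Fin n) (ζ : F) (x : Fin n → F) :
    Bs φ n x (yv i j ζ) = φ (x i) + ζ * φ (x j) := by
  rw [yv, map_add, map_smul, B_single_right φ hφ2, B_single_right φ hφ2, smul_eq_mul]

theorem yv_apply_left {i j : Fin n} (hij : i ≠ j) (ζ : F) : yv i j ζ i = 1 := by
  simp [yv, Pi.single_apply, hij]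

theorem yv_apply_right {i j : Fin n} (hij : i ≠ j) (ζ : F) : yv i j ζ j = ζ := by
  simp [yv, Pi.single_apply, hij.symm]

theorem yv_apply_ne {i j k : Fin n} (hki : k ≠ i) (hkj : k ≠ j) (ζ : F) : yv i j ζ k = 0 := by
  simp [yv, Pi.single_apply, hki, hkj]

theorem B_yv_yv {i j : Fin n} (hij : i ≠ j) (ζ ζ' : F) :
    Bs φ n (yv i j ζ) (yv i j ζ') = 1 + φ ζ * ζ' := by
  rw [B_yv_left, yv_apply_left hij, yv_apply_right hij]

theorem B_yv_disj {i j k l : Fin n} (hik : i ≠ k) (hil : i ≠ l) (hjk : j ≠ k) (hjl : j ≠ l)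
    (ζ ζ' : F) : Bs φ n (yv i j ζ) (yv k l ζ') = 0 := by
  rw [B_yv_left, yv_apply_ne hik hil, yv_apply_ne hjk hjl, mul_zero, add_zero]

theorem yv_iso {i j : Fin n} (hij : i ≠ j) {ζ : F} (hζ : ζ * φ ζ = -1) :
    Bs φ n (yv i j ζ) (yv i j ζ) = 0 := by
  rw [B_yv_yv φ hij]
  linear_combination hζ

end yv

end Cfsg.Agent.Lib.H10.Su
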