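import Mathlib
import Cfsg.Agent.Lib.H10.SoB
import Cfsg.Agent.Lib.H10.SuB

/-!
# Orthogonal subfield subgroups of `SU_n(q)` (part C): rational Siegel elements and the local
rationality lemma

If an overgroup `H` of the subfield subgroup contains no transvection with a rational singular
centre, then every Siegel element of `H` with a rational singular centre `z` is rational, and every
element of `H` fixing `z` maps the rational vectors of `z^⊥` into `V₀ + F z`.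
-/

set_option autoImplicit false
set_option linter.unusedSectionVars false
set_option linter.unusedVariables false
set_option linter.unusedSimpArgs false

namespace Cfsg.Agent.Lib.H10.So

open Matrix
open Cfsg.Agent.S0837 (Bs Bs_apply Bs_symm Bs_nondeg)
open Cfsg.Agent.S0781 (Em Em_mulVec Em_det Em_preserves)
open Cfsg.Agent.Lib.H11.UGen (Um Um_mulVec)
open Cfsg.Agent.Lib.H10.Sf (IsRat)
open Cfsg.Agent.Lib.H10.Su

variable {F : Type*} [Field F] [Fintype F] {n q : ℕ}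

/-- the subfield subgroup of `SU_n(q)` attached to the rational structure `P` -/
def NP (n q : ℕ) (F₀ : Subfield F) (P : GL (Fin n) F) : Subgroup (GL (Fin n) F) :=
  Cfsg.Geo.subfieldSubgroup F₀ P ⊓ (Cfsg.GU n F q ⊓ Cfsg.Geo.specialLinear (Fin n) F)

/-- the standing hypotheses on the overgroup -/
structure HC (φ : F →+* F) (n q : ℕ) (F₀ : Subfield F) (P : GL (Fin n) F)
    (H : Subgroup (GL (Fin n) F)) : Prop where
  R : RS φ n q F₀ P
  hN : NP n q F₀ P ≤ H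
  hH : H ≤ Cfsg.GU n F q ⊓ Cfsg.Geo.specialLinear (Fin n) F

/-- `H` contains no transvection with a rational singular centre -/
def NoTv (φ : F →+* F) (F₀ : Subfield F) (P : GL (Fin n) F) (H : Subgroup (GL (Fin n) F)) :
    Prop :=
  ∀ (z : Fin n → F) (c : F), RatV F₀ P z → z ≠ 0 → Bs φ n z z = 0 → c + φ c = 0 →
    InH H (Um φ z c) → c = 0

variable {φ : F →+* F} {F₀ : Subfield F} {P : GL (Fin n) F} {H : Subgroup (GL (Fin n) F)}

theorem HC.hGU (C : HC φ n q F₀ P H) : H ≤ Cfsg.GU n F q := le_trans C.hH inf_le_left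

/-- a matrix of determinant one preserving the form and the rational structure lies in `NP` -/
theorem RS.inH_NP (R : RS φ n q F₀ P) {M : Matrix (Fin n) (Fin n) F}
    (hM : ∀ x, RatV F₀ P x → RatV F₀ P (M *ᵥ x)) (hdet : M.det = 1)
    (hpres : ∀ u v, Bs φ n (M *ᵥ u) (M *ᵥ v) = Bs φ n u v) : InH (NP n q F₀ P) M := by
  have hd : M.det ≠ 0 := by rw [hdet]; exact one_ne_zero
  refine ⟨Matrix.GeneralLinearGroup.mkOfDetNeZero M hd,
    Subgroup.mem_inf.2 ⟨?_, Subgroup.mem_inf.2 ⟨?_, ?_⟩⟩, rfl⟩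
  · apply mem_sub_of_ratV (c := 1) one_ne_zero
    intro x hx
    rw [one_smul]
    exact hM x hx
  · rw [mem_GU_iff φ R.hφ]
    exact hpres
  · rw [Cfsg.Agent.Lib.H28.mem_specialLinear_iff]
    exact hdet

/-- rational Siegel elements lie in `NP` -/
theorem RS.Em_inH_NP (R : RS φ n q F₀ P) {y w : Fin n → F} {s : F} (hy : RatV F₀ P y)
    (hw : RatV F₀ P w) (hs : s ∈ F₀) (hyy : Bs φ n y y = 0) (hyw : Bs φ n y w = 0)
    (hss : s + φ s + Bs φ n w w = 0) : InH (NP n q F₀ P) (Em φ y w s) := by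
  have hwy : Bs φ n w y = 0 := B_zero_symm φ R.hφ2 hyw
  refine R.inH_NP (fun x hx => ?_) (Em_det φ R.hφ2 y w s hyy hyw hwy)
    (Em_preserves φ R.hφ2 y w s hyy hyw hwy hss)
  rw [Em_mulVec φ R.hφ2 y w s hyy]
  have h1 := R.hB y x hy hx
  have h2 := R.hB w x hw hx
  exact (hx.add (hw.smul h1)).add (hy.smul (F₀.sub_mem (F₀.mul_mem hs h1) h2))

/-- the rational parameter of a rational Siegel element -/
theorem RS.half_mem (R : RS φ n q F₀ P) {w : Fin n → F} (hw : RatV F₀ P w) :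
    -(Bs φ n w w) / 2 ∈ F₀ ∧
      -(Bs φ n w w) / 2 + φ (-(Bs φ n w w) / 2) + Bs φ n w w = 0 := by
  have h1 : -(Bs φ n w w) / 2 ∈ F₀ :=
    F₀.div_mem (F₀.neg_mem (R.hB w w hw hw)) R.two_mem
  refine ⟨h1, ?_⟩
  rw [R.fix h1]
  have := R.h2
  field_simp
  ring

theorem RS.Em_half (R : RS φ n q F₀ P) {y w : Fin n → F} (hy : RatV F₀ P y)
    (hw : RatV F₀ P w) (hyy : Bs φ n y y = 0) (hyw : Bs φ n y w = 0) :
    InH (NP n q F₀ P) (Em φ y w (-(Bs φ n w w) / 2)) :=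
  R.Em_inH_NP hy hw (R.half_mem hw).1 hyy hyw (R.half_mem hw).2

/-- rational long root elements lie in `NP` -/
theorem RS.Sm_inH_NP (R : RS φ n q F₀ P) {y y' : Fin n → F} {β : F} (hy : RatV F₀ P y)
    (hy' : RatV F₀ P y') (hβ : β ∈ F₀) (hyy : Bs φ n y y = 0) (hy'y' : Bs φ n y' y' = 0)
    (hyy' : Bs φ n y y' = 0) : InH (NP n q F₀ P) (Sm φ y y' β) := by
  have h1 : Bs φ n y' y = 0 := B_zero_symm φ R.hφ2 hyy'
  refine R.Em_inH_NP hy' (hy.smul hβ) F₀.zero_mem hy'y' ?_ ?_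
  · rw [map_smul, h1, smul_zero]
  · simp only [map_smulₛₗ, map_smul, LinearMap.smul_apply, smul_eq_mul, hyy, mul_zero, map_zero,
      add_zero]

/-- shifting the vector of a Siegel element along its centre -/
theorem Em_add_smul (hφ2 : ∀ x, φ (φ x) = x) (z δ : Fin n → F) (κ s : F)
    (hzz : Bs φ n z z = 0) : Em φ z (δ + κ • z) s = Em φ z δ (s + κ - φ κ) := by
  rw [Matrix.ext_iff_mulVec]
  intro x
  rw [Em_mulVec φ hφ2 _ _ _ hzz, Em_mulVec φ hφ2 _ _ _ hzz]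
  simp only [map_add, map_smulₛₗ, LinearMap.add_apply, LinearMap.smul_apply, smul_eq_mul]
  module

/-- **local rationality**: a Siegel element of `H` with a rational singular centre is rational -/
theorem HC.local_rat (C : HC φ n q F₀ P H) (hT : NoTv φ F₀ P H) {z δ : Fin n → F} {s : F}
    (hz : RatV F₀ P z) (hz0 : z ≠ 0) (hzz : Bs φ n z z = 0) (hzδ : Bs φ n z δ = 0)
    (hs : s + φ s + Bs φ n δ δ = 0) (h : InH H (Em φ z δ s)) :
    ∃ (δ₁ : Fin n → F) (κ : F), RatV F₀ P δ₁ ∧ Bs φ n z δ₁ = 0 ∧ δ = δ₁ + κ • z ∧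
      s + κ - φ κ = -(Bs φ n δ₁ δ₁) / 2 := by
  have R := C.R
  have hφ2 := R.hφ2
  obtain ⟨θ, hθ0, hθ, -⟩ := R.exists_theta
  obtain ⟨δ₁, δ₂, hδ₁, hδ₂, rfl⟩ := R.decomp hθ0 hθ δ
  -- both parts are orthogonal to `z`
  have hzd : Bs φ n z δ₁ = 0 ∧ Bs φ n z δ₂ = 0 := by
    rw [map_add, map_smul, smul_eq_mul] at hzδ
    exact R.scalar_unique hθ0 hθ (R.hB z δ₁ hz hδ₁) (R.hB z δ₂ hz hδ₂) hzδ
  -- the imaginary part is orthogonal to the rational vectors of `z^⊥`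
  have hperp : ∀ w, RatV F₀ P w → Bs φ n z w = 0 → Bs φ n w δ₂ = 0 := by
    intro w hw hzw
    have hN := (R.Em_half hz hw hzz hzw).mono C.hN
    have e := Em_comm_mat φ hφ2 z (δ₁ + θ • δ₂) w s (-(Bs φ n w w) / 2) hzz hzδ hzw
    have hU := InH.of_comm h hN e
    have hc : (Bs φ n w (δ₁ + θ • δ₂) - Bs φ n (δ₁ + θ • δ₂) w) +
        φ (Bs φ n w (δ₁ + θ • δ₂) - Bs φ n (δ₁ + θ • δ₂) w) = 0 := by
      rw [map_sub, B_symm' φ hφ2, B_symm' φ hφ2]; ring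
    have h0 := hT z _ hz hz0 hzz hc hU
    have h1 : Bs φ n (δ₁ + θ • δ₂) w = Bs φ n w δ₁ - θ * Bs φ n w δ₂ := by
      rw [← B_symm' φ hφ2 w (δ₁ + θ • δ₂), map_add, map_smul, smul_eq_mul, map_add, map_mul, hθ,
        R.fix (R.hB w δ₁ hw hδ₁), R.fix (R.hB w δ₂ hw hδ₂)]
      ring
    rw [h1, map_add, map_smul, smul_eq_mul] at h0
    have h2 : (2 * θ) * Bs φ n w δ₂ = 0 := by linear_combination h0
    exact (mul_eq_zero.1 h2).resolve_left (mul_ne_zero R.h2 hθ0)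
  obtain ⟨κ₀, hκ₀⟩ := R.perp1 hz hz0 hzz hperp
  refine ⟨δ₁, θ * κ₀, hδ₁, hzd.1, by rw [hκ₀, smul_smul], ?_⟩
  -- the parameter
  have e1 : δ₁ + θ • δ₂ = δ₁ + (θ * κ₀) • z := by rw [hκ₀, smul_smul]
  rw [e1, Em_add_smul hφ2 z δ₁ (θ * κ₀) s hzz] at h
  have hBδ : Bs φ n (δ₁ + θ • δ₂) (δ₁ + θ • δ₂) = Bs φ n δ₁ δ₁ := by
    rw [e1]
    have hδz : Bs φ n δ₁ z = 0 := B_zero_symm φ hφ2 hzd.1
    simp only [map_add, map_smulₛₗ, map_smul, LinearMap.add_apply, LinearMap.smul_apply,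
      smul_eq_mul, hzz, hzd.1, hδz, mul_zero, add_zero]
  rw [hBδ] at hs
  obtain ⟨hs₁, hs₁'⟩ := R.half_mem hδ₁
  have hN := (R.Em_half hz hδ₁ hzz hzd.1).mono C.hN
  -- `Em z δ₁ s' = Em z δ₁ s₁ * Um z (s' - s₁)`
  have hδz : Bs φ n δ₁ z = 0 := B_zero_symm φ hφ2 hzd.1
  have e2 := Em_mul φ hφ2 z δ₁ 0 (-(Bs φ n δ₁ δ₁) / 2)
    ((s + θ * κ₀ - φ (θ * κ₀)) - (-(Bs φ n δ₁ δ₁) / 2)) hzz (map_zero _) hδz
  rw [add_zero, map_zero, sub_zero, add_sub_cancel] at e2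
  rw [← e2] at h
  have hU : InH H (Em φ z 0 ((s + θ * κ₀ - φ (θ * κ₀)) - (-(Bs φ n δ₁ δ₁) / 2))) := by
    obtain ⟨a, ha, hav⟩ := hN
    obtain ⟨b, hb, hbv⟩ := h
    refine ⟨a⁻¹ * b, H.mul_mem (H.inv_mem ha) hb, ?_⟩
    rw [Units.val_mul, hbv, ← hav, ← Matrix.mul_assoc, ← Units.val_mul, inv_mul_cancel,
      Units.val_one, Matrix.one_mul]
  rw [← Um_eq_Em φ hφ2 z _ hzz] at hU
  have hc : ((s + θ * κ₀ - φ (θ * κ₀)) - (-(Bs φ n δ₁ δ₁) / 2)) +
      φ ((s + θ * κ₀ - φ (θ * κ₀)) - (-(Bs φ n δ₁ δ₁) / 2)) = 0 := by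
    simp only [map_sub, map_add, hφ2]
    linear_combination hs - hs₁'
  have h0 := hT z _ hz hz0 hzz hc hU
  exact sub_eq_zero.1 h0

end Cfsg.Agent.Lib.H10.So
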