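import Mathlib
import Cfsg.Agent.Lib.H10.SoC

/-!
# Orthogonal subfield subgroups of `SU_n(q)` (part D): the images of rational singular points

If `H` contains no transvection with a rational singular centre, `g ∈ H`, `y`, `z` are rational
singular vectors and `g y ⟂ z`, then `g y` spans a rational point.
-/

set_option autoImplicit false
set_option linter.unusedSectionVars false
set_option linter.unusedVariables false
set_option linter.unusedSimpArgs false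

namespace Cfsg.Agent.Lib.H10.So

open Matrix
open Cfsg.Agent.S0837 (Bs Bs_apply Bs_symm Bs_nondeg)
open Cfsg.Agent.S0781 (Em Em_mulVec Em_det Em_preserves)
open Cfsg.Agent.Lib.H11.UGen (Um Um_mulVec)
open Cfsg.Agent.Lib.H10.Sf (IsRat)
open Cfsg.Agent.Lib.H10.Su

variable {F : Type*} [Field F] [Fintype F] {n q : ℕ}
variable {φ : F →+* F} {F₀ : Subfield F} {P : GL (Fin n) F} {H : Subgroup (GL (Fin n) F)}

/-- an element of `H` fixing the rational singular vector `z` maps the rational vectors of `z^⊥`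
into `V₀ + F z` -/
theorem HC.fix_rat (C : HC φ n q F₀ P H) (hT : NoTv φ F₀ P H) {z w : Fin n → F}
    (hz : RatV F₀ P z) (hz0 : z ≠ 0) (hzz : Bs φ n z z = 0) {e : GL (Fin n) F} (he : e ∈ H)
    (hez : (e : Matrix (Fin n) (Fin n) F) *ᵥ z = z) (hw : RatV F₀ P w) (hzw : Bs φ n z w = 0) :
    ∃ (δ₁ : Fin n → F) (κ : F), RatV F₀ P δ₁ ∧ Bs φ n z δ₁ = 0 ∧
      (e : Matrix (Fin n) (Fin n) F) *ᵥ w = δ₁ + κ • z ∧
      -(Bs φ n w w) / 2 + κ - φ κ = -(Bs φ n δ₁ δ₁) / 2 := by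
  have R := C.R
  have hN := (R.Em_half hz hw hzz hzw).mono C.hN
  have h1 := (inH_val he).conj_Em φ R.hφ R.hφ2 C.hGU hzz hN
  rw [hez] at h1
  have hp := (inH_val he).pres φ R.hφ C.hGU
  have h2 : Bs φ n z ((e : Matrix (Fin n) (Fin n) F) *ᵥ w) = 0 := by
    have := hp z w
    rw [hez] at this
    rw [this]; exact hzw
  have h3 : -(Bs φ n w w) / 2 + φ (-(Bs φ n w w) / 2) +
      Bs φ n ((e : Matrix (Fin n) (Fin n) F) *ᵥ w) ((e : Matrix (Fin n) (Fin n) F) *ᵥ w) = 0 := by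
    rw [hp w w]; exact (R.half_mem hw).2
  obtain ⟨δ₁, κ, hδ₁, hzδ₁, h4, h5⟩ := C.local_rat hT hz hz0 hzz h2 h3 h1
  exact ⟨δ₁, κ, hδ₁, hzδ₁, h4, h5⟩

theorem RS.B_hyp_sum (R : RS φ n q F₀ P) {e f : Fin n → F} (he : RatV F₀ P e) (hf : RatV F₀ P f)
    (hee : Bs φ n e e = 0) (hff : Bs φ n f f = 0) (hef : Bs φ n e f = 1) :
    Bs φ n (e + f) (e + f) = 2 := by
  have hfe : Bs φ n f e = 1 := by rw [R.B_symm hf he]; exact hef
  simp only [map_add, LinearMap.add_apply, hee, hff, hef, hfe]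
  norm_num

/-- the test element: a conjugate `Em (g y) w' (-1)` of a rational Siegel element, with
`w'` orthogonal to two given vectors and `B(w', w') = 2` -/
theorem HC.exists_test (C : HC φ n q F₀ P H) {g : GL (Fin n) F} (hg : g ∈ H) {y : Fin n → F}
    (hy : RatV F₀ P y) (hyy : Bs φ n y y = 0) (u₁ u₂ : Fin n → F) :
    ∃ (w' : Fin n → F) (e : GL (Fin n) F), e ∈ H ∧
      (e : Matrix (Fin n) (Fin n) F) = Em φ ((g : Matrix (Fin n) (Fin n) F) *ᵥ y) w' (-1) ∧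
      Bs φ n ((g : Matrix (Fin n) (Fin n) F) *ᵥ y) w' = 0 ∧ Bs φ n w' w' = 2 ∧
      Bs φ n w' u₁ = 0 ∧ Bs φ n w' u₂ = 0 := by
  have R := C.R
  have hφ2 := R.hφ2
  have hn := R.hn
  obtain ⟨θ, hθ0, hθ, -⟩ := R.exists_theta
  have hp := (inH_val hg).pres φ R.hφ C.hGU
  obtain ⟨a₁, b₁, ha₁, hb₁, h₁⟩ := R.decomp hθ0 hθ
    (((g⁻¹ : GL (Fin n) F) : Matrix (Fin n) (Fin n) F) *ᵥ u₁)
  obtain ⟨a₂, b₂, ha₂, hb₂, h₂⟩ := R.decomp hθ0 hθ
    (((g⁻¹ : GL (Fin n) F) : Matrix (Fin n) (Fin n) F) *ᵥ u₂)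
  obtain ⟨e₁, f₁, he₁, hf₁, hee, hff, hef, hve, hvf⟩ :=
    R.exists_hyp_perp ![y, a₁, b₁, a₂, b₂] (by
      intro i; fin_cases i
      · exact hy
      · exact ha₁
      · exact hb₁
      · exact ha₂
      · exact hb₂) (by omega)
  have hye : Bs φ n y e₁ = 0 := hve 0
  have hyf : Bs φ n y f₁ = 0 := hvf 0
  have hw0 : RatV F₀ P (e₁ + f₁) := he₁.add hf₁
  have hyw0 : Bs φ n y (e₁ + f₁) = 0 := by rw [map_add, hye, hyf, add_zero]
  have hb : Bs φ n (e₁ + f₁) (e₁ + f₁) = 2 := R.B_hyp_sum he₁ hf₁ hee hff hef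
  have hperp : ∀ a, Bs φ n a e₁ = 0 → Bs φ n a f₁ = 0 → Bs φ n (e₁ + f₁) a = 0 := by
    intro a h1 h2
    rw [map_add, LinearMap.add_apply, B_zero_symm φ hφ2 h1, B_zero_symm φ hφ2 h2, add_zero]
  have hu : ∀ (u a b : Fin n → F),
      ((g⁻¹ : GL (Fin n) F) : Matrix (Fin n) (Fin n) F) *ᵥ u = a + θ • b →
      Bs φ n (e₁ + f₁) a = 0 → Bs φ n (e₁ + f₁) b = 0 →
      Bs φ n ((g : Matrix (Fin n) (Fin n) F) *ᵥ (e₁ + f₁)) u = 0 := by
    intro u a b h ha hb'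
    have : u = (g : Matrix (Fin n) (Fin n) F) *ᵥ
        (((g⁻¹ : GL (Fin n) F) : Matrix (Fin n) (Fin n) F) *ᵥ u) := (gl_mulVec_inv g u).symm
    rw [this, hp, h, map_add, map_smul, ha, hb', smul_zero, add_zero]
  have hN := (R.Em_half hy hw0 hyy hyw0).mono C.hN
  have hs : -(Bs φ n (e₁ + f₁) (e₁ + f₁)) / 2 = -1 := by
    rw [hb]
    have := R.h2
    field_simp
  rw [hs] at hN
  obtain ⟨e, he, hev⟩ := (inH_val hg).conj_Em φ R.hφ hφ2 C.hGU hyy hN
  refine ⟨(g : Matrix (Fin n) (Fin n) F) *ᵥ (e₁ + f₁), e, he, hev, ?_, ?_, ?_, ?_⟩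
  · rw [hp]; exact hyw0
  · rw [hp]; exact hb
  · exact hu u₁ a₁ b₁ h₁ (hperp a₁ (hve 1) (hvf 1)) (hperp b₁ (hve 2) (hvf 2))
  · exact hu u₂ a₂ b₂ h₂ (hperp a₂ (hve 3) (hvf 3)) (hperp b₂ (hve 4) (hvf 4))

/-- first step: `g y` lies on a rational line through `z` -/
theorem HC.ratPt_aux1 (C : HC φ n q F₀ P H) (hT : NoTv φ F₀ P H) {g : GL (Fin n) F} (hg : g ∈ H)
    {y z : Fin n → F} (hy : RatV F₀ P y) (hyy : Bs φ n y y = 0) (hz : RatV F₀ P z) (hz0 : z ≠ 0)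
    (hzz : Bs φ n z z = 0) (hzv : Bs φ n z ((g : Matrix (Fin n) (Fin n) F) *ᵥ y) = 0) :
    ∃ (l : F) (r : Fin n → F) (μ : F), l ≠ 0 ∧ RatV F₀ P r ∧ Bs φ n z r = 0 ∧
      (g : Matrix (Fin n) (Fin n) F) *ᵥ y = l • (r + μ • z) := by
  have R := C.R
  have hφ2 := R.hφ2
  by_cases hvz : ∃ κ : F, (g : Matrix (Fin n) (Fin n) F) *ᵥ y = κ • z
  · obtain ⟨κ, hκ⟩ := hvz
    exact ⟨1, 0, κ, one_ne_zero, RatV.zero, map_zero _, by rw [hκ, one_smul, zero_add]⟩
  -- a rational vector of `z^⊥` not orthogonal to `g y`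
  obtain ⟨w, hw, hzw, hwv⟩ : ∃ w, RatV F₀ P w ∧ Bs φ n z w = 0 ∧
      Bs φ n w ((g : Matrix (Fin n) (Fin n) F) *ᵥ y) ≠ 0 := by
    by_contra hcon
    push Not at hcon
    exact hvz (R.perp1 hz hz0 hzz hcon)
  have hp := (inH_val hg).pres φ R.hφ C.hGU
  set v := (g : Matrix (Fin n) (Fin n) F) *ᵥ y with hv
  have hvv : Bs φ n v v = 0 := by rw [hv, hp]; exact hyy
  have hvz0 : Bs φ n v z = 0 := B_zero_symm φ hφ2 hzv
  obtain ⟨w', e, he, hev, hvw', hb, hw'z, -⟩ := C.exists_test hg hy hyy z z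
  have hw'v : Bs φ n w' v = 0 := B_zero_symm φ hφ2 hvw'
  have hvw : Bs φ n v w ≠ 0 := by
    intro h
    exact hwv (B_zero_symm φ hφ2 h)
  have hpe := (inH_val he).pres φ R.hφ C.hGU
  -- `e` fixes `z` and `v`
  have hez : (e : Matrix (Fin n) (Fin n) F) *ᵥ z = z := by
    rw [hev, Em_mulVec φ hφ2 _ _ _ hvv, hvz0, hw'z]
    simp
  have hevv : (e : Matrix (Fin n) (Fin n) F) *ᵥ v = v := by
    rw [hev, Em_mulVec φ hφ2 _ _ _ hvv, hvv, hw'v]
    simp
  obtain ⟨δ₁, κ, hδ₁, hzδ₁, h1, -⟩ := C.fix_rat hT hz hz0 hzz he hez hw hzw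
  obtain ⟨δ₂, κ', hδ₂, hzδ₂, h2, -⟩ := C.fix_rat hT hz hz0 hzz he hez hδ₁ hzδ₁
  -- the pairings of `δ₁`
  have hδ₁eq : δ₁ = (e : Matrix (Fin n) (Fin n) F) *ᵥ w - κ • z := by rw [h1]; abel
  have hvδ₁ : Bs φ n v δ₁ = Bs φ n v w := by
    rw [hδ₁eq, map_sub, map_smul, hvz0, smul_zero, sub_zero]
    have := hpe v w
    rw [hevv] at this
    exact this
  have h1' : (e : Matrix (Fin n) (Fin n) F) *ᵥ w =
      w + Bs φ n v w • w' + ((-1) * Bs φ n v w - Bs φ n w' w) • v := by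
    rw [hev, Em_mulVec φ hφ2 _ _ _ hvv]
  have hw'δ₁ : Bs φ n w' δ₁ = Bs φ n w' w + 2 * Bs φ n v w := by
    rw [hδ₁eq, map_sub, map_smul, hw'z, smul_zero, sub_zero, h1']
    simp only [map_add, map_smul, smul_eq_mul, hb, hw'v, mul_zero, add_zero]
    ring
  have h2' : (e : Matrix (Fin n) (Fin n) F) *ᵥ δ₁ =
      δ₁ + Bs φ n v δ₁ • w' + ((-1) * Bs φ n v δ₁ - Bs φ n w' δ₁) • v := by
    rw [hev, Em_mulVec φ hφ2 _ _ _ hvv]
  rw [hvδ₁, hw'δ₁] at h2'
  have h2ne : (2 : F) * Bs φ n v w ≠ 0 := mul_ne_zero R.h2 hvw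
  refine ⟨(2 * Bs φ n v w)⁻¹, (2 : F) • δ₁ - δ₂ - w, κ - κ', inv_ne_zero h2ne,
    ((hδ₁.smul R.two_mem).sub hδ₂).sub hw, ?_, ?_⟩
  · simp only [map_sub, map_smul, hzδ₁, hzδ₂, hzw, smul_zero, sub_zero]
  · have key : (2 * Bs φ n v w) • v = (2 : F) • δ₁ - δ₂ - w + (κ - κ') • z := by
      linear_combination (norm := module) h1 - h1' + h2' - h2
    rw [← key, smul_smul, inv_mul_cancel₀ h2ne, one_smul]

/-- **the images of rational singular points**: if `H` contains no transvection with a rational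
singular centre, `g ∈ H`, and `g y ⟂ z` for rational singular `y`, `z`, then `g y` spans a
rational point -/
theorem HC.ratPt (C : HC φ n q F₀ P H) (hT : NoTv φ F₀ P H) {g : GL (Fin n) F} (hg : g ∈ H)
    {y z : Fin n → F} (hy : RatV F₀ P y) (hyy : Bs φ n y y = 0) (hz : RatV F₀ P z) (hz0 : z ≠ 0)
    (hzz : Bs φ n z z = 0) (hzv : Bs φ n z ((g : Matrix (Fin n) (Fin n) F) *ᵥ y) = 0) :
    ∃ (l : F) (r : Fin n → F), RatV F₀ P r ∧ (g : Matrix (Fin n) (Fin n) F) *ᵥ y = l • r := by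
  have R := C.R
  have hφ2 := R.hφ2
  obtain ⟨l, r, μ, hl, hr, hzr, hv⟩ := C.ratPt_aux1 hT hg hy hyy hz hz0 hzz hzv
  by_cases hμ : μ ∈ F₀
  · exact ⟨l, r + μ • z, hr.add (hz.smul hμ), hv⟩
  by_cases hli : LinearIndependent F ![z, r]
  swap
  · rw [LinearIndependent.pair_iff] at hli
    push Not at hli
    obtain ⟨s, t, hst, hne⟩ := hli
    have ht : t ≠ 0 := by
      intro ht
      rw [ht, zero_smul, add_zero] at hst
      rcases smul_eq_zero.1 hst with h | h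
      · exact hne h ht
      · exact hz0 h
    have hr' : r = (-(s / t)) • z := by
      have : t • r = (-s) • z := by
        rw [neg_smul]; exact eq_neg_of_add_eq_zero_right hst
      have h2 := congrArg (fun x => t⁻¹ • x) this
      simp only [smul_smul, inv_mul_cancel₀ ht, one_smul] at h2
      rw [h2]
      congr 1
      field_simp
    refine ⟨l * (-(s / t) + μ), z, hz, ?_⟩
    rw [hv, hr', ← add_smul, smul_smul]
  -- the main case
  exfalso
  have hp := (inH_val hg).pres φ R.hφ C.hGU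
  set v := (g : Matrix (Fin n) (Fin n) F) *ᵥ y with hvdef
  have hvv : Bs φ n v v = 0 := by rw [hvdef, hp]; exact hyy
  have hrz : Bs φ n r z = 0 := B_zero_symm φ hφ2 hzr
  have hrr : Bs φ n r r = 0 := by
    have h1 := hvv
    rw [hv] at h1
    simp only [map_add, map_smulₛₗ, map_smul, LinearMap.add_apply, LinearMap.smul_apply,
      smul_eq_mul, hzz, hzr, hrz, mul_zero, add_zero, RingHom.id_apply] at h1
    simp only [mul_eq_zero, map_eq_zero, hl, false_or] at h1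
    exact h1
  obtain ⟨w', e, he, hev, hvw', hb, hw'z, hw'r⟩ := C.exists_test hg hy hyy z r
  have hvz0 : Bs φ n v z = 0 := B_zero_symm φ hφ2 hzv
  have hez : (e : Matrix (Fin n) (Fin n) F) *ᵥ z = z := by
    rw [hev, Em_mulVec φ hφ2 _ _ _ hvv, hvz0, hw'z]
    simp
  obtain ⟨θ, hθ0, hθ, -⟩ := R.exists_theta
  have hclaim : ∀ a, RatV F₀ P a → Bs φ n z a = 0 → Bs φ n r a = 0 → Bs φ n a w' = 0 := by
    intro a ha hza hra
    have haz : Bs φ n a z = 0 := B_zero_symm φ hφ2 hza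
    have har : Bs φ n a r = 0 := B_zero_symm φ hφ2 hra
    obtain ⟨δ₁, κ, hδ₁, hzδ₁, h1, hpar⟩ := C.fix_rat hT hz hz0 hzz he hez ha hza
    have hva : Bs φ n v a = 0 := by
      rw [hv]
      simp only [map_add, map_smulₛₗ, LinearMap.add_apply, LinearMap.smul_apply, smul_eq_mul,
        hza, hra, mul_zero, add_zero]
    have h1' : (e : Matrix (Fin n) (Fin n) F) *ᵥ a = a + (-(Bs φ n w' a) * l) • (r + μ • z) := by
      rw [hev, Em_mulVec φ hφ2 _ _ _ hvv, hva, hv]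
      module
    obtain ⟨η₁, η₂, hη₁, hη₂, hη⟩ := R.scalar_decomp hθ0 hθ (-(Bs φ n w' a) * l)
    obtain ⟨m₁, m₂, hm₁, hm₂, hm⟩ := R.scalar_decomp hθ0 hθ (-(Bs φ n w' a) * l * μ - κ)
    have hA : RatV F₀ P (δ₁ - a - η₁ • r - m₁ • z) :=
      ((hδ₁.sub ha).sub (hr.smul hη₁)).sub (hz.smul hm₁)
    have hB' : RatV F₀ P (-(η₂ • r + m₂ • z)) := ((hr.smul hη₂).add (hz.smul hm₂)).neg
    have hsum : (δ₁ - a - η₁ • r - m₁ • z) + θ • (-(η₂ • r + m₂ • z)) = 0 := by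
      linear_combination (norm := module) h1' - h1 + hη • r + hm • z
    obtain ⟨hA0, hB0⟩ := R.decomp_unique hθ0 hθ hA hB' hsum
    have hB0' : m₂ • z + η₂ • r = 0 := by
      have := neg_eq_zero.1 hB0
      rw [add_comm] at this
      exact this
    obtain ⟨hm₂0, hη₂0⟩ := (LinearIndependent.pair_iff.1 hli) m₂ η₂ hB0'
    rw [hη₂0, mul_zero, add_zero] at hη
    rw [hm₂0, mul_zero, add_zero] at hm
    have hδ₁eq : δ₁ = a + η₁ • r + m₁ • z := by
      linear_combination (norm := module) hA0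
    have hBδ : Bs φ n δ₁ δ₁ = Bs φ n a a := by
      rw [hδ₁eq]
      simp only [map_add, map_smulₛₗ, map_smul, LinearMap.add_apply, LinearMap.smul_apply,
        smul_eq_mul, hzz, hzr, hrz, hrr, hza, hra, haz, har, mul_zero, add_zero, zero_add]
    rw [hBδ] at hpar
    have hκ : κ ∈ F₀ := by
      rw [R.hfix]
      linear_combination -hpar
    have hημ : -(Bs φ n w' a) * l * μ ∈ F₀ := by
      have : -(Bs φ n w' a) * l * μ = m₁ + κ := by linear_combination hm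
      rw [this]; exact F₀.add_mem hm₁ hκ
    have hη0 : -(Bs φ n w' a) * l = 0 := by
      by_contra h0
      apply hμ
      have : μ = (-(Bs φ n w' a) * l * μ) / (-(Bs φ n w' a) * l) := by
        rw [mul_div_assoc, mul_comm, div_mul_cancel₀ _ h0]
      rw [this]
      exact F₀.div_mem hημ (hη ▸ hη₁)
    have hw'a : Bs φ n w' a = 0 := by
      rcases mul_eq_zero.1 hη0 with h | h
      · exact neg_eq_zero.1 h
      · exact absurd h hl
    exact B_zero_symm φ hφ2 hw'a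
  obtain ⟨κ, κ', hw'⟩ := R.perp2 hz hr hli hclaim
  have : Bs φ n w' w' = 0 := by
    rw [hw']
    simp only [map_add, map_smulₛₗ, map_smul, LinearMap.add_apply, LinearMap.smul_apply,
      smul_eq_mul, hzz, hzr, hrz, hrr, mul_zero, add_zero]
  rw [hb] at this
  exact R.h2 this

end Cfsg.Agent.Lib.H10.So
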