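import Mathlib
import Cfsg.Agent.Lib.H10.SoD
import Cfsg.Agent.Lib.H2.SuSubFF
import Cfsg.Agent.Lib.H4.Herm

/-!
# Orthogonal subfield subgroups of `SU_n(q)` (part E): the standing hypotheses from the statement,
and the maximality modulo the three farmed-out pieces
-/

set_option autoImplicit false
set_option linter.unusedSectionVars false
set_option linter.unusedVariables false
set_option linter.unusedSimpArgs false

namespace Cfsg.Agent.Lib.H10.So

open Matrix
open Cfsg.Agent.S0837 (Bs Bs_apply Bs_symm Bs_nondeg)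
open Cfsg.Agent.S0781 (Em Em_mulVec Em_det Em_preserves)
open Cfsg.Agent.Lib.H11.UGen (Um Um_mulVec)
open Cfsg.Agent.Lib.H10.Sf (IsRat)
open Cfsg.Agent.Lib.H10.Su

variable {F : Type*} [Field F] [Fintype F] {n q : ℕ}

theorem two_ne_zero_of_odd (hF : Fintype.card F = q ^ 2) (hodd : Odd q) : (2 : F) ≠ 0 := by
  intro h2
  have hchar : ringChar F = 2 := by
    have hp : (2 : ℕ).Prime := Nat.prime_two
    have : ((2 : ℕ) : F) = 0 := by exact_mod_cast h2
    exact CharP.ringChar_of_prime_eq_zero hp this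
  have h := FiniteField.even_card_of_char_two hchar
  rw [hF] at h
  have hq : q % 2 = 1 := Nat.odd_iff.1 hodd
  have : q ^ 2 % 2 = 1 := by
    rw [Nat.pow_mod, hq]
  omega

/-- the standing hypotheses hold in the situation of the statement -/
theorem RS.of_hyp (hF : Fintype.card F = q ^ 2) (hn : 13 ≤ n) (hodd : Odd q) (F₀ : Subfield F)
    (hcard : Fintype.card F = Nat.card F₀ ^ 2) (P : GL (Fin n) F)
    (hP : Cfsg.Geo.IsFormRationalStructure (Cfsg.hermForm n F q) F₀ 1 P) (φ : F →+* F)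
    (hφ : ∀ x, φ x = x ^ q) (hφ2 : ∀ x, φ (φ x) = x) : RS φ n q F₀ P := by
  have hq : Nat.card F₀ = q := by
    have h : Nat.card F₀ ^ 2 = q ^ 2 := by rw [← hcard, hF]
    exact Nat.pow_left_injective (by norm_num : 2 ≠ 0) h
  refine ⟨hF, hφ, hφ2, fun x => ?_, two_ne_zero_of_odd hF hodd, ?_, hn⟩
  · constructor
    · intro hx
      rw [hφ]
      exact Cfsg.Agent.Lib.H2.SuSub.ff_pow_card_of_mem hq hx
    · intro hx
      rw [hφ] at hx
      exact Cfsg.Agent.Lib.H2.SuSub.ff_mem_of_pow_card hq hx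
  · rintro _ _ ⟨u, hu, rfl⟩ ⟨v, hv, rfl⟩
    have h := hP v u hv hu
    rw [one_mul] at h
    have e : Bs φ n ((P : Matrix (Fin n) (Fin n) F) *ᵥ u) ((P : Matrix (Fin n) (Fin n) F) *ᵥ v) =
        Cfsg.hermForm n F q ((P : Matrix (Fin n) (Fin n) F) *ᵥ v)
          ((P : Matrix (Fin n) (Fin n) F) *ᵥ u) := by
      rw [Bs_apply, Cfsg.hermForm]
      simp only [hφ]
    rw [e]
    exact h

variable {φ : F →+* F} {F₀ : Subfield F} {P : GL (Fin n) F}

/-- the maximality of the subfield subgroup, given the point argument `hC`, the generation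
statement `hT` and the properness `hP` -/
theorem maximal_of (R : RS φ n q F₀ P)
    (hC : ∀ g : GL (Fin n) F,
      (∀ y, RatV F₀ P y → Bs φ n y y = 0 → ∃ (l : F) (r : Fin n → F), RatV F₀ P r ∧
        (g : Matrix (Fin n) (Fin n) F) *ᵥ y = l • r) →
      g ∈ Cfsg.Geo.subfieldSubgroup F₀ P)
    (hT : ∀ H : Subgroup (GL (Fin n) F), HC φ n q F₀ P H → ∀ (z : Fin n → F) (c : F),
      RatV F₀ P z → z ≠ 0 → Bs φ n z z = 0 → c + φ c = 0 → c ≠ 0 → InH H (Um φ z c) →
      H = Cfsg.GU n F q ⊓ Cfsg.Geo.specialLinear (Fin n) F)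
    (hP : NP n q F₀ P < Cfsg.GU n F q ⊓ Cfsg.Geo.specialLinear (Fin n) F) :
    Cfsg.Geo.IsMaximalIn (Cfsg.GU n F q ⊓ Cfsg.Geo.specialLinear (Fin n) F) (NP n q F₀ P) := by
  refine ⟨hP, fun H hNH hHle => ?_⟩
  have C : HC φ n q F₀ P H := ⟨R, hNH, hHle⟩
  have hφ2 := R.hφ2
  have hn := R.hn
  by_cases hno : NoTv φ F₀ P H
  · left
    refine le_antisymm (fun g hg => ?_) hNH
    refine Subgroup.mem_inf.2 ⟨hC g (fun y hy hyy => ?_), hHle hg⟩
    obtain ⟨θ, hθ0, hθ, -⟩ := R.exists_theta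
    obtain ⟨v₁, v₂, hv₁, hv₂, hv⟩ := R.decomp hθ0 hθ ((g : Matrix (Fin n) (Fin n) F) *ᵥ y)
    obtain ⟨e, f, he, hf, hee, hff, hef, hve, hvf⟩ := R.exists_hyp_perp ![v₁, v₂] (by
      intro i; fin_cases i
      · exact hv₁
      · exact hv₂) (by omega)
    have he0 : e ≠ 0 := by
      rintro rfl
      rw [map_zero, LinearMap.zero_apply] at hef
      exact zero_ne_one hef
    have hzv : Bs φ n e ((g : Matrix (Fin n) (Fin n) F) *ᵥ y) = 0 := by
      have h1 : Bs φ n e v₁ = 0 := B_zero_symm φ hφ2 (hve 0)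
      have h2 : Bs φ n e v₂ = 0 := B_zero_symm φ hφ2 (hve 1)
      rw [hv, map_add, map_smul, h1, h2]
      simp
    exact C.ratPt hno hg hy hyy he he0 hee hzv
  · right
    unfold NoTv at hno
    push Not at hno
    obtain ⟨z, c, hz, hz0, hzz, hc, hU, hc0⟩ := hno
    exact hT H C z c hz hz0 hzz hc hc0 hU

end Cfsg.Agent.Lib.H10.So
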