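import Mathlib
import Cfsg.Agent.Lib.H10.StrongFixed
import Cfsg.Agent.Lib.H10.PResidual
import Cfsg.Agent.Lib.L0.ControlFusion

/-!
# Subgroups of fixed order strongly closed in their normalizers, II (helper10)

`conj_mem_max` (local lemma), `fusion_mod_frattini_of_hyp` (Alperin assembly) and
`hasNormalPComplement_of_hyp` (normal `p`-complement via Tate's theorem).
-/

set_option autoImplicit false

namespace Cfsg.Agent.Lib.H10.SFix

open Cfsg.Agent.Lib.H10.CopAut
open Cfsg.Agent.Lib.H10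
open scoped commutatorElement

variable {G : Type*} [Group G]

/-- **Local lemma.** `h` of order prime to `p` and `p - 1` normalizing `Q ≤ P` acts trivially on `Q`
modulo every maximal subgroup `M` of `P`. -/
theorem conj_mem_max [Finite G] {p d : ℕ} [hp : Fact p.Prime] {P Q M : Subgroup G}
    (hP : IsPGroup p P) (hH : HypH p d P) (hd : 0 < d) (hdn : p ^ d < Nat.card P)
    (hM : M ≤ P) (hMn : P ≤ Subgroup.normalizer (M : Set G)) (hMidx : M.relIndex P = p)
    (hQ : Q ≤ P) {h : G} (hh : h ∈ Subgroup.normalizer (Q : Set G))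
    (hcop : (orderOf h).Coprime p) (hcop1 : (orderOf h).Coprime (p - 1)) :
    ∀ u ∈ Q, u⁻¹ * (h⁻¹ * u * h) ∈ M := by
  intro u hu
  have hhQ' : h⁻¹ * u * h ∈ Q := by
    have := (Subgroup.mem_normalizer_iff.mp (Subgroup.inv_mem _ hh) u).mp hu
    simpa using this
  by_cases hbig : p ^ d < Nat.card Q
  · have hc := commute_of_card_gt hP hH hd hQ hh hcop hcop1 hbig u hu
    have : u⁻¹ * (h⁻¹ * u * h) = 1 := by
      calc u⁻¹ * (h⁻¹ * u * h) = u⁻¹ * (h⁻¹ * (u * h)) := by group
        _ = u⁻¹ * (h⁻¹ * (h * u)) := by rw [hc]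
        _ = 1 := by group
    rw [this]; exact M.one_mem
  by_cases hQM : Q ≤ M
  · exact hQM (Q.mul_mem (Q.inv_mem hu) hhQ')
  -- now `|Q| ≤ p^d`, `Q ≰ M`
  have hQp : IsPGroup p Q := hP.to_le hQ
  obtain ⟨a, ha⟩ := hQp.exists_card_eq
  obtain ⟨n, hn⟩ := hP.exists_card_eq
  have had : a ≤ d := by
    rw [ha] at hbig
    by_contra hcon
    exact hbig ((Nat.pow_lt_pow_iff_right hp.out.one_lt).mpr (by omega))
  have hdn' : d < n := by
    rw [hn] at hdn
    exact (Nat.pow_lt_pow_iff_right hp.out.one_lt).mp hdn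
  have hMcard : Nat.card M * p = p ^ n := by
    have h1 := Subgroup.relIndex_mul_relIndex ⊥ M P bot_le hM
    rw [Subgroup.relIndex_bot_left, Subgroup.relIndex_bot_left, hMidx, hn] at h1
    exact h1
  have hMdvd : p ^ d ∣ Nat.card M := by
    obtain ⟨m, hm⟩ := (hP.to_le hM).exists_card_eq
    rw [hm] at hMcard ⊢
    have : m + 1 = n := by
      rw [← pow_succ] at hMcard
      exact Nat.pow_right_injective hp.out.two_le hMcard
    exact pow_dvd_pow p (by omega)
  have hinv : h ∈ Subgroup.normalizer ((M ⊓ Q : Subgroup G) : Set G) := by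
    apply Cfsg.Agent.Lib.L0.mem_normalizer_of_forall_conj_mem
    intro x hx
    have hXM : Subgroup.zpowers x ≤ M := by rw [Subgroup.zpowers_le]; exact hx.1
    have hXQ : Subgroup.zpowers x ≤ Q := by rw [Subgroup.zpowers_le]; exact hx.2
    obtain ⟨b, hb⟩ := (hQp.to_le hXQ).exists_card_eq
    have hba : b ≤ a := by
      have h1 := Subgroup.card_dvd_of_le hXQ
      rw [hb, ha] at h1
      exact (Nat.pow_dvd_pow_iff_le_right hp.out.one_lt).mp h1
    obtain ⟨E, hXE, hEM, hEcard⟩ := exists_between hXM hb hMdvd (hba.trans had)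
    have hEfam : Fam p d P E := ⟨hEM.trans hM, Or.inl hEcard⟩
    have h1 := mem_normalizer_inf_of_hyp hP hH hEfam hQ hh
    have h2 : x ∈ E ⊓ Q := ⟨hXE (Subgroup.mem_zpowers x), hx.2⟩
    have h3 := (Subgroup.mem_normalizer_iff.mp h1 x).mp h2
    exact ⟨hEM h3.1, h3.2⟩
  have hnorm : Q ≤ Subgroup.normalizer ((M ⊓ Q : Subgroup G) : Set G) :=
    le_trans (le_inf (hQ.trans hMn) Subgroup.le_normalizer) (normalizer_inf_le M Q)
  have hrel : (M ⊓ Q).relIndex Q = p := by
    rw [Subgroup.inf_relIndex_right]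
    exact relIndex_eq_prime_of_normal hp.out hM hMn hMidx hQ hQM
  exact (conj_mem_of_relIndex_prime hnorm hrel hh hinv hcop hcop1 u hu).1

/-- If all fusion in a Sylow `p`-subgroup `S` is trivial modulo `Φ(S)` then `G` has a normal
`p`-complement (via Tate's theorem). -/
theorem hasNormalPComplement_of_fusion_mod_frattini [Finite G] {p : ℕ} [hp : Fact p.Prime]
    (S : Sylow p G)
    (hcf : ∀ x ∈ (S : Subgroup G), ∀ g : G, g⁻¹ * x * g ∈ (S : Subgroup G) →
      x⁻¹ * (g⁻¹ * x * g) ∈ (frattini (S : Subgroup G)).map (S : Subgroup G).subtype) :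
    Cfsg.HasNormalPComplement p G := by
  classical
  have hKn : (Cfsg.pResidual p G).Normal := Cfsg.Agent.Lib.H14.pResidual_normal'
  have hsup := Cfsg.Agent.Lib.H14.pResidual_sup_sylow S
  have hgen : Cfsg.pResidual p G ≤ Subgroup.closure
      {g : G | g ∈ Cfsg.pResidual p G ∧ (orderOf g).Coprime p} := by
    conv_lhs => unfold Cfsg.pResidual
    apply Subgroup.closure_mono
    intro g hg
    exact ⟨Subgroup.subset_closure hg, hg⟩
  have hfoc : Subgroup.focalSubgroup (S : Subgroup G) ≤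
      (frattini (S : Subgroup G)).map (S : Subgroup G).subtype := by
    rw [Subgroup.focalSubgroup_def, Subgroup.closure_le]
    rintro z ⟨hzS, x, hxS, u, rfl⟩
    have hy : u⁻¹⁻¹ * x⁻¹ * u⁻¹ ∈ (S : Subgroup G) := by
      have : u⁻¹⁻¹ * x⁻¹ * u⁻¹ = x⁻¹ * ⁅x, u⁆ := by
        rw [commutatorElement_def]; group
      rw [this]
      exact Subgroup.mul_mem _ (Subgroup.inv_mem _ hxS) hzS
    have h1 := hcf x⁻¹ (Subgroup.inv_mem _ hxS) u⁻¹ hy
    have h2 : x⁻¹⁻¹ * (u⁻¹⁻¹ * x⁻¹ * u⁻¹) = ⁅x, u⁆ := by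
      rw [commutatorElement_def]; group
    rw [h2] at h1
    exact h1
  have hle : (Cfsg.pResidual p G).subgroupOf (S : Subgroup G) ≤ frattini (S : Subgroup G) := by
    intro s hs
    have hsK : s.1 ∈ Cfsg.pResidual p G := Subgroup.mem_subgroupOf.mp hs
    obtain ⟨k, hk⟩ := S.isPGroup' s
    have hk' : s.1 ^ p ^ k = 1 := by
      have := congrArg Subtype.val hk
      simpa using this
    have h1 : s.1 ∈ commutator G :=
      Cfsg.Agent.Lib.H6.mem_commutator_of_mem_pResidual_sup p s.1 k hk'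
        (Subgroup.mem_sup_left hsK)
    have h2 : s.1 ∈ commutator G ⊓ (S : Subgroup G) := ⟨h1, s.2⟩
    rw [Subgroup.commutator_inf_eq_focalSubgroup] at h2
    obtain ⟨t, ht, hts⟩ := hfoc h2
    have : t = s := Subtype.ext hts
    rw [← this]
    exact ht
  have hfr : ∀ M : Subgroup (S : Subgroup G),
      M ⊔ (Cfsg.pResidual p G).subgroupOf (S : Subgroup G) = ⊤ → M = ⊤ := by
    intro M hM
    apply frattini_nongenerating
    rw [eq_top_iff, ← hM]
    exact sup_le_sup_left hle _
  have hcore := Cfsg.Agent.Lib.L0.tate_core S (Cfsg.pResidual p G) hsup hgen hfr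
  refine ⟨S, Cfsg.pResidual p G, hKn, ?_⟩
  apply Subgroup.isComplement'_of_disjoint_and_mul_eq_univ (disjoint_iff.mpr hcore)
  rw [← Subgroup.normal_mul, hsup]; rfl

/-- Membership in the Frattini subgroup of a `p`-subgroup `P`, tested on the maximal subgroups of
`P` seen as subgroups of `G`. -/
theorem mem_frattini_map_of_forall [Finite G] {p : ℕ} [hp : Fact p.Prime] {P : Subgroup G}
    (hP : IsPGroup p P) {y : G} (hy : y ∈ P)
    (h : ∀ M : Subgroup G, M ≤ P → P ≤ Subgroup.normalizer (M : Set G) → M.relIndex P = p → y ∈ M) :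
    y ∈ (frattini ↥P).map P.subtype := by
  refine ⟨⟨y, hy⟩, ?_, rfl⟩
  rw [SetLike.mem_coe, Cfsg.Agent.Lib.H1.frattini_eq_iInf]
  simp only [Subgroup.mem_iInf]
  intro M hM
  have hMidx : M.index = p := Cfsg.Agent.Lib.H1.isPGroup_coatom_index hP hM
  have hMn : M.Normal := Cfsg.Agent.Lib.H1.isPGroup_coatom_normal hP hM
  have hM'P : M.map P.subtype ≤ P := Subgroup.map_subtype_le M
  have hrel : (M.map P.subtype).relIndex P = p := by
    apply relIndex_eq_of_card hM'P
    rw [Subgroup.card_map_of_injective P.subtype_injective, ← hMidx, Subgroup.card_mul_index]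
  have hnorm : P ≤ Subgroup.normalizer ((M.map P.subtype : Subgroup G) : Set G) := by
    intro g hg
    rw [Subgroup.mem_normalizer_iff]
    intro x
    constructor
    · rintro ⟨m, hm, rfl⟩
      exact ⟨⟨g, hg⟩ * m * ⟨g, hg⟩⁻¹, hMn.conj_mem m hm _, rfl⟩
    · rintro ⟨m, hm, hmx⟩
      refine ⟨⟨g, hg⟩⁻¹ * m * ⟨g, hg⟩, ?_, ?_⟩
      · have := hMn.conj_mem m hm ⟨g, hg⟩⁻¹
        simpa using this
      · simp only [Subgroup.coe_subtype, Subgroup.coe_mul, Subgroup.coe_inv]
        have : (m : G) = g * x * g⁻¹ := hmx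
        rw [this]; group
  obtain ⟨m, hm, hmy⟩ := h _ hM'P hnorm hrel
  have : m = ⟨y, hy⟩ := Subtype.ext hmy
  rw [← this]; exact hm

/-- Coprimality to `p - 1` is automatic when `p` is the smallest prime divisor of `|G|`. -/
theorem coprime_pred_of_min [Finite G] {p : ℕ} [hp : Fact p.Prime]
    (hmin : ∀ q : ℕ, q.Prime → q ∣ Nat.card G → p ≤ q) (h : G) :
    (orderOf h).Coprime (p - 1) := by
  apply Nat.coprime_of_dvd
  intro q hq hqh hqp
  have h1 : p ≤ q := hmin q hq (hqh.trans (orderOf_dvd_natCard h))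
  have h2 : q ≤ p - 1 := Nat.le_of_dvd (Nat.sub_pos_of_lt hp.out.one_lt) hqp
  have := hp.out.one_lt
  omega

/-- **Fusion is trivial modulo the Frattini subgroup.** -/
theorem fusion_mod_frattini_of_hyp [Finite G] {p d : ℕ} [hp : Fact p.Prime] (S : Sylow p G)
    (hmin : ∀ q : ℕ, q.Prime → q ∣ Nat.card G → p ≤ q)
    (hH : HypH p d (S : Subgroup G)) (hd : 0 < d) (hdn : p ^ d < Nat.card (S : Subgroup G)) :
    ∀ x ∈ (S : Subgroup G), ∀ g : G, g⁻¹ * x * g ∈ (S : Subgroup G) →
      x⁻¹ * (g⁻¹ * x * g) ∈ (frattini (S : Subgroup G)).map (S : Subgroup G).subtype := by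
  set Φ := (frattini (S : Subgroup G)).map (S : Subgroup G).subtype with hΦ
  have hSp : IsPGroup p (S : Subgroup G) := S.isPGroup'
  have key : ∀ Q : Subgroup G, Q ≤ (S : Subgroup G) → ∀ g : G,
      Q.map (MulAut.conj g⁻¹).toMonoidHom ≤ (S : Subgroup G) →
      (fun (A : Set G) (g : G) => ∀ a ∈ A, a⁻¹ * (g⁻¹ * a * g) ∈ Φ) (Q : Set G) g := by
    refine good_of_local S (fun (A : Set G) (g : G) => ∀ a ∈ A, a⁻¹ * (g⁻¹ * a * g) ∈ Φ)
      (fun _ => True) ?_ ?_ ?_ ?_ ?_ ?_
    · intro A B g hA hBA a ha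
      exact hA a (hBA ha)
    · intro A g k hA hB a ha
      have h1 := hA a ha
      have h2 := hB (g⁻¹ * a * g) ⟨a, ha, rfl⟩
      have : a⁻¹ * ((g * k)⁻¹ * a * (g * k)) =
          (a⁻¹ * (g⁻¹ * a * g)) * ((g⁻¹ * a * g)⁻¹ * (k⁻¹ * (g⁻¹ * a * g) * k)) := by group
      rw [this]
      exact Φ.mul_mem h1 h2
    · intro A g hA b hb
      obtain ⟨a, ha, rfl⟩ := hb
      have h1 := hA a ha
      have : (g⁻¹ * a * g)⁻¹ * (g⁻¹⁻¹ * (g⁻¹ * a * g) * g⁻¹) = (a⁻¹ * (g⁻¹ * a * g))⁻¹ := by group
      rw [this]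
      exact Φ.inv_mem h1
    · intro x a ha
      have : a = 1 := by
        have : a ∈ (⊥ : Subgroup G) := ha
        rwa [Subgroup.mem_bot] at this
      subst this
      have : (1 : G)⁻¹ * (x⁻¹ * 1 * x) = 1 := by group
      rw [this]; exact Φ.one_mem
    · intro T hT _ _ x hx
      obtain ⟨hTS, hidx⟩ := hT
      set N := Subgroup.normalizer (T : Set G) with hN
      -- the property for elements of `N`
      have hprop : ∀ u : N, u ∈ Cfsg.pResidual p N →
          ∀ a ∈ T, a⁻¹ * ((u : G)⁻¹ * a * (u : G)) ∈ Φ := by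
        intro u hu
        unfold Cfsg.pResidual at hu
        induction hu using Subgroup.closure_induction with
        | mem u hu =>
          intro a ha
          have hcop : (orderOf (u : G)).Coprime p := by
            rw [Subgroup.orderOf_coe]; exact hu
          have hcop1 := coprime_pred_of_min hmin (u : G)
          have haS : a ∈ (S : Subgroup G) := hTS ha
          have hua : (u : G)⁻¹ * a * (u : G) ∈ T := by
            have := (Subgroup.mem_normalizer_iff.mp (Subgroup.inv_mem _ u.2) a).mp ha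
            simpa using this
          apply mem_frattini_map_of_forall hSp
            ((S : Subgroup G).mul_mem ((S : Subgroup G).inv_mem haS) (hTS hua))
          intro M hMS hMn hMidx
          exact conj_mem_max hSp hH hd hdn hMS hMn hMidx hTS u.2 hcop hcop1 a ha
        | one =>
          intro a _
          have : a⁻¹ * (((1 : N) : G)⁻¹ * a * ((1 : N) : G)) = 1 := by simp
          rw [this]; exact Φ.one_mem
        | mul u v _ _ hu hv =>
          intro a ha
          have hua : (u : G)⁻¹ * a * (u : G) ∈ T := by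
            have := (Subgroup.mem_normalizer_iff.mp (Subgroup.inv_mem _ u.2) a).mp ha
            simpa using this
          have h1 := hu a ha
          have h2 := hv _ hua
          have : a⁻¹ * (((u * v : N) : G)⁻¹ * a * ((u * v : N) : G)) =
              (a⁻¹ * ((u : G)⁻¹ * a * (u : G))) *
                (((u : G)⁻¹ * a * (u : G))⁻¹ * ((v : G)⁻¹ * ((u : G)⁻¹ * a * (u : G)) * (v : G))) := by
            simp only [Subgroup.coe_mul]; group
          rw [this]
          exact Φ.mul_mem h1 h2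
        | inv u _ hu =>
          intro a ha
          have hua : (u : G) * a * (u : G)⁻¹ ∈ T :=
            (Subgroup.mem_normalizer_iff.mp u.2 a).mp ha
          have h1 := hu _ hua
          have : a⁻¹ * (((u⁻¹ : N) : G)⁻¹ * a * ((u⁻¹ : N) : G)) =
              (((u : G) * a * (u : G)⁻¹)⁻¹ *
                ((u : G)⁻¹ * ((u : G) * a * (u : G)⁻¹) * (u : G)))⁻¹ := by
            simp only [Subgroup.coe_inv]; group
          rw [this]
          exact Φ.inv_mem h1
      have hQi : ¬ p ∣ (((S : Subgroup G) ⊓ N).subgroupOf N).index := hidx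
      obtain ⟨s, hs, u, hu, hxsu⟩ :=
        exists_mul_of_sylow_pResidual p (((S : Subgroup G) ⊓ N).subgroupOf N) hQi ⟨x, hx⟩
      have hs' : (s : G) ∈ (S : Subgroup G) := (Subgroup.mem_subgroupOf.mp hs).1
      have hxeq : x = (s : G) * (u : G) := by
        have := congrArg Subtype.val hxsu
        simpa using this
      intro a ha
      have haS : a ∈ (S : Subgroup G) := hTS ha
      have hsa : (s : G)⁻¹ * a * (s : G) ∈ T := by
        have := (Subgroup.mem_normalizer_iff.mp (Subgroup.inv_mem _ s.2) a).mp ha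
        simpa using this
      have h1 : a⁻¹ * ((s : G)⁻¹ * a * (s : G)) ∈ Φ := by
        have hcomm : (⟨a, haS⟩ : (S : Subgroup G))⁻¹ * (⟨s, hs'⟩⁻¹ * ⟨a, haS⟩ * ⟨s, hs'⟩) ∈
            frattini (S : Subgroup G) := by
          apply Cfsg.Agent.Lib.H1.isPGroup_commutator_le_frattini hSp
          have : (⟨a, haS⟩ : (S : Subgroup G))⁻¹ * (⟨s, hs'⟩⁻¹ * ⟨a, haS⟩ * ⟨s, hs'⟩) =
              ⁅(⟨a, haS⟩ : (S : Subgroup G))⁻¹, (⟨s, hs'⟩ : (S : Subgroup G))⁻¹⁆ := by
            rw [commutatorElement_def]; group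
          rw [this]
          exact Subgroup.commutator_mem_commutator (Subgroup.mem_top _) (Subgroup.mem_top _)
        exact ⟨_, hcomm, rfl⟩
      have h2 := hprop u hu _ hsa
      have : a⁻¹ * (x⁻¹ * a * x) = (a⁻¹ * ((s : G)⁻¹ * a * (s : G))) *
          (((s : G)⁻¹ * a * (s : G))⁻¹ * ((u : G)⁻¹ * ((s : G)⁻¹ * a * (s : G)) * (u : G))) := by
        rw [hxeq]; group
      rw [this]
      exact Φ.mul_mem h1 h2
    · intro _ _ _ _ _
      trivial
  intro x hx g hxg
  have hQ : Subgroup.zpowers x ≤ (S : Subgroup G) := by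
    rw [Subgroup.zpowers_le]; exact hx
  have hQg : (Subgroup.zpowers x).map (MulAut.conj g⁻¹).toMonoidHom ≤ (S : Subgroup G) := by
    rw [MonoidHom.map_zpowers, Subgroup.zpowers_le]
    simpa using hxg
  exact key _ hQ g hQg x (Subgroup.mem_zpowers x)

/-- **Main theorem**: `p` the smallest prime divisor of `|G|`, all subgroups of order `p^d` (and `4`
when `p^d = 2`) of a Sylow `p`-subgroup strongly closed in their normalizers, `0 < d`,
`p^d < |S|`: then `G` has a normal `p`-complement. -/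
theorem hasNormalPComplement_of_hyp [Finite G] {p d : ℕ} [hp : Fact p.Prime] (S : Sylow p G)
    (hmin : ∀ q : ℕ, q.Prime → q ∣ Nat.card G → p ≤ q)
    (hH : HypH p d (S : Subgroup G)) (hd : 0 < d) (hdn : p ^ d < Nat.card (S : Subgroup G)) :
    Cfsg.HasNormalPComplement p G :=
  hasNormalPComplement_of_fusion_mod_frattini S (fusion_mod_frattini_of_hyp S hmin hH hd hdn)

end Cfsg.Agent.Lib.H10.SFix
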