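import Mathlib
import Cfsg.Agent.Lib.H10.SuB

/-!
# Subfield subgroups of `SU_n(q)` (part C): more calculus

Cancellation in `InH`, commuting Siegel elements, the general `A₂` relation, rational diagonal
matrices.
-/

set_option autoImplicit false
set_option linter.unusedSectionVars false
set_option linter.unusedVariables false
set_option linter.unusedSimpArgs false

namespace Cfsg.Agent.Lib.H10.Su

open Matrix
open Cfsg.Agent.S0837 (Bs Bs_apply Bs_symm Bs_nondeg)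
open Cfsg.Agent.S0782 (Tm Tm_mulVec Tm_det Bs_eq_herm gu_preserves)
open Cfsg.Agent.S0781 (Em Em_mulVec Em_det Em_preserves Em_comm)
open Cfsg.Agent.Lib.H11.UGen (Um Um_mulVec B_single_left B_single_right)
open Cfsg.Agent.Lib.H10.Sf (IsRat)

variable {F : Type*} [Field F] {n q : ℕ}

/-! ### cancellation -/

theorem InH.of_mul_left {H : Subgroup (GL (Fin n) F)} {A B : Matrix (Fin n) (Fin n) F}
    (hAB : InH H (A * B)) (hA : InH H A) : InH H B := by
  obtain ⟨a, ha, rfl⟩ := hA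
  obtain ⟨c, hc, hcAB⟩ := hAB
  refine ⟨a⁻¹ * c, H.mul_mem (H.inv_mem ha) hc, ?_⟩
  rw [Units.val_mul, hcAB, ← mul_assoc, ← Units.val_mul, inv_mul_cancel, Units.val_one, one_mul]

theorem InH.of_mul_right {H : Subgroup (GL (Fin n) F)} {A B : Matrix (Fin n) (Fin n) F}
    (hAB : InH H (A * B)) (hB : InH H B) : InH H A := by
  obtain ⟨b, hb, rfl⟩ := hB
  obtain ⟨c, hc, hcAB⟩ := hAB
  refine ⟨c * b⁻¹, H.mul_mem hc (H.inv_mem hb), ?_⟩
  rw [Units.val_mul, hcAB, mul_assoc, ← Units.val_mul, mul_inv_cancel, Units.val_one, mul_one]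

/-- conjugation of a matrix by an element of `GL` -/
def cj (d : GL (Fin n) F) (M : Matrix (Fin n) (Fin n) F) : Matrix (Fin n) (Fin n) F :=
  (d : Matrix (Fin n) (Fin n) F) * M * ((d⁻¹ : GL (Fin n) F) : Matrix (Fin n) (Fin n) F)

theorem cj_mul (d : GL (Fin n) F) (A B : Matrix (Fin n) (Fin n) F) :
    cj d (A * B) = cj d A * cj d B := by
  unfold cj
  have h : ((d⁻¹ : GL (Fin n) F) : Matrix (Fin n) (Fin n) F) * (d : Matrix (Fin n) (Fin n) F) = 1 := by
    rw [← Units.val_mul, inv_mul_cancel, Units.val_one]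
  calc (d : Matrix (Fin n) (Fin n) F) * (A * B) * ((d⁻¹ : GL (Fin n) F) : Matrix (Fin n) (Fin n) F)
      = (d : Matrix (Fin n) (Fin n) F) * A * (1 : Matrix (Fin n) (Fin n) F) * B *
          ((d⁻¹ : GL (Fin n) F) : Matrix (Fin n) (Fin n) F) := by
        rw [mul_one]; simp only [mul_assoc]
    _ = _ := by rw [← h]; simp only [mul_assoc]

theorem InH.cj {H : Subgroup (GL (Fin n) F)} {d : GL (Fin n) F} (hd : d ∈ H)
    {M : Matrix (Fin n) (Fin n) F} (hM : InH H M) : InH H (cj d M) :=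
  ((inH_val hd).mul hM).mul (inH_val (H.inv_mem hd))

section siegel2
variable (φ : F →+* F)

theorem cj_Em (hφ : ∀ x, φ x = x ^ q) (hφ2 : ∀ x, φ (φ x) = x) {d : GL (Fin n) F}
    (hd : d ∈ Cfsg.GU n F q) (y w : Fin n → F) (s : F) (hyy : Bs φ n y y = 0) :
    cj d (Em φ y w s) = Em φ ((d : Matrix (Fin n) (Fin n) F) *ᵥ y)
      ((d : Matrix (Fin n) (Fin n) F) *ᵥ w) s := by
  have hgi : (d : Matrix (Fin n) (Fin n) F) *
      ((d⁻¹ : GL (Fin n) F) : Matrix (Fin n) (Fin n) F) = 1 := by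
    rw [← Units.val_mul, mul_inv_cancel, Units.val_one]
  exact Em_conj φ hφ2 y w s hyy _ _ hgi ((mem_GU_iff φ hφ d).1 hd)

theorem cj_Um (hφ : ∀ x, φ x = x ^ q) (hφ2 : ∀ x, φ (φ x) = x) {d : GL (Fin n) F}
    (hd : d ∈ Cfsg.GU n F q) (y : Fin n → F) (c : F) (hyy : Bs φ n y y = 0) :
    cj d (Um φ y c) = Um φ ((d : Matrix (Fin n) (Fin n) F) *ᵥ y) c := by
  have hyy' : Bs φ n ((d : Matrix (Fin n) (Fin n) F) *ᵥ y)
      ((d : Matrix (Fin n) (Fin n) F) *ᵥ y) = 0 := by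
    rw [(mem_GU_iff φ hφ d).1 hd]; exact hyy
  rw [Um_eq_Em φ hφ2 y c hyy, Um_eq_Em φ hφ2 _ c hyy', cj_Em φ hφ hφ2 hd y 0 c hyy,
    Matrix.mulVec_zero]

theorem cj_Sm (hφ : ∀ x, φ x = x ^ q) (hφ2 : ∀ x, φ (φ x) = x) {d : GL (Fin n) F}
    (hd : d ∈ Cfsg.GU n F q) (y y' : Fin n → F) (β : F) (hy'y' : Bs φ n y' y' = 0) :
    cj d (Sm φ y y' β) = Sm φ ((d : Matrix (Fin n) (Fin n) F) *ᵥ y)
      ((d : Matrix (Fin n) (Fin n) F) *ᵥ y') β := by
  rw [Sm, cj_Em φ hφ hφ2 hd _ _ _ hy'y', Matrix.mulVec_smul]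
  rfl

/-- Siegel elements with mutually orthogonal data commute -/
theorem Em_commute (hφ2 : ∀ x, φ (φ x) = x) (y w y₂ w₂ : Fin n → F) (s s₂ : F)
    (hyy : Bs φ n y y = 0) (hy₂y₂ : Bs φ n y₂ y₂ = 0)
    (h1 : Bs φ n y y₂ = 0) (h2 : Bs φ n y w₂ = 0) (h3 : Bs φ n w y₂ = 0)
    (h4 : Bs φ n w w₂ = 0) :
    Em φ y w s * Em φ y₂ w₂ s₂ = Em φ y₂ w₂ s₂ * Em φ y w s := by
  have h1' := B_zero_symm φ hφ2 h1
  have h2' := B_zero_symm φ hφ2 h2
  have h3' := B_zero_symm φ hφ2 h3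
  have h4' := B_zero_symm φ hφ2 h4
  rw [Matrix.ext_iff_mulVec]
  intro x
  rw [← Matrix.mulVec_mulVec, ← Matrix.mulVec_mulVec]
  simp only [Em_mulVec φ hφ2 _ _ _ hyy, Em_mulVec φ hφ2 _ _ _ hy₂y₂]
  simp only [map_add, map_sub, map_smul, LinearMap.add_apply, LinearMap.sub_apply, smul_eq_mul,
    h1, h2, h3, h4, h1', h2', h3', h4', mul_zero, add_zero, sub_zero]
  module

/-- the `A₂` relation with an arbitrary value `t = B(y', z)` -/
theorem Sm_comm' (hφ2 : ∀ x, φ (φ x) = x) (y y' z z' : Fin n → F) (β γ t : F)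
    (hy : Bs φ n y y = 0) (hy' : Bs φ n y' y' = 0) (hz : Bs φ n z z = 0) (hz' : Bs φ n z' z' = 0)
    (hyy' : Bs φ n y y' = 0) (hzz' : Bs φ n z z' = 0) (hyz : Bs φ n y z = 0)
    (hyz' : Bs φ n y z' = 0) (hy'z' : Bs φ n y' z' = 0) (hy'z : Bs φ n y' z = t) :
    Sm φ y y' β * Sm φ z z' γ = Sm φ y z' (β * γ * t) * (Sm φ z z' γ * Sm φ y y' β) := by
  have h1 : Bs φ n y' y = 0 := B_zero_symm φ hφ2 hyy'
  have h2 : Bs φ n z' z = 0 := B_zero_symm φ hφ2 hzz'
  have h3 : Bs φ n z y = 0 := B_zero_symm φ hφ2 hyz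
  have h4 : Bs φ n z' y = 0 := B_zero_symm φ hφ2 hyz'
  have h5 : Bs φ n z' y' = 0 := B_zero_symm φ hφ2 hy'z'
  have h6 : Bs φ n z y' = φ t := by rw [← B_symm' φ hφ2 y' z, hy'z]
  rw [Matrix.ext_iff_mulVec]
  intro x
  rw [← Matrix.mulVec_mulVec, ← Matrix.mulVec_mulVec, ← Matrix.mulVec_mulVec]
  simp only [Sm_mulVec φ hφ2 _ _ _ hy', Sm_mulVec φ hφ2 _ _ _ hz']
  simp only [map_add, map_sub, map_smul, map_mul, LinearMap.add_apply, LinearMap.sub_apply,
    smul_eq_mul, hy, hy', hz, hz', hyy', hzz', hyz, hyz', hy'z', hy'z, h1, h2, h3, h4, h5, h6,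
    mul_zero, add_zero, sub_zero]
  module

end siegel2

/-! ### rational diagonal matrices -/

section diag
variable [Fintype F] (φ : F →+* F) {F₀ : Subfield F}

theorem B_diagonal (d : Fin n → F) (u v : Fin n → F) :
    Bs φ n (Matrix.diagonal d *ᵥ u) (Matrix.diagonal d *ᵥ v) =
      ∑ i, (d i * φ (d i)) * (v i * φ (u i)) := by
  rw [Bs_apply]
  apply Finset.sum_congr rfl
  intro i _
  rw [Matrix.mulVec_diagonal, Matrix.mulVec_diagonal, map_mul]
  ring

/-- a rational diagonal matrix with entries of norm one and determinant one lies in `N₁` -/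
theorem diagonal_inH_N₁ (hφ : ∀ x, φ x = x ^ q) (d : Fin n → F) (hd : ∀ i, d i ∈ F₀)
    (hN : ∀ i, d i * φ (d i) = 1) (hdet : ∏ i, d i = 1) :
    InH (N₁ n q F₀) (Matrix.diagonal d) := by
  refine inH_N₁ φ hφ ?_ ?_ ?_
  · intro i j
    rw [Matrix.diagonal_apply]
    split_ifs
    · exact hd i
    · exact F₀.zero_mem
  · rw [Matrix.det_diagonal, hdet]
  · intro u v
    rw [B_diagonal, Bs_apply]
    apply Finset.sum_congr rfl
    intro i _
    rw [hN, one_mul]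

/-- the diagonal entries of the torus element scaling `e_i, e_j` by `ε` (and `e_m` by `ε⁻²`) -/
def tor (i j m : Fin n) (ε : F) : Fin n → F := fun x =>
  (if x = i then ε else 1) * (if x = j then ε else 1) * (if x = m then (ε⁻¹) ^ 2 else 1)

theorem tor_prod (i j m : Fin n) {ε : F} (hε : ε ≠ 0) : ∏ x, tor i j m ε x = 1 := by
  unfold tor
  rw [Finset.prod_mul_distrib, Finset.prod_mul_distrib, Finset.prod_ite_eq' Finset.univ i,
    Finset.prod_ite_eq' Finset.univ j, Finset.prod_ite_eq' Finset.univ m]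
  simp only [Finset.mem_univ, if_true]
  field_simp

theorem tor_apply_i {i j m : Fin n} (hij : i ≠ j) (him : i ≠ m) (ε : F) : tor i j m ε i = ε := by
  simp [tor, hij, him]

theorem tor_apply_j {i j m : Fin n} (hij : i ≠ j) (hjm : j ≠ m) (ε : F) : tor i j m ε j = ε := by
  simp [tor, hij.symm, hjm]

theorem tor_apply_ne {i j m x : Fin n} (hxi : x ≠ i) (hxj : x ≠ j) (hxm : x ≠ m) (ε : F) :
    tor i j m ε x = 1 := by
  simp [tor, hxi, hxj, hxm]

theorem tor_mem {i j m : Fin n} {ε : F} (hε : ε ∈ F₀) (x : Fin n) : tor i j m ε x ∈ F₀ := by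
  unfold tor
  refine F₀.mul_mem (F₀.mul_mem ?_ ?_) ?_
  · split_ifs
    · exact hε
    · exact F₀.one_mem
  · split_ifs
    · exact hε
    · exact F₀.one_mem
  · split_ifs
    · exact F₀.pow_mem (F₀.inv_mem hε) 2
    · exact F₀.one_mem

theorem tor_norm {i j m : Fin n} {ε : F} (hN : ε * φ ε = 1) (x : Fin n) :
    tor i j m ε x * φ (tor i j m ε x) = 1 := by
  have hε0 : ε ≠ 0 := by
    rintro rfl
    rw [zero_mul] at hN
    exact zero_ne_one hN
  have hφε : φ ε = ε⁻¹ := eq_inv_of_mul_eq_one_right hN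
  have h1 : ∀ P : Prop, [Decidable P] → (if P then ε else 1) * φ (if P then ε else 1) = 1 := by
    intro P _
    split_ifs
    · exact hN
    · rw [map_one, mul_one]
  have h2 : ∀ P : Prop, [Decidable P] →
      (if P then (ε⁻¹) ^ 2 else 1) * φ (if P then (ε⁻¹) ^ 2 else 1) = 1 := by
    intro P _
    split_ifs
    · rw [map_pow, map_inv₀, hφε]
      field_simp
    · rw [map_one, mul_one]
  unfold tor
  rw [map_mul, map_mul]
  calc _ = ((if x = i then ε else 1) * φ (if x = i then ε else 1)) *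
        ((if x = j then ε else 1) * φ (if x = j then ε else 1)) *
        ((if x = m then (ε⁻¹) ^ 2 else 1) * φ (if x = m then (ε⁻¹) ^ 2 else 1)) := by ring
    _ = 1 := by rw [h1, h1, h2]; ring

/-- the torus element lies in `N₁` -/
theorem tor_inH_N₁ (hφ : ∀ x, φ x = x ^ q) {i j m : Fin n} {ε : F} (hε : ε ∈ F₀)
    (hN : ε * φ ε = 1) : InH (N₁ n q F₀) (Matrix.diagonal (tor i j m ε)) := by
  have hε0 : ε ≠ 0 := by
    rintro rfl
    rw [zero_mul] at hN
    exact zero_ne_one hN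
  exact diagonal_inH_N₁ φ hφ _ (tor_mem hε) (tor_norm φ hN) (tor_prod i j m hε0)

theorem tor_mulVec_yv {i j m : Fin n} (hij : i ≠ j) (him : i ≠ m) (hjm : j ≠ m) (ε ζ : F) :
    Matrix.diagonal (tor i j m ε) *ᵥ yv i j ζ = ε • yv i j ζ := by
  funext x
  rw [Matrix.mulVec_diagonal, Pi.smul_apply, smul_eq_mul]
  by_cases hxi : x = i
  · rw [hxi, tor_apply_i hij him]
  · by_cases hxj : x = j
    · rw [hxj, tor_apply_j hij hjm]
    · rw [yv_apply_ne hxi hxj, mul_zero, mul_zero]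

theorem tor_mulVec_yv_disj {i j m k l : Fin n} (hki : k ≠ i) (hkj : k ≠ j) (hkm : k ≠ m)
    (hli : l ≠ i) (hlj : l ≠ j) (hlm : l ≠ m) (ε ζ : F) :
    Matrix.diagonal (tor i j m ε) *ᵥ yv k l ζ = yv k l ζ := by
  funext x
  rw [Matrix.mulVec_diagonal]
  by_cases hxk : x = k
  · rw [hxk, tor_apply_ne hki hkj hkm, one_mul]
  · by_cases hxl : x = l
    · rw [hxl, tor_apply_ne hli hlj hlm, one_mul]
    · rw [yv_apply_ne hxk hxl, mul_zero]

end diag

end Cfsg.Agent.Lib.H10.Su
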