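import Mathlib
import Cfsg.Agent.Lib.H10.SuC
import Cfsg.Agent.Lib.H10.SfB

/-!
# Subfield subgroups of `SU_n(q)` (part D): the coefficient algebra and the dichotomy
-/

set_option autoImplicit false
set_option linter.unusedSectionVars false
set_option linter.unusedVariables false
set_option linter.unusedSimpArgs false

namespace Cfsg.Agent.Lib.H10.Su

open Matrix
open Cfsg.Agent.S0837 (Bs Bs_apply Bs_symm Bs_nondeg)
open Cfsg.Agent.S0781 (Em Em_mulVec)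
open Cfsg.Agent.Lib.H11.UGen (Um Um_mulVec)
open Cfsg.Agent.Lib.H10.Sf (IsRat)

variable {F : Type*} [Field F] [Fintype F] {n q : ℕ}

/-- elements of `F₀` of norm `-1` -/
def Nm (φ : F →+* F) (F₀ : Subfield F) (ζ : F) : Prop := ζ ∈ F₀ ∧ ζ * φ ζ = -1

/-- the standing hypotheses -/
structure Ctx (φ : F →+* F) (n q : ℕ) (F₀ : Subfield F) (H : Subgroup (GL (Fin n) F)) :
    Prop where
  hφ : ∀ x, φ x = x ^ q
  hφ2 : ∀ x, φ (φ x) = x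
  hn : 13 ≤ n
  hN : N₁ n q F₀ ≤ H
  hH : H ≤ Cfsg.GU n F q
  ex3 : ∃ ζ₁ ζ₂ ζ₃ : F, Nm φ F₀ ζ₁ ∧ Nm φ F₀ ζ₂ ∧ Nm φ F₀ ζ₃ ∧ ζ₁ ≠ ζ₂ ∧ ζ₁ ≠ ζ₃ ∧ ζ₂ ≠ ζ₃

section basics
variable {φ : F →+* F} {F₀ : Subfield F} {H : Subgroup (GL (Fin n) F)}

theorem Nm.ne_zero {ζ : F} (h : Nm φ F₀ ζ) : ζ ≠ 0 := by
  rintro rfl
  have := h.2
  rw [zero_mul] at this
  exact neg_ne_zero.2 one_ne_zero this.symm

theorem Nm.phi_ne_zero {ζ : F} (h : Nm φ F₀ ζ) : φ ζ ≠ 0 := (map_ne_zero φ).2 h.ne_zero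

/-- the value `B(e_k + ζ e_l, e_k + ζ₂ e_l)` is non-zero for `ζ₂ ≠ ζ` -/
theorem Nm.pair_ne_zero {ζ ζ₂ : F} (h : Nm φ F₀ ζ) (hne : ζ₂ ≠ ζ) : 1 + φ ζ * ζ₂ ≠ 0 := by
  intro h0
  apply hne
  have h1 : φ ζ * (ζ₂ - ζ) = 0 := by linear_combination h0 - h.2
  rcases mul_eq_zero.1 h1 with h2 | h2
  · exact absurd h2 h.phi_ne_zero
  · exact sub_eq_zero.1 h2

theorem Ctx.exists_ne (C : Ctx φ n q F₀ H) (ζ : F) : ∃ ζ', Nm φ F₀ ζ' ∧ ζ' ≠ ζ := by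
  obtain ⟨ζ₁, ζ₂, ζ₃, h1, h2, h3, h12, h13, h23⟩ := C.ex3
  by_cases e1 : ζ₁ = ζ
  · exact ⟨ζ₂, h2, fun h => h12 (e1.trans h.symm)⟩
  · exact ⟨ζ₁, h1, e1⟩

theorem Ctx.exists_ne₂ (C : Ctx φ n q F₀ H) (ζ a : F) :
    ∃ ζ', Nm φ F₀ ζ' ∧ ζ' ≠ ζ ∧ ζ' ≠ a := by
  obtain ⟨ζ₁, ζ₂, ζ₃, h1, h2, h3, h12, h13, h23⟩ := C.ex3
  by_cases e1 : ζ₁ = ζ ∨ ζ₁ = a
  · by_cases e2 : ζ₂ = ζ ∨ ζ₂ = a
    · refine ⟨ζ₃, h3, ?_, ?_⟩
      · rintro rfl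
        rcases e1 with e1 | e1 <;> rcases e2 with e2 | e2
        · exact h12 (e1.trans e2.symm)
        · exact h13 e1
        · exact h23 e2
        · exact h12 (e1.trans e2.symm)
      · rintro rfl
        rcases e1 with e1 | e1 <;> rcases e2 with e2 | e2
        · exact h12 (e1.trans e2.symm)
        · exact h23 e2
        · exact h13 e1
        · exact h12 (e1.trans e2.symm)
    · push Not at e2
      exact ⟨ζ₂, h2, e2.1, e2.2⟩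
  · push Not at e1
    exact ⟨ζ₁, h1, e1.1, e1.2⟩

theorem Ctx.exists_nm (C : Ctx φ n q F₀ H) : ∃ ζ, Nm φ F₀ ζ := by
  obtain ⟨ζ₁, ζ₂, ζ₃, h1, -⟩ := C.ex3
  exact ⟨ζ₁, h1⟩

theorem exists_fresh (L : List (Fin n)) (h : L.length < n) : ∃ a : Fin n, a ∉ L := by
  classical
  have h1 : L.toFinset.card < (Finset.univ : Finset (Fin n)).card := by
    rw [Finset.card_univ, Fintype.card_fin]
    exact lt_of_le_of_lt (List.toFinset_card_le L) h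
  obtain ⟨a, -, ha⟩ := Finset.exists_mem_notMem_of_card_lt_card h1
  exact ⟨a, fun hmem => ha (List.mem_toFinset.2 hmem)⟩

theorem nd4 {α : Type*} {i j k l : α} (h : [i, j, k, l].Nodup) :
    i ≠ j ∧ i ≠ k ∧ i ≠ l ∧ j ≠ k ∧ j ≠ l ∧ k ≠ l := by
  simp only [List.nodup_cons, List.mem_cons, List.not_mem_nil, or_false, not_or,
    List.nodup_nil, and_true, not_false_eq_true] at h
  tauto

theorem nd6 {α : Type*} {i j k l a b : α} (h : [i, j, k, l, a, b].Nodup) :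
    i ≠ j ∧ i ≠ k ∧ i ≠ l ∧ i ≠ a ∧ i ≠ b ∧ j ≠ k ∧ j ≠ l ∧ j ≠ a ∧ j ≠ b ∧ k ≠ l ∧ k ≠ a ∧
      k ≠ b ∧ l ≠ a ∧ l ≠ b ∧ a ≠ b := by
  simp only [List.nodup_cons, List.mem_cons, List.not_mem_nil, or_false, not_or,
    List.nodup_nil, and_true, not_false_eq_true] at h
  tauto

theorem nd4_mk {α : Type*} {i j k l : α} (h1 : i ≠ j) (h2 : i ≠ k) (h3 : i ≠ l) (h4 : j ≠ k)
    (h5 : j ≠ l) (h6 : k ≠ l) : [i, j, k, l].Nodup := by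
  simp only [List.nodup_cons, List.mem_cons, List.not_mem_nil, or_false, not_or,
    List.nodup_nil, and_true, not_false_eq_true]
  tauto

end basics

section moves
variable {φ : F →+* F} {F₀ : Subfield F} {H : Subgroup (GL (Fin n) F)}

/-- isotropy of the standard vectors -/
theorem Nm.iso {ζ : F} (h : Nm φ F₀ ζ) {i j : Fin n} (hij : i ≠ j) :
    Bs φ n (yv i j ζ) (yv i j ζ) = 0 := yv_iso φ hij h.2

/-- moving the second vector of a standard pair (with a rational factor) -/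
theorem Ctx.move2 (C : Ctx φ n q F₀ H) {i j k l a b : Fin n} {ζ ζ' ζ'' : F}
    (hnd : [i, j, k, l, a, b].Nodup) (hζ : Nm φ F₀ ζ) (hζ' : Nm φ F₀ ζ') (hζ'' : Nm φ F₀ ζ'')
    {β γ : F} (hγ : γ ∈ F₀) (h : InH H (Sm φ (yv i j ζ) (yv k l ζ') β)) :
    InH H (Sm φ (yv i j ζ) (yv a b ζ'') (β * γ)) := by
  obtain ⟨hij, hik, hil, hia, hib, hjk, hjl, hja, hjb, hkl, hka, hkb, hla, hlb, hab⟩ := nd6 hnd
  obtain ⟨ζ₂, hζ₂, hne⟩ := C.exists_ne ζ'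
  have ht0 : 1 + φ ζ' * ζ₂ ≠ 0 := hζ'.pair_ne_zero hne
  have htF : 1 + φ ζ' * ζ₂ ∈ F₀ :=
    F₀.add_mem F₀.one_mem (F₀.mul_mem (phi_mem φ C.hφ hζ'.1) hζ₂.1)
  have hC : InH H (Sm φ (yv k l ζ₂) (yv a b ζ'') (γ * (1 + φ ζ' * ζ₂)⁻¹)) :=
    (Sm_inH_N₁ φ C.hφ C.hφ2 (yv_rat k l hζ₂.1) (yv_rat a b hζ''.1)
      (F₀.mul_mem hγ (F₀.inv_mem htF)) (hζ₂.iso hkl) (hζ''.iso hab)
      (B_yv_disj φ hka hkb hla hlb _ _)).mono C.hN
  have hrel := Sm_comm' φ C.hφ2 (yv i j ζ) (yv k l ζ') (yv k l ζ₂) (yv a b ζ'') β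
    (γ * (1 + φ ζ' * ζ₂)⁻¹) (1 + φ ζ' * ζ₂) (hζ.iso hij) (hζ'.iso hkl) (hζ₂.iso hkl)
    (hζ''.iso hab) (B_yv_disj φ hik hil hjk hjl _ _) (B_yv_disj φ hka hkb hla hlb _ _)
    (B_yv_disj φ hik hil hjk hjl _ _) (B_yv_disj φ hia hib hja hjb _ _)
    (B_yv_disj φ hka hkb hla hlb _ _) (B_yv_yv φ hkl _ _)
  have := h.of_comm hC hrel
  refine this.congr ?_
  congr 1
  field_simp

/-- moving the first vector of a standard pair -/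
theorem Ctx.move1 (C : Ctx φ n q F₀ H) {i j k l a b : Fin n} {ζ ζ' ζ'' : F}
    (hnd : [i, j, k, l, a, b].Nodup) (hζ : Nm φ F₀ ζ) (hζ' : Nm φ F₀ ζ') (hζ'' : Nm φ F₀ ζ'')
    {β : F} (h : InH H (Sm φ (yv i j ζ) (yv k l ζ') β)) :
    InH H (Sm φ (yv a b ζ'') (yv k l ζ') β) := by
  obtain ⟨hij, hik, hil, hia, hib, hjk, hjl, hja, hjb, hkl, hka, hkb, hla, hlb, hab⟩ := nd6 hnd
  have hnd' : [k, l, i, j, a, b].Nodup := by
    simp only [List.nodup_cons, List.mem_cons, List.not_mem_nil, or_false, not_or,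
      List.nodup_nil, and_true, not_false_eq_true]
    refine ⟨⟨hkl, hik.symm, hjk.symm, hka, hkb⟩, ⟨hil.symm, hjl.symm, hla, hlb⟩, ⟨hij, hia, hib⟩,
      ⟨hja, hjb⟩, hab⟩
  rw [Sm_symm φ C.hφ2 _ _ _ (hζ.iso hij) (hζ'.iso hkl)] at h
  have h1 := C.move2 hnd' hζ' hζ hζ'' F₀.one_mem h
  rw [mul_one, Sm_symm φ C.hφ2 _ _ _ (hζ'.iso hkl) (hζ''.iso hab)] at h1
  refine h1.congr ?_
  congr 1
  rw [map_neg, C.hφ2, neg_neg]

/-- a standard pair -/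
def StdP (φ : F →+* F) (F₀ : Subfield F) (i j k l : Fin n) (ζ ζ' : F) : Prop :=
  [i, j, k, l].Nodup ∧ Nm φ F₀ ζ ∧ Nm φ F₀ ζ'

/-- the coefficients of the short root elements of `H` -/
def Mco (φ : F →+* F) (F₀ : Subfield F) (H : Subgroup (GL (Fin n) F)) : Set F :=
  {β | ∃ (i j k l : Fin n) (ζ ζ' : F), StdP φ F₀ i j k l ζ ζ' ∧
    InH H (Sm φ (yv i j ζ) (yv k l ζ') β)}

/-- the coefficient set does not depend on the standard pair -/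
theorem Ctx.Mco_all (C : Ctx φ n q F₀ H) {β : F} (hβ : β ∈ Mco φ F₀ H) {i' j' k' l' : Fin n}
    {ξ ξ' : F} (hP : StdP φ F₀ i' j' k' l' ξ ξ') :
    InH H (Sm φ (yv i' j' ξ) (yv k' l' ξ') β) := by
  obtain ⟨i, j, k, l, ζ, ζ', ⟨hnd, hζ, hζ'⟩, h⟩ := hβ
  obtain ⟨hnd', hξ, hξ'⟩ := hP
  have hn := C.hn
  obtain ⟨a, ha⟩ := exists_fresh [i, j, k, l, i', j', k', l'] (by simp; omega)
  obtain ⟨b, hb⟩ := exists_fresh [a, i, j, k, l, i', j', k', l'] (by simp; omega)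
  obtain ⟨c, hc⟩ := exists_fresh [b, a, i, j, k, l, i', j', k', l'] (by simp; omega)
  obtain ⟨d, hd⟩ := exists_fresh [c, b, a, i, j, k, l, i', j', k', l'] (by simp; omega)
  simp only [List.mem_cons, List.not_mem_nil, or_false, not_or] at ha hb hc hd
  obtain ⟨hij, hik, hil, hjk, hjl, hkl⟩ := nd4 hnd
  obtain ⟨hij', hik', hil', hjk', hjl', hkl'⟩ := nd4 hnd'
  obtain ⟨ζa, hζa⟩ := C.exists_nm
  -- step 1: (ij;kl) → (ij;ab)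
  have s1 : InH H (Sm φ (yv i j ζ) (yv a b ζa) β) := by
    have := C.move2 (i := i) (j := j) (k := k) (l := l) (a := a) (b := b) (by
      simp only [List.nodup_cons, List.mem_cons, List.not_mem_nil, or_false, not_or,
        List.nodup_nil, and_true, not_false_eq_true]
      refine ⟨⟨hij, hik, hil, ?_, ?_⟩, ⟨hjk, hjl, ?_, ?_⟩, ⟨hkl, ?_, ?_⟩, ⟨?_, ?_⟩, ?_⟩
      · exact Ne.symm ha.1
      · exact Ne.symm hb.2.1
      · exact Ne.symm ha.2.1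
      · exact Ne.symm hb.2.2.1
      · exact Ne.symm ha.2.2.1
      · exact Ne.symm hb.2.2.2.1
      · exact Ne.symm ha.2.2.2.1
      · exact Ne.symm hb.2.2.2.2.1
      · exact Ne.symm hb.1) hζ hζ' hζa F₀.one_mem h
    rwa [mul_one] at this
  -- step 2: (ij;ab) → (cd;ab)
  have s2 : InH H (Sm φ (yv c d ζa) (yv a b ζa) β) := by
    refine C.move1 (i := i) (j := j) (k := a) (l := b) (a := c) (b := d) ?_ hζ hζa hζa s1
    simp only [List.nodup_cons, List.mem_cons, List.not_mem_nil, or_false, not_or,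
      List.nodup_nil, and_true, not_false_eq_true]
    refine ⟨⟨hij, ?_, ?_, ?_, ?_⟩, ⟨?_, ?_, ?_, ?_⟩, ⟨?_, ?_, ?_⟩, ⟨?_, ?_⟩, ?_⟩
    · exact Ne.symm ha.1
    · exact Ne.symm hb.2.1
    · exact Ne.symm hc.2.2.1
    · exact Ne.symm hd.2.2.2.1
    · exact Ne.symm ha.2.1
    · exact Ne.symm hb.2.2.1
    · exact Ne.symm hc.2.2.2.1
    · exact Ne.symm hd.2.2.2.2.1
    · exact Ne.symm hb.1
    · exact Ne.symm hc.2.1
    · exact Ne.symm hd.2.2.1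
    · exact Ne.symm hc.1
    · exact Ne.symm hd.2.1
    · exact Ne.symm hd.1
  -- step 3: (cd;ab) → (cd;k'l')
  have s3 : InH H (Sm φ (yv c d ζa) (yv k' l' ξ') β) := by
    have := C.move2 (i := c) (j := d) (k := a) (l := b) (a := k') (b := l') (by
      simp only [List.nodup_cons, List.mem_cons, List.not_mem_nil, or_false, not_or,
        List.nodup_nil, and_true, not_false_eq_true]
      refine ⟨⟨?_, ?_, ?_, ?_, ?_⟩, ⟨?_, ?_, ?_, ?_⟩, ⟨?_, ?_, ?_⟩, ⟨?_, ?_⟩, hkl'⟩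
      · exact Ne.symm hd.1
      · exact hc.2.1
      · exact hc.1
      · exact hc.2.2.2.2.2.2.2.2.1
      · exact hc.2.2.2.2.2.2.2.2.2
      · exact hd.2.2.1
      · exact hd.2.1
      · exact hd.2.2.2.2.2.2.2.2.2.1
      · exact hd.2.2.2.2.2.2.2.2.2.2
      · exact Ne.symm hb.1
      · exact ha.2.2.2.2.2.2.1
      · exact ha.2.2.2.2.2.2.2
      · exact hb.2.2.2.2.2.2.2.1
      · exact hb.2.2.2.2.2.2.2.2) hζa hζa hξ' F₀.one_mem s2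
    rwa [mul_one] at this
  -- step 4: (cd;k'l') → (i'j';k'l')
  refine C.move1 (i := c) (j := d) (k := k') (l := l') (a := i') (b := j') ?_ hζa hξ' hξ s3
  simp only [List.nodup_cons, List.mem_cons, List.not_mem_nil, or_false, not_or,
    List.nodup_nil, and_true, not_false_eq_true]
  refine ⟨⟨?_, ?_, ?_, ?_, ?_⟩, ⟨?_, ?_, ?_, ?_⟩, ⟨hkl', ?_, ?_⟩, ⟨?_, ?_⟩, hij'⟩
  · exact Ne.symm hd.1
  · exact hc.2.2.2.2.2.2.2.2.1
  · exact hc.2.2.2.2.2.2.2.2.2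
  · exact hc.2.2.2.2.2.2.1
  · exact hc.2.2.2.2.2.2.2.1
  · exact hd.2.2.2.2.2.2.2.2.2.1
  · exact hd.2.2.2.2.2.2.2.2.2.2
  · exact hd.2.2.2.2.2.2.2.1
  · exact hd.2.2.2.2.2.2.2.2.1
  · exact Ne.symm hik'
  · exact Ne.symm hjk'
  · exact Ne.symm hil'
  · exact Ne.symm hjl'

end moves

section alg
variable {φ : F →+* F} {F₀ : Subfield F} {H : Subgroup (GL (Fin n) F)}

theorem exists_six (hn : 13 ≤ n) : ∃ i j k l a b : Fin n, [i, j, k, l, a, b].Nodup := by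
  refine ⟨⟨0, by omega⟩, ⟨1, by omega⟩, ⟨2, by omega⟩, ⟨3, by omega⟩, ⟨4, by omega⟩,
    ⟨5, by omega⟩, ?_⟩
  simp [Fin.ext_iff]

theorem nd6_left {α : Type*} {i j k l a b : α} (h : [i, j, k, l, a, b].Nodup) :
    [i, j, k, l].Nodup := by
  obtain ⟨hij, hik, hil, hia, hib, hjk, hjl, hja, hjb, hkl, hka, hkb, hla, hlb, hab⟩ := nd6 h
  exact nd4_mk hij hik hil hjk hjl hkl

theorem nd6_right {α : Type*} {i j k l a b : α} (h : [i, j, k, l, a, b].Nodup) :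
    [k, l, a, b].Nodup := by
  obtain ⟨hij, hik, hil, hia, hib, hjk, hjl, hja, hjb, hkl, hka, hkb, hla, hlb, hab⟩ := nd6 h
  exact nd4_mk hkl hka hkb hla hlb hab

theorem nd6_outer {α : Type*} {i j k l a b : α} (h : [i, j, k, l, a, b].Nodup) :
    [i, j, a, b].Nodup := by
  obtain ⟨hij, hik, hil, hia, hib, hjk, hjl, hja, hjb, hkl, hka, hkb, hla, hlb, hab⟩ := nd6 h
  exact nd4_mk hij hia hib hja hjb hab

theorem Ctx.Mco_smul (C : Ctx φ n q F₀ H) {β a : F} (hβ : β ∈ Mco φ F₀ H) (ha : a ∈ F₀) :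
    β * a ∈ Mco φ F₀ H := by
  obtain ⟨i, j, k, l, a', b', hnd⟩ := exists_six C.hn
  obtain ⟨ζ, hζ⟩ := C.exists_nm
  have h1 := C.Mco_all hβ (i' := i) (j' := j) (k' := k) (l' := l) ⟨nd6_left hnd, hζ, hζ⟩
  exact ⟨i, j, a', b', ζ, ζ, ⟨nd6_outer hnd, hζ, hζ⟩, C.move2 hnd hζ hζ hζ ha h1⟩

theorem Ctx.Mco_rat (C : Ctx φ n q F₀ H) {β : F} (hβ : β ∈ F₀) : β ∈ Mco φ F₀ H := by
  obtain ⟨i, j, k, l, a', b', hnd⟩ := exists_six C.hn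
  obtain ⟨hij, hik, hil, hia, hib, hjk, hjl, hja, hjb, hkl, hka, hkb, hla, hlb, hab⟩ := nd6 hnd
  obtain ⟨ζ, hζ⟩ := C.exists_nm
  refine ⟨i, j, k, l, ζ, ζ, ⟨nd6_left hnd, hζ, hζ⟩, ?_⟩
  exact (Sm_inH_N₁ φ C.hφ C.hφ2 (yv_rat i j hζ.1) (yv_rat k l hζ.1) hβ (hζ.iso hij) (hζ.iso hkl)
    (B_yv_disj φ hik hil hjk hjl _ _)).mono C.hN

theorem Ctx.Mco_add (C : Ctx φ n q F₀ H) {β γ : F} (hβ : β ∈ Mco φ F₀ H)
    (hγ : γ ∈ Mco φ F₀ H) : β + γ ∈ Mco φ F₀ H := by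
  obtain ⟨i, j, k, l, a', b', hnd⟩ := exists_six C.hn
  obtain ⟨hij, hik, hil, hia, hib, hjk, hjl, hja, hjb, hkl, hka, hkb, hla, hlb, hab⟩ := nd6 hnd
  obtain ⟨ζ, hζ⟩ := C.exists_nm
  have hP : StdP φ F₀ i j k l ζ ζ := ⟨nd6_left hnd, hζ, hζ⟩
  refine ⟨i, j, k, l, ζ, ζ, hP, ?_⟩
  rw [← Sm_add φ C.hφ2 _ _ _ _ (hζ.iso hij) (hζ.iso hkl) (B_yv_disj φ hik hil hjk hjl _ _)]
  exact (C.Mco_all hβ hP).mul (C.Mco_all hγ hP)

theorem Ctx.Mco_mul (C : Ctx φ n q F₀ H) {β γ : F} (hβ : β ∈ Mco φ F₀ H)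
    (hγ : γ ∈ Mco φ F₀ H) : β * γ ∈ Mco φ F₀ H := by
  obtain ⟨i, j, k, l, a, b, hnd⟩ := exists_six C.hn
  obtain ⟨hij, hik, hil, hia, hib, hjk, hjl, hja, hjb, hkl, hka, hkb, hla, hlb, hab⟩ := nd6 hnd
  obtain ⟨ζ, hζ⟩ := C.exists_nm
  obtain ⟨ζ₂, hζ₂, hne⟩ := C.exists_ne ζ
  have ht0 : 1 + φ ζ * ζ₂ ≠ 0 := hζ.pair_ne_zero hne
  have htF : 1 + φ ζ * ζ₂ ∈ F₀ :=
    F₀.add_mem F₀.one_mem (F₀.mul_mem (phi_mem φ C.hφ hζ.1) hζ₂.1)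
  have hA := C.Mco_all hβ (i' := i) (j' := j) (k' := k) (l' := l) ⟨nd6_left hnd, hζ, hζ⟩
  have hC := C.Mco_all hγ (i' := k) (j' := l) (k' := a) (l' := b) ⟨nd6_right hnd, hζ₂, hζ⟩
  have hrel := Sm_comm' φ C.hφ2 (yv i j ζ) (yv k l ζ) (yv k l ζ₂) (yv a b ζ) β γ
    (1 + φ ζ * ζ₂) (hζ.iso hij) (hζ.iso hkl) (hζ₂.iso hkl)
    (hζ.iso hab) (B_yv_disj φ hik hil hjk hjl _ _) (B_yv_disj φ hka hkb hla hlb _ _)
    (B_yv_disj φ hik hil hjk hjl _ _) (B_yv_disj φ hia hib hja hjb _ _)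
    (B_yv_disj φ hka hkb hla hlb _ _) (B_yv_yv φ hkl _ _)
  have h1 : β * γ * (1 + φ ζ * ζ₂) ∈ Mco φ F₀ H :=
    ⟨i, j, a, b, ζ, ζ, ⟨nd6_outer hnd, hζ, hζ⟩, hA.of_comm hC hrel⟩
  have h2 := C.Mco_smul h1 (F₀.inv_mem htF)
  rwa [mul_assoc, mul_inv_cancel₀ ht0, mul_one] at h2

/-- the coefficient algebra -/
def Ctx.McoAlg (C : Ctx φ n q F₀ H) : Subalgebra F₀ F where
  carrier := Mco φ F₀ H
  mul_mem' := fun hβ hγ => C.Mco_mul hβ hγ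
  add_mem' := fun hβ hγ => C.Mco_add hβ hγ
  algebraMap_mem' := fun c => C.Mco_rat c.2

/-- **the dichotomy** -/
theorem Ctx.dichotomy (C : Ctx φ n q F₀ H) {r : ℕ} (hr : r.Prime)
    (hcard : Fintype.card F = Nat.card F₀ ^ r) :
    (∀ β ∈ Mco φ F₀ H, β ∈ F₀) ∨ (∀ β : F, β ∈ Mco φ F₀ H) := by
  have hp : (Module.finrank F₀ F).Prime := by
    rw [Cfsg.Agent.Lib.H10.Sf.finrank_eq hcard]; exact hr
  have := Subalgebra.isSimpleOrder_of_finrank_prime F₀ F hp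
  rcases this.eq_bot_or_eq_top C.McoAlg with h | h
  · left
    intro β hβ
    have : β ∈ C.McoAlg := hβ
    rw [h, Algebra.mem_bot] at this
    obtain ⟨x, rfl⟩ := this
    exact x.2
  · right
    intro β
    have : β ∈ C.McoAlg := by rw [h]; exact Algebra.mem_top
    exact this

end alg

end Cfsg.Agent.Lib.H10.Su
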