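import Mathlib
import Cfsg.Agent.Lib.H10.SuD

/-!
# Subfield subgroups of `SU_n(q)` (part E): rational coefficient field ⟹ the root elements of
`H` attached to a standard totally isotropic plane are rational
-/

set_option autoImplicit false
set_option linter.unusedSectionVars false
set_option linter.unusedVariables false
set_option linter.unusedSimpArgs false

namespace Cfsg.Agent.Lib.H10.Su

open Matrix
open Cfsg.Agent.S0837 (Bs Bs_apply Bs_symm Bs_nondeg)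
open Cfsg.Agent.S0781 (Em Em_mulVec)
open Cfsg.Agent.Lib.H11.UGen (Um Um_mulVec)
open Cfsg.Agent.Lib.H10.Sf (IsRat)

variable {F : Type*} [Field F] [Fintype F] {n q : ℕ}
variable {φ : F →+* F} {F₀ : Subfield F} {H : Subgroup (GL (Fin n) F)}

theorem Um_smul (hφ2 : ∀ x, φ (φ x) = x) (y : Fin n → F) (a c : F) (hyy : Bs φ n y y = 0) :
    Um φ (a • y) c = Um φ y (c * a * φ a) := by
  have hyy' : Bs φ n (a • y) (a • y) = 0 := by
    simp only [map_smulₛₗ, map_smul, LinearMap.smul_apply, smul_eq_mul, hyy, mul_zero]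
  rw [Um_eq_Em φ hφ2 _ _ hyy', Um_eq_Em φ hφ2 _ _ hyy, Em_smul φ hφ2 _ _ _ _ hyy, smul_zero]

/-- an element of norm one different from one -/
theorem Ctx.exists_eps (C : Ctx φ n q F₀ H) : ∃ ε : F, ε ∈ F₀ ∧ ε * φ ε = 1 ∧ ε ≠ 1 := by
  obtain ⟨ζ₁, ζ₂, ζ₃, h1, h2, h3, h12, h13, h23⟩ := C.ex3
  refine ⟨ζ₁ / ζ₂, F₀.div_mem h1.1 h2.1, ?_, ?_⟩
  · rw [map_div₀, div_mul_div_comm, h1.2, h2.2, div_self (neg_ne_zero.2 one_ne_zero)]
  · intro h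
    apply h12
    rwa [div_eq_one_iff_eq h2.ne_zero] at h

/-- a short root element of `H` on a standard pair has a rational coefficient -/
theorem Ctx.Sm_coeff (C : Ctx φ n q F₀ H) (hM : ∀ β ∈ Mco φ F₀ H, β ∈ F₀) {i j k l : Fin n}
    {ζ ζ' : F} (hP : StdP φ F₀ i j k l ζ ζ') {β : F}
    (h : InH H (Sm φ (yv i j ζ) (yv k l ζ') β)) : β ∈ F₀ :=
  hM β ⟨i, j, k, l, ζ, ζ', hP, h⟩

/-- purification by a torus element: if `A * Sm y y' γ ∈ H` where `A` is fixed by the torus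
element `d` scaling `y` by `ε`, then `γ` is rational -/
theorem Ctx.purify (C : Ctx φ n q F₀ H) (hM : ∀ β ∈ Mco φ F₀ H, β ∈ F₀) {i j k l m : Fin n}
    {ζ ζ' : F} (hP : StdP φ F₀ i j k l ζ ζ') (hmi : m ≠ i) (hmj : m ≠ j) (hmk : m ≠ k)
    (hml : m ≠ l) {A : Matrix (Fin n) (Fin n) F} {γ : F}
    (hA : ∀ (d : GL (Fin n) F) (ε : F), (d : Matrix (Fin n) (Fin n) F) =
      Matrix.diagonal (tor i j m ε) → ε ∈ F₀ → ε * φ ε = 1 → cj d A = A)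
    (h : InH H (A * Sm φ (yv i j ζ) (yv k l ζ') γ)) : γ ∈ F₀ := by
  obtain ⟨hnd, hζ, hζ'⟩ := hP
  obtain ⟨hij, hik, hil, hjk, hjl, hkl⟩ := nd4 hnd
  obtain ⟨ε, hε, hεN, hε1⟩ := C.exists_eps
  obtain ⟨d, hdN, hdv⟩ := tor_inH_N₁ (n := n) (q := q) φ C.hφ (i := i) (j := j) (m := m) hε hεN
  have hdH : d ∈ H := C.hN hdN
  have hdGU : d ∈ Cfsg.GU n F q := C.hH hdH
  have h1 := h.cj hdH
  rw [cj_mul, hA d ε hdv hε hεN, cj_Sm φ C.hφ C.hφ2 hdGU _ _ _ (hζ'.iso hkl), hdv,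
    tor_mulVec_yv hij (Ne.symm hmi) (Ne.symm hmj),
    tor_mulVec_yv_disj hik.symm hjk.symm (Ne.symm hmk) hil.symm hjl.symm (Ne.symm hml),
    Sm_smul_left] at h1
  -- `A * Sm (γ ε) = (A * Sm γ) * Sm (γ ε - γ)`
  have h2 : A * Sm φ (yv i j ζ) (yv k l ζ') (γ * ε) =
      (A * Sm φ (yv i j ζ) (yv k l ζ') γ) * Sm φ (yv i j ζ) (yv k l ζ') (γ * ε - γ) := by
    rw [mul_assoc, Sm_add φ C.hφ2 _ _ _ _ (hζ.iso hij) (hζ'.iso hkl)
      (B_yv_disj φ hik hil hjk hjl _ _)]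
    congr 2
    ring
  rw [h2] at h1
  have h3 := C.Sm_coeff hM ⟨hnd, hζ, hζ'⟩ (h1.of_mul_left h)
  have h4 : γ * ε - γ = γ * (ε - 1) := by ring
  rw [h4] at h3
  have h5 : ε - 1 ≠ 0 := sub_ne_zero.2 hε1
  have h6 : ε - 1 ∈ F₀ := F₀.sub_mem hε F₀.one_mem
  have := F₀.mul_mem h3 (F₀.inv_mem h6)
  rwa [mul_assoc, mul_inv_cancel₀ h5, mul_one] at this

/-- the torus element fixes transvections with centre off its support -/
theorem cj_tor_Um_disj (C : Ctx φ n q F₀ H) {i j m k l : Fin n} {ζ' : F} (hkl : k ≠ l)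
    (hζ' : Nm φ F₀ ζ') (hki : k ≠ i) (hkj : k ≠ j) (hkm : k ≠ m)
    (hli : l ≠ i) (hlj : l ≠ j) (hlm : l ≠ m) (c : F) (d : GL (Fin n) F) (ε : F)
    (hd : (d : Matrix (Fin n) (Fin n) F) = Matrix.diagonal (tor i j m ε))
    (hdGU : d ∈ Cfsg.GU n F q) : cj d (Um φ (yv k l ζ') c) = Um φ (yv k l ζ') c := by
  rw [cj_Um φ C.hφ C.hφ2 hdGU _ _ (hζ'.iso hkl), hd, tor_mulVec_yv_disj hki hkj hkm hli hlj hlm]

/-- the torus element fixes transvections with centre its support -/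
theorem cj_tor_Um_self (C : Ctx φ n q F₀ H) {i j m : Fin n} {ζ : F} (hij : i ≠ j)
    (hζ : Nm φ F₀ ζ) (him : i ≠ m) (hjm : j ≠ m) (c : F) (d : GL (Fin n) F) (ε : F)
    (hd : (d : Matrix (Fin n) (Fin n) F) = Matrix.diagonal (tor i j m ε))
    (hdGU : d ∈ Cfsg.GU n F q) (hεN : ε * φ ε = 1) :
    cj d (Um φ (yv i j ζ) c) = Um φ (yv i j ζ) c := by
  rw [cj_Um φ C.hφ C.hφ2 hdGU _ _ (hζ.iso hij), hd, tor_mulVec_yv hij him hjm,
    Um_smul C.hφ2 _ _ _ (hζ.iso hij), mul_assoc, hεN, mul_one]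

/-- torus elements of `N₁` lie in `GU` -/
theorem tor_mem_GU (C : Ctx φ n q F₀ H) {i j m : Fin n} {ε : F} (hε : ε ∈ F₀)
    (hεN : ε * φ ε = 1) (d : GL (Fin n) F)
    (hd : (d : Matrix (Fin n) (Fin n) F) = Matrix.diagonal (tor i j m ε)) :
    d ∈ Cfsg.GU n F q := by
  obtain ⟨d', hd'N, hd'v⟩ := tor_inH_N₁ (n := n) (q := q) φ C.hφ (i := i) (j := j) (m := m) hε hεN
  have : d' = d := Units.ext (hd'v.trans hd.symm)
  rw [← this]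
  exact C.hH (C.hN hd'N)

/-- `Um z c * Sm y z c' ∈ H` forces `c'` rational -/
theorem Ctx.Um_Sm_coeff (C : Ctx φ n q F₀ H) (hM : ∀ β ∈ Mco φ F₀ H, β ∈ F₀) {i j k l : Fin n}
    {ζ ζ' : F} (hP : StdP φ F₀ i j k l ζ ζ') {c c' : F}
    (h : InH H (Um φ (yv k l ζ') c * Sm φ (yv i j ζ) (yv k l ζ') c')) : c' ∈ F₀ := by
  obtain ⟨m, hm⟩ := exists_fresh [i, j, k, l] (by have := C.hn; simp; omega)
  simp only [List.mem_cons, List.not_mem_nil, or_false, not_or] at hm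
  obtain ⟨hnd, hζ, hζ'⟩ := hP
  obtain ⟨hij, hik, hil, hjk, hjl, hkl⟩ := nd4 hnd
  refine C.purify hM ⟨hnd, hζ, hζ'⟩ hm.1 hm.2.1 hm.2.2.1 hm.2.2.2 ?_ h
  intro d ε hd hε hεN
  exact cj_tor_Um_disj C hkl hζ' hik.symm hjk.symm (Ne.symm hm.2.2.1) hil.symm hjl.symm
    (Ne.symm hm.2.2.2) c d ε hd (tor_mem_GU C hε hεN d hd)

/-- the rational element moving `y` to `y + z` -/
theorem Ctx.exists_shift (C : Ctx φ n q F₀ H) {i j a b : Fin n} {ζ ζa : F} (hij : i ≠ j)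
    (hab : a ≠ b) (hia : i ≠ a) (hib : i ≠ b) (hja : j ≠ a) (hjb : j ≠ b) (hζ : Nm φ F₀ ζ)
    (hζa : Nm φ F₀ ζa) :
    ∃ d : GL (Fin n) F, d ∈ H ∧
      (d : Matrix (Fin n) (Fin n) F) *ᵥ yv i j ζ = yv i j ζ + yv a b ζa ∧
      ∀ x : Fin n → F, x i = 0 → x j = 0 → x a = 0 → x b = 0 →
        (d : Matrix (Fin n) (Fin n) F) *ᵥ x = x := by
  obtain ⟨ζ₃, hζ₃, hne⟩ := C.exists_ne ζ
  have ht0 : 1 + φ ζ₃ * ζ ≠ 0 := hζ₃.pair_ne_zero (Ne.symm hne)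
  have htF : 1 + φ ζ₃ * ζ ∈ F₀ :=
    F₀.add_mem F₀.one_mem (F₀.mul_mem (phi_mem φ C.hφ hζ₃.1) hζ.1)
  obtain ⟨d, hdN, hdv⟩ := Sm_inH_N₁ (n := n) (q := q) φ C.hφ C.hφ2 (yv_rat a b hζa.1)
    (yv_rat i j hζ₃.1) (F₀.inv_mem htF) (hζa.iso hab) (hζ₃.iso hij)
    (B_yv_disj φ hia.symm hja.symm hib.symm hjb.symm _ _)
  refine ⟨d, C.hN hdN, ?_, ?_⟩
  · rw [hdv, Sm_mulVec φ C.hφ2 _ _ _ (hζ₃.iso hij), B_yv_yv φ hij,
      B_yv_disj φ hia.symm hja.symm hib.symm hjb.symm, inv_mul_cancel₀ ht0, one_smul, mul_zero,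
      zero_smul, sub_zero]
  · intro x hxi hxj hxa hxb
    rw [hdv, Sm_mulVec φ C.hφ2 _ _ _ (hζ₃.iso hij), B_yv_left, B_yv_left, hxi, hxj, hxa, hxb]
    simp

/-- **(L1)** a transvection of `H` with standard centre has a rational coefficient -/
theorem Ctx.Um_coeff (C : Ctx φ n q F₀ H) (hM : ∀ β ∈ Mco φ F₀ H, β ∈ F₀) {i j : Fin n}
    {ζ : F} (hij : i ≠ j) (hζ : Nm φ F₀ ζ) {c : F} (hc : c + φ c = 0)
    (h : InH H (Um φ (yv i j ζ) c)) : c ∈ F₀ := by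
  obtain ⟨a, ha⟩ := exists_fresh [i, j] (by have := C.hn; simp; omega)
  obtain ⟨b, hb⟩ := exists_fresh [a, i, j] (by have := C.hn; simp; omega)
  simp only [List.mem_cons, List.not_mem_nil, or_false, not_or] at ha hb
  obtain ⟨ζa, hζa⟩ := C.exists_nm
  have hab : a ≠ b := Ne.symm hb.1
  have hia : i ≠ a := Ne.symm ha.1
  have hja : j ≠ a := Ne.symm ha.2
  have hib : i ≠ b := Ne.symm hb.2.1
  have hjb : j ≠ b := Ne.symm hb.2.2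
  obtain ⟨d, hdH, hdy, -⟩ := C.exists_shift hij hab hia hib hja hjb hζ hζa
  have h1 := h.cj hdH
  rw [cj_Um φ C.hφ C.hφ2 (C.hH hdH) _ _ (hζ.iso hij), hdy] at h1
  have h2 : yv i j ζ + yv a b ζa = (1 : F) • yv i j ζ + (1 : F) • yv a b ζa := by
    rw [one_smul, one_smul]
  rw [h2, Um_add φ C.hφ2 _ _ _ _ _ hc (hζ.iso hij) (hζa.iso hab)
    (B_yv_disj φ hia hib hja hjb _ _)] at h1
  simp only [map_one, mul_one] at h1
  exact C.Um_Sm_coeff hM ⟨nd4_mk hij hia hib hja hjb hab, hζ, hζa⟩ (h1.of_mul_left h)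

/-- **(B1)** the elements of `H` in the centre of the unipotent radical of a standard totally
isotropic plane are rational -/
theorem Ctx.pair_coeff (C : Ctx φ n q F₀ H) (hM : ∀ β ∈ Mco φ F₀ H, β ∈ F₀) {i j k l : Fin n}
    {ζ ζ' : F} (hP : StdP φ F₀ i j k l ζ ζ') {c₁ c₂ γ : F} (hc₁ : c₁ + φ c₁ = 0)
    (hc₂ : c₂ + φ c₂ = 0)
    (h : InH H (Um φ (yv i j ζ) c₁ * (Um φ (yv k l ζ') c₂ * Sm φ (yv i j ζ) (yv k l ζ') γ))) :
    γ ∈ F₀ ∧ c₁ ∈ F₀ ∧ c₂ ∈ F₀ := by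
  obtain ⟨hnd, hζ, hζ'⟩ := hP
  obtain ⟨hij, hik, hil, hjk, hjl, hkl⟩ := nd4 hnd
  obtain ⟨m, hm⟩ := exists_fresh [i, j, k, l] (by have := C.hn; simp; omega)
  obtain ⟨a, ha⟩ := exists_fresh [m, i, j, k, l] (by have := C.hn; simp; omega)
  obtain ⟨b, hb⟩ := exists_fresh [a, m, i, j, k, l] (by have := C.hn; simp; omega)
  simp only [List.mem_cons, List.not_mem_nil, or_false, not_or] at hm ha hb
  obtain ⟨ζa, hζa⟩ := C.exists_nm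
  have hyy' : Bs φ n (yv i j ζ) (yv k l ζ') = 0 := B_yv_disj φ hik hil hjk hjl _ _
  -- step 1: `γ` is rational
  have hγ : γ ∈ F₀ := by
    rw [← mul_assoc] at h
    refine C.purify hM ⟨hnd, hζ, hζ'⟩ hm.1 hm.2.1 hm.2.2.1 hm.2.2.2 ?_ h
    intro d ε hd hε hεN
    have hdGU := tor_mem_GU C hε hεN d hd
    rw [cj_mul, cj_tor_Um_self C hij hζ (Ne.symm hm.1) (Ne.symm hm.2.1) c₁ d ε hd hdGU hεN,
      cj_tor_Um_disj C hkl hζ' hik.symm hjk.symm (Ne.symm hm.2.2.1) hil.symm hjl.symm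
        (Ne.symm hm.2.2.2) c₂ d ε hd hdGU]
  -- step 2: the product of the two transvections lies in `H`
  have hS : InH H (Sm φ (yv i j ζ) (yv k l ζ') γ) :=
    (Sm_inH_N₁ φ C.hφ C.hφ2 (yv_rat i j hζ.1) (yv_rat k l hζ'.1) hγ (hζ.iso hij) (hζ'.iso hkl)
      hyy').mono C.hN
  have h2 : InH H (Um φ (yv i j ζ) c₁ * Um φ (yv k l ζ') c₂) := by
    rw [← mul_assoc] at h
    exact h.of_mul_right hS
  -- step 3: `c₁` is rational
  have hab : a ≠ b := Ne.symm hb.1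
  have hia : i ≠ a := Ne.symm ha.2.1
  have hja : j ≠ a := Ne.symm ha.2.2.1
  have hka : k ≠ a := Ne.symm ha.2.2.2.1
  have hla : l ≠ a := Ne.symm ha.2.2.2.2
  have hib : i ≠ b := Ne.symm hb.2.2.1
  have hjb : j ≠ b := Ne.symm hb.2.2.2.1
  have hkb : k ≠ b := Ne.symm hb.2.2.2.2.1
  have hlb : l ≠ b := Ne.symm hb.2.2.2.2.2
  have hc₁F : c₁ ∈ F₀ := by
    obtain ⟨d, hdH, hdy, hdx⟩ := C.exists_shift hij hab hia hib hja hjb hζ hζa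
    have h3 := h2.cj hdH
    rw [cj_mul, cj_Um φ C.hφ C.hφ2 (C.hH hdH) _ _ (hζ.iso hij),
      cj_Um φ C.hφ C.hφ2 (C.hH hdH) _ _ (hζ'.iso hkl), hdy,
      hdx _ (yv_apply_ne hik hil _) (yv_apply_ne hjk hjl _) (yv_apply_ne hka.symm hla.symm _)
        (yv_apply_ne hkb.symm hlb.symm _)] at h3
    have e : yv i j ζ + yv a b ζa = (1 : F) • yv i j ζ + (1 : F) • yv a b ζa := by
      rw [one_smul, one_smul]
    rw [e, Um_add φ C.hφ2 _ _ _ _ _ hc₁ (hζ.iso hij) (hζa.iso hab)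
      (B_yv_disj φ hia hib hja hjb _ _)] at h3
    simp only [map_one, mul_one] at h3
    -- commute `X` past the second transvection
    have hzy' : Bs φ n (yv a b ζa) (yv k l ζ') = 0 := B_yv_disj φ hka.symm hla.symm hkb.symm hlb.symm _ _
    have hcomm : (Um φ (yv a b ζa) c₁ * Sm φ (yv i j ζ) (yv a b ζa) c₁) * Um φ (yv k l ζ') c₂ =
        Um φ (yv k l ζ') c₂ * (Um φ (yv a b ζa) c₁ * Sm φ (yv i j ζ) (yv a b ζa) c₁) := by
      have e1 : Um φ (yv a b ζa) c₁ * Um φ (yv k l ζ') c₂ =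
          Um φ (yv k l ζ') c₂ * Um φ (yv a b ζa) c₁ := by
        rw [Um_eq_Em φ C.hφ2 _ _ (hζa.iso hab), Um_eq_Em φ C.hφ2 _ _ (hζ'.iso hkl)]
        refine Em_commute φ C.hφ2 _ _ _ _ _ _ (hζa.iso hab) (hζ'.iso hkl) hzy' ?_ ?_ ?_
        · rw [map_zero]
        · rw [map_zero, LinearMap.zero_apply]
        · rw [map_zero]
      have e2 : Sm φ (yv i j ζ) (yv a b ζa) c₁ * Um φ (yv k l ζ') c₂ =
          Um φ (yv k l ζ') c₂ * Sm φ (yv i j ζ) (yv a b ζa) c₁ := by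
        rw [Um_eq_Em φ C.hφ2 _ _ (hζ'.iso hkl), Sm]
        refine Em_commute φ C.hφ2 _ _ _ _ _ _ (hζa.iso hab) (hζ'.iso hkl) hzy' ?_ ?_ ?_
        · rw [map_zero]
        · rw [map_smulₛₗ, LinearMap.smul_apply, hyy', smul_zero]
        · rw [map_zero]
      rw [mul_assoc, e2, ← mul_assoc, e1, mul_assoc]
    have h4 : Um φ (yv i j ζ) c₁ * (Um φ (yv a b ζa) c₁ * Sm φ (yv i j ζ) (yv a b ζa) c₁) *
        Um φ (yv k l ζ') c₂ = (Um φ (yv i j ζ) c₁ * Um φ (yv k l ζ') c₂) *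
          (Um φ (yv a b ζa) c₁ * Sm φ (yv i j ζ) (yv a b ζa) c₁) := by
      rw [mul_assoc, hcomm, ← mul_assoc]
    rw [h4] at h3
    exact C.Um_Sm_coeff hM ⟨nd4_mk hij hia hib hja hjb hab, hζ, hζa⟩ (h3.of_mul_left h2)
  -- step 4: `c₂` is rational
  have hU₁ : InH H (Um φ (yv i j ζ) c₁) :=
    (Um_inH_N₁ φ C.hφ C.hφ2 (yv_rat i j hζ.1) hc₁F (hζ.iso hij) hc₁).mono C.hN
  exact ⟨hγ, hc₁F, C.Um_coeff hM hkl hζ' hc₂ (h2.of_mul_left hU₁)⟩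

/-- a transvection of `H` with centre in a standard totally isotropic plane has a rational
centre -/
theorem Ctx.plane_pt (C : Ctx φ n q F₀ H) (hM : ∀ β ∈ Mco φ F₀ H, β ∈ F₀) {i j k l : Fin n}
    {ζ ζ' : F} (hP : StdP φ F₀ i j k l ζ ζ') {a b c : F} (hc : c + φ c = 0) (hc0 : c ≠ 0)
    (h : InH H (Um φ (a • yv i j ζ + b • yv k l ζ') c)) :
    ∃ l₀ r₁ r₂ : F, r₁ ∈ F₀ ∧ r₂ ∈ F₀ ∧ a = l₀ * r₁ ∧ b = l₀ * r₂ := by
  obtain ⟨hnd, hζ, hζ'⟩ := hP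
  obtain ⟨hij, hik, hil, hjk, hjl, hkl⟩ := nd4 hnd
  have hφc : φ c = -c := by linear_combination hc
  rw [Um_add φ C.hφ2 _ _ _ _ _ hc (hζ.iso hij) (hζ'.iso hkl)
    (B_yv_disj φ hik hil hjk hjl _ _)] at h
  have h1 : c * a * φ a + φ (c * a * φ a) = 0 := by
    rw [map_mul, map_mul, C.hφ2, hφc]; ring
  have h2 : c * b * φ b + φ (c * b * φ b) = 0 := by
    rw [map_mul, map_mul, C.hφ2, hφc]; ring
  obtain ⟨hγ, hc₁, hc₂⟩ := C.pair_coeff hM ⟨hnd, hζ, hζ'⟩ h1 h2 h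
  by_cases ha : a = 0
  · exact ⟨b, 0, 1, F₀.zero_mem, F₀.one_mem, by rw [ha, mul_zero], by rw [mul_one]⟩
  · have hφa : φ a ≠ 0 := (map_ne_zero φ).2 ha
    have h3 : φ b / φ a ∈ F₀ := by
      have := F₀.div_mem hγ hc₁
      have e : c * a * φ b / (c * a * φ a) = φ b / φ a := by
        field_simp
      rwa [e] at this
    have h4 : b / a ∈ F₀ := by
      have := phi_mem φ C.hφ h3
      rwa [map_div₀, C.hφ2, C.hφ2] at this
    exact ⟨a, 1, b / a, F₀.one_mem, h4, by rw [mul_one], by field_simp⟩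

end Cfsg.Agent.Lib.H10.Su
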