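import Mathlib
import Cfsg.Agent.Lib.H10.SuE
import Cfsg.Agent.Lib.H10.SfD

/-!
# Subfield subgroups of `SU_n(q)` (part F): the induced subgroup of `SL₂` on a degenerate
three-dimensional section, and some two-by-two linear algebra
-/

set_option autoImplicit false
set_option linter.unusedSectionVars false
set_option linter.unusedVariables false
set_option linter.unusedSimpArgs false

namespace Cfsg.Agent.Lib.H10.Su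

open Matrix
open Cfsg.Agent.Lib.H4.Dickson (uu ll uu_val ll_val)

variable {F : Type*} [Field F] {n : ℕ}

/-- the subgroup of `SL₂(F)` induced by `H` on `⟨y, v₁, r₀⟩ / ⟨r₀⟩`, with respect to the
basis `y, v₁` (columns are images) -/
def Ind (H : Subgroup (GL (Fin n) F)) (y v₁ r₀ : Fin n → F) :
    Subgroup (Matrix.SpecialLinearGroup (Fin 2) F) where
  carrier := {A | ∃ z : GL (Fin n) F, z ∈ H ∧ (z : Matrix (Fin n) (Fin n) F) *ᵥ r₀ = r₀ ∧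
    ∃ σ₁ σ₂ : F,
      (z : Matrix (Fin n) (Fin n) F) *ᵥ y = A.1 0 0 • y + A.1 1 0 • v₁ + σ₁ • r₀ ∧
      (z : Matrix (Fin n) (Fin n) F) *ᵥ v₁ = A.1 0 1 • y + A.1 1 1 • v₁ + σ₂ • r₀}
  one_mem' := by
    refine ⟨1, H.one_mem, by simp, 0, 0, ?_, ?_⟩
    · simp
    · simp
  mul_mem' := by
    rintro A B ⟨z, hz, hzr, σ₁, σ₂, hzy, hzv⟩ ⟨z', hz', hzr', σ₁', σ₂', hzy', hzv'⟩
    refine ⟨z * z', H.mul_mem hz hz', ?_, σ₁ * B.1 0 0 + σ₂ * B.1 1 0 + σ₁',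
      σ₁ * B.1 0 1 + σ₂ * B.1 1 1 + σ₂', ?_, ?_⟩
    · rw [Units.val_mul, ← Matrix.mulVec_mulVec, hzr', hzr]
    · rw [Units.val_mul, ← Matrix.mulVec_mulVec, hzy']
      simp only [Matrix.mulVec_add, Matrix.mulVec_smul, hzy, hzv, hzr,
        Matrix.SpecialLinearGroup.coe_mul, Matrix.mul_apply, Fin.sum_univ_two]
      module
    · rw [Units.val_mul, ← Matrix.mulVec_mulVec, hzv']
      simp only [Matrix.mulVec_add, Matrix.mulVec_smul, hzy, hzv, hzr,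
        Matrix.SpecialLinearGroup.coe_mul, Matrix.mul_apply, Fin.sum_univ_two]
      module
  inv_mem' := by
    rintro A ⟨z, hz, hzr, σ₁, σ₂, hzy, hzv⟩
    have hdet : A.1 0 0 * A.1 1 1 - A.1 0 1 * A.1 1 0 = 1 := by
      have := A.2
      rwa [Matrix.det_fin_two] at this
    have hinv : ∀ u w : Fin n → F, (z : Matrix (Fin n) (Fin n) F) *ᵥ w = u →
        ((z⁻¹ : GL (Fin n) F) : Matrix (Fin n) (Fin n) F) *ᵥ u = w := by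
      intro u w h
      rw [← h, Matrix.mulVec_mulVec, ← Units.val_mul, inv_mul_cancel, Units.val_one,
        Matrix.one_mulVec]
    refine ⟨z⁻¹, H.inv_mem hz, hinv _ _ hzr, -(A.1 1 1 * σ₁ - A.1 1 0 * σ₂),
      A.1 0 1 * σ₁ - A.1 0 0 * σ₂, ?_, ?_⟩
    · apply hinv
      rw [Matrix.SpecialLinearGroup.coe_inv, Matrix.adjugate_fin_two]
      simp only [Matrix.of_apply, Matrix.cons_val', Matrix.cons_val_zero, Matrix.cons_val_one,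
        Matrix.cons_val_fin_one]
      simp only [Matrix.mulVec_add, Matrix.mulVec_smul, hzy, hzv, hzr]
      have e : A.1 1 1 • (A.1 0 0 • y + A.1 1 0 • v₁ + σ₁ • r₀) +
          (-A.1 1 0) • (A.1 0 1 • y + A.1 1 1 • v₁ + σ₂ • r₀) +
          (-(A.1 1 1 * σ₁ - A.1 1 0 * σ₂)) • r₀ =
          (A.1 0 0 * A.1 1 1 - A.1 0 1 * A.1 1 0) • y := by module
      rw [e, hdet, one_smul]
    · apply hinv
      rw [Matrix.SpecialLinearGroup.coe_inv, Matrix.adjugate_fin_two]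
      simp only [Matrix.of_apply, Matrix.cons_val', Matrix.cons_val_zero, Matrix.cons_val_one,
        Matrix.cons_val_fin_one]
      simp only [Matrix.mulVec_add, Matrix.mulVec_smul, hzy, hzv, hzr]
      have e : (-A.1 0 1) • (A.1 0 0 • y + A.1 1 0 • v₁ + σ₁ • r₀) +
          A.1 0 0 • (A.1 0 1 • y + A.1 1 1 • v₁ + σ₂ • r₀) +
          (A.1 0 1 * σ₁ - A.1 0 0 * σ₂) • r₀ =
          (A.1 0 0 * A.1 1 1 - A.1 0 1 * A.1 1 0) • v₁ := by module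
      rw [e, hdet, one_smul]

theorem mem_Ind {H : Subgroup (GL (Fin n) F)} {y v₁ r₀ : Fin n → F}
    {A : Matrix.SpecialLinearGroup (Fin 2) F} :
    A ∈ Ind H y v₁ r₀ ↔ ∃ z : GL (Fin n) F, z ∈ H ∧
      (z : Matrix (Fin n) (Fin n) F) *ᵥ r₀ = r₀ ∧ ∃ σ₁ σ₂ : F,
        (z : Matrix (Fin n) (Fin n) F) *ᵥ y = A.1 0 0 • y + A.1 1 0 • v₁ + σ₁ • r₀ ∧
        (z : Matrix (Fin n) (Fin n) F) *ᵥ v₁ = A.1 0 1 • y + A.1 1 1 • v₁ + σ₂ • r₀ := Iff.rfl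

/-- an element acting as `y ↦ y + v₁`, `v₁ ↦ v₁` induces `ll 1` -/
theorem ll_mem_Ind {H : Subgroup (GL (Fin n) F)} {y v₁ r₀ : Fin n → F}
    {M : Matrix (Fin n) (Fin n) F} (hM : InH H M) (hr : M *ᵥ r₀ = r₀) (hy : M *ᵥ y = y + v₁)
    (hv : M *ᵥ v₁ = v₁) : ll (1 : F) ∈ Ind H y v₁ r₀ := by
  obtain ⟨z, hz, rfl⟩ := hM
  refine ⟨z, hz, hr, 0, 0, ?_, ?_⟩
  · rw [hy, ll_val]
    simp
  · rw [hv, ll_val]
    simp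

/-- an element acting as `y ↦ y`, `v₁ ↦ v₁ + κ y + σ r₀` induces `uu κ` -/
theorem uu_mem_Ind {H : Subgroup (GL (Fin n) F)} {y v₁ r₀ : Fin n → F}
    {M : Matrix (Fin n) (Fin n) F} (hM : InH H M) (hr : M *ᵥ r₀ = r₀) (hy : M *ᵥ y = y)
    {κ σ : F} (hv : M *ᵥ v₁ = v₁ + κ • y + σ • r₀) : uu κ ∈ Ind H y v₁ r₀ := by
  obtain ⟨z, hz, rfl⟩ := hM
  refine ⟨z, hz, hr, 0, σ, ?_, ?_⟩
  · rw [hy, uu_val]
    simp
  · rw [hv, uu_val]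
    simp only [Matrix.of_apply, Matrix.cons_val', Matrix.cons_val_zero, Matrix.cons_val_one,
      Matrix.cons_val_fin_one]
    module

/-- a diagonal element of the induced subgroup -/
theorem diag_of_mem_Ind {H : Subgroup (GL (Fin n) F)} {y v₁ r₀ : Fin n → F}
    {A : Matrix.SpecialLinearGroup (Fin 2) F} (hA : A ∈ Ind H y v₁ r₀) {ρ : F}
    (hAv : (A : Matrix (Fin 2) (Fin 2) F) = !![ρ, 0; 0, ρ⁻¹]) :
    ∃ z : GL (Fin n) F, z ∈ H ∧ (z : Matrix (Fin n) (Fin n) F) *ᵥ r₀ = r₀ ∧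
      ∃ σ₁ : F, (z : Matrix (Fin n) (Fin n) F) *ᵥ y = ρ • y + σ₁ • r₀ := by
  obtain ⟨z, hz, hzr, σ₁, σ₂, hzy, -⟩ := hA
  refine ⟨z, hz, hzr, σ₁, ?_⟩
  rw [hzy, hAv]
  simp

/-- elements of the subfield produced by Dickson's theorem give diagonal elements -/
theorem exists_diag_of_mem [Finite F] (L : Subgroup (Matrix.SpecialLinearGroup (Fin 2) F))
    (S : Subfield F)
    (hle : (Matrix.SpecialLinearGroup.map (n := Fin 2) (S.subtype : ↥S →+* F)).range ≤ L)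
    {ζ : F} (hζS : ζ ∈ S) (hζ0 : ζ ≠ 0) :
    ∃ A ∈ L, (A : Matrix (Fin 2) (Fin 2) F) = !![ζ, 0; 0, ζ⁻¹] := by
  let ζ' : S := ⟨ζ, hζS⟩
  have hζ'0 : ζ' ≠ 0 := by
    intro h
    apply hζ0
    have : ((ζ' : S) : F) = ((0 : S) : F) := by rw [h]
    exact this
  let A₀ : Matrix.SpecialLinearGroup (Fin 2) S :=
    ⟨!![ζ', 0; 0, ζ'⁻¹], by rw [Matrix.det_fin_two_of]; simp [hζ'0]⟩
  refine ⟨Matrix.SpecialLinearGroup.map (n := Fin 2) (S.subtype : ↥S →+* F) A₀, hle ⟨A₀, rfl⟩, ?_⟩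
  have e : ∀ i j, ((Matrix.SpecialLinearGroup.map (n := Fin 2) (S.subtype : ↥S →+* F) A₀ :
      Matrix.SpecialLinearGroup (Fin 2) F) : Matrix (Fin 2) (Fin 2) F) i j =
      ((A₀.1 i j : S) : F) := fun i j => rfl
  ext i j
  rw [e]
  fin_cases i <;> fin_cases j <;> simp [A₀, ζ']

/-- two columns and their sum are multiples of rational vectors: the matrix is a multiple of a
rational matrix -/
theorem two_cols {F₀ : Subfield F} {a₁₁ a₂₁ a₁₂ a₂₂ : F} (hdet : a₁₁ * a₂₂ - a₁₂ * a₂₁ ≠ 0)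
    {l₁ r₁ s₁ l₂ r₂ s₂ l₃ r₃ s₃ : F} (hr₁ : r₁ ∈ F₀) (hs₁ : s₁ ∈ F₀) (hr₂ : r₂ ∈ F₀)
    (hs₂ : s₂ ∈ F₀) (hr₃ : r₃ ∈ F₀) (hs₃ : s₃ ∈ F₀) (h₁₁ : a₁₁ = l₁ * r₁) (h₂₁ : a₂₁ = l₁ * s₁)
    (h₁₂ : a₁₂ = l₂ * r₂) (h₂₂ : a₂₂ = l₂ * s₂) (h₁₃ : a₁₁ + a₁₂ = l₃ * r₃)
    (h₂₃ : a₂₁ + a₂₂ = l₃ * s₃) :
    ∃ l b₁₁ b₂₁ b₁₂ b₂₂ : F, b₁₁ ∈ F₀ ∧ b₂₁ ∈ F₀ ∧ b₁₂ ∈ F₀ ∧ b₂₂ ∈ F₀ ∧ a₁₁ = l * b₁₁ ∧
      a₂₁ = l * b₂₁ ∧ a₁₂ = l * b₁₂ ∧ a₂₂ = l * b₂₂ := by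
  have hδ : l₁ * l₂ * (r₁ * s₂ - r₂ * s₁) ≠ 0 := by
    intro h
    apply hdet
    rw [h₁₁, h₂₁, h₁₂, h₂₂]
    linear_combination h
  have hl₁ : l₁ ≠ 0 := fun h => hδ (by rw [h]; ring)
  have hl₂ : l₂ ≠ 0 := fun h => hδ (by rw [h]; ring)
  have hδ' : r₁ * s₂ - r₂ * s₁ ≠ 0 := fun h => hδ (by rw [h]; ring)
  have hδF : r₁ * s₂ - r₂ * s₁ ∈ F₀ :=
    F₀.sub_mem (F₀.mul_mem hr₁ hs₂) (F₀.mul_mem hr₂ hs₁)
  have e1 : l₁ * (r₁ * s₂ - r₂ * s₁) = l₃ * (r₃ * s₂ - r₂ * s₃) := by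
    rw [h₁₁, h₁₂] at h₁₃
    rw [h₂₁, h₂₂] at h₂₃
    linear_combination s₂ * h₁₃ - r₂ * h₂₃
  have e2 : l₂ * (r₁ * s₂ - r₂ * s₁) = l₃ * (r₁ * s₃ - r₃ * s₁) := by
    rw [h₁₁, h₁₂] at h₁₃
    rw [h₂₁, h₂₂] at h₂₃
    linear_combination r₁ * h₂₃ - s₁ * h₁₃
  have hα₁ : (r₃ * s₂ - r₂ * s₃) / (r₁ * s₂ - r₂ * s₁) ∈ F₀ :=
    F₀.div_mem (F₀.sub_mem (F₀.mul_mem hr₃ hs₂) (F₀.mul_mem hr₂ hs₃)) hδF
  have hα₂ : (r₁ * s₃ - r₃ * s₁) / (r₁ * s₂ - r₂ * s₁) ∈ F₀ :=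
    F₀.div_mem (F₀.sub_mem (F₀.mul_mem hr₁ hs₃) (F₀.mul_mem hr₃ hs₁)) hδF
  have f1 : l₁ = l₃ * ((r₃ * s₂ - r₂ * s₃) / (r₁ * s₂ - r₂ * s₁)) := by
    rw [← mul_div_assoc, eq_div_iff hδ']
    exact e1
  have f2 : l₂ = l₃ * ((r₁ * s₃ - r₃ * s₁) / (r₁ * s₂ - r₂ * s₁)) := by
    rw [← mul_div_assoc, eq_div_iff hδ']
    exact e2
  refine ⟨l₃, _, _, _, _, F₀.mul_mem hα₁ hr₁, F₀.mul_mem hα₁ hs₁, F₀.mul_mem hα₂ hr₂,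
    F₀.mul_mem hα₂ hs₂, ?_, ?_, ?_, ?_⟩
  · rw [h₁₁, ← mul_assoc, ← f1]
  · rw [h₂₁, ← mul_assoc, ← f1]
  · rw [h₁₂, ← mul_assoc, ← f2]
  · rw [h₂₂, ← mul_assoc, ← f2]

end Cfsg.Agent.Lib.H10.Su
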