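import Mathlib
import Cfsg.Agent.Lib.H10.SuF

/-!
# Subfield subgroups of `SU_n(q)` (part G): the key step

If the coefficient field of `H` is rational and `Um φ v c ∈ H`, then for every standard pair
`(y, y')` with `B(y, v) ≠ 0` the ratio `B(y', v) / B(y, v)` is rational.
-/

set_option autoImplicit false
set_option linter.unusedSectionVars false
set_option linter.unusedVariables false
set_option linter.unusedSimpArgs false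

namespace Cfsg.Agent.Lib.H10.Su

open Matrix
open Cfsg.Agent.S0837 (Bs Bs_apply Bs_symm Bs_nondeg)
open Cfsg.Agent.S0781 (Em Em_mulVec)
open Cfsg.Agent.Lib.H11.UGen (Um Um_mulVec)
open Cfsg.Agent.Lib.H10.Sf (IsRat exists_subfield_of_four)
open Cfsg.Agent.Lib.H4.Dickson (uu ll uu_val ll_val)

variable {F : Type*} [Field F] [Fintype F] {n q : ℕ}
variable {φ : F →+* F} {F₀ : Subfield F} {H : Subgroup (GL (Fin n) F)}

/-- further field facts (valid when `[F : F₀]` is odd) -/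
structure FFacts (φ : F →+* F) (F₀ : Subfield F) : Prop where
  ω_ex : ∃ ω ∈ F₀, φ ω ≠ ω
  quad : ∀ {x t d : F}, t ∈ F₀ → d ∈ F₀ → x * x - t * x + d = 0 → x ∈ F₀

/-- a non-zero rational element of trace zero -/
theorem FFacts.exists_theta (K : FFacts φ F₀) (hφ : ∀ x, φ x = x ^ q) (hφ2 : ∀ x, φ (φ x) = x) :
    ∃ θ : F, θ ∈ F₀ ∧ θ ≠ 0 ∧ θ + φ θ = 0 := by
  obtain ⟨ω, hω, hne⟩ := K.ω_ex
  refine ⟨ω - φ ω, F₀.sub_mem hω (phi_mem φ hφ hω), sub_ne_zero.2 (Ne.symm hne), ?_⟩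
  rw [map_sub, hφ2]
  ring

/-- **the key step** -/
theorem Ctx.ratio_mem (C : Ctx φ n q F₀ H) (K : FFacts φ F₀) (hM : ∀ β ∈ Mco φ F₀ H, β ∈ F₀)
    {i j k l : Fin n} {ζ ζ' : F} (hP : StdP φ F₀ i j k l ζ ζ') {v : Fin n → F} {c : F}
    (hvv : Bs φ n v v = 0) (hc : c + φ c = 0) (hc0 : c ≠ 0) (ht : InH H (Um φ v c))
    (hp : Bs φ n (yv i j ζ) v ≠ 0) :
    Bs φ n (yv k l ζ') v / Bs φ n (yv i j ζ) v ∈ F₀ := by
  obtain ⟨hnd, hζ, hζ'⟩ := hP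
  obtain ⟨hij, hik, hil, hjk, hjl, hkl⟩ := nd4 hnd
  obtain ⟨ω, hω, hωne⟩ := K.ω_ex
  obtain ⟨y, hy_def⟩ : ∃ y, y = yv i j ζ := ⟨_, rfl⟩
  obtain ⟨y', hy'_def⟩ : ∃ y', y' = yv k l ζ' := ⟨_, rfl⟩
  obtain ⟨p, hp_def⟩ : ∃ p, p = Bs φ n y v := ⟨_, rfl⟩
  obtain ⟨p', hp'_def⟩ : ∃ p', p' = Bs φ n y' v := ⟨_, rfl⟩
  rw [← hy_def, ← hp_def] at hp
  rw [← hy_def, ← hy'_def, ← hp_def, ← hp'_def]
  by_contra hη
  have hφ2 := C.hφ2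
  have hyR : IsRat F₀ y := by rw [hy_def]; exact yv_rat i j hζ.1
  have hy'R : IsRat F₀ y' := by rw [hy'_def]; exact yv_rat k l hζ'.1
  have hyy : Bs φ n y y = 0 := by rw [hy_def]; exact hζ.iso hij
  have hy'y' : Bs φ n y' y' = 0 := by rw [hy'_def]; exact hζ'.iso hkl
  have hyy' : Bs φ n y y' = 0 := by rw [hy_def, hy'_def]; exact B_yv_disj φ hik hil hjk hjl _ _
  have hy'y : Bs φ n y' y = 0 := B_zero_symm φ hφ2 hyy'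
  have hvy : Bs φ n v y = φ p := by rw [hp_def]; exact (B_symm' φ hφ2 y v).symm
  have hvy' : Bs φ n v y' = φ p' := by rw [hp'_def]; exact (B_symm' φ hφ2 y' v).symm
  have hφp : φ p ≠ 0 := (map_ne_zero φ).2 hp
  -- the rational element of trace zero
  obtain ⟨θ, hθF, hθ0, hθt⟩ := K.exists_theta C.hφ hφ2
  -- the choice of `γ`
  obtain ⟨γ, hγF, hρ⟩ : ∃ γ ∈ F₀, (γ * (p' / p) - φ (γ * (p' / p))) / θ ∉ F₀ := by
    by_contra hcon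
    push Not at hcon
    have h1 := hcon 1 F₀.one_mem
    have h2 := hcon ω hω
    have h1' : p' / p - φ (p' / p) ∈ F₀ := by
      have := F₀.mul_mem h1 hθF
      rwa [one_mul, div_mul_cancel₀ _ hθ0] at this
    have h2' : ω * (p' / p) - φ (ω * (p' / p)) ∈ F₀ := by
      have := F₀.mul_mem h2 hθF
      rwa [div_mul_cancel₀ _ hθ0] at this
    have h3 : (ω - φ ω) * (p' / p) ∈ F₀ := by
      have := F₀.sub_mem h2' (F₀.mul_mem (phi_mem φ C.hφ hω) h1')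
      have e : ω * (p' / p) - φ (ω * (p' / p)) - φ ω * (p' / p - φ (p' / p)) =
          (ω - φ ω) * (p' / p) := by
        rw [map_mul]; ring
      rwa [e] at this
    apply hη
    have h4 : ω - φ ω ≠ 0 := sub_ne_zero.2 (Ne.symm hωne)
    have h5 : ω - φ ω ∈ F₀ := F₀.sub_mem hω (phi_mem φ C.hφ hω)
    have := F₀.mul_mem (F₀.inv_mem h5) h3
    rwa [← mul_assoc, inv_mul_cancel₀ h4, one_mul] at this
  obtain ⟨ρ, hρ_def⟩ : ∃ ρ, ρ = (γ * (p' / p) - φ (γ * (p' / p))) / θ := ⟨_, rfl⟩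
  rw [← hρ_def] at hρ
  have hρ0 : ρ ≠ 0 := fun h => hρ (h ▸ F₀.zero_mem)
  have hρ1 : ρ ≠ 1 := fun h => hρ (h ▸ F₀.one_mem)
  have hρm1 : ρ ≠ -1 := fun h => hρ (h ▸ F₀.neg_mem F₀.one_mem)
  -- the vectors
  obtain ⟨v₁, hv₁_def⟩ : ∃ v₁, v₁ = (c * φ p) • v := ⟨_, rfl⟩
  obtain ⟨r₀, hr₀_def⟩ : ∃ r₀, r₀ = φ p' • y - φ p • y' := ⟨_, rfl⟩
  have hvr₀ : Bs φ n v r₀ = 0 := by
    rw [hr₀_def, map_sub, map_smul, map_smul, hvy, hvy', smul_eq_mul, smul_eq_mul]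
    ring
  have hyr₀ : Bs φ n y r₀ = 0 := by
    rw [hr₀_def, map_sub, map_smul, map_smul, hyy, hyy', smul_zero, smul_zero, sub_zero]
  have hy'r₀ : Bs φ n y' r₀ = 0 := by
    rw [hr₀_def, map_sub, map_smul, map_smul, hy'y, hy'y', smul_zero, smul_zero, sub_zero]
  have hyv₁ : Bs φ n y v₁ = c * φ p * p := by
    rw [hv₁_def, map_smul, smul_eq_mul, ← hp_def]
  have hy'v₁ : Bs φ n y' v₁ = c * φ p * p' := by
    rw [hv₁_def, map_smul, smul_eq_mul, ← hp'_def]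
  -- the induced group
  have hll : ll (1 : F) ∈ Ind H y v₁ r₀ := by
    refine ll_mem_Ind ht ?_ ?_ ?_
    · rw [Um_mulVec, hvr₀, mul_zero, zero_smul, add_zero]
    · rw [Um_mulVec, hvy, hv₁_def]
    · rw [Um_mulVec, hv₁_def, map_smul, hvv, smul_zero, mul_zero, zero_smul, add_zero]
  have hU₁ : InH H (Um φ y θ) := (Um_inH_N₁ φ C.hφ hφ2 hyR hθF hyy hθt).mono C.hN
  have huu₁ : uu (θ * (c * φ p * p)) ∈ Ind H y v₁ r₀ := by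
    refine uu_mem_Ind (σ := 0) hU₁ ?_ ?_ ?_
    · rw [Um_mulVec, hyr₀, mul_zero, zero_smul, add_zero]
    · rw [Um_mulVec, hyy, mul_zero, zero_smul, add_zero]
    · rw [Um_mulVec, hyv₁, zero_smul, add_zero]
  have hS₂ : InH H (Sm φ y y' γ) :=
    (Sm_inH_N₁ φ C.hφ hφ2 hyR hy'R hγF hyy hy'y' hyy').mono C.hN
  have huu₂ : uu (c * (γ * p' * φ p - φ γ * p * φ p')) ∈ Ind H y v₁ r₀ := by
    refine uu_mem_Ind (σ := φ γ * c * p) hS₂ ?_ ?_ ?_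
    · rw [Sm_mulVec φ hφ2 _ _ _ hy'y', hy'r₀, hyr₀, mul_zero, mul_zero, zero_smul, zero_smul,
        add_zero, sub_zero]
    · rw [Sm_mulVec φ hφ2 _ _ _ hy'y', hy'y, hyy, mul_zero, mul_zero, zero_smul, zero_smul,
        add_zero, sub_zero]
    · rw [Sm_mulVec φ hφ2 _ _ _ hy'y', hy'v₁, hyv₁, hr₀_def]
      module
  -- the parameters
  have hκ : c * (γ * p' * φ p - φ γ * p * φ p') = θ * (c * φ p * p) * ρ := by
    rw [hρ_def, map_mul, map_div₀]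
    field_simp
  have hκ₁0 : θ * (c * φ p * p) ≠ 0 :=
    mul_ne_zero hθ0 (mul_ne_zero (mul_ne_zero hc0 hφp) hp)
  have hκ₂0 : c * (γ * p' * φ p - φ γ * p * φ p') ≠ 0 := by
    rw [hκ]; exact mul_ne_zero hκ₁0 hρ0
  have hne : θ * (c * φ p * p) ≠ c * (γ * p' * φ p - φ γ * p * φ p') := by
    rw [hκ]
    intro h
    apply hρ1
    have : θ * (c * φ p * p) * 1 = θ * (c * φ p * p) * ρ := by rw [mul_one]; exact h
    exact (mul_left_cancel₀ hκ₁0 this).symm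
  have hne' : θ * (c * φ p * p) + c * (γ * p' * φ p - φ γ * p * φ p') ≠ 0 := by
    rw [hκ]
    intro h
    apply hρm1
    have : θ * (c * φ p * p) * ρ = θ * (c * φ p * p) * (-1) := by linear_combination h
    exact mul_left_cancel₀ hκ₁0 this
  obtain ⟨S, hS, hle⟩ := exists_subfield_of_four (Ind H y v₁ r₀) hll hκ₁0 hκ₂0 hne hne' huu₁ huu₂
  have hρS : ρ ∈ S := by
    have h1 : θ * (c * φ p * p) ∈ S := (hS _).2 huu₁
    have h2 : c * (γ * p' * φ p - φ γ * p * φ p') ∈ S := (hS _).2 huu₂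
    have := S.div_mem h2 h1
    rwa [hκ, mul_div_cancel_left₀ _ hκ₁0] at this
  obtain ⟨A, hAL, hAv⟩ := exists_diag_of_mem (Ind H y v₁ r₀) S hle hρS hρ0
  obtain ⟨z, hzH, hzr, σ₁, hzy⟩ := diag_of_mem_Ind hAL hAv
  -- the action of `z` on the plane `⟨y, y'⟩`
  have hy'_eq : y' = (φ p)⁻¹ • (φ p' • y - r₀) := by
    rw [hr₀_def, sub_sub_cancel, smul_smul, inv_mul_cancel₀ hφp, one_smul]
  have hzy_c : (z : Matrix (Fin n) (Fin n) F) *ᵥ y =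
      (ρ + σ₁ * φ p') • y + (-(σ₁ * φ p)) • y' := by
    rw [hzy, hr₀_def]
    module
  have hzy'_c : (z : Matrix (Fin n) (Fin n) F) *ᵥ y' =
      ((φ p)⁻¹ * (φ p' * ρ + (φ p' * σ₁ - 1) * φ p')) • y + (-(φ p' * σ₁ - 1)) • y' := by
    conv_lhs => rw [hy'_eq]
    rw [Matrix.mulVec_smul, Matrix.mulVec_sub, Matrix.mulVec_smul, hzy, hzr, hr₀_def]
    funext x
    simp only [Pi.add_apply, Pi.smul_apply, Pi.sub_apply, smul_eq_mul]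
    field_simp
    ring
  -- rational points
  have hzI : InH H (z : Matrix (Fin n) (Fin n) F) := inH_val hzH
  have hP' : StdP φ F₀ i j k l ζ ζ' := ⟨hnd, hζ, hζ'⟩
  have hpt₁ := hzI.conj_Um φ C.hφ hφ2 C.hH hyy hU₁
  rw [hzy_c, hy_def, hy'_def] at hpt₁
  obtain ⟨l₁, r₁, s₁, hr₁, hs₁, e₁₁, e₂₁⟩ := C.plane_pt hM hP' hθt hθ0 hpt₁
  have hU₂ : InH H (Um φ y' θ) := (Um_inH_N₁ φ C.hφ hφ2 hy'R hθF hy'y' hθt).mono C.hN
  have hpt₂ := hzI.conj_Um φ C.hφ hφ2 C.hH hy'y' hU₂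
  rw [hzy'_c, hy_def, hy'_def] at hpt₂
  obtain ⟨l₂, r₂, s₂, hr₂, hs₂, e₁₂, e₂₂⟩ := C.plane_pt hM hP' hθt hθ0 hpt₂
  have hsum_iso : Bs φ n (y + y') (y + y') = 0 := by
    simp only [map_add, LinearMap.add_apply, hyy, hy'y', hyy', hy'y, add_zero]
  have hU₃ : InH H (Um φ (y + y') θ) :=
    (Um_inH_N₁ φ C.hφ hφ2 (hyR.add hy'R) hθF hsum_iso hθt).mono C.hN
  have hpt₃ := hzI.conj_Um φ C.hφ hφ2 C.hH hsum_iso hU₃
  have hz3 : (z : Matrix (Fin n) (Fin n) F) *ᵥ (y + y') =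
      ((ρ + σ₁ * φ p') + (φ p)⁻¹ * (φ p' * ρ + (φ p' * σ₁ - 1) * φ p')) • y +
        (-(σ₁ * φ p) + -(φ p' * σ₁ - 1)) • y' := by
    rw [Matrix.mulVec_add, hzy_c, hzy'_c]
    module
  rw [hz3, hy_def, hy'_def] at hpt₃
  obtain ⟨l₃, r₃, s₃, hr₃, hs₃, e₁₃, e₂₃⟩ := C.plane_pt hM hP' hθt hθ0 hpt₃
  -- the determinant
  have hdet : (ρ + σ₁ * φ p') * (-(φ p' * σ₁ - 1)) -
      ((φ p)⁻¹ * (φ p' * ρ + (φ p' * σ₁ - 1) * φ p')) * (-(σ₁ * φ p)) = ρ := by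
    field_simp
    ring
  have hdet0 : (ρ + σ₁ * φ p') * (-(φ p' * σ₁ - 1)) -
      ((φ p)⁻¹ * (φ p' * ρ + (φ p' * σ₁ - 1) * φ p')) * (-(σ₁ * φ p)) ≠ 0 := by
    rw [hdet]; exact hρ0
  obtain ⟨l₀, b₁₁, b₂₁, b₁₂, b₂₂, hb₁₁, hb₂₁, hb₁₂, hb₂₂, f₁₁, f₂₁, f₁₂, f₂₂⟩ :=
    two_cols hdet0 hr₁ hs₁ hr₂ hs₂ hr₃ hs₃ e₁₁ e₂₁ e₁₂ e₂₂ e₁₃ e₂₃
  -- trace and determinant
  have htr : 1 + ρ = l₀ * (b₁₁ + b₂₂) := by
    have : (ρ + σ₁ * φ p') + (-(φ p' * σ₁ - 1)) = 1 + ρ := by ring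
    rw [← this, f₁₁, f₂₂]
    ring
  have hdt : ρ = l₀ * l₀ * (b₁₁ * b₂₂ - b₁₂ * b₂₁) := by
    rw [← hdet, f₁₁, f₂₁, f₁₂, f₂₂]
    ring
  have hD0 : b₁₁ * b₂₂ - b₁₂ * b₂₁ ≠ 0 := by
    intro h
    apply hρ0
    rw [hdt, h, mul_zero]
  have hDF : b₁₁ * b₂₂ - b₁₂ * b₂₁ ∈ F₀ :=
    F₀.sub_mem (F₀.mul_mem hb₁₁ hb₂₂) (F₀.mul_mem hb₁₂ hb₂₁)
  have hTF : b₁₁ + b₂₂ ∈ F₀ := F₀.add_mem hb₁₁ hb₂₂
  apply hρ
  refine K.quad (t := (b₁₁ + b₂₂) * (b₁₁ + b₂₂) / (b₁₁ * b₂₂ - b₁₂ * b₂₁) - 2) (d := 1)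
    (F₀.sub_mem (F₀.div_mem (F₀.mul_mem hTF hTF) hDF)
      (F₀.add_mem F₀.one_mem F₀.one_mem |> fun h => by rwa [one_add_one_eq_two] at h))
    F₀.one_mem ?_
  have h1 : (1 + ρ) ^ 2 = (l₀ * (b₁₁ + b₂₂)) ^ 2 := by rw [htr]
  have h2 : (b₁₁ + b₂₂) * (b₁₁ + b₂₂) / (b₁₁ * b₂₂ - b₁₂ * b₂₁) * ρ =
      (b₁₁ + b₂₂) * (b₁₁ + b₂₂) * (l₀ * l₀) := by
    conv_lhs => rw [hdt]
    field_simp
  linear_combination h1 - h2

end Cfsg.Agent.Lib.H10.Su
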