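import Mathlib
import Cfsg.Agent.Lib.H10.SuG

/-!
# Subfield subgroups of `SU_n(q)` (part H): rational coefficient field ⟹ every transvection of
`H` has a rational centre ⟹ `H` is contained in the subfield subgroup
-/

set_option autoImplicit false
set_option linter.unusedSectionVars false
set_option linter.unusedVariables false
set_option linter.unusedSimpArgs false

namespace Cfsg.Agent.Lib.H10.Su

open Matrix
open Cfsg.Agent.S0837 (Bs Bs_apply Bs_symm Bs_nondeg)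
open Cfsg.Agent.S0781 (Em Em_mulVec)
open Cfsg.Agent.Lib.H11.UGen (Um Um_mulVec)
open Cfsg.Agent.Lib.H10.Sf (IsRat)

variable {F : Type*} [Field F] [Fintype F] {n q : ℕ}
variable {φ : F →+* F} {F₀ : Subfield F} {H : Subgroup (GL (Fin n) F)}

theorem Nm.phi_nm (hφ : ∀ x, φ x = x ^ q) {ζ : F} (h : Nm φ F₀ ζ) : φ ζ ∈ F₀ :=
  phi_mem φ hφ h.1

/-- a vector all of whose "standard ratios" are rational is a rational point -/
theorem Ctx.ratPt_of_ratio (C : Ctx φ n q F₀ H) {v : Fin n → F} (hv0 : v ≠ 0)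
    (hratio : ∀ (i j k l : Fin n) (ζ ζ' : F), StdP φ F₀ i j k l ζ ζ' → v i + φ ζ * v j ≠ 0 →
      (v k + φ ζ' * v l) / (v i + φ ζ * v j) ∈ F₀) :
    ∃ (l₀ : F) (r : Fin n → F), IsRat F₀ r ∧ v = l₀ • r := by
  have hn := C.hn
  -- Claim A
  have claimA : ∀ (a j k l : Fin n) (ζ : F), [a, j, k, l].Nodup → Nm φ F₀ ζ →
      v a + φ ζ * v j ≠ 0 →
      v k / (v a + φ ζ * v j) ∈ F₀ ∧ v l / (v a + φ ζ * v j) ∈ F₀ := by
    intro a j k l ζ hnd hζ hD
    obtain ⟨ζ₁, hζ₁⟩ := C.exists_nm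
    obtain ⟨ζ₂, hζ₂, hne⟩ := C.exists_ne ζ₁
    have h1 := hratio a j k l ζ ζ₁ ⟨hnd, hζ, hζ₁⟩ hD
    have h2 := hratio a j k l ζ ζ₂ ⟨hnd, hζ, hζ₂⟩ hD
    have hd : φ ζ₁ - φ ζ₂ ≠ 0 := by
      intro h
      apply hne
      have : φ ζ₁ = φ ζ₂ := sub_eq_zero.1 h
      have h3 := congrArg φ this
      rw [C.hφ2, C.hφ2] at h3
      exact h3.symm
    have hdF : φ ζ₁ - φ ζ₂ ∈ F₀ := F₀.sub_mem (hζ₁.phi_nm C.hφ) (hζ₂.phi_nm C.hφ)
    have h3 : (φ ζ₁ - φ ζ₂) * (v l / (v a + φ ζ * v j)) ∈ F₀ := by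
      have := F₀.sub_mem h1 h2
      have e : (v k + φ ζ₁ * v l) / (v a + φ ζ * v j) - (v k + φ ζ₂ * v l) / (v a + φ ζ * v j) =
          (φ ζ₁ - φ ζ₂) * (v l / (v a + φ ζ * v j)) := by
        field_simp
        ring
      rwa [e] at this
    have h4 : v l / (v a + φ ζ * v j) ∈ F₀ := by
      have := F₀.mul_mem (F₀.inv_mem hdF) h3
      rwa [← mul_assoc, inv_mul_cancel₀ hd, one_mul] at this
    refine ⟨?_, h4⟩
    have := F₀.sub_mem h1 (F₀.mul_mem (hζ₁.phi_nm C.hφ) h4)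
    have e : (v k + φ ζ₁ * v l) / (v a + φ ζ * v j) - φ ζ₁ * (v l / (v a + φ ζ * v j)) =
        v k / (v a + φ ζ * v j) := by
      field_simp
      ring
    rwa [e] at this
  -- Claim B
  have claimB : ∀ (a j : Fin n), v a ≠ 0 → ∃ ζ, Nm φ F₀ ζ ∧ v a + φ ζ * v j ≠ 0 := by
    intro a j ha
    obtain ⟨ζ₁, hζ₁⟩ := C.exists_nm
    obtain ⟨ζ₂, hζ₂, hne⟩ := C.exists_ne ζ₁
    by_cases h1 : v a + φ ζ₁ * v j = 0
    · refine ⟨ζ₂, hζ₂, ?_⟩
      intro h2
      have h3 : (φ ζ₁ - φ ζ₂) * v j = 0 := by linear_combination h1 - h2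
      have hd : φ ζ₁ - φ ζ₂ ≠ 0 := by
        intro h
        apply hne
        have : φ ζ₁ = φ ζ₂ := sub_eq_zero.1 h
        have h3 := congrArg φ this
        rw [C.hφ2, C.hφ2] at h3
        exact h3.symm
      have hvj : v j = 0 := (mul_eq_zero.1 h3).resolve_left hd
      rw [hvj, mul_zero, add_zero] at h1
      exact ha h1
    · exact ⟨ζ₁, hζ₁, h1⟩
  -- a non-zero coordinate
  obtain ⟨a, ha⟩ : ∃ a, v a ≠ 0 := by
    by_contra h
    push Not at h
    exact hv0 (funext h)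
  refine ⟨v a, fun k => v k / v a, ?_, ?_⟩
  swap
  · funext k
    rw [Pi.smul_apply, smul_eq_mul, mul_div_cancel₀ _ ha]
  intro k
  show v k / v a ∈ F₀
  by_cases hka : k = a
  · rw [hka, div_self ha]; exact F₀.one_mem
  obtain ⟨j, hj⟩ := exists_fresh [a, k] (by simp; omega)
  obtain ⟨l, hl⟩ := exists_fresh [j, a, k] (by simp; omega)
  simp only [List.mem_cons, List.not_mem_nil, or_false, not_or] at hj hl
  have hak : a ≠ k := Ne.symm hka
  have haj : a ≠ j := Ne.symm hj.1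
  have hkj : k ≠ j := Ne.symm hj.2
  have hjl : j ≠ l := Ne.symm hl.1
  have hal : a ≠ l := Ne.symm hl.2.1
  have hkl : k ≠ l := Ne.symm hl.2.2
  by_cases hvl : v l = 0
  · obtain ⟨ζ, hζ⟩ := C.exists_nm
    have hD : v a + φ ζ * v l ≠ 0 := by rw [hvl, mul_zero, add_zero]; exact ha
    have := (claimA a l k j ζ (nd4_mk hal hak haj hkl.symm hjl.symm hkj) hζ hD).1
    rwa [hvl, mul_zero, add_zero] at this
  · obtain ⟨ζj, hζj, hDj⟩ := claimB a j ha
    obtain ⟨ζk, hζk, hDk⟩ := claimB a k ha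
    obtain ⟨h1, h2⟩ := claimA a j k l ζj (nd4_mk haj hak hal hkj.symm hjl hkl) hζj hDj
    obtain ⟨h3, h4⟩ := claimA a k j l ζk (nd4_mk hak haj hal hkj hkl hjl) hζk hDk
    -- everything is a rational multiple of `v l`
    have e1 : (v a + φ ζj * v j) / v l ∈ F₀ := by
      have := F₀.inv_mem h2
      rwa [inv_div] at this
    have e2 : (v a + φ ζk * v k) / v l ∈ F₀ := by
      have := F₀.inv_mem h4
      rwa [inv_div] at this
    have e3 : v k / v l ∈ F₀ := by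
      have := F₀.mul_mem h1 e1
      rwa [div_mul_div_cancel₀ hDj] at this
    have e4 : v j / v l ∈ F₀ := by
      have := F₀.mul_mem h3 e2
      rwa [div_mul_div_cancel₀ hDk] at this
    have e5 : v a / v l ∈ F₀ := by
      have := F₀.sub_mem e1 (F₀.mul_mem (hζj.phi_nm C.hφ) e4)
      have e : (v a + φ ζj * v j) / v l - φ ζj * (v j / v l) = v a / v l := by
        field_simp
        ring
      rwa [e] at this
    have := F₀.div_mem e3 e5
    rwa [div_div_div_cancel_right₀ hvl] at this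

/-- **rational coefficient field ⟹ the centre of every transvection of `H` is a rational
point** -/
theorem Ctx.ratPt_of_Um (C : Ctx φ n q F₀ H) (K : FFacts φ F₀)
    (hM : ∀ β ∈ Mco φ F₀ H, β ∈ F₀) {v : Fin n → F} {c : F} (hv0 : v ≠ 0)
    (hvv : Bs φ n v v = 0) (hc : c + φ c = 0) (hc0 : c ≠ 0) (ht : InH H (Um φ v c)) :
    ∃ (l₀ : F) (r : Fin n → F), IsRat F₀ r ∧ v = l₀ • r := by
  refine C.ratPt_of_ratio hv0 ?_
  intro i j k l ζ ζ' hP hD
  have h := C.ratio_mem K hM hP hvv hc hc0 ht (by rw [B_yv_left]; exact hD)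
  rwa [B_yv_left, B_yv_left] at h

/-- **rational coefficient field ⟹ `H` maps the standard isotropic vectors to rational
points** -/
theorem Ctx.std_pts (C : Ctx φ n q F₀ H) (K : FFacts φ F₀)
    (hM : ∀ β ∈ Mco φ F₀ H, β ∈ F₀) {g : GL (Fin n) F} (hg : g ∈ H) {i j : Fin n} {ζ : F}
    (hij : i ≠ j) (hζ : Nm φ F₀ ζ) :
    ∃ (l₀ : F) (r : Fin n → F), IsRat F₀ r ∧
      (g : Matrix (Fin n) (Fin n) F) *ᵥ yv i j ζ = l₀ • r := by
  obtain ⟨θ, hθF, hθ0, hθt⟩ := K.exists_theta C.hφ C.hφ2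
  have hU : InH H (Um φ (yv i j ζ) θ) :=
    (Um_inH_N₁ φ C.hφ C.hφ2 (yv_rat i j hζ.1) hθF (hζ.iso hij) hθt).mono C.hN
  have hgI : InH H (g : Matrix (Fin n) (Fin n) F) := inH_val hg
  have h1 := hgI.conj_Um φ C.hφ C.hφ2 C.hH (hζ.iso hij) hU
  have hiso : Bs φ n ((g : Matrix (Fin n) (Fin n) F) *ᵥ yv i j ζ)
      ((g : Matrix (Fin n) (Fin n) F) *ᵥ yv i j ζ) = 0 := by
    rw [hgI.pres φ C.hφ C.hH]; exact hζ.iso hij
  have hne : (g : Matrix (Fin n) (Fin n) F) *ᵥ yv i j ζ ≠ 0 := by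
    intro h0
    have h2 : ((g⁻¹ : GL (Fin n) F) : Matrix (Fin n) (Fin n) F) *ᵥ
        ((g : Matrix (Fin n) (Fin n) F) *ᵥ yv i j ζ) = 0 := by rw [h0, Matrix.mulVec_zero]
    rw [Matrix.mulVec_mulVec, ← Units.val_mul, inv_mul_cancel, Units.val_one,
      Matrix.one_mulVec] at h2
    have := congrFun h2 i
    rw [yv_apply_left hij] at this
    exact one_ne_zero this
  exact C.ratPt_of_Um K hM hne hiso hθt hθ0 h1

end Cfsg.Agent.Lib.H10.Su
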