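import Mathlib
import Cfsg.Agent.Lib.H10.SuH
import Cfsg.Agent.Lib.H9.SuSubA
import Cfsg.Agent.Lib.H2.SuSubFF

/-!
# Subfield subgroups of `SU_n(q)` (part I): the standard subfield subgroup is maximal, modulo the
point argument (P4) and properness (P5)
-/

set_option autoImplicit false
set_option linter.unusedSectionVars false
set_option linter.unusedVariables false
set_option linter.unusedSimpArgs false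

namespace Cfsg.Agent.Lib.H10.Su

open Matrix
open Cfsg.Agent.S0837 (Bs Bs_apply Bs_symm Bs_nondeg)
open Cfsg.Agent.S0781 (Em Em_mulVec)
open Cfsg.Agent.Lib.H11.UGen (Um Um_mulVec)
open Cfsg.Agent.Lib.H10.Sf (IsRat)

variable {F : Type*} [Field F] [Fintype F] {n q : ℕ}

/-- the maximality of the standard subfield subgroup, given the point argument `hP4` for the three
norm `-1` elements and the properness `hP5` -/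
theorem maximal_one_of (hF : Fintype.card F = q ^ 2) (hn : 13 ≤ n) {F₀ : Subfield F} {r : ℕ}
    (hr : r.Prime) (hro : Odd r) (hcard : Fintype.card F = Nat.card F₀ ^ r)
    (hP4 : ∀ {ζ₁ ζ₂ ζ₃ : F}, ζ₁ ∈ F₀ → ζ₂ ∈ F₀ → ζ₃ ∈ F₀ → ζ₁ ≠ ζ₂ → ζ₁ ≠ ζ₃ → ζ₂ ≠ ζ₃ →
      ∀ g : GL (Fin n) F,
      (∀ (i j : Fin n) (ζ : F), i ≠ j → (ζ = ζ₁ ∨ ζ = ζ₂ ∨ ζ = ζ₃) →
        ∃ (l : F) (r : Fin n → F), IsRat F₀ r ∧
          (g : Matrix (Fin n) (Fin n) F) *ᵥ yv i j ζ = l • r) →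
      g ∈ Cfsg.Geo.subfieldSubgroup F₀ (1 : GL (Fin n) F))
    (hP5 : N₁ n q F₀ < Cfsg.GU n F q ⊓ Cfsg.Geo.specialLinear (Fin n) F) :
    Cfsg.Geo.IsMaximalIn (Cfsg.GU n F q ⊓ Cfsg.Geo.specialLinear (Fin n) F) (N₁ n q F₀) := by
  obtain ⟨φ, hφ, hφ2⟩ := Cfsg.Agent.Lib.H4.exists_frob hF
  obtain ⟨ω, hω, hω'⟩ := Cfsg.Agent.Lib.H2.SuSub.exists_not_fixed φ hF hφ hro hcard
  obtain ⟨ζ₁, ζ₂, ζ₃, h₁, h₂, h₃, n₁, n₂, n₃, h₁₂, h₁₃, h₂₃⟩ :=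
    Cfsg.Agent.Lib.H2.SuSub.exists_three_norm φ hφ2 hφ hω hω'
  have K : FFacts φ F₀ :=
    ⟨⟨ω, hω, hω'⟩, fun ht hd hx => Cfsg.Agent.Lib.H2.SuSub.mem_of_quadratic hro hcard ht hd hx⟩
  refine ⟨hP5, fun H hNH hHle => ?_⟩
  have C : Ctx φ n q F₀ H :=
    ⟨hφ, hφ2, hn, hNH, le_trans hHle inf_le_left,
      ⟨ζ₁, ζ₂, ζ₃, ⟨h₁, n₁⟩, ⟨h₂, n₂⟩, ⟨h₃, n₃⟩, h₁₂, h₁₃, h₂₃⟩⟩
  rcases C.dichotomy hr hcard with hM | hM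
  · left
    refine le_antisymm (fun g hg => ?_) hNH
    refine ⟨?_, hHle hg⟩
    refine hP4 h₁ h₂ h₃ h₁₂ h₁₃ h₂₃ g (fun i j ζ hij hζ => ?_)
    have hζN : Nm φ F₀ ζ := by
      rcases hζ with rfl | rfl | rfl
      · exact ⟨h₁, n₁⟩
      · exact ⟨h₂, n₂⟩
      · exact ⟨h₃, n₃⟩
    exact C.std_pts K hM hg hij hζN
  · right
    refine Cfsg.Agent.Lib.H9.SuSub.eq_top_of_short φ hF hφ hφ2 hn h₁ n₁ h₂ n₂ h₁₂ hHle ?_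
    intro i j k l ζ ζ' e1 e2 e3 e4 e5 e6 hζ nζ hζ' nζ' β
    exact C.Mco_all (hM β) ⟨nd4_mk e1 e2 e3 e4 e5 e6, ⟨hζ, nζ⟩, ⟨hζ', nζ'⟩⟩

end Cfsg.Agent.Lib.H10.Su
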