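import Cfsg.Agent.Lib.H14.SuzM.Base
import Cfsg.Agent.Lib.H17.M22M.AbsTools

set_option autoImplicit false
set_option maxRecDepth 100000

/-!
# S2048 (M(Suz) = C6), piece UC: the certificate applied to a stem extension in which `G₂(4)` lifts
isomorphically (helper10, for helper14).
-/

namespace Cfsg.Agent.Lib.H10.SuzM

open Cfsg.Agent.Lib.H14.SuzM
open Cfsg.Agent.Lib.H17.SuzGlue (gen idx rels relW relW_trivial of_mul_self gen_idx idx_lt)

/-- the value of a word under `sg`, in the form used in `H17.SuzGlue` -/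
theorem wv_sg (w : List ℕ) :
    wv sg w = ((w.map gen).map (PresentedGroup.of (rels := rels))).prod := by
  unfold wv
  rw [List.map_map]
  rfl

theorem sg_mul_self (i : ℕ) : sg i * sg i = 1 := of_mul_self (gen i)

theorem sg_braid : sg 1 * sg 6 * sg 1 = sg 6 * sg 1 * sg 6 := by
  have h : wv sg [1, 6, 1, 6, 1, 6] = 1 := by
    rw [wv_sg]
    exact relW_trivial _ (by decide)
  have h1 := sg_mul_self 1
  have h6 := sg_mul_self 6
  simp only [wv, List.map_cons, List.map_nil, List.prod_cons, List.prod_nil, mul_one] at h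
  -- h : sg 1 * (sg 6 * (sg 1 * (sg 6 * (sg 1 * sg 6)))) = 1
  have e1 : (sg 1)⁻¹ = sg 1 := inv_eq_of_mul_eq_one_right h1
  have e6 : (sg 6)⁻¹ = sg 6 := inv_eq_of_mul_eq_one_right h6
  have h2 : sg 1 * sg 6 * sg 1 = (sg 6 * sg 1 * sg 6)⁻¹ := by
    apply eq_inv_of_mul_eq_one_left
    rw [← h]; group
  rw [h2, mul_inv_rev, mul_inv_rev, e1, e6, mul_assoc]

theorem sg_ge_six (i : ℕ) (hi : 6 ≤ i) : sg i = sg 6 := by
  have : gen i = gen 6 := by
    obtain ⟨k, rfl⟩ := Nat.exists_eq_add_of_le hi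
    rw [show 6 + k = k + 6 by omega]
    rfl
  unfold sg
  rw [this]

/-- `Suz` is generated by the seven letters -/
theorem closure_sg : Subgroup.closure {x : G | ∃ i < 7, x = sg i} = ⊤ := by
  rw [eq_top_iff, ← PresentedGroup.closure_range_of (rels := rels)]
  apply Subgroup.closure_mono
  rintro _ ⟨u, rfl⟩
  refine ⟨idx u, idx_lt u, ?_⟩
  unfold sg
  rw [gen_idx]

/-- the first six letters -/
theorem six_set_eq {Γ : Type*} [Group Γ] (g : ℕ → Γ) :
    ({g 0, g 1, g 2, g 3, g 4, g 5} : Set Γ) = {x : Γ | ∃ i < 6, x = g i} := by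
  ext x
  simp only [Set.mem_insert_iff, Set.mem_singleton_iff, Set.mem_ofPred_eq]
  constructor
  · rintro (h | h | h | h | h | h)
    exacts [⟨0, by norm_num, h⟩, ⟨1, by norm_num, h⟩, ⟨2, by norm_num, h⟩, ⟨3, by norm_num, h⟩,
      ⟨4, by norm_num, h⟩, ⟨5, by norm_num, h⟩]
  · rintro ⟨i, hi, h⟩
    interval_cases i
    · exact Or.inl h
    · exact Or.inr (Or.inl h)
    · exact Or.inr (Or.inr (Or.inl h))
    · exact Or.inr (Or.inr (Or.inr (Or.inl h)))
    · exact Or.inr (Or.inr (Or.inr (Or.inr (Or.inl h))))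
    · exact Or.inr (Or.inr (Or.inr (Or.inr (Or.inr h))))

theorem wv_mem_HK {Γ : Type*} [Group Γ] (g : ℕ → Γ) (w : List ℕ) (hw : ∀ x ∈ w, x < 6) :
    wv g w ∈ HK g := by
  induction w with
  | nil => rw [wv_nil]; exact one_mem _
  | cons x w ih =>
    rw [wv_cons]
    refine mul_mem ?_ (ih (fun y hy => hw y (List.mem_cons_of_mem _ hy)))
    unfold HK
    rw [six_set_eq]
    exact Subgroup.subset_closure ⟨x, hw x List.mem_cons_self, rfl⟩

/-- **UC** (the certificate applied to a stem extension in which `G₂(4)` lifts isomorphically). -/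
theorem core_of_cert (exactL relL : List (List ℕ))
    (hex : ∀ w ∈ exactL, (∀ x ∈ w, x < 6) ∨ w = [1, 6, 1, 6, 1, 6])
    (hW : ∀ w ∈ exactL ++ relL, wv sg w = 1)
    (hmain : ∀ (E : Type) [Group E] (g : ℕ → E) (A : Subgroup E), Setting7 g exactL relL A →
      ∃ ζ : E, ζ ∈ A ∧ ζ ^ 3 = 1 ∧ Finite (E ⧸ HK g) ∧
        Nat.card (E ⧸ HK g) ≤ 1782 * Nat.card (Subgroup.zpowers ζ))
    (hfin : Finite G) (hidx : (KS : Subgroup G).index = 1782)
    (E : Type) [Group E] [Finite E] (τ : E →* G) (hτ : Cfsg.IsStemExtension τ)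
    (K' : Subgroup E) (hK : K' ⊓ τ.ker = ⊥) (hKK : K'.map τ = KS) : Nat.card τ.ker ∣ 3 := by
  classical
  obtain ⟨hs, hc, hd⟩ := hτ
  have hcen : ∀ z ∈ τ.ker, ∀ x : E, z * x = x * z := fun z hz x =>
    (Subgroup.mem_center_iff.1 (hc hz) x).symm
  have hinj : ∀ x ∈ K', τ x = 1 → x = 1 := by
    intro x hx h1
    have : x ∈ K' ⊓ τ.ker := ⟨hx, MonoidHom.mem_ker.2 h1⟩
    rw [hK] at this
    exact Subgroup.mem_bot.1 this
  -- lifts of the first six letters inside `K'`
  have hlift : ∀ i : ℕ, i < 6 → ∃ x ∈ K', τ x = sg i := by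
    intro i hi
    have h1 : sg i ∈ K'.map τ := by
      rw [hKK]
      unfold KS HK
      rw [six_set_eq]
      exact Subgroup.subset_closure ⟨i, hi, rfl⟩
    obtain ⟨x, hx, hxi⟩ := Subgroup.mem_map.1 h1
    exact ⟨x, hx, hxi⟩
  choose! l hlK hlτ using hlift
  obtain ⟨y, hy⟩ := hs (sg 6)
  -- the normalised lift of the seventh letter
  set c : E := l 1 * y * l 1 * (y * l 1 * y)⁻¹ with hcdef
  have hck : c ∈ τ.ker := by
    rw [MonoidHom.mem_ker, hcdef, map_mul, map_inv, map_mul, map_mul, map_mul, map_mul,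
      hlτ 1 (by norm_num), hy, sg_braid, mul_inv_cancel]
  set y' : E := y * c with hy'
  have hy'τ : τ y' = sg 6 := by
    rw [hy', map_mul, hy, MonoidHom.mem_ker.1 hck, mul_one]
  let g : ℕ → E := fun i => if i < 6 then l i else y'
  have hg_lt : ∀ i, i < 6 → g i = l i := fun i hi => if_pos hi
  have hg_ge : ∀ i, 6 ≤ i → g i = y' := fun i hi => if_neg (by omega)
  have hgτ : ∀ i, τ (g i) = sg i := by
    intro i
    by_cases hi : i < 6
    · rw [hg_lt i hi, hlτ i hi]
    · rw [hg_ge i (by omega), hy'τ, sg_ge_six i (by omega)]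
  have hgK : ∀ i, i < 6 → g i ∈ K' := fun i hi => by rw [hg_lt i hi]; exact hlK i hi
  have hHK : HK g ≤ K' := by
    unfold HK
    rw [six_set_eq, Subgroup.closure_le]
    rintro _ ⟨i, hi, rfl⟩
    exact hgK i hi
  have hτwv : ∀ w : List ℕ, τ (wv g w) = wv sg w := by
    intro w
    rw [map_wv]
    congr 1
    funext x
    exact hgτ x
  -- involutions
  have hinv_lt : ∀ i, i < 6 → g i * g i = 1 := by
    intro i hi
    apply hinj _ (mul_mem (hgK i hi) (hgK i hi))
    rw [map_mul, hgτ, sg_mul_self]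
  have h11 : l 1 * l 1 = 1 := by
    have := hinv_lt 1 (by norm_num)
    rwa [hg_lt 1 (by norm_num)] at this
  -- the braid relation between `l 1` and `y'`
  have hbraid : l 1 * y' * l 1 = y' * l 1 * y' := by
    have e1 : c * (y * l 1 * y) = l 1 * y * l 1 := by
      rw [hcdef, inv_mul_cancel_right]
    have e2 : (y * l 1 * y) * c = l 1 * y * l 1 := by
      rw [← hcen c hck, e1]
    have k0 : l 1 * y' * l 1 = l 1 * y * l 1 * c := by
      calc l 1 * y' * l 1 = l 1 * y * (c * l 1) := by rw [hy']; group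
        _ = l 1 * y * (l 1 * c) := by rw [hcen c hck (l 1)]
        _ = l 1 * y * l 1 * c := by group
    have k1 : y' * l 1 * y' = (y * l 1 * y) * c * c := by
      calc y' * l 1 * y' = y * (c * l 1) * y * c := by rw [hy']; group
        _ = y * (l 1 * c) * y * c := by rw [hcen c hck (l 1)]
        _ = y * l 1 * (c * y) * c := by group
        _ = y * l 1 * (y * c) * c := by rw [hcen c hck y]
        _ = (y * l 1 * y) * c * c := by group
    rw [k0, k1, e2]
  have hy'2 : y' * y' = 1 := by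
    -- `y' = (l 1 * y') * l 1 * (l 1 * y')⁻¹`
    have e : y' = (l 1 * y') * l 1 * (l 1 * y')⁻¹ := by
      rw [eq_mul_inv_iff_mul_eq, ← mul_assoc, hbraid]
    have e2 : y' * y' = (l 1 * y') * (l 1 * l 1) * (l 1 * y')⁻¹ := by
      conv_lhs => rw [e]
      group
    rw [e2, h11, mul_one, mul_inv_cancel]
  have hinv : ∀ i, i < 7 → g i * g i = 1 := by
    intro i hi
    by_cases h6 : i < 6
    · exact hinv_lt i h6
    · rw [hg_ge i (by omega)]; exact hy'2
  have S : Setting7 g exactL relL τ.ker :=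
    { central := hc
      disj := fun x hx hxA => hinj x (hHK hx) (MonoidHom.mem_ker.1 hxA)
      invol := hinv
      exact := by
        intro w hw
        rcases hex w hw with h | rfl
        · apply hinj _ (hHK (wv_mem_HK g w h))
          rw [hτwv]
          exact hW w (List.mem_append_left _ hw)
        · simp only [wv, List.map_cons, List.map_nil, List.prod_cons, List.prod_nil, mul_one]
          rw [hg_lt 1 (by norm_num), hg_ge 6 (le_refl 6)]
          calc l 1 * (y' * (l 1 * (y' * (l 1 * y')))) = (l 1 * y' * l 1) * (y' * l 1 * y') := by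
                group
            _ = (y' * l 1 * y') * (y' * l 1 * y') := by rw [hbraid]
            _ = y' * l 1 * (y' * y') * l 1 * y' := by group
            _ = 1 := by rw [hy'2, mul_one, mul_assoc y' (l 1) (l 1), h11, mul_one, hy'2]
      rel := by
        intro w hw
        rw [MonoidHom.mem_ker, hτwv]
        exact hW w (List.mem_append_right _ hw)
      gen := by
        apply Cfsg.Agent.Lib.H17.M22M.closure_lift_eq_top τ hc hd
        rw [eq_top_iff, ← closure_sg]
        apply Subgroup.closure_mono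
        rintro _ ⟨i, hi, rfl⟩
        exact ⟨g i, ⟨i, hi, rfl⟩, hgτ i⟩ }
  obtain ⟨ζ, hζA, hζ3, hfinQ, hq⟩ := hmain E g τ.ker S
  -- counting
  have hmapHK : (HK g).map τ = KS := by
    unfold KS HK
    rw [MonoidHom.map_closure]
    congr 1
    simp only [Set.image_insert_eq, Set.image_singleton, hgτ]
  have hcardHK : Nat.card (HK g) = Nat.card (KS : Subgroup G) := by
    have hinj' : Function.Injective ((τ.comp (HK g).subtype)) := by
      rw [injective_iff_map_eq_one]
      intro x hx
      exact Subtype.ext (hinj x.1 (hHK x.2) hx)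
    have h1 : Nat.card (HK g) = Nat.card ((τ.comp (HK g).subtype).range) :=
      Nat.card_congr (MonoidHom.ofInjective hinj').toEquiv
    rw [h1, MonoidHom.range_eq_map, ← Subgroup.map_map, ← MonoidHom.range_eq_map,
      Subgroup.range_subtype, hmapHK]
  have h1 : Nat.card E = Nat.card τ.ker * Nat.card G :=
    Cfsg.Agent.Lib.H28.StemTools.card_eq_card_ker_mul τ hs
  have h2 : Nat.card G = 1782 * Nat.card (KS : Subgroup G) := by
    rw [← hidx, mul_comm]; exact (Subgroup.card_mul_index _).symm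
  have h3 : Nat.card E = Nat.card (E ⧸ HK g) * Nat.card (HK g) :=
    Subgroup.card_eq_card_quotient_mul_card_subgroup _
  have hKSpos : 0 < Nat.card (KS : Subgroup G) := Nat.card_pos
  have h4 : Nat.card τ.ker * (1782 * Nat.card (KS : Subgroup G)) ≤
      Nat.card (Subgroup.zpowers ζ) * (1782 * Nat.card (KS : Subgroup G)) := by
    calc Nat.card τ.ker * (1782 * Nat.card (KS : Subgroup G)) = Nat.card E := by rw [h1, h2]
      _ = Nat.card (E ⧸ HK g) * Nat.card (KS : Subgroup G) := by rw [h3, hcardHK]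
      _ ≤ (1782 * Nat.card (Subgroup.zpowers ζ)) * Nat.card (KS : Subgroup G) :=
          Nat.mul_le_mul_right _ hq
      _ = Nat.card (Subgroup.zpowers ζ) * (1782 * Nat.card (KS : Subgroup G)) := by ring
  have h5 : Nat.card τ.ker ≤ Nat.card (Subgroup.zpowers ζ) :=
    Nat.le_of_mul_le_mul_right h4 (by positivity)
  have hle : Subgroup.zpowers ζ ≤ τ.ker := by rw [Subgroup.zpowers_le]; exact hζA
  have heq : Subgroup.zpowers ζ = τ.ker := Subgroup.eq_of_le_of_card_ge hle h5
  rw [← heq, Nat.card_zpowers]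
  exact orderOf_dvd_of_pow_eq_one hζ3

end Cfsg.Agent.Lib.H10.SuzM
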