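import Mathlib
import Cfsg.Agent.S0493
import Cfsg.Agent.Lib.H26.SzCW

/-!
Generic tools for the theorem on 2-groups with exactly three involutions (helper10):
groups of order below sixty are solvable, automorphism groups of groups of order at most four
are solvable, and a multiplicative form of the Chevalley–Warning bound for anisotropic quadratic
maps between elementary abelian 2-groups.
-/

set_option autoImplicit false

namespace Cfsg.Agent.Lib.H10.TI3

universe u

/-- every group of order less than sixty is solvable -/
theorem solvable_of_card_lt_sixty : ∀ (n : ℕ) (K : Type u) [Group K] [Finite K], Nat.card K = n →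
    n < 60 → Group.IsSolvable K := by
  intro n
  induction n using Nat.strong_induction_on with
  | _ n ih =>
    intro K _ _ hn hlt
    by_cases hs : IsSimpleGroup K
    · by_cases hc : IsCyclic K
      · obtain ⟨g, hg⟩ := hc.exists_generator
        apply Group.isSolvable_of_comm
        intro a b
        obtain ⟨i, rfl⟩ := Subgroup.mem_zpowers_iff.mp (hg a)
        obtain ⟨j, rfl⟩ := Subgroup.mem_zpowers_iff.mp (hg b)
        rw [← zpow_add, ← zpow_add, add_comm]
      · exfalso
        have := Cfsg.Agent.S0493.result hc (by omega)
        omega
    · by_cases hsub : Subsingleton K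
      · apply Group.isSolvable_of_comm
        intro a b
        rw [Subsingleton.elim a 1, Subsingleton.elim b 1]
      · rw [not_subsingleton_iff_nontrivial] at hsub
        have hex : ∃ N : Subgroup K, N.Normal ∧ N ≠ ⊥ ∧ N ≠ ⊤ := by
          by_contra hcon
          apply hs
          exact { toNontrivial := hsub
                  eq_bot_or_eq_top_of_normal := fun N hN => by
                    by_cases h : N = ⊥
                    · exact Or.inl h
                    · right
                      by_contra ht
                      exact hcon ⟨N, hN, h, ht⟩ }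
        obtain ⟨N, hNn, hNb, hNt⟩ := hex
        have hmul := Subgroup.card_eq_card_quotient_mul_card_subgroup N
        have h1 : 1 < Nat.card N := (Subgroup.one_lt_card_iff_ne_bot N).mpr hNb
        have h2 : Nat.card N < Nat.card K :=
          lt_of_le_of_ne (Subgroup.card_le_card_group N)
            (fun h => hNt (Subgroup.eq_top_of_card_eq N h))
        have hq0 : 0 < Nat.card (K ⧸ N) := Nat.card_pos
        have h3 : Nat.card (K ⧸ N) < Nat.card K := by nlinarith
        have hsN : Group.IsSolvable N := ih _ (hn ▸ h2) N rfl (by omega)
        have hsQ : Group.IsSolvable (K ⧸ N) := ih _ (hn ▸ h3) (K ⧸ N) rfl (by omega)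
        exact Group.isSolvable_of_ker_le_range N.subtype (QuotientGroup.mk' N) (by simp)

/-- the automorphism group of a group of order at most four is solvable -/
theorem isSolvable_mulAut_of_card_le_four (Y : Type u) [Group Y] [Finite Y]
    (hY : Nat.card Y ≤ 4) : Group.IsSolvable (MulAut Y) := by
  classical
  haveI : Fintype Y := Fintype.ofFinite Y
  have hinj : Function.Injective (fun e : MulAut Y => (e.toEquiv : Equiv.Perm Y)) := by
    intro e f hef
    exact MulEquiv.toEquiv_injective hef
  haveI : Finite (MulAut Y) := Finite.of_injective _ hinj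
  have h1 : Nat.card (MulAut Y) ≤ Nat.card (Equiv.Perm Y) := Nat.card_le_card_of_injective _ hinj
  have h2 : Nat.card (Equiv.Perm Y) = (Nat.card Y).factorial := by
    rw [Nat.card_eq_fintype_card, Fintype.card_perm, Nat.card_eq_fintype_card]
  have h3 : (Nat.card Y).factorial ≤ (4 : ℕ).factorial := Nat.factorial_le hY
  have h4 : (4 : ℕ).factorial = 24 := by decide
  exact solvable_of_card_lt_sixty _ (MulAut Y) rfl (by omega)

/-- **Chevalley–Warning, multiplicative form.** An anisotropic quadratic map between finite
groups of exponent two satisfies `|V| ≤ |W|²`. -/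
theorem card_le_sq_of_anisotropic_mul {V W : Type*} [CommGroup V] [CommGroup W] [Finite V]
    [Finite W] (hV : ∀ v : V, v * v = 1) (hW : ∀ w : W, w * w = 1) (s : V → W) (b : V → V → W)
    (hs : ∀ v v' : V, s (v * v') = s v * s v' * b v v')
    (hbl : ∀ u u' v : V, b (u * u') v = b u v * b u' v)
    (hbr : ∀ u v v' : V, b u (v * v') = b u v * b u v')
    (h0 : ∀ v : V, s v = 1 → v = 1) : Nat.card V ≤ Nat.card W ^ 2 := by
  classical
  have hV2 : ∀ v : Additive V, 2 • v = 0 := by
    intro v
    rw [two_nsmul]
    exact congrArg Additive.ofMul (hV v.toMul)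
  have hW2 : ∀ w : Additive W, 2 • w = 0 := by
    intro w
    rw [two_nsmul]
    exact congrArg Additive.ofMul (hW w.toMul)
  letI : Module (ZMod 2) (Additive V) := AddCommGroup.zmodModule hV2
  letI : Module (ZMod 2) (Additive W) := AddCommGroup.zmodModule hW2
  have h01 : ∀ a : ZMod 2, a = 0 ∨ a = 1 := by decide
  have hb1l : ∀ v, b 1 v = 1 := by
    intro v
    have := hbl 1 1 v
    rw [mul_one] at this
    exact left_eq_mul.1 this
  have hb1r : ∀ v, b v 1 = 1 := by
    intro v
    have := hbr v 1 1
    rw [mul_one] at this
    exact left_eq_mul.1 this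
  have hs1 : s 1 = 1 := by
    have := hs 1 1
    rw [mul_one, hb1l, mul_one] at this
    exact left_eq_mul.1 this
  let sf : Additive V → Additive W := fun v => Additive.ofMul (s v.toMul)
  let Bf : Additive V → Additive V → Additive W := fun v w => Additive.ofMul (b v.toMul w.toMul)
  let B : LinearMap.BilinMap (ZMod 2) (Additive V) (Additive W) :=
    LinearMap.mk₂ (ZMod 2) Bf
      (fun v v' w => congrArg Additive.ofMul (hbl v.toMul v'.toMul w.toMul))
      (fun a v w => by
        rcases h01 a with rfl | rfl
        · rw [zero_smul, zero_smul]; exact congrArg Additive.ofMul (hb1l w.toMul)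
        · rw [one_smul, one_smul])
      (fun v w w' => congrArg Additive.ofMul (hbr v.toMul w.toMul w'.toMul))
      (fun a v w => by
        rcases h01 a with rfl | rfl
        · rw [zero_smul, zero_smul]; exact congrArg Additive.ofMul (hb1r v.toMul)
        · rw [one_smul, one_smul])
  let Q : QuadraticMap (ZMod 2) (Additive V) (Additive W) :=
    { toFun := sf
      toFun_smul := by
        intro a v
        rcases h01 a with rfl | rfl
        · rw [zero_smul, mul_zero, zero_smul]; exact congrArg Additive.ofMul hs1
        · rw [one_smul, mul_one, one_smul]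
      exists_companion' := ⟨B, fun v w =>
        congrArg Additive.ofMul (hs v.toMul w.toMul)⟩ }
  have h0' : ∀ v, Q v = 0 → v = 0 := by
    intro v hv
    have h1 : s v.toMul = 1 := congrArg Additive.toMul hv
    exact congrArg Additive.ofMul (h0 _ h1)
  have key := Cfsg.Agent.Lib.H26.Sz.card_le_sq_of_anisotropic Q h0'
  rwa [Nat.card_congr (Additive.toMul (α := V)), Nat.card_congr (Additive.toMul (α := W))] at key

end Cfsg.Agent.Lib.H10.TI3
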