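import Mathlib
import Cfsg.Agent.Lib.H10.TI3a

/-!
A group of automorphisms of a finite abelian group `V` preserving a subgroup `U` with
`|U| ≤ 4` and `|V : U| ≤ 4` is solvable (helper10).
-/

set_option autoImplicit false

namespace Cfsg.Agent.Lib.H10.TI3

universe u

section invariant

variable {V : Type u} [CommGroup V] [Finite V]

omit [Finite V] in
theorem map_eq_of_invariant (𝒪 : Subgroup (MulAut V)) (U : Subgroup V)
    (hinv : ∀ g ∈ 𝒪, ∀ u ∈ U, g u ∈ U) (g : 𝒪) :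
    U.map ((g : MulAut V) : V ≃* V).toMonoidHom = U := by
  apply le_antisymm
  · rintro _ ⟨u, hu, rfl⟩
    exact hinv g g.2 u hu
  · intro u hu
    refine ⟨(g : MulAut V)⁻¹ u, hinv _ (𝒪.inv_mem g.2) u hu, ?_⟩
    show (g : MulAut V) ((g : MulAut V)⁻¹ u) = u
    simp

/-- restriction of an invariant subgroup -/
noncomputable def resHom (𝒪 : Subgroup (MulAut V)) (U : Subgroup V)
    (hinv : ∀ g ∈ 𝒪, ∀ u ∈ U, g u ∈ U) : 𝒪 →* MulAut ↥U where
  toFun g := (((g : MulAut V) : V ≃* V).subgroupMap U).trans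
    (MulEquiv.subgroupCongr (map_eq_of_invariant 𝒪 U hinv g))
  map_one' := by ext x; rfl
  map_mul' := by intro α β; ext x; rfl

omit [Finite V] in
theorem resHom_apply (𝒪 : Subgroup (MulAut V)) (U : Subgroup V)
    (hinv : ∀ g ∈ 𝒪, ∀ u ∈ U, g u ∈ U) (g : 𝒪) (x : U) :
    ((resHom 𝒪 U hinv g x : U) : V) = (g : MulAut V) x := rfl

/-- the action on the quotient by an invariant subgroup -/
noncomputable def quoHom (𝒪 : Subgroup (MulAut V)) (U : Subgroup V)
    (hinv : ∀ g ∈ 𝒪, ∀ u ∈ U, g u ∈ U) : 𝒪 →* MulAut (V ⧸ U) where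
  toFun g := QuotientGroup.congr U U ((g : MulAut V) : V ≃* V) (map_eq_of_invariant 𝒪 U hinv g)
  map_one' := by
    ext v
    induction v using QuotientGroup.induction_on with
    | H x => rfl
  map_mul' := by
    intro α β
    ext v
    induction v using QuotientGroup.induction_on with
    | H x => rfl

omit [Finite V] in
theorem quoHom_apply_mk (𝒪 : Subgroup (MulAut V)) (U : Subgroup V)
    (hinv : ∀ g ∈ 𝒪, ∀ u ∈ U, g u ∈ U) (g : 𝒪) (x : V) :
    quoHom 𝒪 U hinv g (x : V ⧸ U) = (((g : MulAut V) x : V) : V ⧸ U) := rfl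

/-- **(P1)** a group of automorphisms preserving `U` with `|U| ≤ 4`, `|V : U| ≤ 4` is solvable -/
theorem isSolvable_of_invariant (𝒪 : Subgroup (MulAut V)) (U : Subgroup V)
    (hinv : ∀ g ∈ 𝒪, ∀ u ∈ U, g u ∈ U) (hU : Nat.card U ≤ 4) (hVU : U.index ≤ 4) :
    Group.IsSolvable 𝒪 := by
  haveI h1 : Group.IsSolvable (MulAut ↥U) := isSolvable_mulAut_of_card_le_four _ hU
  haveI h2 : Group.IsSolvable (MulAut (V ⧸ U)) :=
    isSolvable_mulAut_of_card_le_four _ (by rw [← Subgroup.index_eq_card]; exact hVU)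
  set φ : 𝒪 →* MulAut ↥U × MulAut (V ⧸ U) := (resHom 𝒪 U hinv).prod (quoHom 𝒪 U hinv) with hφ
  have hker : ∀ g : 𝒪, g ∈ φ.ker → (∀ u ∈ U, (g : MulAut V) u = u) ∧
      ∀ v : V, v⁻¹ * (g : MulAut V) v ∈ U := by
    intro g hg
    rw [MonoidHom.mem_ker, hφ, MonoidHom.prod_apply, Prod.mk_eq_one] at hg
    obtain ⟨hg1, hg2⟩ := hg
    constructor
    · intro u hu
      have := resHom_apply 𝒪 U hinv g ⟨u, hu⟩
      rw [hg1] at this
      exact this.symm
    · intro v
      have := quoHom_apply_mk 𝒪 U hinv g v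
      rw [hg2] at this
      have h3 : ((v : V) : V ⧸ U) = (((g : MulAut V) v : V) : V ⧸ U) := this
      exact QuotientGroup.eq.1 h3
  haveI : Group.IsSolvable φ.ker := by
    apply Group.isSolvable_of_comm
    intro a b
    obtain ⟨ha1, ha2⟩ := hker a a.2
    obtain ⟨hb1, hb2⟩ := hker b b.2
    apply Subtype.ext
    apply Subtype.ext
    show ((a : 𝒪) : MulAut V) * ((b : 𝒪) : MulAut V) = ((b : 𝒪) : MulAut V) * ((a : 𝒪) : MulAut V)
    ext v
    show ((a : 𝒪) : MulAut V) (((b : 𝒪) : MulAut V) v) = ((b : 𝒪) : MulAut V) (((a : 𝒪) : MulAut V) v)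
    set α := ((a : 𝒪) : MulAut V) with hα
    set β := ((b : 𝒪) : MulAut V) with hβ
    have e1 : β v = v * (v⁻¹ * β v) := by group
    have e2 : α v = v * (v⁻¹ * α v) := by group
    rw [e1, map_mul, ha1 _ (hb2 v)]
    conv_rhs => rw [e2, map_mul, hb1 _ (ha2 v)]
    ac_rfl
  exact Group.isSolvable_of_ker_le_range φ.ker.subtype φ (by simp)

end invariant

end Cfsg.Agent.Lib.H10.TI3
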