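import Mathlib
import Cfsg.Agent.Lib.H10.TI3b

/-!
Anisotropic quadratic maps `s : V → W` between finite groups of exponent two with `|W| = 4`:
the group of automorphisms of `V` preserving `s` is solvable (helper10).
-/

set_option autoImplicit false

namespace Cfsg.Agent.Lib.H10.TI3

universe u

section small

variable {Y : Type*} [Group Y]

theorem mem_zpowers_of_sq {g : Y} (hg : g * g = 1) (a : Y) :
    a ∈ Subgroup.zpowers g ↔ a = 1 ∨ a = g := by
  constructor
  · rintro ⟨k, rfl⟩
    show g ^ k = 1 ∨ g ^ k = g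
    have h2 : g ^ (2 : ℤ) = 1 := by rw [zpow_two]; exact hg
    rcases Int.emod_two_eq_zero_or_one k with h | h
    · left
      have : k = 2 * (k / 2) := by omega
      rw [this, zpow_mul, h2, one_zpow]
    · right
      have : k = 2 * (k / 2) + 1 := by omega
      rw [this, zpow_add, zpow_mul, h2, one_zpow, one_mul, zpow_one]
  · rintro (rfl | rfl)
    · exact Subgroup.one_mem _
    · exact Subgroup.mem_zpowers _

theorem card_zpowers_of_sq {g : Y} (hg : g * g = 1) (hg1 : g ≠ 1) :
    Nat.card (Subgroup.zpowers g) = 2 := by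
  rw [Nat.card_zpowers]
  exact orderOf_eq_prime (by rw [pow_two]; exact hg) hg1

end small

/-- an anisotropic quadratic map between groups of exponent two, with its polar form -/
structure QD (V W : Type u) [CommGroup V] [CommGroup W] where
  s : V → W
  b : V → V → W
  hV : ∀ v : V, v * v = 1
  hW : ∀ w : W, w * w = 1
  hs : ∀ v v' : V, s (v * v') = s v * s v' * b v v'
  hbl : ∀ u u' v : V, b (u * u') v = b u v * b u' v
  hbr : ∀ u v v' : V, b u (v * v') = b u v * b u v'
  aniso : ∀ v : V, s v = 1 → v = 1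

namespace QD

variable {V W : Type u} [CommGroup V] [CommGroup W] (q : QD V W)
include q

theorem inv_eqV (v : V) : v⁻¹ = v := inv_eq_of_mul_eq_one_left (q.hV v)

theorem inv_eqW (w : W) : w⁻¹ = w := inv_eq_of_mul_eq_one_left (q.hW w)

theorem b_one_left (v : V) : q.b 1 v = 1 := by
  have := q.hbl 1 1 v
  rw [mul_one] at this
  exact left_eq_mul.1 this

theorem b_one_right (v : V) : q.b v 1 = 1 := by
  have := q.hbr v 1 1
  rw [mul_one] at this
  exact left_eq_mul.1 this

theorem s_one : q.s 1 = 1 := by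
  have := q.hs 1 1
  rw [mul_one, q.b_one_left, mul_one] at this
  exact left_eq_mul.1 this

theorem b_eq (u v : V) : q.b u v = q.s (u * v) * q.s u * q.s v := by
  rw [q.hs u v]
  have h1 := q.hW (q.s u)
  have h2 := q.hW (q.s v)
  calc q.b u v = (q.s u * q.s u) * (q.s v * q.s v) * q.b u v := by rw [h1, h2, one_mul, one_mul]
    _ = q.s u * q.s v * q.b u v * q.s u * q.s v := by ac_rfl

theorem b_symm (u v : V) : q.b u v = q.b v u := by
  rw [q.b_eq, q.b_eq, mul_comm u v]
  ac_rfl

theorem b_self (v : V) : q.b v v = 1 := by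
  rw [q.b_eq, q.hV, q.s_one, one_mul, q.hW]

/-- the homomorphism `z ↦ b z v` -/
def bHom (v : V) : V →* W := MonoidHom.mk' (fun z => q.b z v) (fun z z' => q.hbl z z' v)

@[simp] theorem bHom_apply (v z : V) : q.bHom v z = q.b z v := rfl

/-- the group of automorphisms preserving `s` -/
def isoGroup : Subgroup (MulAut V) where
  carrier := {g | ∀ v, q.s (g v) = q.s v}
  one_mem' := fun _ => rfl
  mul_mem' := by
    intro a c ha hc v
    show q.s (a (c v)) = q.s v
    rw [ha, hc]
  inv_mem' := by
    intro a ha v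
    have := ha (a⁻¹ v)
    rw [MulAut.apply_inv_self] at this
    exact this.symm

theorem mem_isoGroup (g : MulAut V) : g ∈ q.isoGroup ↔ ∀ v, q.s (g v) = q.s v := Iff.rfl

theorem b_map {g : MulAut V} (hg : g ∈ q.isoGroup) (u v : V) : q.b (g u) (g v) = q.b u v := by
  rw [q.b_eq, q.b_eq, ← map_mul, hg, hg, hg]

/-- the radical of the form `b` modulo `M` -/
def rad (M : Subgroup W) : Subgroup V where
  carrier := {u | ∀ v, q.b u v ∈ M}
  one_mem' := fun v => by rw [q.b_one_left]; exact M.one_mem
  mul_mem' := by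
    intro a c ha hc v
    rw [q.hbl]
    exact M.mul_mem (ha v) (hc v)
  inv_mem' := by
    intro a ha v
    rw [q.inv_eqV]
    exact ha v

theorem mem_rad (M : Subgroup W) (u : V) : u ∈ q.rad M ↔ ∀ v, q.b u v ∈ M := Iff.rfl

theorem rad_invariant (M : Subgroup W) {g : MulAut V} (hg : g ∈ q.isoGroup) {u : V}
    (hu : u ∈ q.rad M) : g u ∈ q.rad M := by
  intro v
  have h1 : q.b (g u) (g (g⁻¹ v)) = q.b u (g⁻¹ v) := q.b_map hg u (g⁻¹ v)
  rw [MulAut.apply_inv_self] at h1
  rw [h1]
  exact hu _

section radLemma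

variable [Finite V] (M : Subgroup W) (x y : V)

/-- the common "orthogonal complement" of `x` and `y` modulo `M` -/
def PP : Subgroup V := M.comap (q.bHom x) ⊓ M.comap (q.bHom y)

omit [Finite V] in
theorem mem_PP (z : V) : z ∈ q.PP M x y ↔ q.b z x ∈ M ∧ q.b z y ∈ M := Iff.rfl

omit [Finite V] in
theorem rad_le_PP : q.rad M ≤ q.PP M x y := fun _ hz => ⟨hz x, hz y⟩

variable (hMi : M.index = 2) (hxy : q.b x y ∉ M)
include hMi hxy

omit [Finite V] hMi in
theorem x_notMem_PP : x ∉ q.PP M x y := fun h => hxy h.2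

omit [Finite V] hMi in
theorem y_notMem_PP : y ∉ q.PP M x y := fun h => hxy (by rw [q.b_symm]; exact h.1)

omit [Finite V] hMi in
theorem xy_notMem_PP : x * y ∉ q.PP M x y := by
  intro h
  have : q.b (x * y) x ∈ M := h.1
  rw [q.hbl, q.b_self, one_mul, q.b_symm] at this
  exact hxy this

omit [Finite V] in
theorem index_comap_x : (M.comap (q.bHom x)).index = 2 := by
  have h1 : (M.comap (q.bHom x)).index ∣ 2 := by
    rw [Subgroup.index_comap, ← hMi]
    exact Subgroup.relIndex_dvd_index_of_normal _ _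
  have h2 : (M.comap (q.bHom x)).index ≠ 1 := by
    rw [Ne, Subgroup.index_eq_one]
    intro h
    have : y ∈ M.comap (q.bHom x) := by rw [h]; exact Subgroup.mem_top _
    apply hxy
    rw [q.b_symm]
    exact this
  rcases (Nat.dvd_prime Nat.prime_two).1 h1 with h | h
  · exact absurd h h2
  · exact h

omit [Finite V] in
theorem index_PP : (q.PP M x y).index = 4 := by
  have hx := q.index_comap_x M x y hMi hxy
  have hle : q.PP M x y ≤ M.comap (q.bHom x) := inf_le_left
  have h1 := Subgroup.relIndex_mul_index hle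
  have h2 : (q.PP M x y).relIndex (M.comap (q.bHom x)) =
      (M.comap (q.bHom y)).relIndex (M.comap (q.bHom x)) := by
    unfold PP
    exact Subgroup.inf_relIndex_left _ _
  have h3 : (M.comap (q.bHom y)).relIndex (M.comap (q.bHom x)) ∣ 2 := by
    have hy : (M.comap (q.bHom y)).index ∣ 2 := by
      rw [Subgroup.index_comap, ← hMi]
      exact Subgroup.relIndex_dvd_index_of_normal _ _
    exact dvd_trans (Subgroup.relIndex_dvd_index_of_normal _ _) hy
  have h4 : (M.comap (q.bHom y)).relIndex (M.comap (q.bHom x)) ≠ 1 := by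
    rw [Ne, Subgroup.relIndex_eq_one]
    intro h
    have hxm : x ∈ M.comap (q.bHom x) := by
      show q.b x x ∈ M
      rw [q.b_self]; exact M.one_mem
    exact hxy (h hxm)
  have h5 : (M.comap (q.bHom y)).relIndex (M.comap (q.bHom x)) = 2 := by
    rcases (Nat.dvd_prime Nat.prime_two).1 h3 with h | h
    · exact absurd h h4
    · exact h
  rw [h2, h5, hx] at h1
  exact h1.symm

omit [Finite V] in
/-- every element is congruent modulo `PP` to one of `1, x, y, xy` -/
theorem exists_mul_mem_PP (v : V) :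
    ∃ t : V, (t = 1 ∨ t = x ∨ t = y ∨ t = x * y) ∧ t * v ∈ q.PP M x y := by
  have hxyM : q.b y x ∉ M := by rw [q.b_symm]; exact hxy
  by_cases h1 : q.b v x ∈ M <;> by_cases h2 : q.b v y ∈ M
  · exact ⟨1, Or.inl rfl, by rw [one_mul]; exact ⟨h1, h2⟩⟩
  · refine ⟨x, Or.inr (Or.inl rfl), ?_, ?_⟩
    · show q.b (x * v) x ∈ M
      rw [q.hbl, q.b_self, one_mul]; exact h1
    · show q.b (x * v) y ∈ M
      rw [q.hbl, Subgroup.mul_mem_iff_of_index_two hMi]
      exact ⟨fun h => absurd h hxy, fun h => absurd h h2⟩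
  · refine ⟨y, Or.inr (Or.inr (Or.inl rfl)), ?_, ?_⟩
    · show q.b (y * v) x ∈ M
      rw [q.hbl, Subgroup.mul_mem_iff_of_index_two hMi]
      exact ⟨fun h => absurd h hxyM, fun h => absurd h h1⟩
    · show q.b (y * v) y ∈ M
      rw [q.hbl, q.b_self, one_mul]; exact h2
  · refine ⟨x * y, Or.inr (Or.inr (Or.inr rfl)), ?_, ?_⟩
    · show q.b (x * y * v) x ∈ M
      rw [q.hbl, q.hbl, q.b_self, one_mul, Subgroup.mul_mem_iff_of_index_two hMi]
      exact ⟨fun h => absurd h hxyM, fun h => absurd h h1⟩
    · show q.b (x * y * v) y ∈ M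
      rw [q.hbl, q.hbl, q.b_self, mul_one, Subgroup.mul_mem_iff_of_index_two hMi]
      exact ⟨fun h => absurd h hxy, fun h => absurd h h2⟩

omit [Finite V] in
theorem mem_rad_of_mem_PP {z : V} (hz : z ∈ q.PP M x y) (h : ∀ p ∈ q.PP M x y, q.b z p ∈ M) :
    z ∈ q.rad M := by
  intro v
  obtain ⟨t, ht, htv⟩ := q.exists_mul_mem_PP M x y hMi hxy v
  have e : v = t * (t * v) := by rw [← mul_assoc, q.hV, one_mul]
  rw [e, q.hbr]
  refine M.mul_mem ?_ (h _ htv)
  rcases ht with rfl | rfl | rfl | rfl
  · rw [q.b_one_right]; exact M.one_mem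
  · exact hz.1
  · exact hz.2
  · rw [q.hbr]; exact M.mul_mem hz.1 hz.2

end radLemma


section fourW

variable [Finite V] [Finite W] (hW4 : Nat.card W = 4)
include hW4

omit [Finite V] [Finite W] in
theorem index_zpowers {w : W} (hw : w ≠ 1) : (Subgroup.zpowers w).index = 2 := by
  have h1 := Subgroup.card_mul_index (Subgroup.zpowers w)
  rw [card_zpowers_of_sq (q.hW w) hw, hW4] at h1
  omega

omit [Finite V] [CommGroup W] q in
/-- an element of `W` different from two given ones -/
theorem exists_ne_ne (a c : W) : ∃ w : W, w ≠ a ∧ w ≠ c := by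
  by_contra hcon
  have hsub : (Set.univ : Set W) ⊆ {a, c} := by
    intro w _
    by_contra hw
    apply hcon
    refine ⟨w, fun h => hw (by rw [h]; simp), fun h => hw (by rw [h]; simp)⟩
  have h1 : (Set.univ : Set W).ncard ≤ ({a, c} : Set W).ncard :=
    Set.ncard_le_ncard hsub (Set.toFinite _)
  have h2 : ({a, c} : Set W).ncard ≤ 2 := by
    calc ({a, c} : Set W).ncard ≤ ({c} : Set W).ncard + 1 := Set.ncard_insert_le a {c}
      _ = 2 := by rw [Set.ncard_singleton]
  rw [Set.ncard_univ, hW4] at h1
  omega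

/-- the radical modulo a subgroup of order two is proper when `|V| = 16` -/
theorem rad_ne_top (hV16 : Nat.card V = 16) {w : W} (hw : w ≠ 1) :
    q.rad (Subgroup.zpowers w) ≠ ⊤ := by
  intro htop
  set M := Subgroup.zpowers w with hM
  have hMi : M.index = 2 := q.index_zpowers hW4 hw
  have hb : ∀ u v, q.b u v ∈ M := by
    intro u v
    have : u ∈ q.rad M := by rw [htop]; exact Subgroup.mem_top _
    exact this v
  let σ : V →* W ⧸ M := MonoidHom.mk' (fun v => ((q.s v : W) : W ⧸ M)) (by
    intro v v'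
    show ((q.s (v * v') : W) : W ⧸ M) = ((q.s v : W) : W ⧸ M) * ((q.s v' : W) : W ⧸ M)
    rw [q.hs, QuotientGroup.mk_mul, QuotientGroup.mk_mul, (QuotientGroup.eq_one_iff _).2 (hb v v'),
      mul_one])
  have hker : ∀ v, v ∈ σ.ker ↔ q.s v ∈ M := by
    intro v
    rw [MonoidHom.mem_ker]
    exact QuotientGroup.eq_one_iff _
  have h1 : σ.ker.index ≤ 2 := by
    rw [Subgroup.index_ker]
    calc Nat.card σ.range ≤ Nat.card (W ⧸ M) := Nat.card_le_card_of_injective _ Subtype.coe_injective
      _ = 2 := by rw [← Subgroup.index_eq_card, hMi]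
  have h2 := Subgroup.card_mul_index σ.ker
  rw [hV16] at h2
  have h3 : 8 ≤ Nat.card σ.ker := by
    have hpos : 0 < σ.ker.index := Nat.pos_of_ne_zero Subgroup.index_ne_zero_of_finite
    nlinarith
  have hcw : Nat.card σ.ker ≤ Nat.card M ^ 2 := by
    refine card_le_sq_of_anisotropic_mul (V := σ.ker) (W := M)
      (fun v => Subtype.ext (q.hV v)) (fun m => Subtype.ext (q.hW m))
      (fun v => ⟨q.s v, (hker v).1 v.2⟩) (fun u v => ⟨q.b u v, hb u v⟩) ?_ ?_ ?_ ?_
    · intro v v'
      exact Subtype.ext (q.hs v v')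
    · intro u u' v
      exact Subtype.ext (q.hbl u u' v)
    · intro u v v'
      exact Subtype.ext (q.hbr u v v')
    · intro v hv
      exact Subtype.ext (q.aniso v (congrArg Subtype.val hv))
  have hM2 : Nat.card M = 2 := card_zpowers_of_sq (q.hW w) hw
  rw [hM2] at hcw
  omega

end fourW

section cases

variable [Finite V] [Finite W] (hW4 : Nat.card W = 4)
include hW4

/-- when `|V| = 16`, the radical modulo a subgroup of order two is trivial or of order four -/
theorem rad_dichotomy (hV16 : Nat.card V = 16) {w : W} (hw : w ≠ 1) :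
    q.rad (Subgroup.zpowers w) = ⊥ ∨ Nat.card (q.rad (Subgroup.zpowers w)) = 4 := by
  set M := Subgroup.zpowers w with hM
  have hMi : M.index = 2 := q.index_zpowers hW4 hw
  have hne := q.rad_ne_top hW4 hV16 hw
  rw [← hM] at hne
  obtain ⟨x, hx⟩ : ∃ x : V, x ∉ q.rad M := by
    by_contra hcon
    apply hne
    rw [eq_top_iff]
    intro x _
    by_contra hx
    exact hcon ⟨x, hx⟩
  obtain ⟨y, hxy⟩ : ∃ y : V, q.b x y ∉ M := by
    by_contra hcon
    apply hx
    intro v
    by_contra hv
    exact hcon ⟨v, hv⟩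
  set P := q.PP M x y with hP
  have hPi : P.index = 4 := q.index_PP M x y hMi hxy
  have hPc : Nat.card P = 4 := by
    have := Subgroup.card_mul_index P
    rw [hPi, hV16] at this
    omega
  have hle : q.rad M ≤ P := q.rad_le_PP M x y
  by_cases hbot : q.rad M = ⊥
  · exact Or.inl hbot
  · right
    have heq : q.rad M = P := by
      by_contra hneq
      obtain ⟨z, hz1⟩ := (Subgroup.ne_bot_iff_exists_ne_one).1 hbot
      have hz1' : (z : V) ≠ 1 := fun h => hz1 (Subtype.ext h)
      obtain ⟨z', hz'P, hz'⟩ : ∃ z' ∈ P, z' ∉ q.rad M := by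
        by_contra hcon
        apply hneq
        apply le_antisymm hle
        intro p hp
        by_contra hpr
        exact hcon ⟨p, hp, hpr⟩
      apply hz'
      apply q.mem_rad_of_mem_PP M x y hMi hxy hz'P
      -- the subgroup of `P` orthogonal to `z'`
      set K' : Subgroup V := P ⊓ M.comap (q.bHom z') with hK'
      have hzK : (z : V) ∈ K' := ⟨hle z.2, z.2 z'⟩
      have hz'K : z' ∈ K' := ⟨hz'P, by show q.b z' z' ∈ M; rw [q.b_self]; exact M.one_mem⟩
      have hzp : Subgroup.zpowers (z : V) ≤ K' := by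
        rw [Subgroup.zpowers_le]; exact hzK
      have hz'n : z' ∉ Subgroup.zpowers (z : V) := by
        rw [mem_zpowers_of_sq (q.hV z)]
        rintro (h | h)
        · apply hz'; rw [h]; exact Subgroup.one_mem _
        · apply hz'; rw [h]; exact z.2
      have hc2 : Nat.card (Subgroup.zpowers (z : V)) = 2 := card_zpowers_of_sq (q.hV z) hz1'
      have hK'P : K' ≤ P := inf_le_left
      have hd : Nat.card K' ∣ Nat.card P := Subgroup.card_dvd_of_le hK'P
      have hgt : 2 < Nat.card K' := by
        by_contra hle2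
        have : Subgroup.zpowers (z : V) = K' :=
          Subgroup.eq_of_le_of_card_ge hzp (by rw [hc2]; omega)
        exact hz'n (this ▸ hz'K)
      rw [hPc] at hd
      have hK4 : Nat.card K' = 4 := by
        have := Nat.le_of_dvd (by norm_num) hd
        interval_cases (Nat.card K') <;> omega
      have hKP : K' = P := Subgroup.eq_of_le_of_card_ge hK'P (by rw [hK4, hPc])
      intro p hp
      have hp' : p ∈ K' := by rw [hKP]; exact hp
      rw [q.b_symm]
      exact hp'.2
    rw [heq, hPc]

/-- the isometry group is solvable when `|V| = 8` -/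
theorem isSolvable_of_card_eight (hV8 : Nat.card V = 8) : Group.IsSolvable q.isoGroup := by
  -- the polar form is non-trivial
  obtain ⟨x, y, hxy1⟩ : ∃ x y : V, q.b x y ≠ 1 := by
    by_contra hcon
    have hb : ∀ x y, q.b x y = 1 := by
      intro x y
      by_contra h
      exact hcon ⟨x, y, h⟩
    have hinj : Function.Injective q.s := by
      intro v v' hvv
      have h1 : q.s (v * v') = 1 := by rw [q.hs, hb, mul_one, hvv, q.hW]
      have h2 := q.aniso _ h1
      have h3 : v = v'⁻¹ := eq_inv_of_mul_eq_one_left h2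
      rw [h3, q.inv_eqV]
    have := Nat.card_le_card_of_injective q.s hinj
    omega
  obtain ⟨w, hw1, hwb⟩ := exists_ne_ne hW4 (1 : W) (q.b x y)
  set M := Subgroup.zpowers w with hM
  have hMi : M.index = 2 := q.index_zpowers hW4 hw1
  have hxy : q.b x y ∉ M := by
    rw [hM, mem_zpowers_of_sq (q.hW w)]
    rintro (h | h)
    · exact hxy1 h
    · exact hwb h.symm
  set P := q.PP M x y with hP
  have hPi : P.index = 4 := q.index_PP M x y hMi hxy
  have hPc : Nat.card P = 2 := by
    have := Subgroup.card_mul_index P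
    rw [hPi, hV8] at this
    omega
  have heq : q.rad M = P := by
    apply le_antisymm (q.rad_le_PP M x y)
    intro z hz
    by_cases hz1 : z = 1
    · rw [hz1]; exact Subgroup.one_mem _
    · apply q.mem_rad_of_mem_PP M x y hMi hxy hz
      have hzp : Subgroup.zpowers z ≤ P := by rw [Subgroup.zpowers_le]; exact hz
      have hzP : Subgroup.zpowers z = P :=
        Subgroup.eq_of_le_of_card_ge hzp (by rw [card_zpowers_of_sq (q.hV z) hz1, hPc])
      intro p hp
      have hp' : p ∈ Subgroup.zpowers z := by rw [hzP]; exact hp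
      rw [mem_zpowers_of_sq (q.hV z)] at hp'
      rcases hp' with rfl | rfl
      · rw [q.b_one_right]; exact M.one_mem
      · rw [q.b_self]; exact M.one_mem
  apply isSolvable_of_invariant q.isoGroup (q.rad M)
  · intro g hg u hu
    exact q.rad_invariant M hg hu
  · rw [heq, hPc]; norm_num
  · rw [heq, hPi]

end cases

end QD

end Cfsg.Agent.Lib.H10.TI3
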