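import Mathlib
import Cfsg.Agent.Lib.H10.TI3c

/-!
The "spread" case: all three radicals trivial, `|V| = 16`; and the main theorem on the isometry
group of an anisotropic quadratic map into a group of order four (helper10).
-/

set_option autoImplicit false

namespace Cfsg.Agent.Lib.H10.TI3

universe u

theorem card_ne_one_subtype (V : Type*) [Group V] [Finite V] :
    Nat.card {v : V // v ≠ 1} + 1 = Nat.card V := by
  classical
  haveI : Fintype V := Fintype.ofFinite V
  have h := Fintype.card_congr (Equiv.optionSubtypeNe (1 : V))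
  rw [Fintype.card_option] at h
  rw [Nat.card_eq_fintype_card, Nat.card_eq_fintype_card]
  exact h

namespace QD

variable {V W : Type u} [CommGroup V] [CommGroup W] (q : QD V W)
include q

/-- the "line" through `u`: the elements orthogonal to `u` -/
def KK (u : V) : Subgroup V := (q.bHom u).ker

theorem mem_KK (u z : V) : z ∈ q.KK u ↔ q.b z u = 1 := MonoidHom.mem_ker

theorem self_mem_KK (u : V) : u ∈ q.KK u := by rw [mem_KK, q.b_self]

section spread

variable [Finite V] [Finite W] (hW4 : Nat.card W = 4) (hV16 : Nat.card V = 16)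
  (hrad : ∀ w : W, w ≠ 1 → q.rad (Subgroup.zpowers w) = ⊥)
include hW4 hrad

omit [Finite V] in
theorem range_bHom_eq_top {u : V} (hu : u ≠ 1) : (q.bHom u).range = ⊤ := by
  by_contra hne
  set R := (q.bHom u).range with hR
  have key : ∃ w : W, w ≠ 1 ∧ R ≤ Subgroup.zpowers w := by
    by_cases hRb : R = ⊥
    · obtain ⟨w, hw, -⟩ := exists_ne_ne hW4 (1 : W) 1
      exact ⟨w, hw, hRb ▸ bot_le⟩
    · obtain ⟨r, hr1⟩ := (Subgroup.ne_bot_iff_exists_ne_one).1 hRb
      have hr1' : (r : W) ≠ 1 := fun h => hr1 (Subtype.ext h)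
      refine ⟨(r : W), hr1', ?_⟩
      have hle : Subgroup.zpowers (r : W) ≤ R := by rw [Subgroup.zpowers_le]; exact r.2
      have hc2 : Nat.card (Subgroup.zpowers (r : W)) = 2 := card_zpowers_of_sq (q.hW r) hr1'
      have hd : Nat.card R ∣ Nat.card W := Subgroup.card_subgroup_dvd_card R
      have hd2 : Nat.card (Subgroup.zpowers (r : W)) ∣ Nat.card R := Subgroup.card_dvd_of_le hle
      have hne4 : Nat.card R ≠ 4 := by
        intro h
        apply hne
        exact Subgroup.eq_top_of_card_eq R (by rw [h, hW4])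
      rw [hW4] at hd
      rw [hc2] at hd2
      have hR2 : Nat.card R = 2 := by
        have := Nat.le_of_dvd (by norm_num) hd
        interval_cases (Nat.card R) <;> omega
      exact (Subgroup.eq_of_le_of_card_ge hle (by rw [hR2, hc2])).ge
  obtain ⟨w, hw, hRw⟩ := key
  have hmem : u ∈ q.rad (Subgroup.zpowers w) := by
    intro v
    apply hRw
    rw [q.b_symm]
    exact ⟨v, rfl⟩
  rw [hrad w hw, Subgroup.mem_bot] at hmem
  exact hu hmem

include hV16

theorem card_KK {u : V} (hu : u ≠ 1) : Nat.card (q.KK u) = 4 := by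
  have h1 : (q.KK u).index = 4 := by
    unfold KK
    rw [Subgroup.index_ker, q.range_bHom_eq_top hW4 hrad hu, Subgroup.card_top, hW4]
  have h2 := Subgroup.card_mul_index (q.KK u)
  rw [h1, hV16] at h2
  omega

theorem KK_eq {u v : V} (hu : u ≠ 1) (hv : v ∈ q.KK u) (hv1 : v ≠ 1) : q.KK v = q.KK u := by
  by_cases hvu : v = u
  · rw [hvu]
  · set T := q.KK u ⊓ q.KK v with hT
    have huT : u ∈ T :=
      ⟨q.self_mem_KK u, (q.mem_KK v u).2 (by rw [q.b_symm]; exact (q.mem_KK u v).1 hv)⟩
    have hvT : v ∈ T := ⟨hv, q.self_mem_KK v⟩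
    have hzp : Subgroup.zpowers u ≤ T := by rw [Subgroup.zpowers_le]; exact huT
    have hvn : v ∉ Subgroup.zpowers u := by
      rw [mem_zpowers_of_sq (q.hV u)]
      rintro (h | h)
      · exact hv1 h
      · exact hvu h
    have hc2 : Nat.card (Subgroup.zpowers u) = 2 := card_zpowers_of_sq (q.hV u) hu
    have hcu := q.card_KK hW4 hV16 hrad hu
    have hcv := q.card_KK hW4 hV16 hrad hv1
    have hd : Nat.card T ∣ Nat.card (q.KK u) := Subgroup.card_dvd_of_le inf_le_left
    have hgt : 2 < Nat.card T := by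
      by_contra hle2
      have : Subgroup.zpowers u = T := Subgroup.eq_of_le_of_card_ge hzp (by rw [hc2]; omega)
      exact hvn (this ▸ hvT)
    rw [hcu] at hd
    have hT4 : Nat.card T = 4 := by
      have := Nat.le_of_dvd (by norm_num) hd
      interval_cases (Nat.card T) <;> omega
    have e1 : T = q.KK u := Subgroup.eq_of_le_of_card_ge inf_le_left (by rw [hT4, hcu])
    have e2 : T = q.KK v := Subgroup.eq_of_le_of_card_ge inf_le_right (by rw [hT4, hcv])
    rw [← e2, e1]

theorem b_eq_one_of_mem_KK {u x y : V} (hu : u ≠ 1) (hx : x ∈ q.KK u) (hy : y ∈ q.KK u) :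
    q.b x y = 1 := by
  by_cases hx1 : x = 1
  · rw [hx1, q.b_one_left]
  · have h := q.KK_eq hW4 hV16 hrad hu hx hx1
    rw [← h] at hy
    rw [q.b_symm]
    exact (q.mem_KK x y).1 hy

theorem s_inj_on_KK {u x y : V} (hu : u ≠ 1) (hx : x ∈ q.KK u) (hy : y ∈ q.KK u)
    (h : q.s x = q.s y) : x = y := by
  have h1 : q.s (x * y) = 1 := by
    rw [q.hs, q.b_eq_one_of_mem_KK hW4 hV16 hrad hu hx hy, mul_one, h, q.hW]
  have h2 := q.aniso _ h1
  have h3 : x = y⁻¹ := eq_inv_of_mul_eq_one_left h2
  rw [h3, q.inv_eqV]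

theorem fix_KK {g : MulAut V} (hg : g ∈ q.isoGroup) {u : V} (hu : u ≠ 1) (hgu : g u = u) {x : V}
    (hx : x ∈ q.KK u) : g x = x := by
  have h1 : g x ∈ q.KK u := by
    rw [mem_KK]
    have := q.b_map hg x u
    rw [hgu] at this
    rw [this]
    exact (q.mem_KK u x).1 hx
  exact q.s_inj_on_KK hW4 hV16 hrad hu h1 hx (hg x)

/-- an element of `KK u` other than `1` whose `s`-value differs from a given one -/
theorem exists_mem_KK_s_ne {u : V} (hu : u ≠ 1) (w : W) :
    ∃ v ∈ q.KK u, v ≠ 1 ∧ q.s v ≠ w := by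
  have hc := q.card_KK hW4 hV16 hrad hu
  have hzp : Subgroup.zpowers u ≤ q.KK u := by
    rw [Subgroup.zpowers_le]; exact q.self_mem_KK u
  have hc2 : Nat.card (Subgroup.zpowers u) = 2 := card_zpowers_of_sq (q.hV u) hu
  obtain ⟨v, hv, hvn⟩ : ∃ v ∈ q.KK u, v ∉ Subgroup.zpowers u := by
    by_contra hcon
    have hle : q.KK u ≤ Subgroup.zpowers u := by
      intro v hv
      by_contra hvn
      exact hcon ⟨v, hv, hvn⟩
    have := Subgroup.card_le_of_le hle
    omega
  rw [mem_zpowers_of_sq (q.hV u)] at hvn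
  have hv1 : v ≠ 1 := fun h => hvn (Or.inl h)
  have hvu : v ≠ u := fun h => hvn (Or.inr h)
  by_cases h : q.s u = w
  · refine ⟨v, hv, hv1, ?_⟩
    intro h'
    exact hvu (q.s_inj_on_KK hW4 hV16 hrad hu hv (q.self_mem_KK u) (h'.trans h.symm))
  · exact ⟨u, q.self_mem_KK u, hu, h⟩

theorem card_isoGroup_le : Nat.card q.isoGroup ≤ 56 := by
  classical
  -- a non-identity element
  obtain ⟨u0, hu0⟩ : ∃ u0 : V, u0 ≠ 1 := by
    by_contra hcon
    have : ∀ v : V, v = 1 := by
      intro v
      by_contra h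
      exact hcon ⟨v, h⟩
    haveI : Subsingleton V := ⟨fun a c => by rw [this a, this c]⟩
    have := Nat.card_of_subsingleton (1 : V)
    omega
  have hc0 := q.card_KK hW4 hV16 hrad hu0
  obtain ⟨v', hv'⟩ : ∃ v' : V, v' ∉ q.KK u0 := by
    by_contra hcon
    have htop : q.KK u0 = ⊤ := by
      rw [eq_top_iff]
      intro v _
      by_contra h
      exact hcon ⟨v, h⟩
    rw [htop, Subgroup.card_top] at hc0
    omega
  have hv'1 : v' ≠ 1 := fun h => hv' (h ▸ Subgroup.one_mem _)
  obtain ⟨v0, hv0m, hv01, hsne⟩ := q.exists_mem_KK_s_ne hW4 hV16 hrad hv'1 (q.s u0)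
  have hK1 : q.KK v0 = q.KK v' := q.KK_eq hW4 hV16 hrad hv'1 hv0m hv01
  have hc1 := q.card_KK hW4 hV16 hrad hv01
  have hdisj : Disjoint (q.KK u0) (q.KK v0) := by
    rw [Subgroup.disjoint_def]
    intro z hz0 hz1
    by_contra hz
    have e0 := q.KK_eq hW4 hV16 hrad hu0 hz0 hz
    have e1 := q.KK_eq hW4 hV16 hrad hv01 hz1 hz
    apply hv'
    rw [← e0, e1, hK1]
    exact q.self_mem_KK v'
  have hcompl : Subgroup.IsComplement' (q.KK u0) (q.KK v0) :=
    Subgroup.isComplement'_of_card_mul_and_disjoint (by rw [hc0, hc1, hV16]) hdisj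
  have hsup : q.KK u0 ⊔ q.KK v0 = ⊤ := hcompl.sup_eq_top
  -- the injection
  let Φ : q.isoGroup → {v : V // q.s v = q.s u0} × {v : V // q.s v = q.s v0} :=
    fun g => (⟨(g : MulAut V) u0, g.2 u0⟩, ⟨(g : MulAut V) v0, g.2 v0⟩)
  have hΦ : Function.Injective Φ := by
    intro g g' hgg
    have h1 : (g : MulAut V) u0 = (g' : MulAut V) u0 :=
      congrArg (fun p => (p.1 : V)) hgg
    have h2 : (g : MulAut V) v0 = (g' : MulAut V) v0 :=
      congrArg (fun p => (p.2 : V)) hgg
    set h : MulAut V := (g' : MulAut V)⁻¹ * (g : MulAut V) with hh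
    have hhm : h ∈ q.isoGroup := q.isoGroup.mul_mem (q.isoGroup.inv_mem g'.2) g.2
    have hfu : h u0 = u0 := by
      rw [hh, MulAut.mul_apply, h1, MulAut.inv_apply_self]
    have hfv : h v0 = v0 := by
      rw [hh, MulAut.mul_apply, h2, MulAut.inv_apply_self]
    -- the fixed points of `h`
    let F : Subgroup V :=
      { carrier := {v | h v = v}
        one_mem' := map_one h
        mul_mem' := by
          intro a c ha hc
          show h (a * c) = a * c
          rw [map_mul, ha, hc]
        inv_mem' := by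
          intro a ha
          show h a⁻¹ = a⁻¹
          rw [map_inv, ha] }
    have hF0 : q.KK u0 ≤ F := fun x hx => q.fix_KK hW4 hV16 hrad hhm hu0 hfu hx
    have hF1 : q.KK v0 ≤ F := fun x hx => q.fix_KK hW4 hV16 hrad hhm hv01 hfv hx
    have hFtop : F = ⊤ := by
      rw [eq_top_iff, ← hsup]
      exact sup_le hF0 hF1
    have hh1 : h = 1 := by
      ext v
      have : v ∈ F := by rw [hFtop]; exact Subgroup.mem_top v
      exact this
    apply Subtype.ext
    have := inv_mul_eq_one.1 hh1
    exact this.symm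
  have hle := Nat.card_le_card_of_injective Φ hΦ
  rw [Nat.card_prod] at hle
  -- the two fibres are disjoint and avoid `1`
  let Ψ : {v : V // q.s v = q.s u0} ⊕ {v : V // q.s v = q.s v0} → {v : V // v ≠ 1} :=
    fun x => Sum.elim
      (fun a => ⟨a.1, fun h => hu0 (q.aniso u0 (by rw [← a.2, h, q.s_one]))⟩)
      (fun c => ⟨c.1, fun h => hv01 (q.aniso v0 (by rw [← c.2, h, q.s_one]))⟩) x
  have hΨ : Function.Injective Ψ := by
    rintro (a | a) (c | c) hac
    · have : (a : V) = c := congrArg (fun x : {v : V // v ≠ 1} => (x : V)) hac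
      exact congrArg Sum.inl (Subtype.ext this)
    · exfalso
      have : (a : V) = c := congrArg (fun x : {v : V // v ≠ 1} => (x : V)) hac
      apply hsne
      rw [← c.2, ← this, a.2]
    · exfalso
      have : (a : V) = c := congrArg (fun x : {v : V // v ≠ 1} => (x : V)) hac
      apply hsne
      rw [← a.2, this, c.2]
    · have : (a : V) = c := congrArg (fun x : {v : V // v ≠ 1} => (x : V)) hac
      exact congrArg Sum.inr (Subtype.ext this)
  have hsum := Nat.card_le_card_of_injective Ψ hΨ
  rw [Nat.card_sum] at hsum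
  have h15 := card_ne_one_subtype V
  rw [hV16] at h15
  set a := Nat.card {v : V // q.s v = q.s u0} with ha
  set c := Nat.card {v : V // q.s v = q.s v0} with hc
  have hac : a + c ≤ 15 := by omega
  have h4 : 4 * (a * c) ≤ 225 := by nlinarith [sq_nonneg ((a : ℤ) - c), hac]
  omega

end spread

/-- **Theorem O.** The isometry group of an anisotropic quadratic map from a finite group of
exponent two to a group of order four is solvable. -/
theorem isSolvable_isoGroup [Finite V] [Finite W] (hW4 : Nat.card W = 4) :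
    Group.IsSolvable q.isoGroup := by
  have hle : Nat.card V ≤ 16 := by
    have := card_le_sq_of_anisotropic_mul q.hV q.hW q.s q.b q.hs q.hbl q.hbr q.aniso
    rw [hW4] at this
    omega
  have hp : IsPGroup 2 V := by
    intro v
    exact ⟨1, by rw [pow_one, pow_two]; exact q.hV v⟩
  obtain ⟨n, hn⟩ := IsPGroup.iff_card.1 hp
  have hn4 : n ≤ 4 := by
    by_contra h
    have h5 : 5 ≤ n := by omega
    have : 2 ^ 5 ≤ 2 ^ n := Nat.pow_le_pow_right (by norm_num) h5
    omega
  interval_cases n
  · haveI : Group.IsSolvable (MulAut V) := isSolvable_mulAut_of_card_le_four V (by omega)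
    infer_instance
  · haveI : Group.IsSolvable (MulAut V) := isSolvable_mulAut_of_card_le_four V (by omega)
    infer_instance
  · haveI : Group.IsSolvable (MulAut V) := isSolvable_mulAut_of_card_le_four V (by omega)
    infer_instance
  · exact q.isSolvable_of_card_eight hW4 (by omega)
  · have hV16 : Nat.card V = 16 := by omega
    by_cases hex : ∃ w : W, w ≠ 1 ∧ Nat.card (q.rad (Subgroup.zpowers w)) = 4
    · obtain ⟨w, hw, hc⟩ := hex
      apply isSolvable_of_invariant q.isoGroup (q.rad (Subgroup.zpowers w))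
      · intro g hg u hu
        exact q.rad_invariant _ hg hu
      · omega
      · have := Subgroup.card_mul_index (q.rad (Subgroup.zpowers w))
        rw [hc, hV16] at this
        omega
    · have hrad : ∀ w : W, w ≠ 1 → q.rad (Subgroup.zpowers w) = ⊥ := by
        intro w hw
        rcases q.rad_dichotomy hW4 hV16 hw with h | h
        · exact h
        · exact absurd ⟨w, hw, h⟩ hex
      have hcard := q.card_isoGroup_le hW4 hV16 hrad
      haveI : Finite q.isoGroup := Nat.finite_of_card_ne_zero (by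
        have : 0 < Nat.card q.isoGroup := by
          haveI : Finite (MulAut V) := by
            exact Finite.of_injective (fun e : MulAut V => (e.toEquiv : Equiv.Perm V))
              (fun e f hef => MulEquiv.toEquiv_injective hef)
          exact Nat.card_pos
        omega)
      exact solvable_of_card_lt_sixty _ q.isoGroup rfl (by omega)

end QD

end Cfsg.Agent.Lib.H10.TI3
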