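import Mathlib
import Cfsg.Agent.Lib.H10.TI3d
import Cfsg.Agent.Lib.H20.AutPrimeOrder
import Cfsg.Agent.Lib.H26.SzGrpA

/-!
Groups `D` with a central subgroup `E` of order four consisting of all elements of square one and
containing all squares: the automorphism group of `D` is solvable (helper10).
-/

set_option autoImplicit false
set_option linter.style.haveILetI false
set_option linter.unusedSectionVars false

namespace Cfsg.Agent.Lib.H10.TI3

open Cfsg.Agent.Lib.H24.SuzukiTwo (cm)
open Cfsg.Agent.Lib.H26.Sz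

universe u

theorem aux_comm {W : Type*} [CommGroup W] (a c d : W) (ha : a * a = 1) (hc : c * c = 1) :
    a * d * c * a * c = d := by
  calc a * d * c * a * c = d * (a * a) * (c * c) := by ac_rfl
    _ = d := by rw [ha, hc, mul_one, mul_one]

theorem aux_comm2 {W : Type*} [CommGroup W] (p r a : W) (hp : p * p = 1) (hr : r * r = 1) :
    a = p * r * (a * p * r) := by
  calc a = a * (p * p) * (r * r) := by rw [hp, hr, mul_one, mul_one]
    _ = p * r * (a * p * r) := by ac_rfl

section thmD

variable {D : Type u} [Group D] (E : Subgroup D)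

/-- a subgroup consisting of all elements of square one is characteristic -/
theorem characteristic_of_sq (hE : ∀ x : D, x ∈ E ↔ x * x = 1) : E.Characteristic := by
  rw [Subgroup.characteristic_iff_le_comap]
  intro φ x hx
  show φ x ∈ E
  rw [hE] at hx ⊢
  rw [← map_mul, hx, map_one]

theorem sq_mul_eq (x y : D) : (x * y) * (x * y) = x * x * cm x y⁻¹ * (y * y) := by
  unfold cm; group

variable (hEc : E ≤ Subgroup.center D) (hE2 : ∀ e ∈ E, e * e = 1) (hsq : ∀ x : D, x * x ∈ E)

include hsq in
theorem cm_mem (x y : D) : cm x y ∈ E := by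
  have h := sq_mul_eq x y⁻¹
  rw [inv_inv] at h
  have h' : cm x y = (x * x)⁻¹ * ((x * y⁻¹) * (x * y⁻¹)) * (y⁻¹ * y⁻¹)⁻¹ := by
    rw [h]; group
  rw [h']
  exact E.mul_mem (E.mul_mem (E.inv_mem (hsq x)) (hsq _)) (E.inv_mem (hsq _))

/-- `E` is commutative -/
@[reducible] def commE : CommGroup E :=
  { (inferInstance : Group E) with
    mul_comm := fun a b => Subtype.ext (central_comm (hEc a.2) b) }

variable [E.Normal]

/-- `D ⧸ E` is commutative -/
@[reducible] def commQ : CommGroup (D ⧸ E) :=
  { (inferInstance : Group (D ⧸ E)) with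
    mul_comm := by
      intro a b
      induction a using QuotientGroup.induction_on with
      | H x =>
        induction b using QuotientGroup.induction_on with
        | H y =>
          rw [← QuotientGroup.mk_mul, ← QuotientGroup.mk_mul, QuotientGroup.eq]
          have : (x * y)⁻¹ * (y * x) = cm y x := by unfold cm; group
          rw [this]
          exact cm_mem E hsq y x }

/-- the squaring map `D ⧸ E → E` -/
def sQ : D ⧸ E → E := fun v => Quotient.liftOn' v (fun x => (⟨x * x, hsq x⟩ : E)) (by
  intro x y hxy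
  rw [QuotientGroup.leftRel_apply] at hxy
  apply Subtype.ext
  show x * x = y * y
  obtain ⟨e, he, rfl⟩ : ∃ e ∈ E, y = x * e := ⟨x⁻¹ * y, hxy, by group⟩
  symm
  calc x * e * (x * e) = x * (e * x) * e := by group
    _ = x * (x * e) * e := by rw [central_comm (hEc he) x]
    _ = x * x * (e * e) := by group
    _ = x * x := by rw [hE2 e he, mul_one])

theorem sQ_mk (x : D) : sQ E hEc hE2 hsq (x : D ⧸ E) = ⟨x * x, hsq x⟩ := rfl

theorem bQ_mk (x y : D) :
    sQ E hEc hE2 hsq ((x * y : D) : D ⧸ E) * sQ E hEc hE2 hsq (x : D ⧸ E) *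
      sQ E hEc hE2 hsq (y : D ⧸ E) = ⟨cm x y, cm_mem E hsq x y⟩ := by
  have h1 : (⟨(x * y) * (x * y), hsq _⟩ : E) =
      ⟨x * x, hsq x⟩ * ⟨cm x y⁻¹, cm_mem E hsq x y⁻¹⟩ * ⟨y * y, hsq y⟩ :=
    Subtype.ext (sq_mul_eq x y)
  have h2 : (⟨cm x y⁻¹, cm_mem E hsq x y⁻¹⟩ : E) = ⟨cm x y, cm_mem E hsq x y⟩ := by
    apply Subtype.ext
    show cm x y⁻¹ = cm x y
    have e1 : cm x (y * y⁻¹) = cm x y * cm x y⁻¹ :=
      cm_mul_right_of_mem (hEc (cm_mem E hsq x y))
    rw [mul_inv_cancel, cm_one_right] at e1
    have e2 := hE2 _ (cm_mem E hsq x y)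
    calc cm x y⁻¹ = (cm x y)⁻¹ := (inv_eq_of_mul_eq_one_right e1.symm).symm
      _ = cm x y := inv_eq_of_mul_eq_one_right e2
  show (⟨(x * y) * (x * y), hsq _⟩ : E) * ⟨x * x, hsq x⟩ * ⟨y * y, hsq y⟩ = _
  rw [h1, h2]
  exact @aux_comm ↥E (commE E hEc) _ _ _ (Subtype.ext (hE2 _ (hsq x)))
    (Subtype.ext (hE2 _ (hsq y)))

variable (hinv : ∀ x : D, x * x = 1 → x ∈ E)

/-- the quadratic datum attached to `D` and `E` -/
noncomputable def qd : @QD (D ⧸ E) (↥E) (commQ E hsq) (commE E hEc) :=
  letI := commQ E hsq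
  letI := commE E hEc
  { s := sQ E hEc hE2 hsq
    b := fun u v => sQ E hEc hE2 hsq (u * v) * sQ E hEc hE2 hsq u * sQ E hEc hE2 hsq v
    hV := by
      intro v
      induction v using QuotientGroup.induction_on with
      | H x => exact (QuotientGroup.eq_one_iff _).2 (hsq x)
    hW := fun w => Subtype.ext (hE2 w w.2)
    hs := by
      intro v v'
      exact aux_comm2 _ _ _ (Subtype.ext (hE2 _ (sQ E hEc hE2 hsq v).2))
        (Subtype.ext (hE2 _ (sQ E hEc hE2 hsq v').2))
    hbl := by
      intro u u' v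
      induction u using QuotientGroup.induction_on with
      | H x =>
        induction u' using QuotientGroup.induction_on with
        | H x' =>
          induction v using QuotientGroup.induction_on with
          | H y =>
            show sQ E hEc hE2 hsq ((x * x' * y : D) : D ⧸ E) *
                sQ E hEc hE2 hsq ((x * x' : D) : D ⧸ E) * sQ E hEc hE2 hsq (y : D ⧸ E) =
              sQ E hEc hE2 hsq ((x * y : D) : D ⧸ E) * sQ E hEc hE2 hsq (x : D ⧸ E) *
                sQ E hEc hE2 hsq (y : D ⧸ E) *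
              (sQ E hEc hE2 hsq ((x' * y : D) : D ⧸ E) * sQ E hEc hE2 hsq (x' : D ⧸ E) *
                sQ E hEc hE2 hsq (y : D ⧸ E))
            rw [bQ_mk, bQ_mk, bQ_mk]
            exact Subtype.ext (cm_mul_left_of_mem (hEc (cm_mem E hsq x y)))
    hbr := by
      intro u v v'
      induction u using QuotientGroup.induction_on with
      | H x =>
        induction v using QuotientGroup.induction_on with
        | H y =>
          induction v' using QuotientGroup.induction_on with
          | H y' =>
            show sQ E hEc hE2 hsq ((x * (y * y') : D) : D ⧸ E) *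
                sQ E hEc hE2 hsq (x : D ⧸ E) * sQ E hEc hE2 hsq ((y * y' : D) : D ⧸ E) =
              sQ E hEc hE2 hsq ((x * y : D) : D ⧸ E) * sQ E hEc hE2 hsq (x : D ⧸ E) *
                sQ E hEc hE2 hsq (y : D ⧸ E) *
              (sQ E hEc hE2 hsq ((x * y' : D) : D ⧸ E) * sQ E hEc hE2 hsq (x : D ⧸ E) *
                sQ E hEc hE2 hsq (y' : D ⧸ E))
            rw [bQ_mk, bQ_mk, bQ_mk]
            exact Subtype.ext (cm_mul_right_of_mem (hEc (cm_mem E hsq x y)))
    aniso := by
      intro v hv
      induction v using QuotientGroup.induction_on with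
      | H x =>
        have h1 : x * x = 1 := congrArg Subtype.val hv
        exact (QuotientGroup.eq_one_iff _).2 (hinv x h1) }

end thmD

section thmD2

variable {D : Type u} [Group D] [Finite D] (E : Subgroup D)

/-- **Theorem D.** If `E` is a central subgroup of order four of the finite group `D` consisting
of all elements of square one and containing all squares, then `MulAut D` is solvable. -/
theorem isSolvable_mulAut_of_central_four (hE : ∀ x : D, x ∈ E ↔ x * x = 1)
    (hEc : E ≤ Subgroup.center D) (hE4 : Nat.card E = 4) (hsq : ∀ x : D, x * x ∈ E) :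
    Group.IsSolvable (MulAut D) := by
  have hE2 : ∀ e ∈ E, e * e = 1 := fun e he => (hE e).1 he
  have hinv : ∀ x : D, x * x = 1 → x ∈ E := fun x hx => (hE x).2 hx
  haveI hchar : E.Characteristic := characteristic_of_sq E hE
  letI cV : CommGroup (D ⧸ E) := commQ E hsq
  letI cW : CommGroup E := commE E hEc
  let q : QD (D ⧸ E) E := qd E hEc hE2 hsq hinv
  haveI hO : Group.IsSolvable q.isoGroup := q.isSolvable_isoGroup hE4
  haveI hME : Group.IsSolvable (MulAut E) := isSolvable_mulAut_of_card_le_four _ (by omega)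
  let ρE : MulAut D →* MulAut E := MulAut.characteristic E
  let ρV : MulAut D →* MulAut (D ⧸ E) := Cfsg.Agent.Lib.H20.quotAutHom E
  have hA : ∀ α : MulAut D, α ∈ ρE.ker → ∀ e ∈ E, α e = e := by
    intro α hα e he
    have h1 : ρE α = 1 := MonoidHom.mem_ker.1 hα
    have h2 : ((ρE α) ⟨e, he⟩ : D) = α e := rfl
    rw [h1] at h2
    exact h2.symm
  have hiso : ∀ α : MulAut D, α ∈ ρE.ker → ρV α ∈ q.isoGroup := by
    intro α hα v
    induction v using QuotientGroup.induction_on with
    | H x =>
      show sQ E hEc hE2 hsq ((α x : D) : D ⧸ E) = sQ E hEc hE2 hsq (x : D ⧸ E)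
      apply Subtype.ext
      show α x * α x = x * x
      rw [← map_mul]
      exact hA α hα _ (hsq x)
  let g' : ρE.ker →* q.isoGroup :=
    (ρV.comp ρE.ker.subtype).codRestrict q.isoGroup (fun α => hiso α.1 α.2)
  have hker : ∀ α : ρE.ker, α ∈ g'.ker → ∀ x : D, x⁻¹ * (α : MulAut D) x ∈ E := by
    intro α hα x
    have h1 : g' α = 1 := MonoidHom.mem_ker.1 hα
    have h2 : ρV (α : MulAut D) = 1 := congrArg Subtype.val h1
    have h3 : ρV (α : MulAut D) (x : D ⧸ E) = (((α : MulAut D) x : D) : D ⧸ E) := rfl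
    rw [h2] at h3
    exact QuotientGroup.eq.1 h3
  haveI : Group.IsSolvable g'.ker := by
    apply Group.isSolvable_of_comm
    intro a b
    apply Subtype.ext
    apply Subtype.ext
    ext x
    show (a.1.1) ((b.1.1) x) = (b.1.1) ((a.1.1) x)
    have ha := hker a.1 a.2 x
    have hb := hker b.1 b.2 x
    have hfa := hA a.1.1 a.1.2
    have hfb := hA b.1.1 b.1.2
    generalize (a.1.1 : MulAut D) = α at ha hfa ⊢
    generalize (b.1.1 : MulAut D) = β at hb hfb ⊢
    have e1 : β x = x * (x⁻¹ * β x) := by group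
    have e2 : α x = x * (x⁻¹ * α x) := by group
    have e3 : α (β x) = α x * (x⁻¹ * β x) := by
      conv_lhs => rw [e1, map_mul, hfa _ hb]
    have e4 : β (α x) = β x * (x⁻¹ * α x) := by
      conv_lhs => rw [e2, map_mul, hfb _ ha]
    rw [e3, e4]
    calc α x * (x⁻¹ * β x) = x * ((x⁻¹ * α x) * (x⁻¹ * β x)) := by group
      _ = x * ((x⁻¹ * β x) * (x⁻¹ * α x)) := by rw [central_comm (hEc ha)]
      _ = β x * (x⁻¹ * α x) := by group
  haveI : Group.IsSolvable ρE.ker :=
    Group.isSolvable_of_ker_le_range g'.ker.subtype g' (by simp)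
  exact Group.isSolvable_of_ker_le_range ρE.ker.subtype ρE (by simp)

end thmD2

end Cfsg.Agent.Lib.H10.TI3
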