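import Mathlib
import Cfsg.Agent.Lib.H10.TI3e
import Cfsg.Agent.Lib.H26.SmallExponent
import Cfsg.Agent.Lib.H1.PGroupBasic
import Cfsg.Agent.S0093
import Cfsg.Agent.S0120
import Cfsg.Agent.S0121

/-!
A finite 2-group with exactly three involutions has a solvable automorphism group (helper10):
reduction to the group of Theorem D.
-/

set_option autoImplicit false
set_option linter.style.haveILetI false
set_option linter.unusedSectionVars false

namespace Cfsg.Agent.Lib.H10.TI3

open Cfsg.Agent.Lib.H24.SuzukiTwo (cm)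
open Cfsg.Agent.Lib.H26.Sz

universe u

theorem exists_eq_of_card_three {α : Type*} (h : Nat.card α = 3) (a b c d : α) :
    a = b ∨ a = c ∨ a = d ∨ b = c ∨ b = d ∨ c = d := by
  classical
  by_contra hcon
  simp only [not_or] at hcon
  obtain ⟨h1, h2, h3, h4, h5, h6⟩ := hcon
  haveI : Finite α := Nat.finite_of_card_ne_zero (by omega)
  haveI : Fintype α := Fintype.ofFinite α
  have hcard : ({a, b, c, d} : Finset α).card = 4 := by
    rw [Finset.card_insert_of_notMem, Finset.card_insert_of_notMem,
      Finset.card_insert_of_notMem, Finset.card_singleton]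
    all_goals simp [*]
  have := Finset.card_le_univ ({a, b, c, d} : Finset α)
  rw [hcard, ← Nat.card_eq_fintype_card, h] at this
  omega

/-- **Lemma R.** If every automorphism of odd order of `X` acting trivially on the characteristic
subgroup `K` is trivial and `MulAut K` is solvable, then `MulAut X` is solvable. -/
theorem isSolvable_mulAut_of_faithful {X : Type u} [Group X] [Finite X] (K : Subgroup X)
    [K.Characteristic]
    (hfaith : ∀ α : MulAut X, (orderOf α).Coprime 2 → (∀ x ∈ K, α x = x) → α = 1)
    (hK : Group.IsSolvable (MulAut K)) : Group.IsSolvable (MulAut X) := by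
  haveI : Fact (Nat.Prime 2) := ⟨Nat.prime_two⟩
  set r : MulAut X →* MulAut K := MulAut.characteristic K with hr
  have hfix : ∀ α : MulAut X, α ∈ r.ker → ∀ x ∈ K, α x = x := by
    intro α hα x hx
    have h1 : r α = 1 := MonoidHom.mem_ker.1 hα
    have h2 : ((r α) ⟨x, hx⟩ : X) = α x := rfl
    rw [h1] at h2
    exact h2.symm
  have hp : IsPGroup 2 r.ker := by
    intro α
    obtain ⟨k, m, hm, hkm⟩ := Nat.exists_eq_two_pow_mul_odd (orderOf_pos (α : MulAut X)).ne'
    refine ⟨k, ?_⟩
    apply Subtype.ext
    show ((α : MulAut X)) ^ 2 ^ k = 1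
    apply hfaith
    · rw [orderOf_pow_of_dvd (by positivity) ⟨m, hkm⟩, hkm,
        Nat.mul_div_cancel_left _ (by positivity)]
      exact Nat.coprime_two_right.2 hm
    · intro x hx
      have : ((α : MulAut X)) ^ 2 ^ k ∈ r.ker := r.ker.pow_mem α.2 _
      exact hfix _ this x hx
  haveI : Group.IsNilpotent r.ker := hp.isNilpotent
  haveI : Group.IsSolvable r.ker := inferInstance
  exact Group.isSolvable_of_ker_le_range r.ker.subtype r (by simp)

/-- **Lemma K'.** An automorphism of odd order of a 2-group acting trivially on a normal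
subgroup containing its centralizer is trivial. -/
theorem eq_one_of_fix_selfCentralizing {X : Type*} [Group X] (h2 : IsPGroup 2 X)
    (Y : Subgroup X) [hY : Y.Normal] (hC : Subgroup.centralizer (Y : Set X) ≤ Y) (α : MulAut X)
    (hα : (orderOf α).Coprime 2) (hfix : ∀ y ∈ Y, α y = y) : α = 1 := by
  haveI : Fact (Nat.Prime 2) := ⟨Nat.prime_two⟩
  apply Cfsg.Agent.S0120.eq_one_of_fixes_comm h2 α hα
  intro g
  apply hfix
  apply hC
  rw [Subgroup.mem_centralizer_iff]
  intro y hy
  have h1 : g * y * g⁻¹ ∈ Y := hY.conj_mem y hy g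
  have h2' : α (g * y * g⁻¹) = g * y * g⁻¹ := hfix _ h1
  rw [map_mul, map_mul, hfix y hy, map_inv] at h2'
  calc y * (g⁻¹ * α g) = g⁻¹ * (g * y * g⁻¹) * α g := by group
    _ = g⁻¹ * (α g * y * (α g)⁻¹) * α g := by rw [h2']
    _ = g⁻¹ * α g * y := by group

/-- in a group with central squares and central commutators, fourth powers are multiplicative -/
theorem pow_four_mul {P : Type*} [Group P] (hsqc : ∀ y : P, y * y ∈ Subgroup.center P)
    (hcc : ∀ x y : P, cm x y ∈ Subgroup.center P) (x y : P) : (x * y) ^ 4 = x ^ 4 * y ^ 4 := by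
  set a : Subgroup.center P := ⟨x * x, hsqc x⟩ with ha
  set b : Subgroup.center P := ⟨y * y, hsqc y⟩ with hb
  set c : Subgroup.center P := ⟨cm x y⁻¹, hcc x y⁻¹⟩ with hc
  have hc2 : c * c = 1 := by
    apply Subtype.ext
    show cm x y⁻¹ * cm x y⁻¹ = 1
    rw [← cm_mul_left_of_mem (hcc x y⁻¹), cm_central_left (hsqc x)]
  have h1 : (x * y) * (x * y) = ((a * c * b : Subgroup.center P) : P) := sq_mul_eq x y
  have h2 : (a * c * b) * (a * c * b) = a * a * (b * b) := by
    calc (a * c * b) * (a * c * b) = a * a * (b * b) * (c * c) := by ac_rfl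
      _ = a * a * (b * b) := by rw [hc2, mul_one]
  calc (x * y) ^ 4 = ((x * y) * (x * y)) * ((x * y) * (x * y)) := by
        rw [show (4 : ℕ) = 2 + 2 from rfl, pow_add, pow_two]
    _ = (((a * c * b) * (a * c * b) : Subgroup.center P) : P) := by rw [h1]; rfl
    _ = ((a * a * (b * b) : Subgroup.center P) : P) := by rw [h2]
    _ = x ^ 4 * y ^ 4 := by
      show (x * x) * (x * x) * ((y * y) * (y * y)) = _
      rw [show (4 : ℕ) = 2 + 2 from rfl, pow_add, pow_add, pow_two, pow_two]

/-- the elements of `H` of order dividing four, when fourth powers are multiplicative on `H` -/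
def omegaTwo {X : Type*} [Group X] (H : Subgroup X)
    (hmul : ∀ x ∈ H, ∀ y ∈ H, (x * y) ^ 4 = x ^ 4 * y ^ 4) : Subgroup X where
  carrier := {x | x ∈ H ∧ x ^ 4 = 1}
  one_mem' := ⟨H.one_mem, one_pow 4⟩
  mul_mem' := by
    rintro x y ⟨hx, hx4⟩ ⟨hy, hy4⟩
    refine ⟨H.mul_mem hx hy, ?_⟩
    rw [hmul x hx y hy, hx4, hy4, mul_one]
  inv_mem' := by
    rintro x ⟨hx, hx4⟩
    exact ⟨H.inv_mem hx, by rw [inv_pow, hx4, inv_one]⟩

theorem mem_omegaTwo {X : Type*} [Group X] (H : Subgroup X)
    (hmul : ∀ x ∈ H, ∀ y ∈ H, (x * y) ^ 4 = x ^ 4 * y ^ 4) (x : X) :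
    x ∈ omegaTwo H hmul ↔ x ∈ H ∧ x ^ 4 = 1 := Iff.rfl

theorem omegaTwo_characteristic {X : Type*} [Group X] (H : Subgroup X) [hH : H.Characteristic]
    (hmul : ∀ x ∈ H, ∀ y ∈ H, (x * y) ^ 4 = x ^ 4 * y ^ 4) :
    (omegaTwo H hmul).Characteristic := by
  rw [Subgroup.characteristic_iff_le_comap]
  intro φ x hx
  show φ x ∈ omegaTwo H hmul
  rw [mem_omegaTwo] at hx ⊢
  refine ⟨?_, by rw [← map_pow, hx.2, map_one]⟩
  have := Subgroup.characteristic_iff_le_comap.1 hH φ hx.1
  exact this

/-- **Stage B.** A finite 2-group whose elements of square one form a central subgroup of order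
four has a solvable automorphism group. -/
theorem isSolvable_mulAut_of_central {X : Type u} [Group X] [Finite X] (h2 : IsPGroup 2 X)
    (E : Subgroup X) (hE : ∀ x, x ∈ E ↔ x * x = 1) (hE4 : Nat.card E = 4)
    (hEc : E ≤ Subgroup.center X) : Group.IsSolvable (MulAut X) := by
  haveI : Fact (Nat.Prime 2) := ⟨Nat.prime_two⟩
  obtain ⟨H, hHc, h1, h2', h3⟩ := Cfsg.Agent.S0093.result h2
  haveI := hHc
  have hHP : IsPGroup 2 H := h2.to_subgroup H
  have hEH : E ≤ H := fun e he => h3 (Subgroup.center_le_centralizer _ (hEc he))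
  -- Frattini elements of `H` are central in `H`
  have hfr : ∀ c : H, c ∈ frattini H → c ∈ Subgroup.center H := by
    intro c hc
    rw [Subgroup.mem_center_iff]
    intro z
    have hc' : (c : X) ∈ (frattini H).map H.subtype := ⟨c, hc, rfl⟩
    have := Subgroup.mem_centralizer_iff.mp (h1 hc') (z : X) z.2
    exact Subtype.ext this
  have hsqc : ∀ y : H, y * y ∈ Subgroup.center H := by
    intro y
    have := Cfsg.Agent.Lib.H1.isPGroup_pow_mem_frattini hHP y
    rw [pow_two] at this
    exact hfr _ this
  have hcc : ∀ x y : H, cm x y ∈ Subgroup.center H := by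
    intro x y
    apply hfr
    apply Cfsg.Agent.Lib.H1.isPGroup_commutator_le_frattini hHP
    rw [cm_eq_commutatorElement]
    exact Subgroup.commutator_mem_commutator (Subgroup.mem_top _) (Subgroup.mem_top _)
  have hmul : ∀ x ∈ H, ∀ y ∈ H, (x * y) ^ 4 = x ^ 4 * y ^ 4 := by
    intro x hx y hy
    have := pow_four_mul hsqc hcc ⟨x, hx⟩ ⟨y, hy⟩
    have h' := congrArg Subtype.val this
    simpa using h'
  set D := omegaTwo H hmul with hD
  haveI hDc : D.Characteristic := omegaTwo_characteristic H hmul
  have hED : E ≤ D := by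
    intro e he
    refine ⟨hEH he, ?_⟩
    rw [show (4 : ℕ) = 2 + 2 from rfl, pow_add, pow_two, (hE e).1 he, mul_one]
  apply isSolvable_mulAut_of_faithful D
  · -- faithfulness
    intro α hα hfix
    apply Cfsg.Agent.S0121.result h2 H hHc h1 h2' h3 α hα
    have hβ : (orderOf (MulAut.characteristic H α)).Coprime 2 :=
      Nat.Coprime.coprime_dvd_left (orderOf_map_dvd _ α) hα
    have h5 : MulAut.characteristic H α = 1 := by
      apply Cfsg.Agent.Lib.H26.aut_eq_one_of_fix_small hHP _ hβ
      intro x hx
      apply Subtype.ext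
      show α (x : X) = x
      apply hfix
      refine ⟨x.2, ?_⟩
      rcases hx with hx | ⟨-, hx⟩
      · have h6 : ((x : X)) ^ 2 = 1 := by
          have := congrArg Subtype.val hx
          simpa using this
        rw [show (4 : ℕ) = 2 + 2 from rfl, pow_add, h6, mul_one]
      · have := congrArg Subtype.val hx
        simpa using this
    intro x hx
    have h6 : ((MulAut.characteristic H α ⟨x, hx⟩ : H) : X) = α x := rfl
    rw [h5] at h6
    exact h6.symm
  · -- Theorem D
    apply isSolvable_mulAut_of_central_four (E.subgroupOf D)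
    · intro x
      rw [Subgroup.mem_subgroupOf, hE]
      constructor
      · intro h; exact Subtype.ext h
      · intro h; exact congrArg Subtype.val h
    · intro e he
      rw [Subgroup.mem_center_iff]
      intro z
      have he' : (e : X) ∈ E := Subgroup.mem_subgroupOf.1 he
      have := Subgroup.mem_center_iff.1 (hEc he') (z : X)
      exact Subtype.ext this
    · rw [Nat.card_congr (Subgroup.subgroupOfEquivOfLe hED).toEquiv, hE4]
    · intro x
      rw [Subgroup.mem_subgroupOf, hE]
      show (x : X) * x * (x * x) = 1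
      have := x.2.2
      rw [show (4 : ℕ) = 2 + 2 from rfl, pow_add, pow_two] at this
      exact this

/-- in a 2-group with exactly three involutions, any two elements of square one commute -/
theorem comm_of_sq_one {X : Type*} [Group X] (h2 : IsPGroup 2 X)
    (h3 : Nat.card {x : X // orderOf x = 2} = 3) {a b : X} (ha : a * a = 1) (hb : b * b = 1) :
    a * b = b * a := by
  by_contra hab
  have ha1 : a ≠ 1 := by rintro rfl; exact hab (by rw [one_mul, mul_one])
  have hb1 : b ≠ 1 := by rintro rfl; exact hab (by rw [one_mul, mul_one])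
  have hinva : a⁻¹ = a := inv_eq_of_mul_eq_one_left ha
  have hinvb : b⁻¹ = b := inv_eq_of_mul_eq_one_left hb
  have ho : ∀ x : X, x * x = 1 → x ≠ 1 → orderOf x = 2 := fun x hx hx1 =>
    orderOf_eq_prime (by rw [pow_two]; exact hx) hx1
  have hc : (a * b * a) * (a * b * a) = 1 := by
    calc (a * b * a) * (a * b * a) = a * b * (a * a) * b * a := by group
      _ = a * (b * b) * a := by rw [ha]; group
      _ = 1 := by rw [hb, mul_one, ha]
  have hd : (b * a * b) * (b * a * b) = 1 := by
    calc (b * a * b) * (b * a * b) = b * a * (b * b) * a * b := by group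
      _ = b * (a * a) * b := by rw [hb]; group
      _ = 1 := by rw [ha, mul_one, hb]
  have hc1 : a * b * a ≠ 1 := by
    intro h
    apply hb1
    calc b = a⁻¹ * (a * b * a) * a⁻¹ := by group
      _ = 1 := by rw [h, mul_one, hinva, ha]
  have hd1 : b * a * b ≠ 1 := by
    intro h
    apply ha1
    calc a = b⁻¹ * (b * a * b) * b⁻¹ := by group
      _ = 1 := by rw [h, mul_one, hinvb, hb]
  rcases exists_eq_of_card_three h3 (⟨a, ho a ha ha1⟩ : {x : X // orderOf x = 2})
    ⟨b, ho b hb hb1⟩ ⟨a * b * a, ho _ hc hc1⟩ ⟨b * a * b, ho _ hd hd1⟩ with h | h | h | h | h | h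
  · have h' : a = b := congrArg Subtype.val h
    exact hab (by rw [h'])
  · have h' : a = a * b * a := congrArg Subtype.val h
    have hba : b = a := by
      calc b = a⁻¹ * (a * b * a) * a⁻¹ := by group
        _ = a⁻¹ * a * a⁻¹ := by rw [← h']
        _ = a := by rw [inv_mul_cancel, one_mul, hinva]
    exact hab (by rw [hba])
  · have h' : a = b * a * b := congrArg Subtype.val h
    apply hab
    calc a * b = b * a * b * b := by rw [← h']
      _ = b * a := by rw [mul_assoc, hb, mul_one]
  · have h' : b = a * b * a := congrArg Subtype.val h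
    apply hab
    calc a * b = a * b * (a * a) := by rw [ha, mul_one]
      _ = a * b * a * a := by group
      _ = b * a := by rw [← h']
  · have h' : b = b * a * b := congrArg Subtype.val h
    have hab' : a = b := by
      calc a = b⁻¹ * (b * a * b) * b⁻¹ := by group
        _ = b⁻¹ * b * b⁻¹ := by rw [← h']
        _ = b := by rw [inv_mul_cancel, one_mul, hinvb]
    exact hab (by rw [hab'])
  · have h' : a * b * a = b * a * b := congrArg Subtype.val h
    have h3' : (a * b) ^ 3 = 1 := by
      calc (a * b) ^ 3 = (a * b * a) * (b * a * b) := by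
            rw [show (3 : ℕ) = 2 + 1 from rfl, pow_add, pow_two, pow_one]; group
        _ = (b * a * b) * (b * a * b) := by rw [h']
        _ = 1 := hd
    obtain ⟨k, hk⟩ := h2 (a * b)
    have hd3 : orderOf (a * b) ∣ 3 := orderOf_dvd_of_pow_eq_one h3'
    have hd2 : orderOf (a * b) ∣ 2 ^ k := orderOf_dvd_of_pow_eq_one hk
    have hcop : Nat.Coprime 3 (2 ^ k) := Nat.Coprime.pow_right k (by norm_num)
    have h1 : orderOf (a * b) ∣ Nat.gcd 3 (2 ^ k) := Nat.dvd_gcd hd3 hd2
    rw [hcop.gcd_eq_one, Nat.dvd_one, orderOf_eq_one_iff] at h1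
    have hba : b = a := by
      calc b = a⁻¹ * (a * b) := by group
        _ = a := by rw [h1, mul_one, hinva]
    exact hab (by rw [hba])

/-- the elements of square one, when they commute -/
def sqOne {X : Type*} [Group X]
    (hcomm : ∀ a b : X, a * a = 1 → b * b = 1 → a * b = b * a) : Subgroup X where
  carrier := {x | x * x = 1}
  one_mem' := mul_one 1
  mul_mem' := by
    intro a b ha hb
    have ha' : a * a = 1 := ha
    have hb' : b * b = 1 := hb
    show a * b * (a * b) = 1
    calc a * b * (a * b) = a * (b * a) * b := by group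
      _ = a * (a * b) * b := by rw [hcomm b a hb' ha']
      _ = (a * a) * (b * b) := by group
      _ = 1 := by rw [ha', hb', mul_one]
  inv_mem' := by
    intro a ha
    have ha' : a * a = 1 := ha
    show a⁻¹ * a⁻¹ = 1
    rw [← mul_inv_rev, ha', inv_one]

theorem mem_sqOne {X : Type*} [Group X]
    (hcomm : ∀ a b : X, a * a = 1 → b * b = 1 → a * b = b * a) (x : X) :
    x ∈ sqOne hcomm ↔ x * x = 1 := Iff.rfl

theorem card_sqOne {X : Type*} [Group X] [Finite X]
    (hcomm : ∀ a b : X, a * a = 1 → b * b = 1 → a * b = b * a)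
    (h3 : Nat.card {x : X // orderOf x = 2} = 3) : Nat.card (sqOne hcomm) = 4 := by
  have e : {v : sqOne hcomm // v ≠ 1} ≃ {x : X // orderOf x = 2} :=
    { toFun := fun v => ⟨v.1.1, orderOf_eq_prime (by rw [pow_two]; exact v.1.2)
        (fun h => v.2 (Subtype.ext h))⟩
      invFun := fun x => ⟨⟨x.1, by
          show x.1 * x.1 = 1
          have := pow_orderOf_eq_one x.1
          rw [x.2, pow_two] at this
          exact this⟩, by
          intro h
          have h1 : x.1 = 1 := congrArg Subtype.val h
          have h2 := x.2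
          rw [h1, orderOf_one] at h2
          omega⟩
      left_inv := fun v => rfl
      right_inv := fun x => rfl }
  have := card_ne_one_subtype (sqOne hcomm)
  rw [Nat.card_congr e, h3] at this
  omega

/-- **A finite 2-group with exactly three involutions has a solvable automorphism group.** -/
theorem isSolvable_mulAut_of_three_involutions {X : Type u} [Group X] [Finite X]
    (h2 : IsPGroup 2 X) (h3 : Nat.card {x : X // orderOf x = 2} = 3) :
    Group.IsSolvable (MulAut X) := by
  have hcomm : ∀ a b : X, a * a = 1 → b * b = 1 → a * b = b * a :=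
    fun a b ha hb => comm_of_sq_one h2 h3 ha hb
  set E := sqOne hcomm with hEdef
  have hE : ∀ x, x ∈ E ↔ x * x = 1 := fun x => Iff.rfl
  have hE4 : Nat.card E = 4 := card_sqOne hcomm h3
  haveI hEchar : E.Characteristic := characteristic_of_sq E hE
  set X0 := Subgroup.centralizer (E : Set X) with hX0
  haveI hX0c : X0.Characteristic := Subgroup.characteristic_centralizer
  have hEX0 : E ≤ X0 := by
    intro e he
    rw [Subgroup.mem_centralizer_iff]
    intro f hf
    exact hcomm f e hf he
  apply isSolvable_mulAut_of_faithful X0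
  · intro α hα hfix
    apply eq_one_of_fix_selfCentralizing h2 X0 _ α hα hfix
    intro x hx
    rw [Subgroup.mem_centralizer_iff] at hx ⊢
    intro e he
    exact hx e (hEX0 he)
  · apply isSolvable_mulAut_of_central (h2.to_subgroup X0) (E.subgroupOf X0)
    · intro x
      rw [Subgroup.mem_subgroupOf, hE]
      constructor
      · intro h; exact Subtype.ext h
      · intro h; exact congrArg Subtype.val h
    · rw [Nat.card_congr (Subgroup.subgroupOfEquivOfLe hEX0).toEquiv, hE4]
    · intro e he
      rw [Subgroup.mem_center_iff]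
      intro z
      have he' : (e : X) ∈ E := Subgroup.mem_subgroupOf.1 he
      have := Subgroup.mem_centralizer_iff.1 z.2 (e : X) he'
      exact Subtype.ext this.symm

end Cfsg.Agent.Lib.H10.TI3
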