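import Mathlib
import Cfsg.Prelude.Def_SporadicB
import Cfsg.Agent.Lib.H26.ThreeTransCore
import Cfsg.Agent.Lib.H7.CoprimeGen

set_option autoImplicit false

/-!
3-transposition groups (helper10): the key local lemma.  If `a` is a 3-transposition inverting an
element `x` of order 3, then `a` centralizes the centralizer of `x` in every `a`-invariant
2-subgroup (otherwise a product of two transpositions would have order 6).  Consequence: a
non-cyclic elementary abelian 3-group inverted by `a` forces `a` to centralize every normal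
2-subgroup.
-/

namespace Cfsg.Agent.Lib.H10.TT3

open Cfsg Cfsg.Agent.Lib.H26.ThreeTrans

variable {G : Type*} [Group G] {E : Set G}

/-- **Lemma A.** -/
theorem lemmaA (hE : IsThreeTranspositionSet E) (hconj : ∀ g : G, ∀ e ∈ E, g * e * g⁻¹ ∈ E)
    {X : Subgroup G} (hX : IsPGroup 2 X) {a x u : G} (ha : a ∈ E)
    (haX : ∀ v ∈ X, a * v * a⁻¹ ∈ X) (hx3 : x ^ 3 = 1) (hx1 : x ≠ 1)
    (hax : a * x * a⁻¹ = x⁻¹) (hu : u ∈ X) (hux : u * x = x * u) : a * u = u * a := by
  have ha2 : a * a = 1 := sq_eq_one hE ha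
  have hainv : a⁻¹ = a := inv_eq hE ha
  set e := u⁻¹ * a * u with he
  have heE : e ∈ E := by
    have := hconj u⁻¹ a ha
    rwa [inv_inv] at this
  set w := a * e with hw
  have hwX : w ∈ X := by
    have h1 : a * u⁻¹ * a⁻¹ ∈ X := haX _ (X.inv_mem hu)
    have : w = (a * u⁻¹ * a⁻¹) * u := by rw [hw, he, hainv]; group
    rw [this]; exact X.mul_mem h1 hu
  have hw2 : w ^ 2 = 1 := by
    rcases hE.2 a ha e heE with h | h
    · exact h
    · obtain ⟨k, hk⟩ := hX ⟨w, hwX⟩
      have hk' : w ^ 2 ^ k = 1 := by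
        have := congrArg Subtype.val hk
        simpa using this
      have : w = 1 := eq_one_of_two_pow_of_cube hk' h
      rw [this, one_pow]
  -- `a x = x⁻¹ a` and `a x⁻¹ = x a`
  have h1 : a * x = x⁻¹ * a := by
    have := congrArg (· * a) hax
    simpa [hainv, mul_assoc, ha2] using this
  have h2 : a * x⁻¹ = x * a := by
    have h3 : a * x⁻¹ * a⁻¹ = x := by
      have : a * x⁻¹ * a⁻¹ = (a * x * a⁻¹)⁻¹ := by group
      rw [this, hax, inv_inv]
    have := congrArg (· * a) h3
    simpa [hainv, mul_assoc, ha2] using this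
  have h3 : u⁻¹ * x⁻¹ = x⁻¹ * u⁻¹ := by
    have : (x * u)⁻¹ = (u * x)⁻¹ := by rw [hux]
    simpa [mul_inv_rev] using this
  have hwx : w * x = x * w := by
    have e1 : w = a * u⁻¹ * a * u := by rw [hw, he]; group
    calc w * x = a * u⁻¹ * a * (u * x) := by rw [e1]; group
      _ = a * u⁻¹ * (a * x) * u := by rw [hux]; group
      _ = a * (u⁻¹ * x⁻¹) * a * u := by rw [h1]; group
      _ = (a * x⁻¹) * u⁻¹ * a * u := by rw [h3]; group
      _ = x * (a * u⁻¹ * a * u) := by rw [h2]; group
      _ = x * w := by rw [e1]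
  have hc : Commute x w := hwx.symm
  set f := x⁻¹ * e * x with hf
  have hfE : f ∈ E := by
    have := hconj x⁻¹ e heE
    rwa [inv_inv] at this
  have heaw : e = a * w := by rw [hw, ← mul_assoc, ha2, one_mul]
  have haf : a * f = x ^ 2 * w := by
    calc a * f = (a * x⁻¹) * a * w * x := by rw [hf, heaw]; group
      _ = x * (a * a) * (w * x) := by rw [h2]; group
      _ = x ^ 2 * w := by rw [ha2, hwx, pow_two]; group
  have hc2 : Commute (x ^ 2) w := hc.pow_left 2
  rcases hE.2 a ha f hfE with h | h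
  · exfalso
    rw [haf, hc2.mul_pow, hw2, mul_one, ← pow_mul] at h
    apply hx1
    calc x = x ^ 3 * x := by rw [hx3, one_mul]
      _ = x ^ (2 * 2) := by rw [← pow_succ]
      _ = 1 := h
  · rw [haf, hc2.mul_pow, ← pow_mul] at h
    have hx6 : x ^ (2 * 3) = 1 := by
      rw [show 2 * 3 = 3 * 2 from rfl, pow_mul, hx3, one_pow]
    have hw3 : w ^ 3 = w := by
      rw [show 3 = 2 + 1 from rfl, pow_succ, hw2, one_mul]
    rw [hx6, one_mul, hw3] at h
    -- `w = 1`, so `e = a`
    have hea : e = a := by rw [heaw, h, mul_one]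
    have : u⁻¹ * a * u = a := hea
    calc a * u = u * (u⁻¹ * a * u) := by group
      _ = u * a := by rw [this]

/-- **Lemma B.** A non-cyclic abelian group of exponent 3 all of whose elements are inverted by the
transposition `a` forces `a` to centralize every normal 2-subgroup. -/
theorem lemmaB [Finite G] (hE : IsThreeTranspositionSet E)
    (hconj : ∀ g : G, ∀ e ∈ E, g * e * g⁻¹ ∈ E)
    {X A : Subgroup G} (hX : IsPGroup 2 X) [hXn : X.Normal] {a : G} (ha : a ∈ E)
    (hAc : ∀ x ∈ A, ∀ y ∈ A, x * y = y * x) (hA3 : ∀ x ∈ A, x ^ 3 = 1)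
    (hAinv : ∀ x ∈ A, a * x * a⁻¹ = x⁻¹) (hcard : 3 < Nat.card A) :
    ∀ u ∈ X, a * u = u * a := by
  have : Fact (Nat.Prime 3) := ⟨Nat.prime_three⟩
  have hcop : (Nat.card X).Coprime 3 := by
    obtain ⟨n, hn⟩ := IsPGroup.iff_card.1 hX
    rw [hn]
    exact Nat.Coprime.pow_left n (by norm_num)
  have hAX : A ≤ Subgroup.normalizer (X : Set G) := by
    rw [Subgroup.normalizer_eq_top]; exact le_top
  have h := Cfsg.Agent.Lib.H7.le_hypGen 3 hAc hA3 hcop hAX
  have hle : Cfsg.Agent.Lib.H7.hypGen 3 A X ≤ Subgroup.centralizer ({a} : Set G) := by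
    unfold Cfsg.Agent.Lib.H7.hypGen
    apply iSup_le
    rintro ⟨B, hBA, hBi⟩
    intro u hu
    obtain ⟨huX, huB⟩ := hu
    have hB : ∃ b ∈ B, b ≠ 1 := by
      by_contra hcon
      push Not at hcon
      have hBbot : B = ⊥ := by
        rw [eq_bot_iff]
        intro b hb
        rw [Subgroup.mem_bot]; exact hcon b hb
      rw [hBbot, Subgroup.relIndex_bot_left] at hBi
      omega
    obtain ⟨b, hb, hb1⟩ := hB
    rw [Subgroup.mem_centralizer_singleton_iff]
    have hub : u * b = b * u := ((Subgroup.mem_centralizer_iff.1 huB) b hb).symm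
    exact (lemmaA hE hconj hX ha (fun v hv => hXn.conj_mem v hv a) (hA3 b (hBA hb)) hb1
      (hAinv b (hBA hb)) huX hub).symm
  intro u hu
  have := hle (h hu)
  rw [Subgroup.mem_centralizer_singleton_iff] at this
  exact this.symm

end Cfsg.Agent.Lib.H10.TT3
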