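import Mathlib

set_option autoImplicit false

/-!
3-transposition groups (helper10): an abstract lemma on a finite 3-group `P` with an involutory
automorphism `α` such that the inverted elements generate `P`, have order dividing 3, and have
"small centralizers" among the inverted elements.  Conclusion: `P` is cyclic of order 3 or
extraspecial of order 27 (given the two "Good" hypotheses, which come from the action on `O_2`).
-/

namespace Cfsg.Agent.Lib.H10.TT3

section Abstract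

variable {P : Type*} [Group P]

/-- The elements inverted by `α`. -/
def InvSet (α : P ≃* P) : Set P := {w | α w = w⁻¹}

/-- The fixed points of `α`. -/
def FixSub (α : P ≃* P) : Subgroup P where
  carrier := {g | α g = g}
  mul_mem' := by
    intro a b ha hb
    simp only [Set.mem_ofPred_eq] at *
    rw [map_mul, ha, hb]
  one_mem' := map_one α
  inv_mem' := by
    intro a ha
    simp only [Set.mem_ofPred_eq] at *
    rw [map_inv, ha]

theorem mem_InvSet {α : P ≃* P} {w : P} : w ∈ InvSet α ↔ α w = w⁻¹ := Iff.rfl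

theorem mem_FixSub {α : P ≃* P} {g : P} : g ∈ FixSub α ↔ α g = g := Iff.rfl

theorem one_mem_InvSet (α : P ≃* P) : (1 : P) ∈ InvSet α := by
  rw [mem_InvSet, map_one, inv_one]

theorem inv_mem_InvSet {α : P ≃* P} {w : P} (hw : w ∈ InvSet α) : w⁻¹ ∈ InvSet α := by
  rw [mem_InvSet] at *
  rw [map_inv, hw]

theorem pow_mem_InvSet {α : P ≃* P} {w : P} (hw : w ∈ InvSet α) (n : ℕ) : w ^ n ∈ InvSet α := by
  rw [mem_InvSet] at *
  rw [map_pow, hw, inv_pow]

theorem zpow_mem_InvSet {α : P ≃* P} {w : P} (hw : w ∈ InvSet α) (n : ℤ) : w ^ n ∈ InvSet α := by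
  rw [mem_InvSet] at *
  rw [map_zpow, hw, inv_zpow]

theorem cmap_mem_InvSet {α : P ≃* P} (hinv : ∀ g, α (α g) = g) (g : P) :
    g * (α g)⁻¹ ∈ InvSet α := by
  rw [mem_InvSet, map_mul, map_inv, hinv, mul_inv_rev, inv_inv]

theorem exists_half (n : ℕ) : ∃ k, 2 * k = 3 ^ n + 1 := by
  have h : Odd (3 ^ n) := Odd.pow (by decide)
  obtain ⟨r, hr⟩ := h
  exact ⟨r + 1, by omega⟩

theorem exists_decomp [Finite P] {α : P ≃* P} (hinv : ∀ g, α (α g) = g) {n : ℕ}
    (hcard : Nat.card P = 3 ^ n) (R : Subgroup P) (hR : ∀ g ∈ R, α g ∈ R) {g : P} (hg : g ∈ R) :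
    ∃ i c : P, i ∈ InvSet α ∧ i ∈ R ∧ c ∈ FixSub α ∧ c ∈ R ∧ g = i * c := by
  obtain ⟨k, hk⟩ := exists_half n
  set t := g * (α g)⁻¹ with ht
  have htI : t ∈ InvSet α := cmap_mem_InvSet hinv g
  have htR : t ∈ R := R.mul_mem hg (R.inv_mem (hR g hg))
  set i := t ^ k with hi
  have hii : i * i = t := by
    rw [hi, ← pow_add, ← two_mul, hk, pow_succ, ← hcard, pow_card_eq_one', one_mul]
  have hiI : i ∈ InvSet α := pow_mem_InvSet htI k
  have hiR : i ∈ R := R.pow_mem htR k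
  refine ⟨i, i⁻¹ * g, hiI, hiR, ?_, R.mul_mem (R.inv_mem hiR) hg, by group⟩
  rw [mem_FixSub, map_mul, map_inv, mem_InvSet.1 hiI, inv_inv]
  have h1 : i * i * α g = g := by rw [hii, ht]; group
  calc i * α g = i⁻¹ * (i * i * α g) := by group
    _ = i⁻¹ * g := by rw [h1]

theorem le_FixSub_of_inter {α : P ≃* P} (hinv : ∀ g, α (α g) = g) (R : Subgroup P)
    (hR : ∀ g ∈ R, α g ∈ R) (h : ∀ w ∈ R, w ∈ InvSet α → w = 1) : R ≤ FixSub α := by
  intro g hg
  have h1 := h (g * (α g)⁻¹) (R.mul_mem hg (R.inv_mem (hR g hg))) (cmap_mem_InvSet hinv g)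
  rw [mem_FixSub]
  exact (mul_inv_eq_one.1 h1).symm

theorem le_center_of_le_FixSub {α : P ≃* P} (hgen : Subgroup.closure (InvSet α) = ⊤)
    (hcube : ∀ w ∈ InvSet α, w ^ 3 = 1) (R : Subgroup P) [hRn : R.Normal] (h : R ≤ FixSub α) :
    R ≤ Subgroup.center P := by
  intro r hr
  rw [Subgroup.mem_center_iff]
  have hle : Subgroup.closure (InvSet α) ≤ Subgroup.centralizer {r} := by
    rw [Subgroup.closure_le]
    intro w hw
    rw [SetLike.mem_coe, Subgroup.mem_centralizer_singleton_iff]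
    have hwα : α w = w⁻¹ := hw
    have hrα : α r = r := h hr
    have h1 : α (w * r * w⁻¹) = w * r * w⁻¹ := h (hRn.conj_mem r hr w)
    rw [map_mul, map_mul, map_inv, hwα, hrα, inv_inv] at h1
    -- `w⁻¹ r w = w r w⁻¹`
    have h2 : (w * w) * r = r * (w * w) := by
      calc (w * w) * r = w * (w * r * w⁻¹) * w := by group
        _ = w * (w⁻¹ * r * w) * w := by rw [h1]
        _ = r * (w * w) := by group
    have h3 : w = (w * w) * (w * w) := by
      have : (w * w) * (w * w) = w ^ 3 * w := by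
        simp only [pow_succ, pow_zero, one_mul, mul_assoc]
      rw [this, hcube w hw, one_mul]
    calc w * r = (w * w) * (w * w) * r := by rw [← h3]
      _ = (w * w) * ((w * w) * r) := by group
      _ = (w * w) * (r * (w * w)) := by rw [h2]
      _ = ((w * w) * r) * (w * w) := by group
      _ = (r * (w * w)) * (w * w) := by rw [h2]
      _ = r * ((w * w) * (w * w)) := by group
      _ = r * w := by rw [← h3]
  intro g
  have hg : g ∈ Subgroup.centralizer {r} := hle (by rw [hgen]; exact Subgroup.mem_top g)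
  rw [Subgroup.mem_centralizer_singleton_iff] at hg
  exact hg

/-- The hypotheses of the abstract lemma. -/
structure Hyp (α : P ≃* P) (Good : P → Prop) : Prop where
  invol : ∀ g, α (α g) = g
  gen : Subgroup.closure (InvSet α) = ⊤
  cube : ∀ w ∈ InvSet α, w ^ 3 = 1
  star : ∀ w ∈ InvSet α, ∀ w' ∈ InvSet α, w ≠ 1 → w * w' = w' * w → w' ∈ Subgroup.zpowers w
  good1 : ∀ m ∈ InvSet α, ∀ p ∈ InvSet α, m * p * m⁻¹ * p⁻¹ ∈ Subgroup.center P →
    α (m * p * m⁻¹ * p⁻¹) = m * p * m⁻¹ * p⁻¹ → m * p * m⁻¹ * p⁻¹ ≠ 1 →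
    Good (m * p * m⁻¹ * p⁻¹)
  good2 : ∀ z z' : P, z ∈ Subgroup.center P → z' ∈ Subgroup.center P → α z = z → α z' = z' →
    z ^ 3 = 1 → z' ^ 3 = 1 → z ≠ 1 → z' ∉ Subgroup.zpowers z →
    ∃ y ∈ Subgroup.closure ({z, z'} : Set P), y ≠ 1 ∧ ¬ Good y

theorem mem_ucs_two (x : P) :
    x ∈ Subgroup.upperCentralSeries P 2 ↔ ∀ y, x * y * x⁻¹ * y⁻¹ ∈ Subgroup.center P := by
  rw [← Subgroup.upperCentralSeries_one]
  exact Subgroup.mem_upperCentralSeries_succ_iff

theorem center_map {α : P ≃* P} (hinv : ∀ g, α (α g) = g) :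
    ∀ g ∈ Subgroup.center P, α g ∈ Subgroup.center P := by
  intro g hg
  rw [Subgroup.mem_center_iff] at hg ⊢
  intro y
  have := congrArg α (hg (α y))
  rwa [map_mul, map_mul, hinv] at this

theorem ucs_two_map {α : P ≃* P} (hinv : ∀ g, α (α g) = g) :
    ∀ g ∈ Subgroup.upperCentralSeries P 2, α g ∈ Subgroup.upperCentralSeries P 2 := by
  intro g hg
  rw [mem_ucs_two] at hg ⊢
  intro y
  have := center_map hinv _ (hg (α y))
  rwa [map_mul, map_mul, map_mul, map_inv, map_inv, hinv] at this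

/-- Case 1: a nontrivial central inverted element. -/
theorem card_eq_three_of_central {α : P ≃* P} {Good : P → Prop} (h : Hyp α Good)
    {z : P} (hzc : z ∈ Subgroup.center P) (hzI : z ∈ InvSet α) (hz1 : z ≠ 1) :
    Nat.card P = 3 := by
  have : Fact (Nat.Prime 3) := ⟨Nat.prime_three⟩
  have htop : Subgroup.zpowers z = ⊤ := by
    rw [eq_top_iff, ← h.gen, Subgroup.closure_le]
    intro w hw
    exact h.star z hzI w hw hz1 ((Subgroup.mem_center_iff.1 hzc w).symm)
  have hord : orderOf z = 3 := orderOf_eq_prime (h.cube z hzI) hz1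
  rw [← Nat.card_zpowers, htop, Subgroup.card_top] at hord
  exact hord

/-- existence of a noncentral inverted element of the second centre -/
theorem exists_ucs_two [Finite P] {α : P ≃* P} {Good : P → Prop} (h : Hyp α Good) {n : ℕ}
    (hcard : Nat.card P = 3 ^ n) (hc1 : ∀ z ∈ Subgroup.center P, z ∈ InvSet α → z = 1)
    (htriv : Nat.card P ≠ 1) :
    ∃ m ∈ Subgroup.upperCentralSeries P 2, m ∈ InvSet α ∧ m ≠ 1 := by
  have : Fact (Nat.Prime 3) := ⟨Nat.prime_three⟩
  have hinv := h.invol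
  by_contra hcon
  push Not at hcon
  have h1 : Subgroup.upperCentralSeries P 2 ≤ FixSub α :=
    le_FixSub_of_inter hinv _ (ucs_two_map hinv) hcon
  have h2 : Subgroup.upperCentralSeries P 2 ≤ Subgroup.center P :=
    le_center_of_le_FixSub h.gen h.cube _ h1
  by_cases hZtop : Subgroup.center P = ⊤
  · have hle : Subgroup.closure (InvSet α) ≤ ⊥ := by
      rw [Subgroup.closure_le]
      intro w hw
      have : w = 1 := hc1 w (by rw [hZtop]; exact Subgroup.mem_top w) hw
      rw [this]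
      exact Subgroup.one_mem _
    rw [h.gen] at hle
    apply htriv
    have : (⊤ : Subgroup P) = ⊥ := le_antisymm hle bot_le
    rw [← Subgroup.card_top, this, Subgroup.card_bot]
  · have hP3 : IsPGroup 3 P := IsPGroup.of_card hcard
    have hq3 : IsPGroup 3 (P ⧸ Subgroup.center P) := hP3.to_quotient _
    obtain ⟨g, hg⟩ : ∃ g : P, g ∉ Subgroup.center P := by
      by_contra hh
      push Not at hh
      exact hZtop (eq_top_iff.2 (fun g _ => hh g))
    haveI : Nontrivial (P ⧸ Subgroup.center P) :=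
      ⟨⟨(g : P ⧸ Subgroup.center P), 1, fun hh => hg ((QuotientGroup.eq_one_iff g).1 hh)⟩⟩
    haveI := hq3.center_nontrivial
    obtain ⟨⟨xb, hxb⟩, hne⟩ := exists_ne (1 : Subgroup.center (P ⧸ Subgroup.center P))
    obtain ⟨x, rfl⟩ := QuotientGroup.mk_surjective xb
    have hx2 : x ∈ Subgroup.upperCentralSeries P 2 := by
      rw [mem_ucs_two]
      intro y
      rw [← QuotientGroup.eq_one_iff]
      have hcomm := Subgroup.mem_center_iff.1 hxb (y : P ⧸ Subgroup.center P)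
      simp only [QuotientGroup.mk_mul, QuotientGroup.mk_inv]
      rw [← hcomm]
      group
    have hxc : x ∈ Subgroup.center P := h2 hx2
    apply hne
    apply Subtype.ext
    exact (QuotientGroup.eq_one_iff x).2 hxc


/-- The commutator map with an element of the second centre is a homomorphism. -/
def zetaHom (m : P) (hm : ∀ g, m * g * m⁻¹ * g⁻¹ ∈ Subgroup.center P) : P →* P :=
  MonoidHom.mk' (fun g => m * g * m⁻¹ * g⁻¹) (by
    intro a b
    have hb := Subgroup.mem_center_iff.1 (hm b)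
    calc m * (a * b) * m⁻¹ * (a * b)⁻¹
        = m * a * m⁻¹ * ((m * b * m⁻¹ * b⁻¹) * a⁻¹) := by group
      _ = m * a * m⁻¹ * (a⁻¹ * (m * b * m⁻¹ * b⁻¹)) := by rw [hb a⁻¹]
      _ = m * a * m⁻¹ * a⁻¹ * (m * b * m⁻¹ * b⁻¹) := by group)

theorem zetaHom_apply (m : P) (hm : ∀ g, m * g * m⁻¹ * g⁻¹ ∈ Subgroup.center P) (g : P) :
    zetaHom m hm g = m * g * m⁻¹ * g⁻¹ := rfl

theorem zetaHom_eq_one_iff (m : P) (hm : ∀ g, m * g * m⁻¹ * g⁻¹ ∈ Subgroup.center P) (g : P) :
    zetaHom m hm g = 1 ↔ m * g = g * m := by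
  rw [zetaHom_apply]
  constructor
  · intro h
    calc m * g = (m * g * m⁻¹ * g⁻¹) * (g * m) := by group
      _ = g * m := by rw [h, one_mul]
  · intro h
    calc m * g * m⁻¹ * g⁻¹ = (m * g) * m⁻¹ * g⁻¹ := by group
      _ = 1 := by rw [h]; group

theorem zetaHom_cube (m : P) (hm : ∀ g, m * g * m⁻¹ * g⁻¹ ∈ Subgroup.center P)
    (hm3 : m ^ 3 = 1) (g : P) : (zetaHom m hm g) ^ 3 = 1 := by
  set z := zetaHom m hm g with hz
  have hzc : z ∈ Subgroup.center P := hm g
  have h1 : g * m⁻¹ * g⁻¹ = m⁻¹ * z := by rw [hz, zetaHom_apply]; group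
  have hcomm : Commute m⁻¹ z := by
    have := Subgroup.mem_center_iff.1 hzc m⁻¹
    exact this
  have h2 : (g * m⁻¹ * g⁻¹) ^ 3 = 1 := by
    rw [conj_pow, inv_pow, hm3]; group
  rw [h1, hcomm.mul_pow, inv_pow, hm3, inv_one, one_mul] at h2
  exact h2

theorem case_two [Finite P] {α : P ≃* P} {Good : P → Prop} (h : Hyp α Good) {n : ℕ}
    (hcard : Nat.card P = 3 ^ n) (hc1 : ∀ z ∈ Subgroup.center P, z ∈ InvSet α → z = 1)
    (htriv : Nat.card P ≠ 1) :
    ∃ m p : P, α m = m⁻¹ ∧ α p = p⁻¹ ∧ m ^ 3 = 1 ∧ p ^ 3 = 1 ∧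
      m * p * m⁻¹ * p⁻¹ ∈ Subgroup.center P ∧ α (m * p * m⁻¹ * p⁻¹) = m * p * m⁻¹ * p⁻¹ ∧
      m * p * m⁻¹ * p⁻¹ ≠ 1 ∧ (m * p * m⁻¹ * p⁻¹) ^ 3 = 1 ∧
      Subgroup.closure ({m, p} : Set P) = ⊤ ∧ 27 ≤ Nat.card P := by
  have hinv := h.invol
  have hcenFix : Subgroup.center P ≤ FixSub α :=
    le_FixSub_of_inter hinv _ (center_map hinv) hc1
  obtain ⟨m, hm2, hmI, hm1⟩ := exists_ucs_two h hcard hc1 htriv
  have hmc : ∀ g, m * g * m⁻¹ * g⁻¹ ∈ Subgroup.center P := (mem_ucs_two m).1 hm2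
  have hm3 : m ^ 3 = 1 := h.cube m hmI
  set ζ := zetaHom m hmc with hζ
  have hζc : ∀ g, ζ g ∈ Subgroup.center P := hmc
  have hζfix : ∀ g, α (ζ g) = ζ g := fun g => hcenFix (hζc g)
  have hζ3 : ∀ g, ζ g ^ 3 = 1 := zetaHom_cube m hmc hm3
  -- ζ kills fixed points
  have hζFix : ∀ c ∈ FixSub α, ζ c = 1 := by
    intro c hc
    have hcα : α c = c := hc
    have hmα : α m = m⁻¹ := hmI
    have h1 := hζfix c
    rw [hζ, zetaHom_apply, map_mul, map_mul, map_mul, map_inv, map_inv, hcα, hmα, inv_inv] at h1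
    have h2 : (m * m) * c = c * (m * m) := by
      calc (m * m) * c = m * (m * c * m⁻¹ * c⁻¹) * c * m := by group
        _ = m * (m⁻¹ * c * m * c⁻¹) * c * m := by rw [h1]
        _ = c * (m * m) := by group
    have h3 : m = (m * m) * (m * m) := by
      have : (m * m) * (m * m) = m ^ 3 * m := by
        simp only [pow_succ, pow_zero, one_mul, mul_assoc]
      rw [this, hm3, one_mul]
    rw [hζ, zetaHom_eq_one_iff]
    calc m * c = (m * m) * (m * m) * c := by rw [← h3]
      _ = (m * m) * ((m * m) * c) := by group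
      _ = (m * m) * (c * (m * m)) := by rw [h2]
      _ = ((m * m) * c) * (m * m) := by group
      _ = (c * (m * m)) * (m * m) := by rw [h2]
      _ = c * ((m * m) * (m * m)) := by group
      _ = c * m := by rw [← h3]
  -- values of ζ are values at inverted elements
  have hζdec : ∀ g, ∃ i ∈ InvSet α, ζ g = ζ i := by
    intro g
    obtain ⟨i, c, hiI, -, hcF, -, rfl⟩ :=
      exists_decomp hinv hcard ⊤ (fun _ _ => Subgroup.mem_top _) (Subgroup.mem_top g)
    exact ⟨i, hiI, by rw [map_mul, hζFix c hcF, mul_one]⟩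
  have hGood : ∀ g, ζ g ≠ 1 → Good (ζ g) := by
    intro g hg
    obtain ⟨i, hiI, hgi⟩ := hζdec g
    rw [hgi] at hg ⊢
    exact h.good1 m hmI i hiI (hmc i) (hζfix i) hg
  -- a noncommuting inverted element
  have hp : ∃ p ∈ InvSet α, ζ p ≠ 1 := by
    by_contra hcon
    push Not at hcon
    apply hm1
    apply hc1 m _ hmI
    rw [Subgroup.mem_center_iff]
    intro g
    obtain ⟨i, hiI, hgi⟩ := hζdec g
    have : ζ g = 1 := by rw [hgi]; exact hcon i hiI
    rw [hζ, zetaHom_eq_one_iff] at this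
    exact this.symm
  obtain ⟨p, hpI, hp1⟩ := hp
  set z := ζ p with hz
  have hrange : ∀ g, ζ g ∈ Subgroup.zpowers z := by
    intro g
    by_contra hcon
    obtain ⟨y, hy, hy1, hyG⟩ :=
      h.good2 z (ζ g) (hζc p) (hζc g) (hζfix p) (hζfix g) (hζ3 p) (hζ3 g) hp1 hcon
    have hle : Subgroup.closure ({z, ζ g} : Set P) ≤ ζ.range := by
      rw [Subgroup.closure_le]
      intro t ht
      rcases ht with rfl | rfl
      · exact ⟨p, rfl⟩
      · exact ⟨g, rfl⟩
    obtain ⟨g', rfl⟩ := hle hy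
    exact hyG (hGood g' hy1)
  set T := Subgroup.closure ({m, p} : Set P) with hT
  have hmT : m ∈ T := Subgroup.subset_closure (by simp)
  have hpT : p ∈ T := Subgroup.subset_closure (by simp)
  have hCα : ∀ g ∈ Subgroup.centralizer ({m} : Set P),
      α g ∈ Subgroup.centralizer ({m} : Set P) := by
    intro g hg
    rw [Subgroup.mem_centralizer_singleton_iff] at hg ⊢
    have h1 := congrArg α hg
    rw [map_mul, map_mul, mem_InvSet.1 hmI] at h1
    calc α g * m = m * (m⁻¹ * α g) * m := by group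
      _ = m * (α g * m⁻¹) * m := by rw [h1]
      _ = m * α g := by group
  have hIT : ∀ w ∈ InvSet α, w ∈ T := by
    intro w hw
    have hw3 := h.cube w hw
    obtain ⟨k, hk⟩ := Subgroup.mem_zpowers_iff.1 (hrange w⁻¹)
    set hh := p ^ (-k) * w⁻¹ with hhdef
    have hζh : ζ hh = 1 := by
      rw [hhdef, map_mul, map_zpow, ← hz, ← hk, ← zpow_add]
      simp
    have hcomm : m * hh = hh * m := (zetaHom_eq_one_iff m hmc hh).1 hζh
    obtain ⟨i, c, hiI, hiC, hcF, hcC, hdec⟩ :=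
      exists_decomp hinv hcard (Subgroup.centralizer {m}) hCα (g := hh)
        (by rw [Subgroup.mem_centralizer_singleton_iff]; exact hcomm.symm)
    have him : i ∈ Subgroup.zpowers m := h.star m hmI i hiI hm1 (by
      rw [Subgroup.mem_centralizer_singleton_iff] at hiC; exact hiC.symm)
    obtain ⟨a, rfl⟩ := Subgroup.mem_zpowers_iff.1 him
    have hwinv : w⁻¹ = p ^ k * (m ^ a * c) := by
      rw [← hdec, hhdef]; group
    have hw_eq : w = w⁻¹ * (α w⁻¹)⁻¹ := by
      rw [map_inv, mem_InvSet.1 hw, inv_inv]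
      have : w⁻¹ * w⁻¹ = (w ^ 3)⁻¹ * w := by group
      rw [this, hw3, inv_one, one_mul]
    have hαc : α c = c := hcF
    rw [hw_eq, hwinv, map_mul, map_mul, map_zpow, map_zpow, mem_InvSet.1 hpI, mem_InvSet.1 hmI,
      hαc]
    have : p ^ k * (m ^ a * c) * (p⁻¹ ^ k * (m⁻¹ ^ a * c))⁻¹
        = p ^ k * m ^ a * m ^ a * p ^ k := by
      simp only [inv_zpow]; group
    rw [this]
    exact T.mul_mem (T.mul_mem (T.mul_mem (T.zpow_mem hpT k) (T.zpow_mem hmT a))
      (T.zpow_mem hmT a)) (T.zpow_mem hpT k)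
  have hTtop : T = ⊤ := by
    rw [eq_top_iff, ← h.gen, Subgroup.closure_le]
    exact hIT
  have hnc : m * p ≠ p * m := fun hh => hp1 ((zetaHom_eq_one_iff m hmc p).2 hh)
  have h27 : 27 ≤ Nat.card P := by
    rw [hcard]
    rcases n with _ | _ | _ | n
    · exact absurd (by simpa using hcard) htriv
    · exfalso
      have hc3 : Nat.card P = 3 := by simpa using hcard
      have : Fact (Nat.Prime 3) := ⟨Nat.prime_three⟩
      haveI := isCyclic_of_prime_card hc3
      obtain ⟨g, hg⟩ := IsCyclic.exists_generator (α := P)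
      obtain ⟨a, ha⟩ := Subgroup.mem_zpowers_iff.1 (hg m)
      obtain ⟨b, hb⟩ := Subgroup.mem_zpowers_iff.1 (hg p)
      apply hnc
      rw [← ha, ← hb, ← zpow_add, ← zpow_add, add_comm]
    · exfalso
      have : Fact (Nat.Prime 3) := ⟨Nat.prime_three⟩
      have hc9 : Nat.card P = 3 ^ 2 := by simpa using hcard
      have hmc' := IsPGroup.isMulCommutative_of_card_eq_prime_sq hc9
      exact hnc (hmc'.is_comm.comm m p)
    · calc 27 = 3 ^ 3 := by norm_num
        _ ≤ 3 ^ (n + 1 + 1 + 1) := Nat.pow_le_pow_right (by norm_num) (by omega)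
  exact ⟨m, p, hmI, hpI, hm3, h.cube p hpI, hmc p, hζfix p, hp1, hζ3 p, hTtop, h27⟩


/-- **The abstract lemma.** -/
theorem abstract_main [Finite P] {α : P ≃* P} {Good : P → Prop} (h : Hyp α Good) {n : ℕ}
    (hcard : Nat.card P = 3 ^ n) :
    Nat.card P = 1 ∨ Nat.card P = 3 ∨
    ∃ m p : P, α m = m⁻¹ ∧ α p = p⁻¹ ∧ m ^ 3 = 1 ∧ p ^ 3 = 1 ∧
      m * p * m⁻¹ * p⁻¹ ∈ Subgroup.center P ∧ α (m * p * m⁻¹ * p⁻¹) = m * p * m⁻¹ * p⁻¹ ∧
      m * p * m⁻¹ * p⁻¹ ≠ 1 ∧ (m * p * m⁻¹ * p⁻¹) ^ 3 = 1 ∧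
      Subgroup.closure ({m, p} : Set P) = ⊤ ∧ 27 ≤ Nat.card P := by
  by_cases hc1 : ∃ z ∈ Subgroup.center P, z ∈ InvSet α ∧ z ≠ 1
  · obtain ⟨z, hzc, hzI, hz1⟩ := hc1
    exact Or.inr (Or.inl (card_eq_three_of_central h hzc hzI hz1))
  · push Not at hc1
    by_cases htriv : Nat.card P = 1
    · exact Or.inl htriv
    · exact Or.inr (Or.inr (case_two h hcard hc1 htriv))

end Abstract

end Cfsg.Agent.Lib.H10.TT3
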