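import Mathlib

set_option autoImplicit false

/-!
Groups of order 54 of shape `3^{1+2} : 2` with the involution inverting `P / Z(P)` (helper10):
normal form and uniqueness up to isomorphism.
-/

namespace Cfsg.Agent.Lib.H10.TT3

section Heis

variable {K : Type*} [Group K]

/-- Relations for `3^{1+2} : 2`. -/
structure HeisRel (d m p : K) : Prop where
  d2 : d * d = 1
  m3 : m ^ 3 = 1
  p3 : p ^ 3 = 1
  dm : d * m * d⁻¹ = m⁻¹
  dp : d * p * d⁻¹ = p⁻¹
  zm : (p * m * p⁻¹ * m⁻¹) * m = m * (p * m * p⁻¹ * m⁻¹)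
  zp : (p * m * p⁻¹ * m⁻¹) * p = p * (p * m * p⁻¹ * m⁻¹)
  zd : (p * m * p⁻¹ * m⁻¹) * d = d * (p * m * p⁻¹ * m⁻¹)
  z3 : (p * m * p⁻¹ * m⁻¹) ^ 3 = 1

/-- Generators and relations data for `3^{1+2} : 2`. -/
structure HeisData (d m p : K) : Prop where
  rel : HeisRel d m p
  gen : Subgroup.closure ({d, m, p} : Set K) = ⊤

/-- the sign exponent: `1` for even `l`, `2` for odd `l` -/
def sgnExp (l : ℕ) : ℕ := if l % 2 = 0 then 1 else 2

theorem inv_eq_sq {x : K} (hx : x ^ 3 = 1) : x⁻¹ = x ^ 2 := by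
  rw [inv_eq_iff_mul_eq_one, ← pow_succ']
  exact hx

theorem d_mul_pow {d x : K} (hx : x ^ 3 = 1) (hdx : d * x * d⁻¹ = x⁻¹) (a : ℕ) :
    d * x ^ a = x ^ (2 * a) * d := by
  have h1 : d * x ^ a * d⁻¹ = x ^ (2 * a) := by
    rw [← conj_pow, hdx, inv_eq_sq hx, ← pow_mul]
  calc d * x ^ a = (d * x ^ a * d⁻¹) * d := by group
    _ = x ^ (2 * a) * d := by rw [h1]

theorem dpow_mul_pow {d x : K} (hd : d * d = 1) (hx : x ^ 3 = 1) (hdx : d * x * d⁻¹ = x⁻¹)
    (l a : ℕ) : d ^ l * x ^ a = x ^ (sgnExp l * a) * d ^ l := by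
  have hd2 : d ^ 2 = 1 := by rw [pow_two]; exact hd
  have hl : d ^ l = d ^ (l % 2) := pow_eq_pow_mod l hd2
  unfold sgnExp
  rcases Nat.mod_two_eq_zero_or_one l with h | h
  · rw [hl, h]; simp
  · rw [hl, h, pow_one, if_neg (by omega)]
    exact d_mul_pow hx hdx a

theorem p_mul_mpow {m p : K}
    (hzm : (p * m * p⁻¹ * m⁻¹) * m = m * (p * m * p⁻¹ * m⁻¹)) (a : ℕ) :
    p * m ^ a = (p * m * p⁻¹ * m⁻¹) ^ a * m ^ a * p := by
  set z := p * m * p⁻¹ * m⁻¹ with hz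
  have hpm : p * m = z * m * p := by rw [hz]; group
  have hc : Commute z m := hzm
  induction a with
  | zero => simp
  | succ a ih =>
    calc p * m ^ (a + 1) = (p * m ^ a) * m := by rw [pow_succ]; group
      _ = z ^ a * m ^ a * (p * m) := by rw [ih]; group
      _ = z ^ a * (m ^ a * z) * m * p := by rw [hpm]; group
      _ = z ^ a * (z * m ^ a) * m * p := by rw [(hc.pow_right a).eq]
      _ = z ^ (a + 1) * m ^ (a + 1) * p := by rw [pow_succ, pow_succ]; group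

theorem ppow_mul_mpow {m p : K}
    (hzm : (p * m * p⁻¹ * m⁻¹) * m = m * (p * m * p⁻¹ * m⁻¹))
    (hzp : (p * m * p⁻¹ * m⁻¹) * p = p * (p * m * p⁻¹ * m⁻¹)) (j a : ℕ) :
    p ^ j * m ^ a = (p * m * p⁻¹ * m⁻¹) ^ (j * a) * m ^ a * p ^ j := by
  set z := p * m * p⁻¹ * m⁻¹ with hz
  have hcp : Commute z p := hzp
  induction j with
  | zero => simp
  | succ j ih =>
    calc p ^ (j + 1) * m ^ a = p * (p ^ j * m ^ a) := by rw [pow_succ']; group
      _ = p * (z ^ (j * a) * m ^ a * p ^ j) := by rw [ih]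
      _ = (p * z ^ (j * a)) * m ^ a * p ^ j := by group
      _ = (z ^ (j * a) * p) * m ^ a * p ^ j := by rw [((hcp.pow_left (j * a)).eq)]
      _ = z ^ (j * a) * (p * m ^ a) * p ^ j := by group
      _ = z ^ (j * a) * (z ^ a * m ^ a * p) * p ^ j := by rw [p_mul_mpow hzm a]
      _ = z ^ ((j + 1) * a) * m ^ a * p ^ (j + 1) := by
        rw [add_mul, one_mul, pow_add, pow_succ']; group

theorem core_mul {d m p : K} (h : HeisRel d m p) (i j l i' j' l' : ℕ) :
    (m ^ i * p ^ j * d ^ l) * (m ^ i' * p ^ j' * d ^ l')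
      = (p * m * p⁻¹ * m⁻¹) ^ (j * (sgnExp l * i')) *
          (m ^ (i + sgnExp l * i') * p ^ (j + sgnExp l * j') * d ^ (l + l')) := by
  set z := p * m * p⁻¹ * m⁻¹ with hz
  set s := sgnExp l with hs
  have hczm : Commute z m := h.zm
  have e1 : d ^ l * m ^ i' = m ^ (s * i') * d ^ l := dpow_mul_pow h.d2 h.m3 h.dm l i'
  have e2 : d ^ l * p ^ j' = p ^ (s * j') * d ^ l := dpow_mul_pow h.d2 h.p3 h.dp l j'
  have e3 : p ^ j * m ^ (s * i') = z ^ (j * (s * i')) * m ^ (s * i') * p ^ j :=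
    ppow_mul_mpow h.zm h.zp j (s * i')
  have e8 : m ^ i * z ^ (j * (s * i')) = z ^ (j * (s * i')) * m ^ i :=
    ((hczm.pow_pow (j * (s * i')) i).eq).symm
  calc (m ^ i * p ^ j * d ^ l) * (m ^ i' * p ^ j' * d ^ l')
      = m ^ i * p ^ j * (d ^ l * m ^ i') * p ^ j' * d ^ l' := by group
    _ = m ^ i * p ^ j * (m ^ (s * i') * d ^ l) * p ^ j' * d ^ l' := by rw [e1]
    _ = m ^ i * p ^ j * m ^ (s * i') * (d ^ l * p ^ j') * d ^ l' := by group
    _ = m ^ i * p ^ j * m ^ (s * i') * (p ^ (s * j') * d ^ l) * d ^ l' := by rw [e2]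
    _ = m ^ i * (p ^ j * m ^ (s * i')) * p ^ (s * j') * (d ^ l * d ^ l') := by group
    _ = m ^ i * (z ^ (j * (s * i')) * m ^ (s * i') * p ^ j) * p ^ (s * j') * (d ^ l * d ^ l') := by
      rw [e3]
    _ = (m ^ i * z ^ (j * (s * i'))) * m ^ (s * i') * (p ^ j * p ^ (s * j')) * (d ^ l * d ^ l') := by
      group
    _ = (z ^ (j * (s * i')) * m ^ i) * m ^ (s * i') * (p ^ j * p ^ (s * j')) * (d ^ l * d ^ l') := by
      rw [e8]
    _ = z ^ (j * (s * i')) * (m ^ (i + s * i') * p ^ (j + s * j') * d ^ (l + l')) := by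
      rw [pow_add, pow_add, pow_add]; group

/-- the normal form word -/
def nfWord (d m p : K) (i j k l : ℕ) : K :=
  (p * m * p⁻¹ * m⁻¹) ^ k * (m ^ i * p ^ j * d ^ l)

theorem nfWord_mul {d m p : K} (h : HeisRel d m p) (i j k l i' j' k' l' : ℕ) :
    nfWord d m p i j k l * nfWord d m p i' j' k' l'
      = nfWord d m p (i + sgnExp l * i') (j + sgnExp l * j') (k + k' + j * (sgnExp l * i'))
          (l + l') := by
  unfold nfWord
  set z := p * m * p⁻¹ * m⁻¹ with hz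
  have hczm : Commute z m := h.zm
  have hczp : Commute z p := h.zp
  have hczd : Commute z d := h.zd
  have hc : Commute (z ^ k') (m ^ i * p ^ j * d ^ l) :=
    ((hczm.pow_pow k' i).mul_right (hczp.pow_pow k' j)).mul_right (hczd.pow_pow k' l)
  calc z ^ k * (m ^ i * p ^ j * d ^ l) * (z ^ k' * (m ^ i' * p ^ j' * d ^ l'))
      = z ^ k * ((m ^ i * p ^ j * d ^ l) * z ^ k') * (m ^ i' * p ^ j' * d ^ l') := by group
    _ = z ^ k * (z ^ k' * (m ^ i * p ^ j * d ^ l)) * (m ^ i' * p ^ j' * d ^ l') := by rw [hc.eq]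
    _ = z ^ k * z ^ k' * ((m ^ i * p ^ j * d ^ l) * (m ^ i' * p ^ j' * d ^ l')) := by group
    _ = z ^ k * z ^ k' * (z ^ (j * (sgnExp l * i')) *
          (m ^ (i + sgnExp l * i') * p ^ (j + sgnExp l * j') * d ^ (l + l'))) := by
      rw [core_mul h]
    _ = z ^ (k + k' + j * (sgnExp l * i')) *
          (m ^ (i + sgnExp l * i') * p ^ (j + sgnExp l * j') * d ^ (l + l')) := by
      rw [pow_add, pow_add]; group

theorem nfWord_mod {d m p : K} (h : HeisRel d m p) (i j k l : ℕ) :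
    nfWord d m p i j k l = nfWord d m p (i % 3) (j % 3) (k % 3) (l % 2) := by
  unfold nfWord
  have hd2 : d ^ 2 = 1 := by rw [pow_two]; exact h.d2
  rw [pow_eq_pow_mod i h.m3, pow_eq_pow_mod j h.p3, pow_eq_pow_mod k h.z3, pow_eq_pow_mod l hd2]

/-- the index box -/
abbrev Box := Fin 3 × Fin 3 × Fin 3 × Fin 2

/-- the normal form on the index box -/
def nfBox (d m p : K) (a : Box) : K := nfWord d m p a.1 a.2.1 a.2.2.1 a.2.2.2

/-- the multiplication rule on the index box -/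
def mulBox (a b : Box) : Box :=
  (⟨(a.1 + sgnExp a.2.2.2 * b.1) % 3, Nat.mod_lt _ (by norm_num)⟩,
   ⟨(a.2.1 + sgnExp a.2.2.2 * b.2.1) % 3, Nat.mod_lt _ (by norm_num)⟩,
   ⟨(a.2.2.1 + b.2.2.1 + a.2.1 * (sgnExp a.2.2.2 * b.1)) % 3, Nat.mod_lt _ (by norm_num)⟩,
   ⟨(a.2.2.2 + b.2.2.2) % 2, Nat.mod_lt _ (by norm_num)⟩)

theorem nfBox_mul {d m p : K} (h : HeisRel d m p) (a b : Box) :
    nfBox d m p a * nfBox d m p b = nfBox d m p (mulBox a b) := by
  unfold nfBox mulBox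
  rw [nfWord_mul h, nfWord_mod h]

theorem exists_nfBox_of_mem_closure {d m p : K} (h : HeisRel d m p) {g : K}
    (hg : g ∈ Subgroup.closure ({d, m, p} : Set K)) : ∃ a, nfBox d m p a = g := by
  let S : Submonoid K :=
    { carrier := Set.range (nfBox d m p)
      one_mem' := ⟨(0, 0, 0, 0), by simp [nfBox, nfWord]⟩
      mul_mem' := by
        rintro _ _ ⟨a, rfl⟩ ⟨b, rfl⟩
        exact ⟨mulBox a b, (nfBox_mul h a b).symm⟩ }
  have hd : d ∈ S := ⟨(0, 0, 0, 1), by simp [nfBox, nfWord]⟩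
  have hm : m ∈ S := ⟨(1, 0, 0, 0), by simp [nfBox, nfWord]⟩
  have hp : p ∈ S := ⟨(0, 1, 0, 0), by simp [nfBox, nfWord]⟩
  have hm' : m⁻¹ ∈ S := ⟨(2, 0, 0, 0), by simp [nfBox, nfWord, inv_eq_sq h.m3]⟩
  have hp' : p⁻¹ ∈ S := ⟨(0, 2, 0, 0), by simp [nfBox, nfWord, inv_eq_sq h.p3]⟩
  have hd' : d⁻¹ ∈ S := by
    have : d⁻¹ = d := inv_eq_of_mul_eq_one_left h.d2
    rw [this]; exact hd
  have hle : (Subgroup.closure ({d, m, p} : Set K)).toSubmonoid ≤ S := by
    rw [Subgroup.closure_toSubmonoid, Submonoid.closure_le]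
    intro x hx
    rcases hx with hx | hx
    · rcases hx with rfl | rfl | rfl
      · exact hd
      · exact hm
      · exact hp
    · rw [Set.mem_inv] at hx
      rcases hx with hx | hx | hx
      · have : x = d⁻¹ := by rw [← hx, inv_inv]
        rw [this]; exact hd'
      · have : x = m⁻¹ := by rw [← hx, inv_inv]
        rw [this]; exact hm'
      · have : x = p⁻¹ := by
          have hx' : x⁻¹ = p := hx
          rw [← hx', inv_inv]
        rw [this]; exact hp'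
  exact hle hg

theorem nfBox_mem_closure (d m p : K) (a : Box) :
    nfBox d m p a ∈ Subgroup.closure ({d, m, p} : Set K) := by
  have hd : d ∈ Subgroup.closure ({d, m, p} : Set K) := Subgroup.subset_closure (by simp)
  have hm : m ∈ Subgroup.closure ({d, m, p} : Set K) := Subgroup.subset_closure (by simp)
  have hp : p ∈ Subgroup.closure ({d, m, p} : Set K) := Subgroup.subset_closure (by simp)
  unfold nfBox nfWord
  set C := Subgroup.closure ({d, m, p} : Set K)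
  exact C.mul_mem (C.pow_mem (C.mul_mem (C.mul_mem (C.mul_mem hp hm) (C.inv_mem hp))
    (C.inv_mem hm)) _) (C.mul_mem (C.mul_mem (C.pow_mem hm _) (C.pow_mem hp _)) (C.pow_mem hd _))

theorem nfBox_surjective {d m p : K} (h : HeisData d m p) :
    Function.Surjective (nfBox d m p) := by
  intro g
  exact exists_nfBox_of_mem_closure h.rel (by rw [h.gen]; exact Subgroup.mem_top g)

theorem card_le_of_heisData [Finite K] {d m p : K} (h : HeisData d m p) : Nat.card K ≤ 54 := by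
  have := Nat.card_le_card_of_surjective _ (nfBox_surjective h)
  have hBox : Nat.card Box = 54 := by
    rw [Nat.card_eq_fintype_card]; rfl
  rwa [hBox] at this

end Heis

/-- **Uniqueness.** Two groups of order 54 with the generators-and-relations data are
isomorphic. -/
theorem heis_iso {K₁ K₂ : Type*} [Group K₁] [Group K₂] {d₁ m₁ p₁ : K₁} {d₂ m₂ p₂ : K₂}
    (h₁ : HeisData d₁ m₁ p₁) (h₂ : HeisData d₂ m₂ p₂) (c₁ : Nat.card K₁ = 54)
    (c₂ : Nat.card K₂ = 54) : Nonempty (K₁ ≃* K₂) := by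
  have hBox : Nat.card Box = 54 := by
    rw [Nat.card_eq_fintype_card]; rfl
  have hb₁ : Function.Bijective (nfBox d₁ m₁ p₁) :=
    (nfBox_surjective h₁).bijective_of_nat_card_le (by rw [hBox, c₁])
  have hb₂ : Function.Bijective (nfBox d₂ m₂ p₂) :=
    (nfBox_surjective h₂).bijective_of_nat_card_le (by rw [hBox, c₂])
  let e₁ := Equiv.ofBijective _ hb₁
  let e₂ := Equiv.ofBijective _ hb₂
  have he₁ : ∀ c, e₁.symm (nfBox d₁ m₁ p₁ c) = c := fun c => e₁.symm_apply_apply c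
  refine ⟨{ toEquiv := e₁.symm.trans e₂, map_mul' := ?_ }⟩
  intro x y
  obtain ⟨a, rfl⟩ := hb₁.2 x
  obtain ⟨b, rfl⟩ := hb₁.2 y
  show e₂ (e₁.symm (nfBox d₁ m₁ p₁ a * nfBox d₁ m₁ p₁ b))
    = e₂ (e₁.symm (nfBox d₁ m₁ p₁ a)) * e₂ (e₁.symm (nfBox d₁ m₁ p₁ b))
  rw [nfBox_mul h₁.rel, he₁, he₁, he₁]
  show nfBox d₂ m₂ p₂ (mulBox a b) = nfBox d₂ m₂ p₂ a * nfBox d₂ m₂ p₂ b
  rw [nfBox_mul h₂.rel]

end Cfsg.Agent.Lib.H10.TT3
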