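import Mathlib
import Cfsg.Prelude.Def_Classical
import Cfsg.Agent.Lib.H17.F4
import Cfsg.Agent.Lib.H2.Spec5
import Cfsg.Agent.Lib.H7.SU32Inv
import Cfsg.Agent.Lib.H10.TT3C

set_option autoImplicit false

/-!
The derived subgroup of `SU₃(2)` (helper10): it is the monomial subgroup `3^{1+2} : 2` of order 54,
with generators-and-relations data `HeisData`.
-/

namespace Cfsg.Agent.Lib.H10.TT3

open Cfsg.Agent.Lib.H17 Matrix

/-- `3 × 3` matrices over `F4` -/
abbrev M3 := Matrix (Fin 3) (Fin 3) F4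

/-- the Frobenius of `F4` -/
def frob4 : F4 →+* F4 where
  toFun := fun x => x ^ 2
  map_one' := by decide
  map_mul' := by decide
  map_zero' := by decide
  map_add' := by decide

/-- a transposition matrix -/
def tauM : M3 := !![0, 1, 0; 1, 0, 0; 0, 0, 1]
/-- a diagonal matrix of order 3 -/
def mM : M3 := !![F4.w, 0, 0; 0, F4.w2, 0; 0, 0, 1]
/-- a 3-cycle matrix -/
def sigM : M3 := !![0, 1, 0; 0, 0, 1; 1, 0, 0]
/-- an element of order 4 -/
def xM : M3 := !![F4.w, F4.w2, 1; F4.w2, F4.w, 1; 1, 1, 1]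
/-- another element of order 4 -/
def yM : M3 := !![F4.w, F4.w2, F4.w; F4.w2, F4.w, F4.w; F4.w2, F4.w2, 1]

/-- in `SL₃(4)` -/
def tauS : SpecialLinearGroup (Fin 3) F4 := ⟨tauM, by decide⟩
/-- in `SL₃(4)` -/
def mS : SpecialLinearGroup (Fin 3) F4 := ⟨mM, by decide⟩
/-- in `SL₃(4)` -/
def sigS : SpecialLinearGroup (Fin 3) F4 := ⟨sigM, by decide⟩
/-- in `SL₃(4)` -/
def xS : SpecialLinearGroup (Fin 3) F4 := ⟨xM, by decide⟩
/-- in `SL₃(4)` -/
def yS : SpecialLinearGroup (Fin 3) F4 := ⟨yM, by decide⟩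

theorem mem_SU4 (g : SpecialLinearGroup (Fin 3) F4)
    (h : (g : M3)ᵀ * (g : M3).map frob4 = 1) : g ∈ Cfsg.SU 3 F4 2 :=
  (Cfsg.Agent.Lib.H2.Spec.mem_SU_iff_mul frob4 (fun _ => rfl) g).2 h

/-- the ambient group `SU₃(2)` -/
abbrev GU := ↥(Cfsg.SU 3 F4 2)

/-- in `SU₃(2)` -/
def tauG : GU := ⟨tauS, mem_SU4 _ (by decide)⟩
/-- in `SU₃(2)` -/
def mG : GU := ⟨mS, mem_SU4 _ (by decide)⟩
/-- in `SU₃(2)` -/
def sigG : GU := ⟨sigS, mem_SU4 _ (by decide)⟩
/-- in `SU₃(2)` -/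
def xG : GU := ⟨xS, mem_SU4 _ (by decide)⟩
/-- in `SU₃(2)` -/
def yG : GU := ⟨yS, mem_SU4 _ (by decide)⟩

theorem relG : HeisRel tauG mG sigG where
  d2 := by decide
  m3 := by decide
  p3 := by decide
  dm := by decide
  dp := by decide
  zm := by decide
  zp := by decide
  zd := by decide
  z3 := by decide

/-- the monomial subgroup -/
def NG : Subgroup GU := Subgroup.closure {tauG, mG, sigG}

set_option maxRecDepth 100000 in
theorem nf_inj : Function.Injective (nfBox tauG mG sigG) := by decide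

theorem card_NG : Nat.card NG = 54 := by
  have hBox : Nat.card Box = 54 := by
    rw [Nat.card_eq_fintype_card]; rfl
  rw [← hBox]
  symm
  apply Nat.card_congr
  refine Equiv.ofBijective (fun a => ⟨nfBox tauG mG sigG a, nfBox_mem_closure _ _ _ a⟩) ⟨?_, ?_⟩
  · intro a b hab
    exact nf_inj (congrArg Subtype.val hab)
  · rintro ⟨g, hg⟩
    obtain ⟨a, ha⟩ := exists_nfBox_of_mem_closure relG hg
    exact ⟨a, Subtype.ext ha⟩

set_option maxRecDepth 100000 in
theorem pow_six_nf : ∀ a : Box, (nfBox tauG mG sigG a) ^ 6 = 1 := by decide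

theorem pow_six_of_mem {g : GU} (hg : g ∈ NG) : g ^ 6 = 1 := by
  obtain ⟨a, rfl⟩ := exists_nfBox_of_mem_closure relG hg
  exact pow_six_nf a

theorem x_notMem : xG ∉ NG := fun h => (by decide : xG ^ 6 ≠ 1) (pow_six_of_mem h)

theorem y_notMem : yG ∉ NG := fun h => (by decide : yG ^ 6 ≠ 1) (pow_six_of_mem h)

theorem xy_notMem : xG⁻¹ * yG ∉ NG := fun h =>
  (by decide : (xG⁻¹ * yG) ^ 6 ≠ 1) (pow_six_of_mem h)

theorem tau_mem : tauG ∈ NG := Subgroup.subset_closure (by simp)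
theorem m_mem : mG ∈ NG := Subgroup.subset_closure (by simp)
theorem sig_mem : sigG ∈ NG := Subgroup.subset_closure (by simp)

theorem conj_mem_NG_of {g : GU} (h1 : g * tauG * g⁻¹ ∈ NG) (h2 : g * mG * g⁻¹ ∈ NG)
    (h3 : g * sigG * g⁻¹ ∈ NG) : ∀ n ∈ NG, g * n * g⁻¹ ∈ NG := by
  have hle : NG ≤ NG.comap (MulAut.conj g).toMonoidHom := by
    have : NG = Subgroup.closure {tauG, mG, sigG} := rfl
    conv_lhs => rw [this]
    rw [Subgroup.closure_le]
    rintro t (rfl | rfl | rfl)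
    · exact h1
    · exact h2
    · exact h3
  intro n hn
  exact hle hn

theorem x_conj : ∀ n ∈ NG, xG * n * xG⁻¹ ∈ NG := by
  apply conj_mem_NG_of
  · have : xG * tauG * xG⁻¹ = tauG := by decide
    rw [this]; exact tau_mem
  · have : xG * mG * xG⁻¹ = sigG := by decide
    rw [this]; exact sig_mem
  · have : xG * sigG * xG⁻¹ = mG * mG := by decide
    rw [this]; exact NG.mul_mem m_mem m_mem

theorem y_conj : ∀ n ∈ NG, yG * n * yG⁻¹ ∈ NG := by
  apply conj_mem_NG_of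
  · have : yG * tauG * yG⁻¹ = tauG := by decide
    rw [this]; exact tau_mem
  · have : yG * mG * yG⁻¹ = nfBox tauG mG sigG (1, 1, 2, 0) := by decide
    rw [this]; exact nfBox_mem_closure _ _ _ _
  · have : yG * sigG * yG⁻¹ = nfBox tauG mG sigG (1, 2, 1, 0) := by decide
    rw [this]; exact nfBox_mem_closure _ _ _ _

end Cfsg.Agent.Lib.H10.TT3
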