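import Cfsg.Agent.Lib.H10.TT3E

set_option autoImplicit false

namespace Cfsg.Agent.Lib.H10.TT3

open Cfsg.Agent.Lib.H17 Matrix

theorem card_GU : Nat.card GU = 216 :=
  Cfsg.Agent.Lib.H7.SU32Inv.card_SU32 F4.card_eq

instance : Finite GU := Nat.finite_of_card_ne_zero (by rw [card_GU]; norm_num)

theorem index_NG : NG.index = 4 := by
  have h := NG.card_mul_index
  rw [card_NG, card_GU] at h
  omega

theorem normalizer_NG : Subgroup.normalizer (NG : Set GU) = ⊤ := by
  set S := Subgroup.normalizer (NG : Set GU) with hS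
  have hNS : NG ≤ S := Subgroup.le_normalizer
  have hx : xG ∈ S := Subgroup.mem_normalizer_fintype x_conj
  have hy : yG ∈ S := Subgroup.mem_normalizer_fintype y_conj
  have h1 := Subgroup.relIndex_mul_index hNS
  rw [index_NG] at h1
  have hr1 : NG.relIndex S ≠ 1 := by
    intro h
    exact x_notMem ((Subgroup.relIndex_eq_one.1 h) hx)
  have hr2 : NG.relIndex S ≠ 2 := by
    intro h
    have h2 : (NG.subgroupOf S).index = 2 := h
    have := Subgroup.mul_mem_iff_of_index_two h2 (a := (⟨xG, hx⟩ : S)⁻¹) (b := ⟨yG, hy⟩)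
    rw [Subgroup.mem_subgroupOf, Subgroup.mem_subgroupOf, Subgroup.mem_subgroupOf] at this
    have hxi : ((⟨xG, hx⟩ : S)⁻¹ : S).1 ∉ NG := by
      intro hh
      apply x_notMem
      have := NG.inv_mem hh
      simpa using this
    have hyi : ((⟨yG, hy⟩ : S) : GU) ∉ NG := y_notMem
    have hmem : (((⟨xG, hx⟩ : S)⁻¹ * ⟨yG, hy⟩ : S) : GU) ∈ NG :=
      this.2 ⟨fun hh => absurd hh hxi, fun hh => absurd hh hyi⟩
    exact xy_notMem hmem
  have hdvd : NG.relIndex S ∣ 4 := ⟨_, h1.symm⟩
  have hle : NG.relIndex S ≤ 4 := Nat.le_of_dvd (by norm_num) hdvd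
  have hr4 : NG.relIndex S = 4 := by
    interval_cases h : NG.relIndex S
    · simp at hdvd
    · exact absurd rfl hr1
    · exact absurd rfl hr2
    · norm_num at hdvd
    · rfl
  rw [hr4] at h1
  have : S.index = 1 := by omega
  exact Subgroup.index_eq_one.1 this

instance NG_normal : NG.Normal := by
  have := Subgroup.normalizer_eq_top_iff.1 normalizer_NG
  exact this

theorem commutator_le_NG : commutator GU ≤ NG := by
  have : Fact (Nat.Prime 2) := ⟨Nat.prime_two⟩
  have hc : Nat.card (GU ⧸ NG) = 2 ^ 2 := by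
    rw [← Subgroup.index_eq_card, index_NG]; norm_num
  have hcomm := IsPGroup.isMulCommutative_of_card_eq_prime_sq hc
  rw [commutator_def, Subgroup.commutator_le]
  intro g _ h _
  rw [← QuotientGroup.eq_one_iff, commutatorElement_def]
  simp only [QuotientGroup.mk_mul, QuotientGroup.mk_inv]
  rw [hcomm.is_comm.comm (g : GU ⧸ NG) (h : GU ⧸ NG)]
  group

theorem NG_le_commutator : NG ≤ commutator GU := by
  have key : ∀ a b : GU, a * b * a⁻¹ * b⁻¹ ∈ commutator GU := by
    intro a b
    rw [commutator_def, ← commutatorElement_def]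
    exact Subgroup.commutator_mem_commutator (Subgroup.mem_top a) (Subgroup.mem_top b)
  have : NG = Subgroup.closure {tauG, mG, sigG} := rfl
  rw [this, Subgroup.closure_le]
  rintro t (rfl | rfl | rfl)
  · have : xG * yG * xG⁻¹ * yG⁻¹ = tauG := by decide
    rw [SetLike.mem_coe, ← this]; exact key _ _
  · have : tauG * mG * tauG⁻¹ * mG⁻¹ = mG := by decide
    rw [SetLike.mem_coe, ← this]; exact key _ _
  · have : tauG * sigG * tauG⁻¹ * sigG⁻¹ = sigG := by decide
    rw [SetLike.mem_coe, ← this]; exact key _ _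

theorem commutator_eq_NG : commutator GU = NG := le_antisymm commutator_le_NG NG_le_commutator

theorem card_commutator_GU : Nat.card ↥(commutator GU) = 54 := by
  rw [commutator_eq_NG]; exact card_NG

theorem exists_heisData_commutator :
    ∃ d m p : ↥(commutator GU), HeisData d m p := by
  have hτ : tauG ∈ commutator GU := by rw [commutator_eq_NG]; exact tau_mem
  have hm : mG ∈ commutator GU := by rw [commutator_eq_NG]; exact m_mem
  have hs : sigG ∈ commutator GU := by rw [commutator_eq_NG]; exact sig_mem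
  refine ⟨⟨tauG, hτ⟩, ⟨mG, hm⟩, ⟨sigG, hs⟩, ?_, ?_⟩
  · have h := relG
    constructor
    · exact Subtype.ext h.d2
    · exact Subtype.ext h.m3
    · exact Subtype.ext h.p3
    · exact Subtype.ext h.dm
    · exact Subtype.ext h.dp
    · exact Subtype.ext h.zm
    · exact Subtype.ext h.zp
    · exact Subtype.ext h.zd
    · exact Subtype.ext h.z3
  · apply Subgroup.map_injective (commutator GU).subtype_injective
    rw [MonoidHom.map_closure, ← MonoidHom.range_eq_map, Subgroup.range_subtype]
    have : (commutator GU).subtype '' {⟨tauG, hτ⟩, ⟨mG, hm⟩, ⟨sigG, hs⟩} = {tauG, mG, sigG} := by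
      simp [Set.image_insert_eq]
    rw [this, commutator_eq_NG]
    rfl

end Cfsg.Agent.Lib.H10.TT3
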