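import Mathlib
import Cfsg.Agent.Lib.H10.TT3C

set_option autoImplicit false

/-!
Nonabelian groups of order 6 (helper10): normal form and uniqueness; transfer of the
generators-and-relations data to the closure subgroup.
-/

namespace Cfsg.Agent.Lib.H10.TT3

section S3

variable {K : Type*} [Group K]

/-- Relations for `S₃`. -/
structure S3Rel (d w : K) : Prop where
  d2 : d * d = 1
  w3 : w ^ 3 = 1
  dw : d * w * d⁻¹ = w⁻¹

/-- Generators and relations data for `S₃`. -/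
structure S3Data (d w : K) : Prop where
  rel : S3Rel d w
  gen : Subgroup.closure ({d, w} : Set K) = ⊤

/-- the index box for `S₃` -/
abbrev Box2 := Fin 3 × Fin 2

/-- normal form -/
def nfBox2 (d w : K) (a : Box2) : K := w ^ (a.1 : ℕ) * d ^ (a.2 : ℕ)

/-- multiplication rule -/
def mulBox2 (a b : Box2) : Box2 :=
  (⟨(a.1 + sgnExp a.2 * b.1) % 3, Nat.mod_lt _ (by norm_num)⟩,
   ⟨(a.2 + b.2) % 2, Nat.mod_lt _ (by norm_num)⟩)

theorem nfBox2_mul {d w : K} (h : S3Rel d w) (a b : Box2) :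
    nfBox2 d w a * nfBox2 d w b = nfBox2 d w (mulBox2 a b) := by
  unfold nfBox2 mulBox2
  have hd2 : d ^ 2 = 1 := by rw [pow_two]; exact h.d2
  have e1 := dpow_mul_pow h.d2 h.w3 h.dw (a.2 : ℕ) (b.1 : ℕ)
  show w ^ (a.1 : ℕ) * d ^ (a.2 : ℕ) * (w ^ (b.1 : ℕ) * d ^ (b.2 : ℕ))
    = w ^ (((a.1 : ℕ) + sgnExp a.2 * b.1) % 3) * d ^ (((a.2 : ℕ) + b.2) % 2)
  rw [← pow_eq_pow_mod _ h.w3, ← pow_eq_pow_mod _ hd2]
  calc w ^ (a.1 : ℕ) * d ^ (a.2 : ℕ) * (w ^ (b.1 : ℕ) * d ^ (b.2 : ℕ))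
      = w ^ (a.1 : ℕ) * (d ^ (a.2 : ℕ) * w ^ (b.1 : ℕ)) * d ^ (b.2 : ℕ) := by group
    _ = w ^ (a.1 : ℕ) * (w ^ (sgnExp a.2 * b.1) * d ^ (a.2 : ℕ)) * d ^ (b.2 : ℕ) := by rw [e1]
    _ = w ^ ((a.1 : ℕ) + sgnExp a.2 * b.1) * d ^ ((a.2 : ℕ) + b.2) := by
      rw [pow_add, pow_add]; group

theorem exists_nfBox2_of_mem_closure {d w : K} (h : S3Rel d w) {g : K}
    (hg : g ∈ Subgroup.closure ({d, w} : Set K)) : ∃ a, nfBox2 d w a = g := by
  let S : Submonoid K :=
    { carrier := Set.range (nfBox2 d w)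
      one_mem' := ⟨(0, 0), by simp [nfBox2]⟩
      mul_mem' := by
        rintro _ _ ⟨a, rfl⟩ ⟨b, rfl⟩
        exact ⟨mulBox2 a b, (nfBox2_mul h a b).symm⟩ }
  have hd : d ∈ S := ⟨(0, 1), by simp [nfBox2]⟩
  have hw : w ∈ S := ⟨(1, 0), by simp [nfBox2]⟩
  have hw' : w⁻¹ ∈ S := ⟨(2, 0), by simp [nfBox2, inv_eq_sq h.w3]⟩
  have hd' : d⁻¹ ∈ S := by
    have : d⁻¹ = d := inv_eq_of_mul_eq_one_left h.d2
    rw [this]; exact hd
  have hle : (Subgroup.closure ({d, w} : Set K)).toSubmonoid ≤ S := by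
    rw [Subgroup.closure_toSubmonoid, Submonoid.closure_le]
    intro x hx
    rcases hx with hx | hx
    · rcases hx with rfl | rfl
      · exact hd
      · exact hw
    · rw [Set.mem_inv] at hx
      rcases hx with hx | hx
      · have : x = d⁻¹ := by rw [← hx, inv_inv]
        rw [this]; exact hd'
      · have : x = w⁻¹ := by
          have hx' : x⁻¹ = w := hx
          rw [← hx', inv_inv]
        rw [this]; exact hw'
  exact hle hg

theorem nfBox2_surjective {d w : K} (h : S3Data d w) : Function.Surjective (nfBox2 d w) := by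
  intro g
  exact exists_nfBox2_of_mem_closure h.rel (by rw [h.gen]; exact Subgroup.mem_top g)

end S3

/-- Two groups of order 6 with `S₃` data are isomorphic. -/
theorem s3_iso {K₁ K₂ : Type*} [Group K₁] [Group K₂] {d₁ w₁ : K₁} {d₂ w₂ : K₂}
    (h₁ : S3Data d₁ w₁) (h₂ : S3Data d₂ w₂) (c₁ : Nat.card K₁ = 6)
    (c₂ : Nat.card K₂ = 6) : Nonempty (K₁ ≃* K₂) := by
  have hBox : Nat.card Box2 = 6 := by
    rw [Nat.card_eq_fintype_card]; rfl
  have hb₁ : Function.Bijective (nfBox2 d₁ w₁) :=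
    (nfBox2_surjective h₁).bijective_of_nat_card_le (by rw [hBox, c₁])
  have hb₂ : Function.Bijective (nfBox2 d₂ w₂) :=
    (nfBox2_surjective h₂).bijective_of_nat_card_le (by rw [hBox, c₂])
  let e₁ := Equiv.ofBijective _ hb₁
  let e₂ := Equiv.ofBijective _ hb₂
  have he₁ : ∀ c, e₁.symm (nfBox2 d₁ w₁ c) = c := fun c => e₁.symm_apply_apply c
  refine ⟨{ toEquiv := e₁.symm.trans e₂, map_mul' := ?_ }⟩
  intro x y
  obtain ⟨a, rfl⟩ := hb₁.2 x
  obtain ⟨b, rfl⟩ := hb₁.2 y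
  show e₂ (e₁.symm (nfBox2 d₁ w₁ a * nfBox2 d₁ w₁ b))
    = e₂ (e₁.symm (nfBox2 d₁ w₁ a)) * e₂ (e₁.symm (nfBox2 d₁ w₁ b))
  rw [nfBox2_mul h₁.rel, he₁, he₁, he₁]
  show nfBox2 d₂ w₂ (mulBox2 a b) = nfBox2 d₂ w₂ a * nfBox2 d₂ w₂ b
  rw [nfBox2_mul h₂.rel]

/-- the `S₃` data of `Perm (Fin 3)` -/
theorem s3Data_perm : S3Data (Equiv.swap (0 : Fin 3) 1) (finRotate 3) := by
  refine ⟨⟨by decide, by decide, by decide⟩, ?_⟩
  rw [eq_top_iff]
  intro g _
  have h : ∀ g : Equiv.Perm (Fin 3), ∃ a : Box2,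
      nfBox2 (Equiv.swap (0 : Fin 3) 1) (finRotate 3) a = g := by decide
  obtain ⟨a, rfl⟩ := h g
  have hd : Equiv.swap (0 : Fin 3) 1 ∈ Subgroup.closure
      ({Equiv.swap (0 : Fin 3) 1, finRotate 3} : Set (Equiv.Perm (Fin 3))) :=
    Subgroup.subset_closure (by simp)
  have hw : finRotate 3 ∈ Subgroup.closure
      ({Equiv.swap (0 : Fin 3) 1, finRotate 3} : Set (Equiv.Perm (Fin 3))) :=
    Subgroup.subset_closure (by simp)
  exact Subgroup.mul_mem _ (Subgroup.pow_mem _ hw _) (Subgroup.pow_mem _ hd _)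

/-- A group of order 6 with `S₃` data is isomorphic to `Perm (Fin 3)`. -/
theorem s3_iso_perm {K : Type*} [Group K] {d w : K} (h : S3Data d w) (c : Nat.card K = 6) :
    Nonempty (K ≃* Equiv.Perm (Fin 3)) :=
  s3_iso h s3Data_perm c (by rw [Nat.card_eq_fintype_card]; rfl)

section Transfer

variable {G : Type*} [Group G]

/-- transfer of the `3^{1+2}:2` data to the closure subgroup -/
theorem heisData_closure {d m p : G} (h : HeisRel d m p) {K : Subgroup G}
    (hK : K = Subgroup.closure ({d, m, p} : Set G)) :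
    ∃ d' m' p' : ↥K, HeisData d' m' p' := by
  have hd : d ∈ K := by rw [hK]; exact Subgroup.subset_closure (by simp)
  have hm : m ∈ K := by rw [hK]; exact Subgroup.subset_closure (by simp)
  have hp : p ∈ K := by rw [hK]; exact Subgroup.subset_closure (by simp)
  refine ⟨⟨d, hd⟩, ⟨m, hm⟩, ⟨p, hp⟩, ?_, ?_⟩
  · constructor
    · exact Subtype.ext h.d2
    · exact Subtype.ext h.m3
    · exact Subtype.ext h.p3
    · exact Subtype.ext h.dm
    · exact Subtype.ext h.dp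
    · exact Subtype.ext h.zm
    · exact Subtype.ext h.zp
    · exact Subtype.ext h.zd
    · exact Subtype.ext h.z3
  · apply Subgroup.map_injective K.subtype_injective
    rw [MonoidHom.map_closure, ← MonoidHom.range_eq_map, Subgroup.range_subtype]
    have : K.subtype '' {⟨d, hd⟩, ⟨m, hm⟩, ⟨p, hp⟩} = {d, m, p} := by
      simp [Set.image_insert_eq]
    rw [this, ← hK]

/-- transfer of the `S₃` data to the closure subgroup -/
theorem s3Data_closure {d w : G} (h : S3Rel d w) {K : Subgroup G}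
    (hK : K = Subgroup.closure ({d, w} : Set G)) :
    ∃ d' w' : ↥K, S3Data d' w' := by
  have hd : d ∈ K := by rw [hK]; exact Subgroup.subset_closure (by simp)
  have hw : w ∈ K := by rw [hK]; exact Subgroup.subset_closure (by simp)
  refine ⟨⟨d, hd⟩, ⟨w, hw⟩, ?_, ?_⟩
  · constructor
    · exact Subtype.ext h.d2
    · exact Subtype.ext h.w3
    · exact Subtype.ext h.dw
  · apply Subgroup.map_injective K.subtype_injective
    rw [MonoidHom.map_closure, ← MonoidHom.range_eq_map, Subgroup.range_subtype]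
    have : K.subtype '' {⟨d, hd⟩, ⟨w, hw⟩} = {d, w} := by
      simp [Set.image_insert_eq]
    rw [this, ← hK]

end Transfer

end Cfsg.Agent.Lib.H10.TT3
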