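import Mathlib
import Cfsg.Prelude.Def_SporadicB
import Cfsg.Agent.Lib.H10.TT3A

set_option autoImplicit false

/-!
3-transposition groups (helper10): consequences of the key local lemma for pairs of inverted
elements of order 3, also modulo a central element of order 3.
-/

namespace Cfsg.Agent.Lib.H10.TT3

open Cfsg Cfsg.Agent.Lib.H26.ThreeTrans

variable {G : Type*} [Group G]

/-- The closure of a commuting pair of inverted elements of order 3. -/
theorem pair_data {a x y : G} (hxy : x * y = y * x) (hx3 : x ^ 3 = 1) (hy3 : y ^ 3 = 1)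
    (hax : a * x * a⁻¹ = x⁻¹) (hay : a * y * a⁻¹ = y⁻¹) :
    (∀ u ∈ Subgroup.closure ({x, y} : Set G), ∀ v ∈ Subgroup.closure ({x, y} : Set G),
        u * v = v * u) ∧
      (∀ u ∈ Subgroup.closure ({x, y} : Set G), u ^ 3 = 1) ∧
      (∀ u ∈ Subgroup.closure ({x, y} : Set G), a * u * a⁻¹ = u⁻¹) := by
  have hcomm : ∀ s ∈ ({x, y} : Set G), ∀ t ∈ ({x, y} : Set G), s * t = t * s := by
    rintro s (rfl | rfl) t (rfl | rfl)
    · rfl
    · exact hxy
    · exact hxy.symm
    · rfl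
  have hc : ∀ u ∈ Subgroup.closure ({x, y} : Set G), ∀ v ∈ Subgroup.closure ({x, y} : Set G),
      u * v = v * u := by
    intro u hu v hv
    have := (Subgroup.isMulCommutative_closure hcomm).is_comm.comm ⟨u, hu⟩ ⟨v, hv⟩
    exact congrArg Subtype.val this
  refine ⟨hc, ?_, ?_⟩
  · intro u hu
    induction hu using Subgroup.closure_induction with
    | mem s hs =>
      rcases hs with rfl | rfl
      · exact hx3
      · exact hy3
    | one => exact one_pow 3
    | mul u v hu hv ihu ihv =>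
      have : Commute u v := hc u hu v hv
      rw [this.mul_pow, ihu, ihv, one_mul]
    | inv u hu ih => rw [inv_pow, ih, inv_one]
  · intro u hu
    induction hu using Subgroup.closure_induction with
    | mem s hs =>
      rcases hs with rfl | rfl
      · exact hax
      · exact hay
    | one => group
    | mul u v hu hv ihu ihv =>
      have h1 : a * (u * v) * a⁻¹ = (a * u * a⁻¹) * (a * v * a⁻¹) := by group
      rw [h1, ihu, ihv, mul_inv_rev]
      have := hc u⁻¹ (Subgroup.inv_mem _ hu) v⁻¹ (Subgroup.inv_mem _ hv)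
      exact this
    | inv u hu ih =>
      have h1 : a * u⁻¹ * a⁻¹ = (a * u * a⁻¹)⁻¹ := by group
      rw [h1, ih]

/-- The closure of a commuting pair of elements of order 3 is abelian of exponent 3. -/
theorem pair_comm_cube {x y : G} (hxy : x * y = y * x) (hx3 : x ^ 3 = 1) (hy3 : y ^ 3 = 1) :
    (∀ u ∈ Subgroup.closure ({x, y} : Set G), ∀ v ∈ Subgroup.closure ({x, y} : Set G),
        u * v = v * u) ∧
      (∀ u ∈ Subgroup.closure ({x, y} : Set G), u ^ 3 = 1) := by
  have hcomm : ∀ s ∈ ({x, y} : Set G), ∀ t ∈ ({x, y} : Set G), s * t = t * s := by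
    rintro s (rfl | rfl) t (rfl | rfl)
    · rfl
    · exact hxy
    · exact hxy.symm
    · rfl
  have hc : ∀ u ∈ Subgroup.closure ({x, y} : Set G), ∀ v ∈ Subgroup.closure ({x, y} : Set G),
      u * v = v * u := by
    intro u hu v hv
    have := (Subgroup.isMulCommutative_closure hcomm).is_comm.comm ⟨u, hu⟩ ⟨v, hv⟩
    exact congrArg Subtype.val this
  refine ⟨hc, ?_⟩
  intro u hu
  induction hu using Subgroup.closure_induction with
  | mem s hs =>
    rcases hs with rfl | rfl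
    · exact hx3
    · exact hy3
  | one => exact one_pow 3
  | mul u v hu hv ihu ihv =>
    have : Commute u v := hc u hu v hv
    rw [this.mul_pow, ihu, ihv, one_mul]
  | inv u hu ih => rw [inv_pow, ih, inv_one]

/-- If `a` centralizes `C_X(b)` for every nontrivial `b` in a non-cyclic abelian group `A` of
exponent 3, then `a` centralizes the normal 2-subgroup `X`. -/
theorem centralizes_of_good [Finite G] {X A : Subgroup G} (hX : IsPGroup 2 X) [hXn : X.Normal]
    {a : G} (hAc : ∀ x ∈ A, ∀ y ∈ A, x * y = y * x) (hA3 : ∀ x ∈ A, x ^ 3 = 1)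
    (hcard : 3 < Nat.card A)
    (hgood : ∀ b ∈ A, b ≠ 1 → ∀ u ∈ X, u * b = b * u → a * u = u * a) :
    ∀ u ∈ X, a * u = u * a := by
  have : Fact (Nat.Prime 3) := ⟨Nat.prime_three⟩
  have hcop : (Nat.card X).Coprime 3 := by
    obtain ⟨n, hn⟩ := IsPGroup.iff_card.1 hX
    rw [hn]
    exact Nat.Coprime.pow_left n (by norm_num)
  have hAX : A ≤ Subgroup.normalizer (X : Set G) := by
    rw [Subgroup.normalizer_eq_top]; exact le_top
  have h := Cfsg.Agent.Lib.H7.le_hypGen 3 hAc hA3 hcop hAX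
  have hle : Cfsg.Agent.Lib.H7.hypGen 3 A X ≤ Subgroup.centralizer ({a} : Set G) := by
    unfold Cfsg.Agent.Lib.H7.hypGen
    apply iSup_le
    rintro ⟨B, hBA, hBi⟩
    intro u hu
    obtain ⟨huX, huB⟩ := hu
    have hB : ∃ b ∈ B, b ≠ 1 := by
      by_contra hcon
      push Not at hcon
      have hBbot : B = ⊥ := by
        rw [eq_bot_iff]
        intro b hb
        rw [Subgroup.mem_bot]; exact hcon b hb
      rw [hBbot, Subgroup.relIndex_bot_left] at hBi
      omega
    obtain ⟨b, hb, hb1⟩ := hB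
    rw [Subgroup.mem_centralizer_singleton_iff]
    have hub : u * b = b * u := ((Subgroup.mem_centralizer_iff.1 huB) b hb).symm
    exact (hgood b (hBA hb) hb1 u huX hub).symm
  intro u hu
  have := hle (h hu)
  rw [Subgroup.mem_centralizer_singleton_iff] at this
  exact this.symm

/-- **Lemma B for a pair.** -/
theorem lemmaB' [Finite G] {E : Set G} (hE : IsThreeTranspositionSet E)
    (hconj : ∀ g : G, ∀ e ∈ E, g * e * g⁻¹ ∈ E)
    {X : Subgroup G} (hX : IsPGroup 2 X) [hXn : X.Normal] {a x y : G} (ha : a ∈ E)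
    (hxy : x * y = y * x) (hx3 : x ^ 3 = 1) (hy3 : y ^ 3 = 1)
    (hax : a * x * a⁻¹ = x⁻¹) (hay : a * y * a⁻¹ = y⁻¹) (hx1 : x ≠ 1)
    (hy : y ∉ Subgroup.zpowers x) : ∀ u ∈ X, a * u = u * a := by
  have : Fact (Nat.Prime 3) := ⟨Nat.prime_three⟩
  obtain ⟨hAc, hA3, hAinv⟩ := pair_data hxy hx3 hy3 hax hay
  have hxA : x ∈ Subgroup.closure ({x, y} : Set G) := Subgroup.subset_closure (by simp)
  have hyA : y ∈ Subgroup.closure ({x, y} : Set G) := Subgroup.subset_closure (by simp)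
  have hle : Subgroup.zpowers x ≤ Subgroup.closure ({x, y} : Set G) := by
    rw [Subgroup.zpowers_le]; exact hxA
  have hlt := Cfsg.Agent.Lib.H7.card_lt_card_of_le_of_mem_of_notMem hle hyA hy
  have h3 : Nat.card (Subgroup.zpowers x) = 3 := by
    rw [Nat.card_zpowers]; exact orderOf_eq_prime hx3 hx1
  rw [h3] at hlt
  exact lemmaB hE hconj hX ha hAc hA3 hAinv hlt

/-- **Lemma B modulo a central element of order 3.** -/
theorem lemmaQ [Finite G] {E : Set G} (hE : IsThreeTranspositionSet E)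
    (hconj : ∀ g : G, ∀ e ∈ E, g * e * g⁻¹ ∈ E)
    {X : Subgroup G} (hX : IsPGroup 2 X) [hXn : X.Normal] {a x y z : G} (ha : a ∈ E)
    (hz : z ∈ Subgroup.center G) (hz3 : z ^ 3 = 1)
    (hxy : x * y * x⁻¹ * y⁻¹ ∈ Subgroup.zpowers z) (hx3 : x ^ 3 = 1) (hy3 : y ^ 3 = 1)
    (hax : a * x * a⁻¹ = x⁻¹) (hay : a * y * a⁻¹ = y⁻¹)
    (hx1 : x ∉ Subgroup.zpowers z) (hy : ∀ k : ℤ, y * x ^ k ∉ Subgroup.zpowers z) :
    ∀ u ∈ X, a * u = u * a := by
  set N := Subgroup.zpowers z with hN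
  have hNc : N ≤ Subgroup.center G := by
    rw [hN, Subgroup.zpowers_le]; exact hz
  haveI hNn : N.Normal := by
    constructor
    intro n hn g
    have h1 := Subgroup.mem_center_iff.1 (hNc hn) g
    have : g * n * g⁻¹ = n := by rw [h1]; group
    rw [this]; exact hn
  let φ : G →* G ⧸ N := QuotientGroup.mk' N
  have hφs : Function.Surjective φ := QuotientGroup.mk'_surjective N
  have hφ1 : ∀ g : G, φ g = 1 ↔ g ∈ N := fun g => QuotientGroup.eq_one_iff g
  have hN3 : ∀ g ∈ N, g ^ 3 = 1 := by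
    intro g hg
    obtain ⟨k, rfl⟩ := Subgroup.mem_zpowers_iff.1 hg
    rw [← zpow_natCast, ← zpow_mul, mul_comm, zpow_mul, zpow_natCast, hz3, one_zpow]
  set E' : Set (G ⧸ N) := φ '' E with hE'
  have hE'3 : IsThreeTranspositionSet E' := by
    constructor
    · rintro _ ⟨e, he, rfl⟩
      have : Fact (Nat.Prime 2) := ⟨Nat.prime_two⟩
      apply orderOf_eq_prime
      · rw [← map_pow, pow_two, sq_eq_one hE he, map_one]
      · intro h1
        have heN : e ∈ N := (hφ1 e).1 h1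
        have h3 := hN3 e heN
        have h2 : e * e = 1 := sq_eq_one hE he
        have : e = 1 := by
          calc e = e ^ 3 * (e * e)⁻¹ := by group
            _ = 1 := by rw [h3, h2]; simp
        exact ne_one hE he this
    · rintro _ ⟨e, he, rfl⟩ _ ⟨f, hf, rfl⟩
      rcases hE.2 e he f hf with h | h
      · left; rw [← map_mul, ← map_pow, h, map_one]
      · right; rw [← map_mul, ← map_pow, h, map_one]
  have hconj' : ∀ g : G ⧸ N, ∀ e ∈ E', g * e * g⁻¹ ∈ E' := by
    intro g e he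
    obtain ⟨g, rfl⟩ := hφs g
    obtain ⟨e, he, rfl⟩ := he
    exact ⟨g * e * g⁻¹, hconj g e he, by simp⟩
  have hX' : IsPGroup 2 (X.map φ) := hX.map φ
  haveI hXn' : (X.map φ).Normal := hXn.map φ hφs
  have ha' : φ a ∈ E' := ⟨a, ha, rfl⟩
  have hxy' : φ x * φ y = φ y * φ x := by
    have h1 : φ (x * y * x⁻¹ * y⁻¹) = 1 := (hφ1 _).2 hxy
    rw [map_mul, map_mul, map_mul, map_inv, map_inv] at h1
    calc φ x * φ y = (φ x * φ y * (φ x)⁻¹ * (φ y)⁻¹) * (φ y * φ x) := by group
      _ = φ y * φ x := by rw [h1, one_mul]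
  have hx3' : φ x ^ 3 = 1 := by rw [← map_pow, hx3, map_one]
  have hy3' : φ y ^ 3 = 1 := by rw [← map_pow, hy3, map_one]
  have hax' : φ a * φ x * (φ a)⁻¹ = (φ x)⁻¹ := by
    rw [← map_inv, ← map_mul, ← map_mul, hax, map_inv]
  have hay' : φ a * φ y * (φ a)⁻¹ = (φ y)⁻¹ := by
    rw [← map_inv, ← map_mul, ← map_mul, hay, map_inv]
  have hx1' : φ x ≠ 1 := fun h => hx1 ((hφ1 x).1 h)
  have hy' : φ y ∉ Subgroup.zpowers (φ x) := by
    intro h
    obtain ⟨k, hk⟩ := Subgroup.mem_zpowers_iff.1 h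
    apply hy (-k)
    rw [← hφ1, map_mul, map_zpow, ← hk, ← zpow_add]
    simp
  have key := lemmaB' hE'3 hconj' hX' ha' hxy' hx3' hy3' hax' hay' hx1' hy'
  intro u hu
  have h1 : φ a * φ u = φ u * φ a := key (φ u) (Subgroup.mem_map_of_mem φ hu)
  have h2 : a * u * a⁻¹ * u⁻¹ ∈ N := by
    rw [← hφ1, map_mul, map_mul, map_mul, map_inv, map_inv, h1]
    group
  have h3 : a * u * a⁻¹ * u⁻¹ ∈ X := X.mul_mem (hXn.conj_mem u hu a) (X.inv_mem hu)
  have h4 : a * u * a⁻¹ * u⁻¹ = 1 := by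
    obtain ⟨k, hk⟩ := hX ⟨_, h3⟩
    have hk' : (a * u * a⁻¹ * u⁻¹) ^ 2 ^ k = 1 := by
      have := congrArg Subtype.val hk
      simpa using this
    exact eq_one_of_two_pow_of_cube hk' (hN3 _ h2)
  calc a * u = (a * u * a⁻¹ * u⁻¹) * (u * a) := by group
    _ = u * a := by rw [h4, one_mul]

theorem comm_cube {m p : G} (hm3 : m ^ 3 = 1)
    (hzm : (m * p * m⁻¹ * p⁻¹) * m = m * (m * p * m⁻¹ * p⁻¹)) : (m * p * m⁻¹ * p⁻¹) ^ 3 = 1 := by
  set z := m * p * m⁻¹ * p⁻¹ with hz
  have h1 : p * m⁻¹ * p⁻¹ = m⁻¹ * z := by rw [hz]; group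
  have hc : Commute m⁻¹ z := by
    have : Commute z m := hzm
    exact (this.inv_right).symm
  have h2 : (p * m⁻¹ * p⁻¹) ^ 3 = 1 := by
    rw [conj_pow, inv_pow, hm3]; group
  rw [h1, hc.mul_pow, inv_pow, hm3, inv_one, one_mul] at h2
  exact h2

/-- **Good elements.** If `z = [m, p] ≠ 1` is a commutator of two inverted elements of order 3
commuting with `m`, `p` and `d`, then `d` centralizes `C_Q(z)`. -/
theorem good_of_comm [Finite G] {E : Set G} (hE : IsThreeTranspositionSet E)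
    (hconj : ∀ g : G, ∀ e ∈ E, g * e * g⁻¹ ∈ E)
    {Q : Subgroup G} (hQ : IsPGroup 2 Q) [hQn : Q.Normal] {d m p : G} (hd : d ∈ E)
    (hm3 : m ^ 3 = 1) (hp3 : p ^ 3 = 1) (hdm : d * m * d⁻¹ = m⁻¹) (hdp : d * p * d⁻¹ = p⁻¹)
    (hzm : (m * p * m⁻¹ * p⁻¹) * m = m * (m * p * m⁻¹ * p⁻¹))
    (hzp : (m * p * m⁻¹ * p⁻¹) * p = p * (m * p * m⁻¹ * p⁻¹))
    (hzd : (m * p * m⁻¹ * p⁻¹) * d = d * (m * p * m⁻¹ * p⁻¹))
    (hz1 : m * p * m⁻¹ * p⁻¹ ≠ 1) :
    ∀ u ∈ Q, u * (m * p * m⁻¹ * p⁻¹) = (m * p * m⁻¹ * p⁻¹) * u → d * u = u * d := by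
  have hz3 := comm_cube hm3 hzm
  set z := m * p * m⁻¹ * p⁻¹ with hz
  set C := Subgroup.centralizer ({z} : Set G) with hC
  have hmem : ∀ g : G, g ∈ C ↔ g * z = z * g := fun g => Subgroup.mem_centralizer_singleton_iff
  have mC : m ∈ C := (hmem m).2 hzm.symm
  have pC : p ∈ C := (hmem p).2 hzp.symm
  have dC : d ∈ C := (hmem d).2 hzd.symm
  have zC : z ∈ C := (hmem z).2 rfl
  let EC : Set ↥C := {c | (c : G) ∈ E}
  have hEC : IsThreeTranspositionSet EC := by
    constructor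
    · intro c hc
      rw [← Subgroup.orderOf_coe]
      exact hE.1 _ hc
    · intro c hc c' hc'
      rcases hE.2 _ hc _ hc' with h | h
      · left; apply Subtype.ext; simpa using h
      · right; apply Subtype.ext; simpa using h
  have hconjC : ∀ g : ↥C, ∀ e ∈ EC, g * e * g⁻¹ ∈ EC := by
    intro g e he
    show ((g * e * g⁻¹ : ↥C) : G) ∈ E
    simpa using hconj (g : G) (e : G) he
  have hXC : IsPGroup 2 (Q.subgroupOf C) := hQ.comap_subtype
  have hzcen : (⟨z, zC⟩ : ↥C) ∈ Subgroup.center ↥C := by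
    rw [Subgroup.mem_center_iff]
    intro g
    apply Subtype.ext
    exact (hmem g).1 g.2
  have hz3C : (⟨z, zC⟩ : ↥C) ^ 3 = 1 := by
    apply Subtype.ext; simpa using hz3
  have hzpow : ∀ g : ↥C, g ∈ Subgroup.zpowers (⟨z, zC⟩ : ↥C) → ∃ k : ℤ, (g : G) = z ^ k := by
    intro g hg
    obtain ⟨k, hk⟩ := Subgroup.mem_zpowers_iff.1 hg
    exact ⟨k, by rw [← hk]; simp⟩
  have hczm : Commute z m := hzm
  have hczp : Commute z p := hzp
  have hne : m * p ≠ p * m := by
    intro h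
    apply hz1
    rw [hz, h]; group
  have key := lemmaQ (G := ↥C) (E := EC) hEC hconjC hXC (a := ⟨d, dC⟩) (x := ⟨m, mC⟩)
    (y := ⟨p, pC⟩) (z := ⟨z, zC⟩) hd hzcen hz3C
    (by
      have : (⟨m, mC⟩ : ↥C) * ⟨p, pC⟩ * (⟨m, mC⟩ : ↥C)⁻¹ * (⟨p, pC⟩ : ↥C)⁻¹ = ⟨z, zC⟩ := by
        apply Subtype.ext; simp [hz]
      rw [this]; exact Subgroup.mem_zpowers _)
    (by apply Subtype.ext; simpa using hm3)
    (by apply Subtype.ext; simpa using hp3)
    (by apply Subtype.ext; simpa using hdm)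
    (by apply Subtype.ext; simpa using hdp)
    (by
      intro h
      obtain ⟨k, hk⟩ := hzpow _ h
      have hk' : m = z ^ k := hk
      apply hne
      rw [hk']
      exact ((hczp.zpow_left k).eq))
    (by
      intro k h
      obtain ⟨j, hj⟩ := hzpow _ h
      have hj' : p * m ^ k = z ^ j := by simpa using hj
      have hp : p = z ^ j * m ^ (-k) := by
        rw [← hj']; group
      apply hne
      have hc : Commute m p := by
        rw [hp]
        exact ((hczm.zpow_left j).symm).mul_right ((Commute.refl m).zpow_right (-k))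
      exact hc.eq)
  intro u hu huz
  have uC : u ∈ C := (hmem u).2 huz
  have := key ⟨u, uC⟩ (Subgroup.mem_subgroupOf.2 hu)
  exact congrArg Subtype.val this

end Cfsg.Agent.Lib.H10.TT3
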