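import Mathlib
import Cfsg.Prelude.Def_SporadicB
import Cfsg.Agent.Lib.H7.TTSyl4
import Cfsg.Agent.Lib.H7.PLocal
import Cfsg.Agent.Lib.H10.TT3H

set_option autoImplicit false

/-!
3-transposition groups with `H = O_{2,3,2}(H)` (helper10): fibres modulo `O_2`, the complement
`P ⋊ ⟨d⟩`, and the basic facts on the elements of `P` inverted by `d`.
-/

namespace Cfsg.Agent.Lib.H10.TT3

open Cfsg Cfsg.Agent.Lib.H26.ThreeTrans Cfsg.Agent.Lib.H7.TT

variable {H : Type*} [Group H] [Finite H] {E : Set H}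

/-- In `O_{2,3,2}`, commuting transpositions are congruent modulo `O_2`. -/
theorem veq_of_232 (hE : IsThreeTranspositionClass E)
    (h232 : ∃ P : Sylow 3 (H ⧸ pCore 2 H), (P : Subgroup (H ⧸ pCore 2 H)).Normal ∧
      ∃ k : ℕ, (P : Subgroup (H ⧸ pCore 2 H)).index = 2 ^ k)
    {d : H} (hd : d ∈ E) : ∀ y ∈ E, Commute d y → Veq E d y := by
  have : Fact (Nat.Prime 2) := ⟨Nat.prime_two⟩
  obtain ⟨Pb, hPn, k, hk⟩ := h232
  haveI := hPn
  haveI hQn : (pCore 2 H).Normal := Cfsg.Agent.Lib.H1.pCore_normal 2 H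
  have hQ2 : IsPGroup 2 (pCore 2 H) := Cfsg.Agent.Lib.H1.pCore_isPGroup 2 H
  let π : H →* H ⧸ pCore 2 H := QuotientGroup.mk' _
  let ρ : H →* (H ⧸ pCore 2 H) ⧸ (Pb : Subgroup (H ⧸ pCore 2 H)) := (QuotientGroup.mk' _).comp π
  have hW : IsPGroup 2 ((H ⧸ pCore 2 H) ⧸ (Pb : Subgroup (H ⧸ pCore 2 H))) := by
    apply IsPGroup.of_card (n := k)
    rw [← Subgroup.index_eq_card, hk]
  have hS := hE.1
  have hcomm : ∀ a ∈ E, ∀ b ∈ E, Commute (ρ a) (ρ b) := by
    intro a ha b hb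
    rcases commute_or_cube hS ha hb with h | h
    · exact h.map ρ
    · have h3 : (ρ (a * b)) ^ 3 = 1 := by rw [← map_pow, h, map_one]
      obtain ⟨j, hj⟩ := hW (ρ (a * b))
      have h1 : ρ (a * b) = 1 := eq_one_of_two_pow_of_cube hj h3
      have hb2 : ρ b * ρ b = 1 := by rw [← map_mul, sq_eq_one hS hb, map_one]
      have hab : ρ a = ρ b := by
        rw [map_mul] at h1
        calc ρ a = (ρ a * ρ b) * (ρ b)⁻¹ := by group
          _ = (ρ b)⁻¹ := by rw [h1, one_mul]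
          _ = ρ b := inv_eq_of_mul_eq_one_left hb2
      rw [hab]
  have hcen : ∀ a ∈ E, ∀ g : H, ρ a * ρ g = ρ g * ρ a := by
    intro a ha g
    have hle : Subgroup.closure E ≤ (Subgroup.centralizer {ρ a}).comap ρ := by
      rw [Subgroup.closure_le]
      intro e he
      rw [SetLike.mem_coe, Subgroup.mem_comap, Subgroup.mem_centralizer_singleton_iff]
      exact (hcomm a ha e he).symm.eq
    have hg : g ∈ Subgroup.closure E := by rw [hE.2.2]; exact Subgroup.mem_top g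
    have := hle hg
    rw [Subgroup.mem_comap, Subgroup.mem_centralizer_singleton_iff] at this
    exact this.symm
  have heq : ∀ a ∈ E, ∀ b ∈ E, ρ a = ρ b := by
    intro a ha b hb
    obtain ⟨g, rfl⟩ := exists_conj_eq hE ha hb
    rw [map_mul, map_mul, map_inv]
    have := hcen a ha g
    calc ρ a = (ρ a * ρ g) * (ρ g)⁻¹ := by group
      _ = ρ g * ρ a * (ρ g)⁻¹ := by rw [this]
  intro y hy hc
  apply veq_of_mul_mem hS hQ2 hd hy
  have h1 : ρ (d * y) = 1 := by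
    rw [map_mul, heq d hd y hy, ← map_mul, sq_eq_one hS hy, map_one]
  have h2 : π (d * y) ∈ (Pb : Subgroup (H ⧸ pCore 2 H)) := (QuotientGroup.eq_one_iff _).1 h1
  have h3 : (π (d * y)) ^ 2 = 1 := by
    rw [← map_pow, hc.mul_pow, pow_two, pow_two, sq_eq_one hS hd, sq_eq_one hS hy, mul_one,
      map_one]
  obtain ⟨j, hj⟩ := Pb.2 ⟨_, h2⟩
  have hj' : (π (d * y)) ^ (3 ^ j) = 1 := by
    have := congrArg Subtype.val hj
    simpa using this
  have h4 : π (d * y) = 1 := by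
    have o1 : orderOf (π (d * y)) ∣ 2 := orderOf_dvd_of_pow_eq_one h3
    have o2 : orderOf (π (d * y)) ∣ 3 ^ j := orderOf_dvd_of_pow_eq_one hj'
    have h5 := Nat.dvd_gcd o1 o2
    have hco : Nat.gcd 2 (3 ^ j) = 1 := Nat.Coprime.pow_right j (by norm_num)
    rw [hco] at h5
    exact orderOf_eq_one_iff.1 (Nat.dvd_one.1 h5)
  exact (QuotientGroup.eq_one_iff _).1 h4

/-- `d` does not centralize `O_2(H)`. -/
theorem not_centralizes (hE : IsThreeTranspositionClass E) (hE2 : ∃ a ∈ E, ∃ b ∈ E, a ≠ b)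
    (hF : generalizedFittingSubgroup H = pCore 2 H) {d : H} (hd : d ∈ E) :
    ¬ ∀ u ∈ pCore 2 H, d * u = u * d := by
  intro h
  have hle := Cfsg.Agent.Lib.H7.centralizer_pCore_le_of_generalizedFittingSubgroup_eq 2 hF
  have : d ∈ Subgroup.centralizer (pCore 2 H : Set H) := by
    rw [Subgroup.mem_centralizer_iff]
    intro u hu
    exact (h u hu).symm
  exact not_mem_pCore_two hE hE2 hd (hle this)

/-- an element of a 3-group with a 2-power annihilating it is trivial -/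
theorem eq_one_of_three_group {R : Subgroup H} (hR : IsPGroup 3 R) {w : H} (hwR : w ∈ R)
    {n : ℕ} (hn : w ^ 2 ^ n = 1) : w = 1 := by
  obtain ⟨j, hj⟩ := hR ⟨w, hwR⟩
  have hj' : w ^ 3 ^ j = 1 := by
    have := congrArg Subtype.val hj
    simpa using this
  have o1 : orderOf w ∣ 2 ^ n := orderOf_dvd_of_pow_eq_one hn
  have o2 : orderOf w ∣ 3 ^ j := orderOf_dvd_of_pow_eq_one hj'
  have h5 := Nat.dvd_gcd o1 o2
  have hco : Nat.gcd (2 ^ n) (3 ^ j) = 1 := Nat.Coprime.pow _ _ (by norm_num)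
  rw [hco] at h5
  exact orderOf_eq_one_iff.1 (Nat.dvd_one.1 h5)

/-- inverted elements of a 3-subgroup have order dividing 3 -/
theorem cube_of_inverted (hE : IsThreeTranspositionClass E) {d : H} (hd : d ∈ E)
    {R : Subgroup H} (hR : IsPGroup 3 R) {w : H} (hwR : w ∈ R) (hw : d * w * d⁻¹ = w⁻¹) :
    w ^ 3 = 1 := by
  have hS := hE.1
  have hdinv := inv_eq hS hd
  have he : w * d * w⁻¹ ∈ E := class_conj hE w d hd
  have hprod : d * (w * d * w⁻¹) = w⁻¹ * w⁻¹ := by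
    calc d * (w * d * w⁻¹) = (d * w * d) * w⁻¹ := by group
      _ = (d * w * d⁻¹) * w⁻¹ := by rw [hdinv]
      _ = w⁻¹ * w⁻¹ := by rw [hw]
  rcases hS.2 d hd _ he with h | h
  · rw [hprod] at h
    have h4 : w ^ 2 ^ 2 = 1 := by
      have e : (w⁻¹ * w⁻¹) ^ 2 = (w ^ 2 ^ 2)⁻¹ := by group
      rw [e] at h
      exact inv_eq_one.1 h
    rw [eq_one_of_three_group hR hwR h4, one_pow]
  · rw [hprod] at h
    have h6 : (w ^ 3) ^ 2 ^ 1 = 1 := by
      have e : (w⁻¹ * w⁻¹) ^ 3 = ((w ^ 3) ^ 2 ^ 1)⁻¹ := by group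
      rw [e] at h
      exact inv_eq_one.1 h
    exact eq_one_of_three_group hR (R.pow_mem hwR 3) h6

/-- no non-cyclic elementary abelian 3-subgroup is inverted by `d` -/
theorem no_rank2 (hE : IsThreeTranspositionClass E) (hE2 : ∃ a ∈ E, ∃ b ∈ E, a ≠ b)
    (hF : generalizedFittingSubgroup H = pCore 2 H) {d : H} (hd : d ∈ E) {x y : H}
    (hxy : x * y = y * x) (hx3 : x ^ 3 = 1) (hy3 : y ^ 3 = 1)
    (hdx : d * x * d⁻¹ = x⁻¹) (hdy : d * y * d⁻¹ = y⁻¹) (hx1 : x ≠ 1)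
    (hy : y ∉ Subgroup.zpowers x) : False := by
  haveI hQn : (pCore 2 H).Normal := Cfsg.Agent.Lib.H1.pCore_normal 2 H
  exact not_centralizes hE hE2 hF hd
    (lemmaB' hE.1 (class_conj hE) (Cfsg.Agent.Lib.H1.pCore_isPGroup 2 H) hd hxy hx3 hy3 hdx hdy
      hx1 hy)

end Cfsg.Agent.Lib.H10.TT3
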