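import Mathlib
import Cfsg.Agent.Lib.H10.TT3I

set_option autoImplicit false

/-!
3-transposition groups with `H = O_{2,3,2}(H)` (helper10): the complement `P ⋊ ⟨d⟩` of `O_2(H)`
and the generation of `P` by the elements inverted by `d`.
-/

namespace Cfsg.Agent.Lib.H10.TT3

open Cfsg Cfsg.Agent.Lib.H26.ThreeTrans Cfsg.Agent.Lib.H7.TT

variable {H : Type*} [Group H] [Finite H] {E : Set H}

omit [Finite H] in
theorem mem_zpowers_involution {d : H} (hd2 : d * d = 1) {t : H} (ht : t ∈ Subgroup.zpowers d) :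
    t = 1 ∨ t = d := by
  rw [Subgroup.mem_zpowers_iff] at ht
  obtain ⟨k, rfl⟩ := ht
  rcases Int.emod_two_eq_zero_or_one k with h | h
  · left
    have : k = 2 * (k / 2) := by omega
    rw [this, zpow_mul, zpow_ofNat, pow_two, hd2, one_zpow]
  · right
    have : k = 2 * (k / 2) + 1 := by omega
    rw [this, zpow_add, zpow_mul, zpow_ofNat, pow_two, hd2, one_zpow, one_mul, zpow_one]

/-- The complement of `O_2(H)`, explicitly. -/
theorem isComplement'_sup (hE : IsThreeTranspositionClass E)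
    (hE2 : ∃ a ∈ E, ∃ b ∈ E, a ≠ b) {d : H} (hd : d ∈ E)
    (hV : ∀ y ∈ E, Commute d y → Veq E d y) (P : Sylow 3 H)
    (hP : d ∈ Subgroup.normalizer ((P : Subgroup H) : Set H)) :
    (pCore 2 H).IsComplement' ((P : Subgroup H) ⊔ Subgroup.zpowers d) := by
  have : Fact (Nat.Prime 3) := ⟨Nat.prime_three⟩
  have : Fact (Nat.Prime 2) := ⟨Nat.prime_two⟩
  have hS := hE.1
  have hd2 := sq_eq_one hS hd
  haveI hQn : (pCore 2 H).Normal := Cfsg.Agent.Lib.H1.pCore_normal 2 H
  have hQ2 : IsPGroup 2 (pCore 2 H) := Cfsg.Agent.Lib.H1.pCore_isPGroup 2 H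
  have hdQ := not_mem_pCore_two hE hE2 hd
  have htop := sup_eq_top_of_veq hE hE2 hd hV P
  apply Subgroup.isComplement'_of_disjoint_and_mul_eq_univ
  · rw [Subgroup.disjoint_def]
    intro x hxQ hxK
    have hzN : Subgroup.zpowers d ≤ Subgroup.normalizer ((P : Subgroup H) : Set H) := by
      rw [Subgroup.zpowers_le]; exact hP
    obtain ⟨p, hp, z, hz, rfl⟩ := Cfsg.Agent.Lib.H1.mem_sup_of_le_normalizer hzN hxK
    have hdisj : Disjoint (P : Subgroup H) (pCore 2 H) :=
      IsPGroup.disjoint_of_ne 3 2 (by norm_num) _ _ P.2 hQ2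
    rcases mem_zpowers_involution hd2 hz with rfl | rfl
    · rw [mul_one] at hxQ ⊢
      exact (Subgroup.disjoint_def.1 hdisj) hp hxQ
    · exfalso
      have h1 : (QuotientGroup.mk p : H ⧸ pCore 2 H) * QuotientGroup.mk z = 1 := by
        rw [← QuotientGroup.mk_mul]
        exact (QuotientGroup.eq_one_iff _).2 hxQ
      obtain ⟨j, hj⟩ := P.2 ⟨p, hp⟩
      have hj' : p ^ 3 ^ j = 1 := by
        have := congrArg Subtype.val hj
        simpa using this
      have h2 : (QuotientGroup.mk z : H ⧸ pCore 2 H) = (QuotientGroup.mk p)⁻¹ :=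
        (eq_inv_of_mul_eq_one_right h1)
      have h3 : (QuotientGroup.mk z : H ⧸ pCore 2 H) ^ 3 ^ j = 1 := by
        rw [h2, inv_pow, ← QuotientGroup.mk_pow, hj', QuotientGroup.mk_one, inv_one]
      have h4 : (QuotientGroup.mk z : H ⧸ pCore 2 H) ^ 2 = 1 := by
        rw [← QuotientGroup.mk_pow, pow_two, hd2, QuotientGroup.mk_one]
      have h5 : orderOf (QuotientGroup.mk z : H ⧸ pCore 2 H) ∣ 3 ^ j :=
        orderOf_dvd_of_pow_eq_one h3
      have h6 : orderOf (QuotientGroup.mk z : H ⧸ pCore 2 H) ∣ 2 := orderOf_dvd_of_pow_eq_one h4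
      have hco : Nat.Coprime (3 ^ j) 2 := Nat.Coprime.pow_left j (by norm_num)
      have h7 := Nat.dvd_gcd h5 h6
      rw [hco] at h7
      have h8 := orderOf_eq_one_iff.1 (Nat.dvd_one.1 h7)
      exact hdQ ((QuotientGroup.eq_one_iff z).1 h8)
  · rw [← Subgroup.normal_mul, ← Subgroup.coe_top]
    congr 1
    rw [← htop]
    rw [sup_comm (Subgroup.zpowers d) (P : Subgroup H), sup_comm]

/-- the elements of `P` inverted by `d` -/
def invH (P : Subgroup H) (d : H) : Set H := {w | w ∈ P ∧ d * w * d⁻¹ = w⁻¹}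

omit [Finite H] in
theorem cmap_mem_invH {P : Subgroup H} {d : H} (hd2 : d * d = 1)
    (hP : d ∈ Subgroup.normalizer (P : Set H)) {x : H} (hx : x ∈ P) :
    x * d * x⁻¹ * d⁻¹ ∈ invH P d := by
  have hdinv : d⁻¹ = d := inv_eq_of_mul_eq_one_left hd2
  constructor
  · have h1 : d * x⁻¹ * d⁻¹ ∈ P := (Subgroup.mem_normalizer_iff.1 hP x⁻¹).1 (P.inv_mem hx)
    have : x * d * x⁻¹ * d⁻¹ = x * (d * x⁻¹ * d⁻¹) := by group
    rw [this]
    exact P.mul_mem hx h1
  · rw [hdinv]
    calc d * (x * d * x⁻¹ * d) * d = d * x * d * x⁻¹ * (d * d) := by group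
      _ = d * x * d * x⁻¹ := by rw [hd2, mul_one]
      _ = (x * d * x⁻¹ * d)⁻¹ := by
        rw [mul_inv_rev, mul_inv_rev, mul_inv_rev, inv_inv, hdinv]; group

/-- `P` is generated by the elements inverted by `d`. -/
theorem closure_invH_eq (hE : IsThreeTranspositionClass E)
    (hE2 : ∃ a ∈ E, ∃ b ∈ E, a ≠ b) {d : H} (hd : d ∈ E)
    (hV : ∀ y ∈ E, Commute d y → Veq E d y) (P : Sylow 3 H)
    (hP : d ∈ Subgroup.normalizer ((P : Subgroup H) : Set H)) :
    Subgroup.closure (invH (P : Subgroup H) d) = (P : Subgroup H) := by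
  have : Fact (Nat.Prime 3) := ⟨Nat.prime_three⟩
  have : Fact (Nat.Prime 2) := ⟨Nat.prime_two⟩
  have hS := hE.1
  have hd2 := sq_eq_one hS hd
  have hdinv := inv_eq hS hd
  haveI hQn : (pCore 2 H).Normal := Cfsg.Agent.Lib.H1.pCore_normal 2 H
  have hcompl := isComplement'_sup hE hE2 hd hV P hP
  have htop := sup_eq_top_of_veq hE hE2 hd hV P
  set R := Subgroup.closure (invH (P : Subgroup H) d) with hR
  set Z := Subgroup.zpowers d with hZ
  set Q := pCore 2 H with hQ
  have hRP : R ≤ (P : Subgroup H) := by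
    rw [hR, Subgroup.closure_le]
    intro w hw
    exact hw.1
  have hdZ : d ∈ Z := Subgroup.mem_zpowers d
  -- `d` normalizes `R`
  have hdR : d ∈ Subgroup.normalizer (R : Set H) := by
    apply Subgroup.mem_normalizer_fintype
    have hle : R ≤ R.comap (MulAut.conj d).toMonoidHom := by
      rw [hR, Subgroup.closure_le]
      intro w hw
      rw [SetLike.mem_coe, Subgroup.mem_comap]
      show d * w * d⁻¹ ∈ Subgroup.closure (invH (P : Subgroup H) d)
      rw [hw.2]
      exact Subgroup.inv_mem _ (Subgroup.subset_closure hw)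
    intro n hn
    exact hle hn
  have hZR : Z ≤ Subgroup.normalizer (R : Set H) := by
    rw [hZ, Subgroup.zpowers_le]; exact hdR
  have hZP : Z ≤ Subgroup.normalizer ((P : Subgroup H) : Set H) := by
    rw [hZ, Subgroup.zpowers_le]; exact hP
  -- every transposition lies in `Q ⊔ (R ⊔ Z)`
  have hM : Q ⊔ (R ⊔ Z) = ⊤ := by
    rw [eq_top_iff, ← hE.2.2, Subgroup.closure_le]
    intro e he
    obtain ⟨g, rfl⟩ := exists_conj_eq hE hd he
    have hg : g ∈ (Z ⊔ (P : Subgroup H)) ⊔ Q := by rw [htop]; exact Subgroup.mem_top g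
    have hg' : g ∈ ((↑((Z ⊔ (P : Subgroup H)) ⊔ Q) : Set H)) := hg
    rw [Subgroup.mul_normal] at hg'
    obtain ⟨k, hk, q, hq, rfl⟩ := hg'
    have hk' : k ∈ (P : Subgroup H) ⊔ Z := by rw [sup_comm]; exact hk
    obtain ⟨x, hx, t, ht, rfl⟩ := Cfsg.Agent.Lib.H1.mem_sup_of_le_normalizer hZP hk'
    have htd : t * d * t⁻¹ = d := by
      rcases mem_zpowers_involution hd2 ht with rfl | rfl
      · group
      · group
    set A := (x * t) * (q * (d * q⁻¹ * d⁻¹)) * (x * t)⁻¹ with hA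
    have hAQ : A ∈ Q :=
      hQn.conj_mem _ (Q.mul_mem hq (hQn.conj_mem _ (Q.inv_mem hq) d)) _
    have hsplit : x * t * q * d * (x * t * q)⁻¹ = A * (x * (t * d * t⁻¹) * x⁻¹) := by
      rw [hA]; group
    rw [SetLike.mem_coe, hsplit, htd]
    have hc : x * d * x⁻¹ * d⁻¹ ∈ R := Subgroup.subset_closure (cmap_mem_invH hd2 hP hx)
    have hB : x * d * x⁻¹ ∈ R ⊔ Z := by
      have : x * d * x⁻¹ = (x * d * x⁻¹ * d⁻¹) * d := by group
      rw [this]
      exact Subgroup.mul_mem _ (Subgroup.mem_sup_left hc) (Subgroup.mem_sup_right hdZ)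
    exact Subgroup.mul_mem _ (Subgroup.mem_sup_left hAQ) (Subgroup.mem_sup_right hB)
  apply le_antisymm hRP
  intro x hx
  have hxM : x ∈ ((↑(Q ⊔ (R ⊔ Z)) : Set H)) := by
    rw [hM]; exact Set.mem_univ x
  rw [Subgroup.normal_mul] at hxM
  obtain ⟨q, hq, k', hk', hqk⟩ := hxM
  have hqk : q * k' = x := hqk
  have hRZK : R ⊔ Z ≤ (P : Subgroup H) ⊔ Z := sup_le_sup_right hRP Z
  have hqK : q ∈ (P : Subgroup H) ⊔ Z := by
    have : q = x * k'⁻¹ := by rw [← hqk]; group
    rw [this]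
    exact Subgroup.mul_mem _ (Subgroup.mem_sup_left hx) (Subgroup.inv_mem _ (hRZK hk'))
  have hq1 : q = 1 := (Subgroup.disjoint_def.1 hcompl.disjoint) hq hqK
  rw [hq1, one_mul] at hqk
  rw [← hqk]
  obtain ⟨r, hr, t, ht, rfl⟩ := Cfsg.Agent.Lib.H1.mem_sup_of_le_normalizer hZR hk'
  have htP : t ∈ (P : Subgroup H) := by
    have : t = r⁻¹ * x := by rw [← hqk]; group
    rw [this]
    exact Subgroup.mul_mem _ (Subgroup.inv_mem _ (hRP hr)) hx
  have ht1 : t = 1 := by
    rcases mem_zpowers_involution hd2 ht with h | h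
    · exact h
    · exfalso
      rw [h] at htP
      have h2 : d ^ 2 ^ 1 = 1 := by rw [pow_one, pow_two]; exact hd2
      exact ne_one hS hd (eq_one_of_three_group P.2 htP h2)
  rw [ht1, mul_one]
  exact hr


end Cfsg.Agent.Lib.H10.TT3
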