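import Mathlib
import Cfsg.Agent.Lib.H10.TT3B
import Cfsg.Agent.Lib.H10.TT3J

set_option autoImplicit false

/-!
3-transposition groups with `H = O_{2,3,2}(H)` (helper10): the hypotheses of the abstract lemma
hold for a `d`-invariant Sylow 3-subgroup with the conjugation by `d`.
-/

namespace Cfsg.Agent.Lib.H10.TT3

open Cfsg Cfsg.Agent.Lib.H26.ThreeTrans Cfsg.Agent.Lib.H7.TT

variable {H : Type*} [Group H]

/-- conjugation by an involution normalizing `P` -/
def conjAut (P : Subgroup H) (d : H) (hd2 : d * d = 1)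
    (hP : d ∈ Subgroup.normalizer (P : Set H)) : ↥P ≃* ↥P where
  toFun x := ⟨d * x * d⁻¹, (Subgroup.mem_normalizer_iff.1 hP x).1 x.2⟩
  invFun x := ⟨d * x * d⁻¹, (Subgroup.mem_normalizer_iff.1 hP x).1 x.2⟩
  left_inv x := by
    apply Subtype.ext
    have hdinv : d⁻¹ = d := inv_eq_of_mul_eq_one_left hd2
    show d * (d * (x : H) * d⁻¹) * d⁻¹ = x
    rw [hdinv]
    calc d * (d * (x : H) * d) * d = (d * d) * x * (d * d) := by group
      _ = x := by rw [hd2, one_mul, mul_one]
  right_inv x := by
    apply Subtype.ext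
    have hdinv : d⁻¹ = d := inv_eq_of_mul_eq_one_left hd2
    show d * (d * (x : H) * d⁻¹) * d⁻¹ = x
    rw [hdinv]
    calc d * (d * (x : H) * d) * d = (d * d) * x * (d * d) := by group
      _ = x := by rw [hd2, one_mul, mul_one]
  map_mul' x y := by
    apply Subtype.ext
    show d * ((x : H) * y) * d⁻¹ = (d * x * d⁻¹) * (d * y * d⁻¹)
    group

theorem conjAut_coe (P : Subgroup H) (d : H) (hd2 : d * d = 1)
    (hP : d ∈ Subgroup.normalizer (P : Set H)) (x : ↥P) :
    ((conjAut P d hd2 hP x : ↥P) : H) = d * x * d⁻¹ := rfl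

variable [Finite H] {E : Set H}

theorem hyp_conjAut (hE : IsThreeTranspositionClass E)
    (hE2 : ∃ a ∈ E, ∃ b ∈ E, a ≠ b) (hF : generalizedFittingSubgroup H = pCore 2 H)
    {d : H} (hd : d ∈ E) (hV : ∀ y ∈ E, Commute d y → Veq E d y) (P : Sylow 3 H)
    (hP : d ∈ Subgroup.normalizer ((P : Subgroup H) : Set H)) :
    Hyp (conjAut (P : Subgroup H) d (sq_eq_one hE.1 hd) hP)
      (fun y : ↥(P : Subgroup H) =>
        ∀ u ∈ pCore 2 H, u * (y : H) = (y : H) * u → d * u = u * d) := by
  have : Fact (Nat.Prime 3) := ⟨Nat.prime_three⟩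
  have hS := hE.1
  have hd2 := sq_eq_one hS hd
  haveI hQn : (pCore 2 H).Normal := Cfsg.Agent.Lib.H1.pCore_normal 2 H
  have hQ2 : IsPGroup 2 (pCore 2 H) := Cfsg.Agent.Lib.H1.pCore_isPGroup 2 H
  set α := conjAut (P : Subgroup H) d hd2 hP with hα
  have hαc : ∀ x : ↥(P : Subgroup H), ((α x : ↥(P : Subgroup H)) : H) = d * x * d⁻¹ :=
    fun x => rfl
  have hI : ∀ w : ↥(P : Subgroup H), w ∈ InvSet α → d * (w : H) * d⁻¹ = (w : H)⁻¹ := by
    intro w hw
    have := congrArg Subtype.val (mem_InvSet.1 hw)
    rw [hαc] at this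
    simpa using this
  have hcube : ∀ w ∈ InvSet α, w ^ 3 = 1 := by
    intro w hw
    apply Subtype.ext
    have := cube_of_inverted hE hd P.2 w.2 (hI w hw)
    simpa using this
  refine ⟨?_, ?_, hcube, ?_, ?_, ?_⟩
  · intro g
    exact (conjAut (P : Subgroup H) d hd2 hP).left_inv g
  · apply Subgroup.map_injective (P : Subgroup H).subtype_injective
    rw [MonoidHom.map_closure, ← MonoidHom.range_eq_map, Subgroup.range_subtype]
    have himg : (P : Subgroup H).subtype '' InvSet α = invH (P : Subgroup H) d := by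
      ext w
      constructor
      · rintro ⟨x, hx, rfl⟩
        exact ⟨x.2, hI x hx⟩
      · rintro ⟨hwP, hw⟩
        refine ⟨⟨w, hwP⟩, ?_, rfl⟩
        rw [mem_InvSet]
        apply Subtype.ext
        rw [hαc]
        simpa using hw
    rw [himg]
    exact closure_invH_eq hE hE2 hd hV P hP
  · intro w hw w' hw' hw1 hcomm
    by_contra hcon
    have h3 := hcube w hw
    have h3' := hcube w' hw'
    apply no_rank2 hE hE2 hF hd (x := (w : H)) (y := (w' : H))
      (by have := congrArg Subtype.val hcomm; simpa using this)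
      (by have := congrArg Subtype.val h3; simpa using this)
      (by have := congrArg Subtype.val h3'; simpa using this)
      (hI w hw) (hI w' hw')
      (fun h => hw1 (Subtype.ext (by simpa using h)))
    intro hmem
    obtain ⟨k, hk⟩ := Subgroup.mem_zpowers_iff.1 hmem
    apply hcon
    rw [Subgroup.mem_zpowers_iff]
    exact ⟨k, Subtype.ext (by simpa using hk)⟩
  · intro m hm p hp hzc hzα hz1
    have hm3 := hcube m hm
    have hp3 := hcube p hp
    have hzm := Subgroup.mem_center_iff.1 hzc m
    have hzp := Subgroup.mem_center_iff.1 hzc p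
    have hzd : d * ((m * p * m⁻¹ * p⁻¹ : ↥(P : Subgroup H)) : H) * d⁻¹
        = ((m * p * m⁻¹ * p⁻¹ : ↥(P : Subgroup H)) : H) := by
      have := congrArg Subtype.val hzα
      rw [hαc] at this
      exact this
    have key := good_of_comm hS (class_conj hE) hQ2 hd (m := (m : H)) (p := (p : H))
      (by have := congrArg Subtype.val hm3; simpa using this)
      (by have := congrArg Subtype.val hp3; simpa using this)
      (hI m hm) (hI p hp)
      (by have := congrArg Subtype.val hzm; simpa using this.symm)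
      (by have := congrArg Subtype.val hzp; simpa using this.symm)
      (by
        have h1 : ((m * p * m⁻¹ * p⁻¹ : ↥(P : Subgroup H)) : H)
            = (m : H) * p * (m : H)⁻¹ * (p : H)⁻¹ := by simp
        rw [h1] at hzd
        calc (m : H) * p * (m : H)⁻¹ * (p : H)⁻¹ * d
            = (d * ((m : H) * p * (m : H)⁻¹ * (p : H)⁻¹) * d⁻¹) * d := by rw [hzd]
          _ = d * ((m : H) * p * (m : H)⁻¹ * (p : H)⁻¹) := by group)
      (by
        intro h
        apply hz1
        apply Subtype.ext
        simpa using h)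
    intro u hu huz
    exact key u hu (by simpa using huz)
  · intro z z' hzc hz'c hzα hz'α hz3 hz'3 hz1 hz'
    by_contra hcon
    push Not at hcon
    have hzz' : (z : H) * (z' : H) = (z' : H) * (z : H) := by
      have := congrArg Subtype.val (Subgroup.mem_center_iff.1 hzc z')
      simpa using this.symm
    have hz3H : (z : H) ^ 3 = 1 := by
      have := congrArg Subtype.val hz3; simpa using this
    have hz'3H : (z' : H) ^ 3 = 1 := by
      have := congrArg Subtype.val hz'3; simpa using this
    have hz1H : (z : H) ≠ 1 := fun h => hz1 (Subtype.ext (by simpa using h))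
    obtain ⟨hAc, hA3⟩ := pair_comm_cube hzz' hz3H hz'3H
    have hzA : (z : H) ∈ Subgroup.closure ({(z : H), (z' : H)} : Set H) :=
      Subgroup.subset_closure (by simp)
    have hz'A : (z' : H) ∈ Subgroup.closure ({(z : H), (z' : H)} : Set H) :=
      Subgroup.subset_closure (by simp)
    have hle : Subgroup.zpowers (z : H) ≤ Subgroup.closure ({(z : H), (z' : H)} : Set H) := by
      rw [Subgroup.zpowers_le]; exact hzA
    have hnot : (z' : H) ∉ Subgroup.zpowers (z : H) := by
      intro hmem
      obtain ⟨k, hk⟩ := Subgroup.mem_zpowers_iff.1 hmem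
      apply hz'
      rw [Subgroup.mem_zpowers_iff]
      exact ⟨k, Subtype.ext (by simpa using hk)⟩
    have hlt := Cfsg.Agent.Lib.H7.card_lt_card_of_le_of_mem_of_notMem hle hz'A hnot
    have hc3 : Nat.card (Subgroup.zpowers (z : H)) = 3 := by
      rw [Nat.card_zpowers]; exact orderOf_eq_prime hz3H hz1H
    rw [hc3] at hlt
    have hmap : (Subgroup.closure ({z, z'} : Set ↥(P : Subgroup H))).map (P : Subgroup H).subtype
        = Subgroup.closure ({(z : H), (z' : H)} : Set H) := by
      rw [MonoidHom.map_closure]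
      congr 1
      simp [Set.image_insert_eq]
    have hgood : ∀ b ∈ Subgroup.closure ({(z : H), (z' : H)} : Set H), b ≠ 1 →
        ∀ u ∈ pCore 2 H, u * b = b * u → d * u = u * d := by
      intro b hb hb1 u hu hub
      rw [← hmap] at hb
      obtain ⟨b', hb', rfl⟩ := hb
      have hb'1 : b' ≠ 1 := by
        intro h
        apply hb1
        rw [h]; rfl
      exact hcon b' hb' hb'1 u hu hub
    exact not_centralizes hE hE2 hF hd (centralizes_of_good hQ2 hAc hA3 hlt hgood)

end Cfsg.Agent.Lib.H10.TT3
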