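import Mathlib
import Cfsg.Agent.Lib.H10.TT3F
import Cfsg.Agent.Lib.H10.TT3G
import Cfsg.Agent.Lib.H10.TT3K

set_option autoImplicit false

/-!
3-transposition groups with `H = O_{2,3,2}(H)` and `F*(H) = O_2(H)` (helper10): the quotient
`H / O_2(H)` is `S₃` or the derived group of `SU₃(2)`.
-/

namespace Cfsg.Agent.Lib.H10.TT3

open Cfsg Cfsg.Agent.Lib.H26.ThreeTrans Cfsg.Agent.Lib.H7.TT

variable {H : Type*} [Group H] [Finite H] {E : Set H}

theorem card_zpowers_involution {d : H} (hd : orderOf d = 2) :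
    Nat.card (Subgroup.zpowers d) = 2 := by
  rw [Nat.card_zpowers, hd]

/-- `2 * |P|` divides `|P ⊔ ⟨d⟩|` -/
theorem two_mul_dvd_card_sup {P : Subgroup H} {n : ℕ} (hPc : Nat.card P = 3 ^ n) {d : H}
    (hd : orderOf d = 2) : 2 * 3 ^ n ∣ Nat.card ↥(P ⊔ Subgroup.zpowers d) := by
  have h1 : Nat.card P ∣ Nat.card ↥(P ⊔ Subgroup.zpowers d) :=
    Subgroup.card_dvd_of_le le_sup_left
  have h2 : Nat.card (Subgroup.zpowers d) ∣ Nat.card ↥(P ⊔ Subgroup.zpowers d) :=
    Subgroup.card_dvd_of_le le_sup_right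
  rw [hPc] at h1
  rw [card_zpowers_involution hd] at h2
  exact Nat.Coprime.mul_dvd_of_dvd_of_dvd (Nat.Coprime.pow_right n (by norm_num)) h2 h1

theorem main_iso (hE : IsThreeTranspositionClass E)
    (hE2 : ∃ a ∈ E, ∃ b ∈ E, a ≠ b) (hF : generalizedFittingSubgroup H = pCore 2 H)
    (h232 : ∃ P : Sylow 3 (H ⧸ pCore 2 H), (P : Subgroup (H ⧸ pCore 2 H)).Normal ∧
      ∃ k : ℕ, (P : Subgroup (H ⧸ pCore 2 H)).index = 2 ^ k) :
    Nonempty (H ⧸ pCore 2 H ≃* Equiv.Perm (Fin 3)) ∨
      Nonempty (H ⧸ pCore 2 H ≃* ↥(commutator GU)) := by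
  have : Fact (Nat.Prime 3) := ⟨Nat.prime_three⟩
  have hS := hE.1
  obtain ⟨d, hd, -⟩ := hE.2.1
  have hd2 := sq_eq_one hS hd
  have hdo : orderOf d = 2 := hS.1 d hd
  have hV := veq_of_232 hE h232 hd
  obtain ⟨P, hP⟩ := exists_invariant_sylow_three hE hE2 hd hV
  haveI hQn : (pCore 2 H).Normal := Cfsg.Agent.Lib.H1.pCore_normal 2 H
  have hcompl := isComplement'_sup hE hE2 hd hV P hP
  set K := (P : Subgroup H) ⊔ Subgroup.zpowers d with hK
  have iso : H ⧸ pCore 2 H ≃* ↥K := hcompl.symm.QuotientMulEquiv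
  have hyp := hyp_conjAut hE hE2 hF hd hV P hP
  obtain ⟨n, hn⟩ := IsPGroup.iff_card.1 P.2
  have hdvd := two_mul_dvd_card_sup hn hdo
  have hKpos : 0 < Nat.card ↥K := Nat.card_pos
  set α := conjAut (P : Subgroup H) d hd2 hP with hα
  have hαc : ∀ x : ↥(P : Subgroup H), ((α x : ↥(P : Subgroup H)) : H) = d * x * d⁻¹ :=
    fun x => rfl
  have hI : ∀ w : ↥(P : Subgroup H), α w = w⁻¹ → d * (w : H) * d⁻¹ = (w : H)⁻¹ := by
    intro w hw
    have := congrArg Subtype.val hw
    rw [hαc] at this
    simpa using this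
  rcases abstract_main hyp hn with h1 | h3 | ⟨m, p, hm, hp, hm3, hp3, hzc, hzα, hz1, hz3, hgen, h27⟩
  · -- `P` trivial: impossible
    exfalso
    obtain ⟨e, he, hnc⟩ := exists_not_commute hE hE2 hd
    have h3 : (d * e) ^ 3 = 1 := by
      rcases commute_or_cube hS hd he with h | h
      · exact absurd h hnc
      · exact h
    have hx1 : d * e ≠ 1 := by
      intro h
      apply hnc
      have : e = d := by
        calc e = (d * d) * e := by rw [hd2, one_mul]
          _ = d * (d * e) := by group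
          _ = d := by rw [h, mul_one]
      rw [this]
    have hord : orderOf (d * e) = 3 := orderOf_eq_prime h3 hx1
    have hp3 : IsPGroup 3 (Subgroup.zpowers (d * e)) := by
      apply IsPGroup.of_card (n := 1)
      rw [Nat.card_zpowers, hord, pow_one]
    obtain ⟨P', hle⟩ := hp3.exists_le_sylow
    have hc : Nat.card P' = 1 := by
      rw [Sylow.card_eq_multiplicity, ← Sylow.card_eq_multiplicity P]
      exact h1
    have hbot : (P' : Subgroup H) = ⊥ := Subgroup.card_eq_one.1 hc
    have : d * e ∈ (P' : Subgroup H) := hle (Subgroup.mem_zpowers _)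
    rw [hbot, Subgroup.mem_bot] at this
    exact hx1 this
  · -- `S₃`
    left
    have hw : ∃ w ∈ InvSet α, w ≠ 1 := by
      by_contra hcon
      push Not at hcon
      have hle : Subgroup.closure (InvSet α) ≤ ⊥ := by
        rw [Subgroup.closure_le]
        intro w hw
        rw [hcon w hw]
        exact Subgroup.one_mem _
      rw [hyp.gen] at hle
      have hbt : (⊤ : Subgroup ↥(P : Subgroup H)) = ⊥ := le_antisymm hle bot_le
      have : Nat.card ↥(P : Subgroup H) = 1 := by
        rw [← Subgroup.card_top, hbt, Subgroup.card_bot]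
      rw [h3] at this
      norm_num at this
    obtain ⟨w, hwI, hw1⟩ := hw
    have hw3 : (w : H) ^ 3 = 1 := by
      have := congrArg Subtype.val (hyp.cube w hwI)
      simpa using this
    have hw1H : (w : H) ≠ 1 := fun h => hw1 (Subtype.ext (by simpa using h))
    have hwd := hI w hwI
    have hzw : Subgroup.zpowers (w : H) = (P : Subgroup H) := by
      apply Subgroup.eq_of_le_of_card_ge
      · rw [Subgroup.zpowers_le]; exact w.2
      · rw [h3, Nat.card_zpowers, orderOf_eq_prime hw3 hw1H]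
    have hKc : K = Subgroup.closure ({d, (w : H)} : Set H) := by
      have e1 : K = Subgroup.zpowers (w : H) ⊔ Subgroup.zpowers d := by rw [hzw]
      rw [e1, Subgroup.zpowers_eq_closure, Subgroup.zpowers_eq_closure,
        ← Subgroup.closure_union]
      congr 1
      ext t
      simp
    have hrel : S3Rel d (w : H) := ⟨hd2, hw3, hwd⟩
    obtain ⟨d', w', hdata⟩ := s3Data_closure hrel hKc
    have hle6 : Nat.card ↥K ≤ 6 := by
      have := Nat.card_le_card_of_surjective _ (nfBox2_surjective hdata)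
      have hBox : Nat.card Box2 = 6 := by
        rw [Nat.card_eq_fintype_card]; rfl
      rwa [hBox] at this
    have hn1 : n = 1 := by
      have : (3 : ℕ) ^ n = 3 ^ 1 := by rw [← hn, h3, pow_one]
      exact Nat.pow_right_injective (by norm_num : 2 ≤ 3) this
    rw [hn1] at hdvd
    have hge6 : 6 ≤ Nat.card ↥K := Nat.le_of_dvd hKpos (by simpa using hdvd)
    have hcard : Nat.card ↥K = 6 := le_antisymm hle6 hge6
    obtain ⟨f⟩ := s3_iso_perm hdata hcard
    exact ⟨iso.trans f⟩
  · -- `3^{1+2} : 2`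
    right
    have hmH := hI m hm
    have hpH := hI p hp
    have hm3H : (m : H) ^ 3 = 1 := by
      have := congrArg Subtype.val hm3; simpa using this
    have hp3H : (p : H) ^ 3 = 1 := by
      have := congrArg Subtype.val hp3; simpa using this
    have hzcoe : ((m * p * m⁻¹ * p⁻¹ : ↥(P : Subgroup H)) : H)
        = (m : H) * p * (m : H)⁻¹ * (p : H)⁻¹ := by simp
    have hzm := Subgroup.mem_center_iff.1 hzc m
    have hzp := Subgroup.mem_center_iff.1 hzc p
    have hzd : d * ((m : H) * p * (m : H)⁻¹ * (p : H)⁻¹) * d⁻¹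
        = (m : H) * p * (m : H)⁻¹ * (p : H)⁻¹ := by
      have := congrArg Subtype.val hzα
      rw [hαc, hzcoe] at this
      exact this
    have hrel : HeisRel d (p : H) (m : H) := by
      refine ⟨hd2, hp3H, hm3H, hpH, hmH, ?_, ?_, ?_, ?_⟩
      · have := congrArg Subtype.val hzp
        simpa using this.symm
      · have := congrArg Subtype.val hzm
        simpa using this.symm
      · calc (m : H) * p * (m : H)⁻¹ * (p : H)⁻¹ * d
            = (d * ((m : H) * p * (m : H)⁻¹ * (p : H)⁻¹) * d⁻¹) * d := by rw [hzd]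
          _ = d * ((m : H) * p * (m : H)⁻¹ * (p : H)⁻¹) := by group
      · have := congrArg Subtype.val hz3
        simpa using this
    have hPc : (P : Subgroup H) = Subgroup.closure ({(m : H), (p : H)} : Set H) := by
      have h1 : (Subgroup.closure ({m, p} : Set ↥(P : Subgroup H))).map
          (P : Subgroup H).subtype = Subgroup.closure ({(m : H), (p : H)} : Set H) := by
        rw [MonoidHom.map_closure]
        congr 1
        simp [Set.image_insert_eq]
      rw [← h1, hgen, ← MonoidHom.range_eq_map, Subgroup.range_subtype]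
    have hKc : K = Subgroup.closure ({d, (p : H), (m : H)} : Set H) := by
      have e1 : K = Subgroup.closure ({(m : H), (p : H)} : Set H) ⊔ Subgroup.zpowers d := by
        rw [← hPc]
      rw [e1, Subgroup.zpowers_eq_closure, ← Subgroup.closure_union]
      congr 1
      ext t
      simp only [Set.mem_union, Set.mem_insert_iff, Set.mem_singleton_iff]
      tauto
    obtain ⟨d', m', p', hdata⟩ := heisData_closure hrel hKc
    have hle54 : Nat.card ↥K ≤ 54 := card_le_of_heisData hdata
    have hn3 : 3 ≤ n := by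
      by_contra hcon
      push Not at hcon
      rw [hn] at h27
      have : 3 ^ n ≤ 3 ^ 2 := Nat.pow_le_pow_right (by norm_num) (by omega)
      omega
    have h54 : 54 ∣ Nat.card ↥K := by
      have : 2 * 3 ^ 3 ∣ 2 * 3 ^ n := Nat.mul_dvd_mul_left 2 (pow_dvd_pow 3 hn3)
      exact (by norm_num : (54 : ℕ) = 2 * 3 ^ 3) ▸ this.trans hdvd
    have hge54 : 54 ≤ Nat.card ↥K := Nat.le_of_dvd hKpos h54
    have hcard : Nat.card ↥K = 54 := le_antisymm hle54 hge54
    obtain ⟨d₂, m₂, p₂, hdata₂⟩ := exists_heisData_commutator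
    obtain ⟨f⟩ := heis_iso hdata hdata₂ hcard card_commutator_GU
    exact ⟨iso.trans f⟩

end Cfsg.Agent.Lib.H10.TT3
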