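import Mathlib
import Cfsg.Prelude.Def_ConjugacyFunctors
import Cfsg.Agent.Lib.H10.SecTransfer2
import Cfsg.Agent.Lib.H10.DualTrace

/-! Minimal failures of control of transfer: one step of the reduction, and the Engel criterion for
`[O_p(H), H]` (helper10). -/

set_option autoImplicit false

namespace Cfsg.Agent.Lib.H10

open Cfsg
open scoped commutatorElement

universe u

variable {𝓦 : Set (∀ (Q : Type u) [Group Q], Subgroup Q)}

/-- **One step of the transfer reduction.** If `𝓦` controls transfer in every proper subgroup and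
every proper quotient of `H`, and the constrained case is settled, then `𝓦` controls transfer in
`H`. -/
theorem familyTransfer_step {H : Type u} [Group H] [Finite H] {p : ℕ}
    [hp : Fact p.Prime] (𝓦 : Set (∀ (Q : Type u) [Group Q], Subgroup Q))
    (h𝓦 : ∀ W ∈ 𝓦, IsCharPFunctor.{u} p W)
    (hsub : ∀ L : Subgroup H, L ≠ ⊤ → FamilyControlsTransferIn p (IF 𝓦 ↥L) ⊤)
    (hquo : ∀ (N : Subgroup H) [N.Normal], N ≠ ⊥ → FamilyControlsTransferIn p (IF 𝓦 (H ⧸ N)) ⊤)
    (S : Sylow p H)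
    (hcon : Subgroup.centralizer ((Cfsg.pCore p H : Subgroup H) : Set H) ≤ Cfsg.pCore p H →
      (∀ L : Subgroup H, L ≠ ⊤ → (S : Subgroup H) ≤ L →
        (S : Subgroup H) ⊓ ⁅L, L⁆ ≤ TF (IF 𝓦 H) ⊤ (S : Subgroup H)) →
      Cfsg.pCore p H ⊓ ⁅(⊤ : Subgroup H), ⊤⁆ ≤ TF (IF 𝓦 H) ⊤ (S : Subgroup H)) :
    FamilyControlsTransferIn p (IF 𝓦 H) ⊤ := by
  set P := Cfsg.pCore p H with hPdef
  have hPn : P.Normal := H1.pCore_normal p H
  have hPp : IsPGroup p P := H1.pCore_isPGroup p H
  have hPS : P ≤ (S : Subgroup H) := H1.pCore_le_sylow S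
  have hc := isConjugacyFunctor_of_mem_IF (H := H) h𝓦
  have ihsub : ∀ L : Subgroup H, L ≠ ⊤ → FamilyControlsTransferIn p (IF 𝓦 H) L := by
    intro L hL
    apply familyTransferIn_of_subgroup h𝓦 L
    exact hsub L hL
  have ihsubS : ∀ L : Subgroup H, L ≠ ⊤ → (S : Subgroup H) ≤ L →
      (S : Subgroup H) ⊓ ⁅L, L⁆ ≤ TF (IF 𝓦 H) ⊤ (S : Subgroup H) := by
    intro L hL hSL
    have := familyControlsTransferIn_sylowIn hc (ihsub L hL) S.2 hSL
      (not_dvd_relIndex_of_sylow_le S hSL)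
    rw [this]
    exact TF_mono_left _ le_top _
  by_cases hP1 : P = ⊥
  · apply familyControlsTransferIn_top S hc
    intro T hTS hT1 _
    apply ihsub
    intro htop
    apply hT1
    have hTn : T.Normal := Subgroup.normalizer_eq_top_iff.1 htop
    have : T ≤ P := H1.le_pCore hTn (S.2.to_le hTS)
    rw [hP1] at this
    exact le_bot_iff.1 this
  rw [familyControlsTransferIn_iff]
  refine ⟨(S : Subgroup H), le_top, S.2, ?_, ?_⟩
  · rw [Subgroup.relIndex_top_right]; exact S.not_dvd_index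
  have hFc : TF (IF 𝓦 H) ⊤ (S : Subgroup H) ≤ ⁅(⊤ : Subgroup H), ⊤⁆ :=
    (TF_le_inf_commutator _ _ _).trans inf_le_right
  have hquot : FamilyControlsTransferIn p (IF 𝓦 (H ⧸ P)) ⊤ :=
    hquo P hP1
  set C := Subgroup.centralizer (P : Set H) with hCdef
  have hCn : C.Normal := Subgroup.normal_centralizer
  by_cases hCP : C ≤ P
  · -- the constrained case
    have hlocS := hcon hCP ihsubS
    by_cases hSP : (S : Subgroup H) ≤ P
    · exact (inf_le_inf_right _ hSP).trans hlocS
    · exact inf_commutator_le_of_quotient h𝓦 S P hPS (fun V hV hVp => H1.le_pCore hV hVp) hSP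
        hquot _ hFc ihsubS hlocS
  by_cases hA : (S : Subgroup H) ⊓ C ≤ P
  · -- case A: a nontrivial normal `p'`-subgroup
    have hZ : ∀ z ∈ (S : Subgroup H) ⊓ C, ∀ c ∈ C, z * c = c * z := by
      intro z hz c hc
      exact Subgroup.mem_centralizer_iff.1 hc z (hA hz)
    obtain ⟨D, hDn, hDc, hfac⟩ := exists_normal_coprime_complement S C hZ
    have hD1 : D ≠ ⊥ := by
      intro hD0
      apply hCP
      intro x hx
      obtain ⟨z, hz, d, hd, rfl⟩ := hfac x hx
      rw [hD0, Subgroup.mem_bot] at hd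
      rw [hd, mul_one]
      exact hA hz
    have hq : FamilyControlsTransferIn p (IF 𝓦 (H ⧸ D)) ⊤ :=
      hquo D hD1
    have := familyTransfer_of_quotient_coprime h𝓦 D hDc S hq
    have h2 := familyControlsTransferIn_sylowIn hc this S.2 le_top
      (by rw [Subgroup.relIndex_top_right]; exact S.not_dvd_index)
    exact le_of_eq h2
  have hSP : ¬ (S : Subgroup H) ≤ P := fun h => hA (le_trans inf_le_left h)
  have hStop : (S : Subgroup H) ≠ ⊤ := by
    intro htop
    apply hSP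
    have hSn : (S : Subgroup H).Normal := by rw [htop]; infer_instance
    exact H1.le_pCore hSn S.2
  have hS' : ⁅(S : Subgroup H), (S : Subgroup H)⁆ ≤ TF (IF 𝓦 H) ⊤ (S : Subgroup H) := by
    refine le_trans ?_ (ihsubS _ hStop le_rfl)
    exact le_inf (Subgroup.commutator_le_self _) le_rfl
  by_cases hX : (S : Subgroup H) ⊔ C = ⊤
  · -- case C
    have hPc := inf_commutator_le_of_sup_centralizer S P hPS hX
    exact inf_commutator_le_of_quotient h𝓦 S P hPS (fun V hV hVp => H1.le_pCore hV hVp) hSP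
      hquot _ hFc ihsubS (hPc.trans hS')
  · -- case B
    have hG₁ : Subgroup.normalizer (((S : Subgroup H) ⊓ (P ⊔ C) : Subgroup H) : Set H) ≠ ⊤ := by
      intro htop
      apply hA
      have hn' : ((S : Subgroup H) ⊓ (P ⊔ C)).Normal := Subgroup.normalizer_eq_top_iff.1 htop
      have h1 : (S : Subgroup H) ⊓ (P ⊔ C) ≤ P := H1.le_pCore hn' (S.2.to_le inf_le_left)
      exact le_trans (inf_le_inf_left _ le_sup_right) h1
    set K := P ⊔ C with hK
    have hKn : K.Normal := Subgroup.sup_normal P C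
    set S₀ := (S : Subgroup H) ⊓ K with hS₀
    have hSX : (S : Subgroup H) ≤ Subgroup.normalizer (S₀ : Set H) := by
      have h1 : Subgroup.normalizer ((S : Subgroup H) : Set H) ⊓ Subgroup.normalizer (K : Set H) ≤
          Subgroup.normalizer (S₀ : Set H) := Subgroup.inf_normalizer_le_normalizer_inf
      refine le_trans (le_inf Subgroup.le_normalizer ?_) h1
      rw [Subgroup.normalizer_eq_top]
      exact le_top
    have hSY : (S : Subgroup H) ≤ (S : Subgroup H) ⊔ C := le_sup_left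
    have hfac : ∀ g : H, ∃ x ∈ Subgroup.normalizer (S₀ : Set H), ∃ y ∈ (S : Subgroup H) ⊔ C,
        g = x * y := by
      intro g
      have hS₀p : IsPGroup p (S₀.subgroupOf K) := (S.2.to_le inf_le_left).comap_subtype
      have hS₀i : ¬ p ∣ (S₀.subgroupOf K).index := H19.not_dvd_relIndex_inf_normal S K
      let Q : Sylow p K := hS₀p.toSylow hS₀i
      have hQ : (Q : Subgroup K) = S₀.subgroupOf K := hS₀p.toSylow_coe hS₀i
      have hfr := Sylow.normalizer_sup_eq_top Q
      rw [hQ, Subgroup.subgroupOf_map_subtype, inf_eq_left.2 (inf_le_right : S₀ ≤ K)] at hfr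
      have hg : g ∈ Subgroup.normalizer (S₀ : Set H) ⊔ K := by rw [hfr]; exact Subgroup.mem_top g
      obtain ⟨n, hn, k, hk, rfl⟩ := Subgroup.mem_sup_of_normal_right.1 hg
      obtain ⟨u, hu, c, hc, rfl⟩ := Subgroup.mem_sup_of_normal_right.1 hk
      refine ⟨n * u, Subgroup.mul_mem _ hn ?_, c, Subgroup.mem_sup_right hc, by group⟩
      apply Subgroup.le_normalizer
      exact Subgroup.mem_inf.2 ⟨hPS hu, Subgroup.mem_sup_left hu⟩
    refine (inf_commutator_le_of_factorization S hSX hSY hfac).trans (sup_le ?_ ?_)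
    · exact ihsubS _ hG₁ hSX
    · exact ihsubS _ hX hSY


/-- **Engel criterion.** Let `A₀` be a subgroup with `S' ≤ A₀ ≤ S` containing `S ∩ L'` for every
proper subgroup `L ≥ S`. If some `g ∈ S` outside `O_p(H)` satisfies `[X, g; p - 1] ≤ Y` on all
chief factors `X / Y` below `O_p(H)`, then `[O_p(H), H] ≤ A₀`. -/
theorem commutator_pCore_le_of_engel {H : Type u} [Group H] [Finite H] {p : ℕ} [hp : Fact p.Prime]
    (S : Sylow p H) (A₀ : Subgroup H) (hA₀S : A₀ ≤ (S : Subgroup H))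
    (hS'A₀ : ⁅(S : Subgroup H), (S : Subgroup H)⁆ ≤ A₀)
    (ih : ∀ L : Subgroup H, L ≠ ⊤ → (S : Subgroup H) ≤ L → (S : Subgroup H) ⊓ ⁅L, L⁆ ≤ A₀)
    (g : H) (hgS : g ∈ (S : Subgroup H)) (hgP : g ∉ Cfsg.pCore p H)
    (hE : ∀ U V : Subgroup H, Cfsg.IsChiefFactor U V → U ≤ Cfsg.pCore p H →
      Cfsg.iterCommutator U (Subgroup.zpowers g) (p - 1) ≤ V) :
    ⁅Cfsg.pCore p H, (⊤ : Subgroup H)⁆ ≤ A₀ := by
  set K : Subgroup ↥(S : Subgroup H) := A₀.subgroupOf (S : Subgroup H) with hK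
  have hcommK : ∀ a b : ↥(S : Subgroup H), a * b * a⁻¹ * b⁻¹ ∈ K := by
    intro a b
    rw [hK, Subgroup.mem_subgroupOf]
    apply hS'A₀
    have : ((a * b * a⁻¹ * b⁻¹ : ↥(S : Subgroup H)) : H) = ⁅(a : H), (b : H)⁆ := by
      rw [commutatorElement_def]; rfl
    rw [this]
    exact Subgroup.commutator_mem_commutator a.2 b.2
  haveI hKn : K.Normal := by
    constructor
    intro n hn s
    have h1 := hcommK s n
    have h2 : s * n * s⁻¹ = (s * n * s⁻¹ * n⁻¹) * n := by group
    rw [h2]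
    exact K.mul_mem h1 hn
  letI instQ : CommGroup (↥(S : Subgroup H) ⧸ K) :=
    { (inferInstance : Group (↥(S : Subgroup H) ⧸ K)) with
      mul_comm := by
        intro a b
        induction a using QuotientGroup.induction_on with
        | H a =>
        induction b using QuotientGroup.induction_on with
        | H b =>
        rw [← QuotientGroup.mk_mul, ← QuotientGroup.mk_mul, QuotientGroup.eq]
        have h1 := hcommK b⁻¹ a⁻¹
        have h2 : (a * b)⁻¹ * (b * a) = b⁻¹ * a⁻¹ * b⁻¹⁻¹ * a⁻¹⁻¹ := by group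
        rw [h2]; exact h1 }
  set ψ : ↥(S : Subgroup H) →* (↥(S : Subgroup H) ⧸ K) := QuotientGroup.mk' K with hψ
  obtain ⟨k, hk⟩ := IsPGroup.iff_card.1 S.2
  have hQ : ∀ q : ↥(S : Subgroup H) ⧸ K, q ^ (p ^ k) = 1 := by
    intro q
    induction q using QuotientGroup.induction_on with
    | H s =>
    rw [← QuotientGroup.mk_pow, ← hk, pow_card_eq_one']
    rfl
  have hψL : ∀ L : Subgroup H, L ≠ ⊤ → (S : Subgroup H) ≤ L →
      ∀ (s : H) (hs : s ∈ (S : Subgroup H)), s ∈ ⁅L, L⁆ → ψ ⟨s, hs⟩ = 1 := by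
    intro L hL hSL s hs hsL
    rw [hψ, QuotientGroup.mk'_apply, QuotientGroup.eq_one_iff, hK, Subgroup.mem_subgroupOf]
    exact ih L hL hSL (Subgroup.mem_inf.2 ⟨hs, hsL⟩)
  have hmain := commutator_pCore_le_ker_of_engel S hQ ψ hψL g hgS hgP hE
  have hker : (ψ.ker).map (S : Subgroup H).subtype = A₀ := by
    rw [hψ, QuotientGroup.ker_mk', hK, Subgroup.map_subgroupOf_eq_of_le hA₀S]
  rw [hker] at hmain
  exact hmain

end Cfsg.Agent.Lib.H10
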