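import Mathlib
import Cfsg.Prelude.Def_ConjugacyFunctors
import Cfsg.Prelude.Def_PLocal
import Cfsg.Agent.Lib.H10.SecMain
import Cfsg.Agent.Lib.H10.SecLift
import Cfsg.Agent.Lib.H10.CharFunctor2

/-! Glauberman's triple factorization theorem: the normal closure of `Ω₁Z(S)` in `N(W₁(S))`
(helper10). -/

set_option autoImplicit false

namespace Cfsg.Agent.Lib.H10

open Cfsg

universe u

section omega

variable {H : Type*} [Group H] {H' : Type*} [Group H']

/-- `Ω₁` commutes with homomorphisms (one inclusion). -/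
theorem map_omegaOne_le (p : ℕ) (f : H →* H') (X : Subgroup H) :
    (omegaOne p X).map f ≤ omegaOne p (X.map f) := by
  unfold omegaOne
  rw [MonoidHom.map_closure]
  apply Subgroup.closure_mono
  rintro _ ⟨y, ⟨hy, hyp⟩, rfl⟩
  exact ⟨⟨y, hy, rfl⟩, by rw [← map_pow, hyp, map_one]⟩

/-- `Ω₁` commutes with injective homomorphisms. -/
theorem map_omegaOne_of_injective (p : ℕ) (f : H →* H') (hf : Function.Injective f)
    (X : Subgroup H) : (omegaOne p X).map f = omegaOne p (X.map f) := by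
  apply le_antisymm (map_omegaOne_le p f X)
  unfold omegaOne
  rw [MonoidHom.map_closure]
  apply Subgroup.closure_mono
  rintro _ ⟨⟨y, hy, rfl⟩, hyp⟩
  refine ⟨y, ⟨hy, ?_⟩, rfl⟩
  apply hf
  rw [map_pow, hyp, map_one]

/-- the image of the centre of `S` lies in the centre of the image. -/
theorem map_inf_centralizer_le (f : H →* H') (S : Subgroup H) :
    (S ⊓ Subgroup.centralizer (S : Set H)).map f ≤
      S.map f ⊓ Subgroup.centralizer ((S.map f : Subgroup H') : Set H') := by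
  rintro _ ⟨y, hy, rfl⟩
  refine ⟨⟨y, hy.1, rfl⟩, ?_⟩
  change f y ∈ Subgroup.centralizer ((S.map f : Subgroup H') : Set H')
  rw [Subgroup.mem_centralizer_iff]
  rintro _ ⟨t, ht, rfl⟩
  have := Subgroup.mem_centralizer_iff.mp hy.2 t ht
  rw [← map_mul, ← map_mul, this]

end omega

variable {H : Type u} [Group H]

/-- **Case A.** If `S ∩ C_H(O_p(H)) ≤ O_p(H)` and the constrained quotients of `H` factorize as
`C(Ω₁Z(T)) N(W(T))`, then conjugation by any element of `H` on an element of `Ω₁Z(S) ∩ O_p(H)` is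
induced by an element of `N_H(W(S))`. -/
theorem conj_eq_conj_normalizer_of_caseA [Finite H] {p : ℕ} [hp : Fact p.Prime]
    {W : ∀ (Q : Type u) [Group Q], Subgroup Q} (hW : IsCharPFunctor.{u} p W) (S : Sylow p H)
    (hSC : (S : Subgroup H) ⊓ Subgroup.centralizer ((Cfsg.pCore p H : Subgroup H) : Set H) ≤
      Cfsg.pCore p H)
    (hfacH : ∀ (D : Subgroup H) [D.Normal],
      Subgroup.centralizer ((Cfsg.pCore p (H ⧸ D) : Subgroup (H ⧸ D)) : Set (H ⧸ D)) ≤
        Cfsg.pCore p (H ⧸ D) → ∀ T : Sylow p (H ⧸ D), ∀ x : H ⧸ D,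
      ∃ a ∈ Subgroup.centralizer ((omegaOne p ((T : Subgroup (H ⧸ D)) ⊓
          Subgroup.centralizer ((T : Subgroup (H ⧸ D)) : Set (H ⧸ D))) : Subgroup (H ⧸ D)) :
            Set (H ⧸ D)),
        ∃ b ∈ Subgroup.normalizer ((inducedFunctor W (T : Subgroup (H ⧸ D)) : Subgroup (H ⧸ D)) :
            Set (H ⧸ D)), x = a * b)
    (z : H) (hz : z ∈ omegaOne p ((S : Subgroup H) ⊓ Subgroup.centralizer ((S : Subgroup H) : Set H)))
    (hzP : z ∈ Cfsg.pCore p H) (x : H) :
    ∃ b ∈ Subgroup.normalizer ((inducedFunctor W (S : Subgroup H) : Subgroup H) : Set H),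
      x * z * x⁻¹ = b * z * b⁻¹ := by
  have hPn : (Cfsg.pCore p H).Normal := H1.pCore_normal p H
  have hPp : IsPGroup p (Cfsg.pCore p H) := H1.pCore_isPGroup p H
  set C := Subgroup.centralizer ((Cfsg.pCore p H : Subgroup H) : Set H) with hCdef
  have hCn : C.Normal := Subgroup.normal_centralizer
  have hZ : ∀ z ∈ (S : Subgroup H) ⊓ C, ∀ c ∈ C, z * c = c * z := by
    intro z hz c hc
    exact Subgroup.mem_centralizer_iff.1 hc z (hSC hz)
  obtain ⟨D, hDn, hDc, hfac⟩ := exists_normal_coprime_complement S C hZ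
  have hcon := constrained_quotient D hDc (by
    intro x hx
    obtain ⟨z, hz, d, hd, rfl⟩ := hfac x hx
    exact ⟨z, hSC hz, d, hd, rfl⟩)
  have hSb := sylow_map_mk S D
  let T : Sylow p (H ⧸ D) := hSb.1.toSylow hSb.2
  have hT : (T : Subgroup (H ⧸ D)) = (S : Subgroup H).map (QuotientGroup.mk' D) :=
    hSb.1.toSylow_coe hSb.2
  obtain ⟨a, ha, b, hb, hab⟩ := hfacH D hcon T (QuotientGroup.mk' D x)⁻¹
  have hinj := injOn_mk_of_coprime D hDc S.2
  have hWmap := inducedFunctor_map_injOn hW (QuotientGroup.mk' D) (S : Subgroup H) S.2 hinj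
  have hb' : b⁻¹ ∈ Subgroup.normalizer ((((inducedFunctor W (S : Subgroup H)).map
      (QuotientGroup.mk' D) : Subgroup (H ⧸ D))) : Set (H ⧸ D)) := by
    rw [hWmap, ← hT]
    exact inv_mem hb
  have hWc := isConjugacyFunctor_inducedFunctor (H := H) hW
  have hVp : IsPGroup p (inducedFunctor W (S : Subgroup H)) := S.2.to_le (hWc _ S.2).1
  obtain ⟨e, he, heb⟩ := exists_lift_mem_normalizer D hDc hVp hb'
  refine ⟨e, he, ?_⟩
  -- the image of `z` is in `Ω₁Z(T)`
  have hzb : QuotientGroup.mk' D z ∈ omegaOne p ((T : Subgroup (H ⧸ D)) ⊓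
      Subgroup.centralizer ((T : Subgroup (H ⧸ D)) : Set (H ⧸ D))) := by
    rw [hT]
    have h1 : QuotientGroup.mk' D z ∈ (omegaOne p ((S : Subgroup H) ⊓
        Subgroup.centralizer ((S : Subgroup H) : Set H))).map (QuotientGroup.mk' D) :=
      ⟨z, hz, rfl⟩
    have h2 := map_omegaOne_le p (QuotientGroup.mk' D) _ h1
    unfold omegaOne at h2 ⊢
    refine Subgroup.closure_mono ?_ h2
    rintro y ⟨hy, hyp⟩
    exact ⟨map_inf_centralizer_le _ _ hy, hyp⟩
  have hcomm : QuotientGroup.mk' D z * a⁻¹ = a⁻¹ * QuotientGroup.mk' D z :=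
    Subgroup.mem_centralizer_iff.mp (inv_mem ha) _ hzb
  have hx : QuotientGroup.mk' D x = b⁻¹ * a⁻¹ := by
    have : QuotientGroup.mk' D x = ((QuotientGroup.mk' D x)⁻¹)⁻¹ := (inv_inv _).symm
    rw [this, hab, mul_inv_rev]
  have himg : QuotientGroup.mk' D (x * z * x⁻¹) = QuotientGroup.mk' D (e * z * e⁻¹) := by
    rw [map_mul, map_mul, map_inv, map_mul, map_mul, map_inv, heb, hx]
    calc b⁻¹ * a⁻¹ * QuotientGroup.mk' D z * (b⁻¹ * a⁻¹)⁻¹
        = b⁻¹ * (a⁻¹ * QuotientGroup.mk' D z) * a * b := by group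
      _ = b⁻¹ * (QuotientGroup.mk' D z * a⁻¹) * a * b := by rw [hcomm]
      _ = b⁻¹ * QuotientGroup.mk' D z * b⁻¹⁻¹ := by group
  exact injOn_mk_of_coprime D hDc hPp (hPn.conj_mem z hzP x) (hPn.conj_mem z hzP e) himg

/-- **Frattini factorization** used in case C: with `P = O_p(H)`, `C = C_H(P)`, every element of
`H` is a product of an element of `N_H(S ∩ PC)` and an element of `C`. -/
theorem exists_mul_normalizer_centralizer [Finite H] {p : ℕ} [hp : Fact p.Prime] (S : Sylow p H)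
    (x : H) :
    ∃ g ∈ Subgroup.normalizer ((((S : Subgroup H) ⊓ (Cfsg.pCore p H ⊔
        Subgroup.centralizer ((Cfsg.pCore p H : Subgroup H) : Set H)) : Subgroup H)) : Set H),
      ∃ c ∈ Subgroup.centralizer ((Cfsg.pCore p H : Subgroup H) : Set H), x = g * c := by
  set P := Cfsg.pCore p H with hPdef
  have hPn : P.Normal := H1.pCore_normal p H
  have hPS : P ≤ (S : Subgroup H) := H1.pCore_le_sylow S
  set C := Subgroup.centralizer (P : Set H) with hCdef
  have hCn : C.Normal := Subgroup.normal_centralizer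
  set K := P ⊔ C with hK
  have hKn : K.Normal := Subgroup.sup_normal P C
  set S₀ := (S : Subgroup H) ⊓ K with hS₀
  have hS₀p : IsPGroup p (S₀.subgroupOf K) := (S.2.to_le inf_le_left).comap_subtype
  have hS₀i : ¬ p ∣ (S₀.subgroupOf K).index := H19.not_dvd_relIndex_inf_normal S K
  let Q : Sylow p K := hS₀p.toSylow hS₀i
  have hQ : (Q : Subgroup K) = S₀.subgroupOf K := hS₀p.toSylow_coe hS₀i
  have hfr := Sylow.normalizer_sup_eq_top Q
  rw [hQ, Subgroup.subgroupOf_map_subtype, inf_eq_left.2 (inf_le_right : S₀ ≤ K)] at hfr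
  have hg : x ∈ Subgroup.normalizer (S₀ : Set H) ⊔ K := by rw [hfr]; exact Subgroup.mem_top x
  obtain ⟨n, hn, k, hk, rfl⟩ := Subgroup.mem_sup_of_normal_right.1 hg
  obtain ⟨u, hu, c, hc, rfl⟩ := Subgroup.mem_sup_of_normal_right.1 hk
  refine ⟨n * u, Subgroup.mul_mem _ hn ?_, c, hc, by group⟩
  apply Subgroup.le_normalizer
  exact Subgroup.mem_inf.2 ⟨hPS hu, Subgroup.mem_sup_left hu⟩

end Cfsg.Agent.Lib.H10
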