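import Mathlib
import Cfsg.Agent.Lib.H10.TripleFac
import Cfsg.Agent.Lib.H10.GoodF
import Cfsg.Prelude.Def_LocalEven
import Cfsg.Prelude.Def_TwoFusion
import Cfsg.Prelude.Def_Transfer

/-! Glauberman's triple factorization theorem, the induction inside a fixed group (helper10). -/

set_option autoImplicit false

namespace Cfsg.Agent.Lib.H10

open Cfsg

universe u

section ncl

variable {G : Type*} [Group G]

/-- the subgroup generated by the `N`-conjugates of `Z`. -/
def ncl (Z N : Subgroup G) : Subgroup G :=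
  Subgroup.closure {y | ∃ n ∈ N, ∃ z ∈ Z, y = n * z * n⁻¹}

theorem conj_mem_ncl {Z N : Subgroup G} {n z : G} (hn : n ∈ N) (hz : z ∈ Z) :
    n * z * n⁻¹ ∈ ncl Z N :=
  Subgroup.subset_closure ⟨n, hn, z, hz, rfl⟩

theorem ncl_le {Z N K : Subgroup G} (h : ∀ n ∈ N, ∀ z ∈ Z, n * z * n⁻¹ ∈ K) : ncl Z N ≤ K := by
  unfold ncl
  rw [Subgroup.closure_le]
  rintro _ ⟨n, hn, z, hz, rfl⟩
  exact h n hn z hz

theorem ncl_mono {Z N N' : Subgroup G} (h : N ≤ N') : ncl Z N ≤ ncl Z N' :=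
  ncl_le (fun _ hn _ hz => conj_mem_ncl (h hn) hz)

theorem le_ncl (Z N : Subgroup G) : Z ≤ ncl Z N := by
  intro z hz
  have := conj_mem_ncl (N := N) (one_mem N) hz
  simpa using this

theorem le_normalizer_ncl (Z N : Subgroup G) :
    N ≤ Subgroup.normalizer ((ncl Z N : Subgroup G) : Set G) := by
  intro m hm
  rw [mem_normalizer_iff_map_conj]
  have key : ∀ m ∈ N, (ncl Z N).map (MulAut.conj m).toMonoidHom ≤ ncl Z N := by
    intro m hm
    unfold ncl
    rw [MonoidHom.map_closure]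
    apply Subgroup.closure_mono
    rintro _ ⟨_, ⟨n, hn, z, hz, rfl⟩, rfl⟩
    refine ⟨m * n, N.mul_mem hm hn, z, hz, ?_⟩
    simp only [MulEquiv.coe_toMonoidHom, MulAut.conj_apply]
    group
  apply le_antisymm (key m hm)
  intro y hy
  rw [mem_map_conj]
  have := key m⁻¹ (N.inv_mem hm) (conj_mem_map_conj (g := m⁻¹) hy)
  rwa [inv_inv] at this

theorem ncl_eq_map_normalClosure {Z N : Subgroup G} (hZN : Z ≤ N) :
    (Subgroup.normalClosure ((Z.subgroupOf N : Subgroup N) : Set N)).map N.subtype = ncl Z N := by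
  unfold Subgroup.normalClosure ncl
  rw [MonoidHom.map_closure]
  congr 1
  ext y
  constructor
  · rintro ⟨y', hy', rfl⟩
    obtain ⟨z', hz', hconj⟩ := Group.mem_conjugatesOfSet_iff.mp hy'
    obtain ⟨c, hc⟩ := isConj_iff.mp hconj
    refine ⟨c, c.2, z', Subgroup.mem_subgroupOf.mp hz', ?_⟩
    rw [← hc]
    simp
  · rintro ⟨n, hn, z, hz, rfl⟩
    refine ⟨⟨n, hn⟩ * ⟨z, hZN hz⟩ * ⟨n, hn⟩⁻¹, ?_, by simp⟩
    apply Group.mem_conjugatesOfSet_iff.mpr
    refine ⟨⟨z, hZN hz⟩, Subgroup.mem_subgroupOf.mpr hz, ?_⟩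
    exact isConj_iff.mpr ⟨⟨n, hn⟩, rfl⟩

end ncl

variable {G : Type u} [Group G]

/-- the factorization hypothesis of the statements, for a subgroup `H` as a group of its own. -/
theorem hfacH_of_hfac {p : ℕ} {W : ∀ (Q : Type u) [Group Q], Subgroup Q}
    (hfac : ∀ (K R : Subgroup G) [hR : (R.subgroupOf K).Normal],
      Subgroup.centralizer ((Cfsg.pCore p (↥K ⧸ R.subgroupOf K) : Subgroup (↥K ⧸ R.subgroupOf K)) :
        Set (↥K ⧸ R.subgroupOf K)) ≤ Cfsg.pCore p (↥K ⧸ R.subgroupOf K) →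
      ∀ T : Sylow p (↥K ⧸ R.subgroupOf K), ∀ x : (↥K ⧸ R.subgroupOf K),
        ∃ a ∈ Subgroup.centralizer ((omegaOne p ((T : Subgroup (↥K ⧸ R.subgroupOf K)) ⊓
            Subgroup.centralizer ((T : Subgroup (↥K ⧸ R.subgroupOf K)) : Set (↥K ⧸ R.subgroupOf K))) :
              Subgroup (↥K ⧸ R.subgroupOf K)) : Set (↥K ⧸ R.subgroupOf K)),
          ∃ b ∈ Subgroup.normalizer ((inducedFunctor (G := (↥K ⧸ R.subgroupOf K)) W
              (T : Subgroup (↥K ⧸ R.subgroupOf K)) : Subgroup (↥K ⧸ R.subgroupOf K)) :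
                Set (↥K ⧸ R.subgroupOf K)), x = a * b)
    (H : Subgroup G) :
    ∀ (D : Subgroup ↥H) [D.Normal],
      Subgroup.centralizer ((Cfsg.pCore p (↥H ⧸ D) : Subgroup (↥H ⧸ D)) : Set (↥H ⧸ D)) ≤
        Cfsg.pCore p (↥H ⧸ D) → ∀ T : Sylow p (↥H ⧸ D), ∀ x : ↥H ⧸ D,
      ∃ a ∈ Subgroup.centralizer ((omegaOne p ((T : Subgroup (↥H ⧸ D)) ⊓
          Subgroup.centralizer ((T : Subgroup (↥H ⧸ D)) : Set (↥H ⧸ D))) : Subgroup (↥H ⧸ D)) :
            Set (↥H ⧸ D)),
        ∃ b ∈ Subgroup.normalizer ((inducedFunctor W (T : Subgroup (↥H ⧸ D)) : Subgroup (↥H ⧸ D)) :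
            Set (↥H ⧸ D)), x = a * b := by
  intro D hDn
  set R := D.map H.subtype with hR
  have hD : R.subgroupOf H = D := by
    rw [hR]
    exact Subgroup.comap_map_eq_self_of_injective H.subtype_injective D
  clear_value R
  subst hD
  exact hfac H R

theorem map_subtype_inf_centralizer {S H : Subgroup G} (hSH : S ≤ H) :
    ((S.subgroupOf H) ⊓ Subgroup.centralizer ((S.subgroupOf H : Subgroup H) : Set H)).map H.subtype =
      S ⊓ Subgroup.centralizer (S : Set G) := by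
  ext y
  constructor
  · rintro ⟨y', ⟨hy1, hy2⟩, rfl⟩
    refine ⟨Subgroup.mem_subgroupOf.mp hy1, ?_⟩
    change (y' : G) ∈ Subgroup.centralizer (S : Set G)
    rw [Subgroup.mem_centralizer_iff]
    intro s hs
    have := Subgroup.mem_centralizer_iff.mp hy2 ⟨s, hSH hs⟩ (Subgroup.mem_subgroupOf.mpr hs)
    exact congrArg Subtype.val this
  · rintro ⟨hy1, hy2⟩
    refine ⟨⟨y, hSH hy1⟩, ⟨Subgroup.mem_subgroupOf.mpr hy1, ?_⟩, rfl⟩
    change (⟨y, hSH hy1⟩ : H) ∈ Subgroup.centralizer ((S.subgroupOf H : Subgroup H) : Set H)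
    rw [Subgroup.mem_centralizer_iff]
    intro s hs
    apply Subtype.ext
    exact Subgroup.mem_centralizer_iff.mp hy2 s (Subgroup.mem_subgroupOf.mp hs)


/-- **Step L3.** If `H ≤ N(W(S))` (with `Ω₁Z(S) ≤ W(S)`), then the `H`-conjugates of `Ω₁Z(S)` are
generated by `N_H(W'(S))`-conjugates, assuming the same for all proper subgroups over `S`. -/
theorem ncl_le_of_le_normalizer [Finite G] {p : ℕ} [hp : Fact p.Prime] (S : Sylow p G)
    {W W' : ∀ (Q : Type u) [Group Q], Subgroup Q} (hW : IsCharPFunctor.{u} p W)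
    (hW' : IsCharPFunctor.{u} p W')
    (hfac' : ∀ (K R : Subgroup G) [hR : (R.subgroupOf K).Normal],
      Subgroup.centralizer ((Cfsg.pCore p (↥K ⧸ R.subgroupOf K) : Subgroup (↥K ⧸ R.subgroupOf K)) :
        Set (↥K ⧸ R.subgroupOf K)) ≤ Cfsg.pCore p (↥K ⧸ R.subgroupOf K) →
      ∀ T : Sylow p (↥K ⧸ R.subgroupOf K), ∀ x : (↥K ⧸ R.subgroupOf K),
        ∃ a ∈ Subgroup.centralizer ((omegaOne p ((T : Subgroup (↥K ⧸ R.subgroupOf K)) ⊓
            Subgroup.centralizer ((T : Subgroup (↥K ⧸ R.subgroupOf K)) : Set (↥K ⧸ R.subgroupOf K))) :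
              Subgroup (↥K ⧸ R.subgroupOf K)) : Set (↥K ⧸ R.subgroupOf K)),
          ∃ b ∈ Subgroup.normalizer ((inducedFunctor (G := (↥K ⧸ R.subgroupOf K)) W'
              (T : Subgroup (↥K ⧸ R.subgroupOf K)) : Subgroup (↥K ⧸ R.subgroupOf K)) :
                Set (↥K ⧸ R.subgroupOf K)), x = a * b)
    (hZV : omegaOne p ((S : Subgroup G) ⊓ Subgroup.centralizer ((S : Subgroup G) : Set G)) ≤
      inducedFunctor W (S : Subgroup G))
    (H : Subgroup G) (hSH : (S : Subgroup G) ≤ H)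
    (hHV : H ≤ Subgroup.normalizer ((inducedFunctor W (S : Subgroup G) : Subgroup G) : Set G))
    (IH : ∀ L : Subgroup G, L < H → (S : Subgroup G) ≤ L →
      ncl (omegaOne p ((S : Subgroup G) ⊓ Subgroup.centralizer ((S : Subgroup G) : Set G))) L ≤
        ncl (omegaOne p ((S : Subgroup G) ⊓ Subgroup.centralizer ((S : Subgroup G) : Set G)))
          (L ⊓ Subgroup.normalizer ((inducedFunctor W' (S : Subgroup G) : Subgroup G) : Set G))) :
    ncl (omegaOne p ((S : Subgroup G) ⊓ Subgroup.centralizer ((S : Subgroup G) : Set G))) H ≤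
      ncl (omegaOne p ((S : Subgroup G) ⊓ Subgroup.centralizer ((S : Subgroup G) : Set G)))
        (H ⊓ Subgroup.normalizer ((inducedFunctor W' (S : Subgroup G) : Subgroup G) : Set G)) := by
  set Z := omegaOne p ((S : Subgroup G) ⊓ Subgroup.centralizer ((S : Subgroup G) : Set G)) with hZdef
  set V := inducedFunctor W (S : Subgroup G) with hVdef
  have hWc := isConjugacyFunctor_inducedFunctor (H := G) hW
  have hVS : V ≤ (S : Subgroup G) := (hWc _ S.2).1
  apply ncl_le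
  intro x hx z hz
  let S' : Sylow p ↥H := S.subtype hSH
  have hS' : (S' : Subgroup ↥H) = (S : Subgroup G).subgroupOf H := Sylow.coe_subtype _ _
  have hS'map : (S' : Subgroup ↥H).map H.subtype = (S : Subgroup G) := by
    rw [hS', Subgroup.subgroupOf_map_subtype, inf_eq_left.mpr hSH]
  have hzV : z ∈ V := hZV hz
  have hzH : z ∈ H := hSH (hVS hzV)
  -- `V ∩ H` is a normal `p`-subgroup of `H`
  have hV'n : (V.subgroupOf H).Normal := by
    constructor
    intro v hv g
    rw [Subgroup.mem_subgroupOf] at hv ⊢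
    have := (Subgroup.mem_normalizer_iff.mp (hHV g.2) (v : G)).mp hv
    simpa using this
  have hV'p : IsPGroup p (V.subgroupOf H) := (S.2.to_le hVS).comap_subtype
  have hV'P : V.subgroupOf H ≤ Cfsg.pCore p ↥H := H1.le_pCore hV'n hV'p
  have hz'P : (⟨z, hzH⟩ : ↥H) ∈ Cfsg.pCore p ↥H := hV'P (Subgroup.mem_subgroupOf.mpr hzV)
  have hz'Ω : (⟨z, hzH⟩ : ↥H) ∈ omegaOne p ((S' : Subgroup ↥H) ⊓
      Subgroup.centralizer ((S' : Subgroup ↥H) : Set ↥H)) := by
    have h1 := map_omegaOne_of_injective p H.subtype H.subtype_injective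
      ((S' : Subgroup ↥H) ⊓ Subgroup.centralizer ((S' : Subgroup ↥H) : Set ↥H))
    rw [hS', map_subtype_inf_centralizer hSH] at h1
    have h2 : z ∈ (omegaOne p (((S : Subgroup G).subgroupOf H) ⊓
        Subgroup.centralizer ((((S : Subgroup G).subgroupOf H : Subgroup ↥H)) : Set ↥H))).map
          H.subtype := by
      rw [h1]; exact hz
    obtain ⟨y, hy, hyz⟩ := h2
    have : y = ⟨z, hzH⟩ := Subtype.ext hyz
    rw [hS', ← this]
    exact hy
  have hP'n : (Cfsg.pCore p ↥H).Normal := H1.pCore_normal p ↥H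
  by_cases hA : (S' : Subgroup ↥H) ⊓
      Subgroup.centralizer ((Cfsg.pCore p ↥H : Subgroup ↥H) : Set ↥H) ≤ Cfsg.pCore p ↥H
  · -- case A
    obtain ⟨b, hb, hbz⟩ := conj_eq_conj_normalizer_of_caseA hW' S' hA (hfacH_of_hfac hfac' H)
      ⟨z, hzH⟩ hz'Ω hz'P ⟨x, hx⟩
    have hbN : (b : G) ∈ Subgroup.normalizer
        ((inducedFunctor W' (S : Subgroup G) : Subgroup G) : Set G) := by
      have h1 : (b : G) ∈ Subgroup.normalizer
          ((((inducedFunctor W' (S' : Subgroup ↥H)).map H.subtype : Subgroup G)) : Set G) :=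
        Subgroup.le_normalizer_map H.subtype ⟨b, hb, rfl⟩
      rw [inducedFunctor_map_subtype hW' H (S' : Subgroup ↥H) S'.2, hS'map] at h1
      exact h1
    have e : x * z * x⁻¹ = (b : G) * z * (b : G)⁻¹ := by
      have := congrArg Subtype.val hbz
      simpa using this
    rw [e]
    exact conj_mem_ncl ⟨b.2, hbN⟩ hz
  · -- case C
    set G₁' := Subgroup.normalizer ((((S' : Subgroup ↥H) ⊓ (Cfsg.pCore p ↥H ⊔
        Subgroup.centralizer ((Cfsg.pCore p ↥H : Subgroup ↥H) : Set ↥H)) : Subgroup ↥H)) : Set ↥H)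
      with hG₁'
    have hG₁top : G₁' ≠ ⊤ := by
      intro htop
      apply hA
      have hn' : ((S' : Subgroup ↥H) ⊓ (Cfsg.pCore p ↥H ⊔
          Subgroup.centralizer ((Cfsg.pCore p ↥H : Subgroup ↥H) : Set ↥H))).Normal :=
        Subgroup.normalizer_eq_top_iff.1 htop
      have h1 : (S' : Subgroup ↥H) ⊓ (Cfsg.pCore p ↥H ⊔
          Subgroup.centralizer ((Cfsg.pCore p ↥H : Subgroup ↥H) : Set ↥H)) ≤ Cfsg.pCore p ↥H :=
        H1.le_pCore hn' (S'.2.to_le inf_le_left)
      exact le_trans (inf_le_inf_left _ le_sup_right) h1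
    have hCn : (Subgroup.centralizer ((Cfsg.pCore p ↥H : Subgroup ↥H) : Set ↥H)).Normal :=
      Subgroup.normal_centralizer
    have hKn : (Cfsg.pCore p ↥H ⊔
        Subgroup.centralizer ((Cfsg.pCore p ↥H : Subgroup ↥H) : Set ↥H)).Normal :=
      Subgroup.sup_normal _ _
    have hS'G₁ : (S' : Subgroup ↥H) ≤ G₁' := by
      have h1 : Subgroup.normalizer ((S' : Subgroup ↥H) : Set ↥H) ⊓ Subgroup.normalizer
          (((Cfsg.pCore p ↥H ⊔ Subgroup.centralizer ((Cfsg.pCore p ↥H : Subgroup ↥H) : Set ↥H) :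
            Subgroup ↥H)) : Set ↥H) ≤ G₁' := Subgroup.inf_normalizer_le_normalizer_inf
      refine le_trans (le_inf Subgroup.le_normalizer ?_) h1
      rw [Subgroup.normalizer_eq_top]
      exact le_top
    set G₁ := G₁'.map H.subtype with hG₁
    have hG₁H : G₁ ≤ H := Subgroup.map_subtype_le _
    have hG₁lt : G₁ < H := by
      refine lt_of_le_of_ne hG₁H ?_
      intro heq
      apply hG₁top
      rw [eq_top_iff]
      intro y _
      have hyG : (y : G) ∈ G₁ := by rw [heq]; exact y.2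
      obtain ⟨y', hy', hyy⟩ := hyG
      have : y' = y := Subtype.ext hyy
      rw [← this]
      exact hy'
    have hSG₁ : (S : Subgroup G) ≤ G₁ := by
      rw [← hS'map]
      exact Subgroup.map_mono hS'G₁
    obtain ⟨g, hg, c, hc, hxgc⟩ := exists_mul_normalizer_centralizer S' ⟨x, hx⟩
    have hcz : (⟨z, hzH⟩ : ↥H) * c = c * ⟨z, hzH⟩ := Subgroup.mem_centralizer_iff.mp hc _ hz'P
    have e : x * z * x⁻¹ = (g : G) * z * (g : G)⁻¹ := by
      have h1 : (⟨x, hx⟩ : ↥H) * ⟨z, hzH⟩ * (⟨x, hx⟩ : ↥H)⁻¹ = g * ⟨z, hzH⟩ * g⁻¹ := by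
        rw [hxgc]
        calc g * c * ⟨z, hzH⟩ * (g * c)⁻¹ = g * (c * ⟨z, hzH⟩) * c⁻¹ * g⁻¹ := by group
          _ = g * (⟨z, hzH⟩ * c) * c⁻¹ * g⁻¹ := by rw [hcz]
          _ = g * ⟨z, hzH⟩ * g⁻¹ := by group
      have := congrArg Subtype.val h1
      simpa using this
    rw [e]
    have hgG₁ : (g : G) ∈ G₁ := ⟨g, hg, rfl⟩
    have h1 : (g : G) * z * (g : G)⁻¹ ∈ ncl Z G₁ := conj_mem_ncl hgG₁ hz
    exact ncl_mono (inf_le_inf_right _ hG₁H) (IH G₁ hG₁lt hSG₁ h1)

/-- **Key claim.** For every subgroup `H` over `S`, the `N_H(W₁(S))`-conjugates and the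
`N_H(W₂(S))`-conjugates of `Ω₁Z(S)` generate the same subgroup. -/
theorem ncl_normalizer_eq [Finite G] {p : ℕ} [hp : Fact p.Prime] (S : Sylow p G)
    {W₁ W₂ : ∀ (Q : Type u) [Group Q], Subgroup Q} (hW₁ : IsCharPFunctor.{u} p W₁)
    (hW₂ : IsCharPFunctor.{u} p W₂)
    (hfac₁ : ∀ (K R : Subgroup G) [hR : (R.subgroupOf K).Normal],
      Subgroup.centralizer ((Cfsg.pCore p (↥K ⧸ R.subgroupOf K) : Subgroup (↥K ⧸ R.subgroupOf K)) :
        Set (↥K ⧸ R.subgroupOf K)) ≤ Cfsg.pCore p (↥K ⧸ R.subgroupOf K) →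
      ∀ T : Sylow p (↥K ⧸ R.subgroupOf K), ∀ x : (↥K ⧸ R.subgroupOf K),
        ∃ a ∈ Subgroup.centralizer ((omegaOne p ((T : Subgroup (↥K ⧸ R.subgroupOf K)) ⊓
            Subgroup.centralizer ((T : Subgroup (↥K ⧸ R.subgroupOf K)) : Set (↥K ⧸ R.subgroupOf K))) :
              Subgroup (↥K ⧸ R.subgroupOf K)) : Set (↥K ⧸ R.subgroupOf K)),
          ∃ b ∈ Subgroup.normalizer ((inducedFunctor (G := (↥K ⧸ R.subgroupOf K)) W₁
              (T : Subgroup (↥K ⧸ R.subgroupOf K)) : Subgroup (↥K ⧸ R.subgroupOf K)) :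
                Set (↥K ⧸ R.subgroupOf K)), x = a * b)
    (hfac₂ : ∀ (K R : Subgroup G) [hR : (R.subgroupOf K).Normal],
      Subgroup.centralizer ((Cfsg.pCore p (↥K ⧸ R.subgroupOf K) : Subgroup (↥K ⧸ R.subgroupOf K)) :
        Set (↥K ⧸ R.subgroupOf K)) ≤ Cfsg.pCore p (↥K ⧸ R.subgroupOf K) →
      ∀ T : Sylow p (↥K ⧸ R.subgroupOf K), ∀ x : (↥K ⧸ R.subgroupOf K),
        ∃ a ∈ Subgroup.centralizer ((omegaOne p ((T : Subgroup (↥K ⧸ R.subgroupOf K)) ⊓
            Subgroup.centralizer ((T : Subgroup (↥K ⧸ R.subgroupOf K)) : Set (↥K ⧸ R.subgroupOf K))) :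
              Subgroup (↥K ⧸ R.subgroupOf K)) : Set (↥K ⧸ R.subgroupOf K)),
          ∃ b ∈ Subgroup.normalizer ((inducedFunctor (G := (↥K ⧸ R.subgroupOf K)) W₂
              (T : Subgroup (↥K ⧸ R.subgroupOf K)) : Subgroup (↥K ⧸ R.subgroupOf K)) :
                Set (↥K ⧸ R.subgroupOf K)), x = a * b)
    (hZ : omegaOne p ((S : Subgroup G) ⊓ Subgroup.centralizer ((S : Subgroup G) : Set G)) ≤
      inducedFunctor W₁ (S : Subgroup G) ⊓ inducedFunctor W₂ (S : Subgroup G)) :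
    ∀ (n : ℕ) (H : Subgroup G), Nat.card H = n → (S : Subgroup G) ≤ H →
      ncl (omegaOne p ((S : Subgroup G) ⊓ Subgroup.centralizer ((S : Subgroup G) : Set G)))
          (H ⊓ Subgroup.normalizer ((inducedFunctor W₁ (S : Subgroup G) : Subgroup G) : Set G)) =
        ncl (omegaOne p ((S : Subgroup G) ⊓ Subgroup.centralizer ((S : Subgroup G) : Set G)))
          (H ⊓ Subgroup.normalizer ((inducedFunctor W₂ (S : Subgroup G) : Subgroup G) : Set G)) := by
  intro n
  induction n using Nat.strong_induction_on with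
  | _ n ih =>
  intro H hn hSH
  set Z := omegaOne p ((S : Subgroup G) ⊓ Subgroup.centralizer ((S : Subgroup G) : Set G)) with hZdef
  set V₁ := inducedFunctor W₁ (S : Subgroup G) with hV₁
  set V₂ := inducedFunctor W₂ (S : Subgroup G) with hV₂
  have hWc₁ := isConjugacyFunctor_inducedFunctor (H := G) hW₁
  have hWc₂ := isConjugacyFunctor_inducedFunctor (H := G) hW₂
  have hSN₁ : (S : Subgroup G) ≤ Subgroup.normalizer (V₁ : Set G) :=
    Subgroup.le_normalizer.trans (normalizer_le_normalizer_functor hWc₁ S.2)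
  have hSN₂ : (S : Subgroup G) ≤ Subgroup.normalizer (V₂ : Set G) :=
    Subgroup.le_normalizer.trans (normalizer_le_normalizer_functor hWc₂ S.2)
  have hlt : ∀ L : Subgroup G, L < H → Nat.card L < n := by
    intro L hL
    rw [← hn]
    exact card_lt_card_of_lt hL
  by_cases h1 : H ≤ Subgroup.normalizer (V₁ : Set G)
  · rw [inf_eq_left.mpr h1]
    apply le_antisymm _ (ncl_mono inf_le_left)
    apply ncl_le_of_le_normalizer S hW₁ hW₂ hfac₂ (hZ.trans inf_le_left) H hSH h1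
    intro L hL hSL
    have := ih _ (hlt L hL) L rfl hSL
    rw [inf_eq_left.mpr (hL.le.trans h1)] at this
    rw [← this]
  by_cases h2 : H ≤ Subgroup.normalizer (V₂ : Set G)
  · rw [inf_eq_left.mpr h2]
    apply le_antisymm (ncl_mono inf_le_left)
    apply ncl_le_of_le_normalizer S hW₂ hW₁ hfac₁ (hZ.trans inf_le_right) H hSH h2
    intro L hL hSL
    have := ih _ (hlt L hL) L rfl hSL
    rw [inf_eq_left.mpr (hL.le.trans h2)] at this
    rw [this]
  · have hN₁lt : H ⊓ Subgroup.normalizer (V₁ : Set G) < H :=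
      lt_of_le_of_ne inf_le_left (fun h => h1 (inf_eq_left.mp h))
    have hN₂lt : H ⊓ Subgroup.normalizer (V₂ : Set G) < H :=
      lt_of_le_of_ne inf_le_left (fun h => h2 (inf_eq_left.mp h))
    have e1 := ih _ (hlt _ hN₁lt) _ rfl (le_inf hSH hSN₁)
    have e2 := ih _ (hlt _ hN₂lt) _ rfl (le_inf hSH hSN₂)
    rw [inf_eq_left.mpr (inf_le_right : H ⊓ Subgroup.normalizer (V₁ : Set G) ≤ _)] at e1
    rw [inf_eq_left.mpr (inf_le_right : H ⊓ Subgroup.normalizer (V₂ : Set G) ≤ _)] at e2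
    apply le_antisymm
    · rw [e1]
      exact ncl_mono (inf_le_inf_right _ inf_le_left)
    · rw [← e2]
      exact ncl_mono (inf_le_inf_right _ inf_le_left)


/-- elements of `Ω₁` of the centre of `S` lie in the centre and have order dividing `p`. -/
theorem mem_center_and_pow_of_mem_omegaOne_center {p : ℕ} {S : Subgroup G} {z : G}
    (hz : z ∈ omegaOne p (S ⊓ Subgroup.centralizer (S : Set G))) :
    z ∈ S ⊓ Subgroup.centralizer (S : Set G) ∧ z ^ p = 1 := by
  unfold omegaOne at hz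
  induction hz using Subgroup.closure_induction with
  | mem x hx => exact hx
  | one => exact ⟨one_mem _, one_pow _⟩
  | mul x y _ _ hx hy =>
    refine ⟨mul_mem hx.1 hy.1, ?_⟩
    have hc : Commute x y := (Subgroup.mem_centralizer_iff.mp hy.1.2 x hx.1.1)
    rw [hc.mul_pow, hx.2, hy.2, one_mul]
  | inv x _ hx => exact ⟨inv_mem hx.1, by rw [inv_pow, hx.2, inv_one]⟩

/-- the product of a chain with all steps in `N(A)` lies in `N(A)`. -/
theorem FC.mem_of_steps {𝓦 : Set (Subgroup G → Subgroup G)} {X T₀ K : Subgroup G}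
    (hK : ∀ W ∈ 𝓦, Subgroup.normalizer ((W T₀ : Subgroup G) : Set G) ≤ K) {A : Set G} {g : G}
    (h : FC 𝓦 X T₀ A g) : g ∈ K := by
  induction h with
  | nil A _ => exact one_mem K
  | cons A e g W hW he _ _ ih => exact K.mul_mem (hK W hW he.2) ih

/-- **Triple factorization theorem**, final assembly. -/
theorem triple_factorization_main [Finite G] {p : ℕ} [hp : Fact p.Prime] (S : Sylow p G)
    {W₁ W₂ : ∀ (Q : Type u) [Group Q], Subgroup Q} (hW₁ : IsCharPFunctor.{u} p W₁)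
    (hW₂ : IsCharPFunctor.{u} p W₂)
    (hZ : omegaOne p ((S : Subgroup G) ⊓ Subgroup.centralizer ((S : Subgroup G) : Set G)) ≤
      inducedFunctor W₁ (S : Subgroup G) ⊓ inducedFunctor W₂ (S : Subgroup G))
    (hkey : ncl (omegaOne p ((S : Subgroup G) ⊓ Subgroup.centralizer ((S : Subgroup G) : Set G)))
          (Subgroup.normalizer ((inducedFunctor W₁ (S : Subgroup G) : Subgroup G) : Set G)) =
        ncl (omegaOne p ((S : Subgroup G) ⊓ Subgroup.centralizer ((S : Subgroup G) : Set G)))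
          (Subgroup.normalizer ((inducedFunctor W₂ (S : Subgroup G) : Subgroup G) : Set G)))
    (hctl : CtlF {inducedFunctor (G := G) W₁, inducedFunctor (G := G) W₂} (S : Subgroup G))
    (A : Subgroup G)
    (hA : A = ncl (omegaOne p ((S : Subgroup G) ⊓ Subgroup.centralizer ((S : Subgroup G) : Set G)))
          (Subgroup.normalizer ((inducedFunctor W₁ (S : Subgroup G) : Subgroup G) : Set G))) :
    A ≤ (S : Subgroup G) ∧ IsElementaryAbelian p A ∧ IsStronglyClosed A (S : Subgroup G) ∧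
      ControlsStrongFusion p A := by
  set Z := omegaOne p ((S : Subgroup G) ⊓ Subgroup.centralizer ((S : Subgroup G) : Set G)) with hZdef
  set V₁ := inducedFunctor W₁ (S : Subgroup G) with hV₁
  set V₂ := inducedFunctor W₂ (S : Subgroup G) with hV₂
  have hWc₁ := isConjugacyFunctor_inducedFunctor (H := G) hW₁
  have hV₁S : V₁ ≤ (S : Subgroup G) := (hWc₁ _ S.2).1
  -- every element of `A` is in `Z(V₁)` and has order dividing `p`
  have hAgen : A ≤ V₁ ⊓ Subgroup.centralizer (V₁ : Set G) := by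
    rw [hA]
    apply ncl_le
    intro n hn z hz
    have hzc := mem_center_and_pow_of_mem_omegaOne_center hz
    have hzV : z ∈ V₁ := (hZ hz).1
    refine ⟨(Subgroup.mem_normalizer_iff.mp hn z).mp hzV, ?_⟩
    change n * z * n⁻¹ ∈ Subgroup.centralizer (V₁ : Set G)
    rw [Subgroup.mem_centralizer_iff]
    intro v hv
    have hv' : n⁻¹ * v * n ∈ V₁ := by
      have := (Subgroup.mem_normalizer_iff.mp (inv_mem hn) v).mp hv
      simpa using this
    have hc := Subgroup.mem_centralizer_iff.mp hzc.1.2 _ (hV₁S hv')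
    calc v * (n * z * n⁻¹) = n * ((n⁻¹ * v * n) * z) * n⁻¹ := by group
      _ = n * (z * (n⁻¹ * v * n)) * n⁻¹ := by rw [hc]
      _ = n * z * n⁻¹ * v := by group
  have hApow : ∀ a ∈ A, a ^ p = 1 := by
    intro a ha
    rw [hA] at ha
    unfold ncl at ha
    have key : a ∈ V₁ ⊓ Subgroup.centralizer (V₁ : Set G) ∧ a ^ p = 1 := by
      induction ha using Subgroup.closure_induction with
      | mem x hx =>
        obtain ⟨n, hn, z, hz, rfl⟩ := hx
        refine ⟨hAgen (hA ▸ conj_mem_ncl hn hz), ?_⟩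
        have hzc := mem_center_and_pow_of_mem_omegaOne_center hz
        rw [conj_pow, hzc.2]
        group
      | one => exact ⟨one_mem _, one_pow _⟩
      | mul x y _ _ hx hy =>
        refine ⟨mul_mem hx.1 hy.1, ?_⟩
        have hc : Commute x y := (Subgroup.mem_centralizer_iff.mp hy.1.2 x hx.1.1)
        rw [hc.mul_pow, hx.2, hy.2, one_mul]
      | inv x _ hx => exact ⟨inv_mem hx.1, by rw [inv_pow, hx.2, inv_one]⟩
    exact key.2
  have hAS : A ≤ (S : Subgroup G) := hAgen.trans (inf_le_left.trans hV₁S)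
  have hAcomm : IsMulCommutative A := by
    refine ⟨⟨fun a b => ?_⟩⟩
    apply Subtype.ext
    have ha := hAgen a.2
    have hb := hAgen b.2
    exact (Subgroup.mem_centralizer_iff.mp hb.2 _ ha.1)
  -- the normalizers of `V₁` and `V₂` normalize `A`
  have hN₁ : Subgroup.normalizer (V₁ : Set G) ≤ Subgroup.normalizer (A : Set G) := by
    rw [hA]
    exact le_normalizer_ncl _ _
  have hN₂ : Subgroup.normalizer (V₂ : Set G) ≤ Subgroup.normalizer (A : Set G) := by
    rw [hA, hkey]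
    exact le_normalizer_ncl _ _
  have hsteps : ∀ W ∈ ({inducedFunctor (G := G) W₁, inducedFunctor (G := G) W₂} :
      Set (Subgroup G → Subgroup G)),
      Subgroup.normalizer ((W (S : Subgroup G) : Subgroup G) : Set G) ≤
        Subgroup.normalizer (A : Set G) := by
    intro W hW
    rcases hW with h | h
    · rw [h]; exact hN₁
    · rw [Set.mem_singleton_iff.mp h]; exact hN₂
  -- control of fusion
  have hfus : ∀ (X : Set G) (g : G), X ⊆ ((S : Subgroup G) : Set G) →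
      (fun a => g * a * g⁻¹) '' X ⊆ ((S : Subgroup G) : Set G) →
      ∃ x ∈ Subgroup.normalizer (A : Set G), ∀ a ∈ X, g * a * g⁻¹ = x * a * x⁻¹ := by
    intro X g hX hXg
    have hXg' : rconj g⁻¹ X ⊆ ((S : Subgroup G) : Set G) := by
      rintro _ ⟨a, ha, rfl⟩
      have := hXg ⟨a, ha, rfl⟩
      simpa using this
    obtain ⟨c, hc, hca⟩ := hctl X g⁻¹ hX hXg'
    refine ⟨c⁻¹, inv_mem (hc.mem_of_steps hsteps), ?_⟩
    intro a ha
    have := hca a ha
    rw [inv_inv] at this ⊢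
    exact this.symm
  refine ⟨hAS, ⟨hAcomm, hApow⟩, ⟨hAS, ?_⟩, ⟨S, hAS, ?_⟩⟩
  · intro x hx g hgx
    have hX : ({x} : Set G) ⊆ ((S : Subgroup G) : Set G) := by
      intro y hy
      rw [Set.mem_singleton_iff.mp hy]
      exact hAS hx
    have hXg : (fun a => g * a * g⁻¹) '' ({x} : Set G) ⊆ ((S : Subgroup G) : Set G) := by
      rintro _ ⟨y, hy, rfl⟩
      rw [Set.mem_singleton_iff.mp hy]
      exact hgx
    obtain ⟨n, hn, hna⟩ := hfus {x} g hX hXg
    rw [hna x rfl]
    exact (Subgroup.mem_normalizer_iff.mp hn x).mp hx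
  · intro X hX
    exact ⟨hX, fun g hg => hfus X g hX hg⟩

end Cfsg.Agent.Lib.H10
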