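import Mathlib

set_option autoImplicit false

namespace Cfsg.Agent.Lib.H10

open scoped commutatorElement

variable {G : Type*} [Group G]

/-- the subgroup of elements normalizing `D` and acting trivially on `K` modulo `D`:
`a k a⁻¹ k⁻¹ ∈ D` for all `k ∈ K`. -/
def trivSub (K D : Subgroup G) : Subgroup G where
  carrier := {a | a ∈ Subgroup.normalizer (D : Set G) ∧ ∀ k ∈ K, a * k * a⁻¹ * k⁻¹ ∈ D}
  one_mem' := by
    refine ⟨Subgroup.one_mem _, ?_⟩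
    intro k _
    simp
  mul_mem' := by
    rintro a b ⟨ha, hak⟩ ⟨hb, hbk⟩
    refine ⟨Subgroup.mul_mem _ ha hb, ?_⟩
    intro k hk
    have h1 : a * (b * k * b⁻¹ * k⁻¹) * a⁻¹ ∈ D :=
      (Subgroup.mem_normalizer_iff.1 ha _).1 (hbk k hk)
    have h2 := Subgroup.mul_mem _ h1 (hak k hk)
    have : a * b * k * (a * b)⁻¹ * k⁻¹ = a * (b * k * b⁻¹ * k⁻¹) * a⁻¹ * (a * k * a⁻¹ * k⁻¹) := by
      group
    rw [this]; exact h2
  inv_mem' := by
    rintro a ⟨ha, hak⟩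
    refine ⟨Subgroup.inv_mem _ ha, ?_⟩
    intro k hk
    have h1 : a⁻¹ * (a * k * a⁻¹ * k⁻¹)⁻¹ * a⁻¹⁻¹ ∈ D :=
      (Subgroup.mem_normalizer_iff.1 (Subgroup.inv_mem _ ha) _).1 (Subgroup.inv_mem _ (hak k hk))
    have : a⁻¹ * k * a⁻¹⁻¹ * k⁻¹ = a⁻¹ * (a * k * a⁻¹ * k⁻¹)⁻¹ * a⁻¹⁻¹ := by group
    rw [this]; exact h1

theorem mem_trivSub {K D : Subgroup G} {a : G} :
    a ∈ trivSub K D ↔ a ∈ Subgroup.normalizer (D : Set G) ∧ ∀ k ∈ K, a * k * a⁻¹ * k⁻¹ ∈ D :=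
  Iff.rfl

/-- `trivSub K D` is normalized by the elements normalizing both `K` and `D`. -/
theorem conj_mem_trivSub {K D : Subgroup G} {a q : G} (ha : a ∈ trivSub K D)
    (hqK : q ∈ Subgroup.normalizer (K : Set G)) (hqD : q ∈ Subgroup.normalizer (D : Set G)) :
    q * a * q⁻¹ ∈ trivSub K D := by
  obtain ⟨haD, hak⟩ := ha
  refine ⟨Subgroup.mul_mem _ (Subgroup.mul_mem _ hqD haD) (Subgroup.inv_mem _ hqD), ?_⟩
  intro k hk
  have hk' : q⁻¹ * k * q ∈ K := by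
    have := (Subgroup.mem_normalizer_iff.1 (Subgroup.inv_mem _ hqK) k).1 hk
    simpa using this
  have h1 := hak _ hk'
  have h2 := (Subgroup.mem_normalizer_iff.1 hqD _).1 h1
  have : q * a * q⁻¹ * k * (q * a * q⁻¹)⁻¹ * k⁻¹ =
      q * (a * (q⁻¹ * k * q) * a⁻¹ * (q⁻¹ * k * q)⁻¹) * q⁻¹ := by group
  rw [this]; exact h2

/-- if `A` acts trivially on `K / D` and `Q` normalizes `K` and `D` then `[A, Q]` acts trivially. -/
theorem commutator_le_trivSub {K D A Q : Subgroup G} (hA : A ≤ trivSub K D)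
    (hQK : Q ≤ Subgroup.normalizer (K : Set G)) (hQD : Q ≤ Subgroup.normalizer (D : Set G)) :
    ⁅A, Q⁆ ≤ trivSub K D := by
  rw [Subgroup.commutator_le]
  intro a ha q hq
  have h1 := conj_mem_trivSub (Subgroup.inv_mem _ (hA ha)) (hQK hq) (hQD hq)
  have h2 := Subgroup.mul_mem _ (hA ha) h1
  have : ⁅a, q⁆ = a * (q * a⁻¹ * q⁻¹) := by
    rw [commutatorElement_def]; group
  rw [this]; exact h2

end Cfsg.Agent.Lib.H10
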