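import Mathlib
import Cfsg.Agent.Lib.H25.ZasH5

/-!
# Zassenhaus, H-level, block F, part 1: helper lemmas

Helpers for `HCtx.part_F` (normalizers of nontrivial subgroups of `O(C_H(t))`).
-/

set_option autoImplicit false
set_option linter.style.haveILetI false

namespace Cfsg.Agent.Lib.H25.Zas

open Subgroup

/-- conjugation preserves the order -/
theorem blockF_orderOf_conj {G : Type*} [Group G] (g x : G) : orderOf (g * x * g⁻¹) = orderOf x := by
  rw [← (MulAut.conj g).orderOf_eq x]; rfl

/-- an element conjugating `y` to a generator of `⟨y⟩` normalizes `⟨y⟩` -/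
theorem blockF_mem_normalizer_zpowers {G : Type*} [Group G] {g y : G}
    (h1 : zpowers (g * y * g⁻¹) = zpowers y) :
    g ∈ normalizer ((zpowers y : Subgroup G) : Set G) := by
  rw [mem_normalizer_iff]
  intro x
  constructor
  · intro hx
    obtain ⟨k, rfl⟩ := mem_zpowers_iff.mp hx
    rw [← h1]
    have : g * y ^ k * g⁻¹ = (g * y * g⁻¹) ^ k := by rw [conj_zpow]
    rw [this]; exact zpow_mem (mem_zpowers _) k
  · intro hx
    rw [← h1] at hx
    obtain ⟨k, hk⟩ := mem_zpowers_iff.mp hx
    have h2 : g * x * g⁻¹ = g * y ^ k * g⁻¹ := by rw [← hk, conj_zpow]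
    have h3 : x = y ^ k := mul_left_cancel (mul_right_cancel h2)
    rw [h3]; exact zpow_mem (mem_zpowers _) k

/-- in a subgroup of odd order, two elements of the same prime order generate the same subgroup -/
theorem OddFPF.blockF_zpowers_eq {H : Type*} [Group H] [Finite H] (hH : OddFPF H) (R : Subgroup H)
    (hR : Odd (Nat.card R)) {p : ℕ} (hp : p.Prime) {x y : H} (hx : x ∈ R) (hy : y ∈ R)
    (ox : orderOf x = p) (oy : orderOf y = p) : zpowers x = zpowers y := by
  have hf := hH R hR
  have h1 := hf.zpowers_eq_of_orderOf_eq hR hp (x := ⟨x, hx⟩) (y := ⟨y, hy⟩)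
    (by rw [Subgroup.orderOf_mk]; exact ox) (by rw [Subgroup.orderOf_mk]; exact oy)
  have h2 := congrArg (Subgroup.map R.subtype) h1
  rwa [MonoidHom.map_zpowers, MonoidHom.map_zpowers] at h2

/-- an element which both centralizes and inverts a nontrivial element of odd order: impossible -/
theorem blockF_false_of_commute_of_invert {G : Type*} [Group G] {u y : G} (hy1 : y ≠ 1)
    (hodd : Odd (orderOf y)) (hinv : u * y * u⁻¹ = y⁻¹) (hcomm : u * y = y * u) : False := by
  have h1 : y = y⁻¹ := by rw [← hinv, hcomm, mul_inv_cancel_right]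
  have h2 : y * y = 1 := by
    nth_rewrite 2 [h1]; exact mul_inv_cancel y
  have h3 : orderOf y ∣ 2 := orderOf_dvd_of_pow_eq_one (by rw [pow_two]; exact h2)
  have h4 : orderOf y = 1 ∨ orderOf y = 2 := (Nat.dvd_prime Nat.prime_two).mp h3
  rcases h4 with h4 | h4
  · exact hy1 (orderOf_eq_one_iff.mp h4)
  · rw [h4] at hodd; exact absurd hodd (by decide)

/-- an element of odd order lies in the subgroup generated by its square -/
theorem blockF_mem_of_sq_mem {G : Type*} [Group G] (Z : Subgroup G) {y : G}
    (hodd : Odd (orderOf y)) (h : y * y ∈ Z) : y ∈ Z := by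
  obtain ⟨k, hk⟩ := hodd
  have h1 : y = (y * y) ^ (k + 1) := by
    rw [← pow_two, ← pow_mul]
    have : 2 * (k + 1) = orderOf y + 1 := by omega
    rw [this, pow_succ, pow_orderOf_eq_one, one_mul]
  rw [h1]; exact pow_mem h _

set_option maxRecDepth 100000 in
theorem blockF_s5_inv_commute_dec : ∀ π : Equiv.Perm (Fin 5), π * π = 1 →
    ∃ u : Equiv.Perm (Fin 5), Equiv.Perm.sign u = 1 ∧ u * u = 1 ∧ u ≠ 1 ∧ u ≠ π ∧
      π * u = u * π := by
  decide

/-- if `L ≅ A₅` is normal in `M` and `t ∈ M` is an involution (or trivial), then `L` contains an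
involution `u ≠ t` commuting with `t`. -/
theorem blockF_exists_inv_commute_A5 {M : Type*} [Group M] (L : Subgroup M) [L.Normal]
    (e : L ≃* alternatingGroup (Fin 5)) (t : M) (ht : t * t = 1) :
    ∃ u ∈ L, u * u = 1 ∧ u ≠ 1 ∧ u ≠ t ∧ u * t = t * u := by
  set π := psi5 L e t with hπ
  have hππ : π * π = 1 := by rw [hπ, ← map_mul, ht, map_one]
  obtain ⟨u, hu1, hu2, hu3, hu4, hu5⟩ := blockF_s5_inv_commute_dec π hππ
  have humem : u ∈ alternatingGroup (Fin 5) := Equiv.Perm.mem_alternatingGroup.mpr hu1
  set l := e.symm ⟨u, humem⟩ with hl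
  have hel : e l = ⟨u, humem⟩ := by rw [hl, MulEquiv.apply_symm_apply]
  refine ⟨(l : M), l.2, ?_, ?_, ?_, ?_⟩
  · have h1 : l * l = 1 := by
      apply e.injective
      rw [map_mul, hel, map_one]
      exact Subtype.ext hu2
    exact congrArg Subtype.val h1
  · intro h1
    have h2 : l = 1 := Subtype.ext h1
    have h3 : (⟨u, humem⟩ : alternatingGroup (Fin 5)) = 1 := by
      rw [← hel, h2, map_one]
    exact hu3 (congrArg Subtype.val h3)
  · intro h1
    have h2 : π = u := by
      rw [hπ, ← h1, psi5_of_mem, hel]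
    exact hu4 h2.symm
  · have h1 := psi5_spec L e t l
    rw [← hπ, hel] at h1
    have h2 : π * u * π⁻¹ = u := by rw [hu5]; group
    rw [show ((⟨u, humem⟩ : alternatingGroup (Fin 5)) : Equiv.Perm (Fin 5)) = u from rfl, h2] at h1
    have h3 : e (MulAut.conjNormal t l) = e l := by
      apply Subtype.ext
      rw [h1, hel]
    have h4 := e.injective h3
    have h5 : t * (l : M) * t⁻¹ = l := by
      have := congrArg Subtype.val h4
      rw [MulAut.conjNormal_apply] at this
      exact this
    calc (l : M) * t = t * l * t⁻¹ * t := by rw [h5]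
      _ = t * l := by group

/-- a subgroup `L ≅ A₅` normalizing a cyclic subgroup centralizes it -/
theorem blockF_le_centralizer_of_A5 {G : Type*} [Group G] (L Z : Subgroup G) (hZ : IsCyclic Z)
    (e : L ≃* alternatingGroup (Fin 5)) (hLZ : L ≤ normalizer (Z : Set G)) :
    L ≤ centralizer (Z : Set G) := by
  have hA : commutator (alternatingGroup (Fin 5)) = ⊤ :=
    commutator_alternatingGroup_eq_top (by simp)
  have hperf : commutator L = ⊤ := by
    rw [eq_top_iff]
    intro x _
    have h1 : e x ∈ commutator (alternatingGroup (Fin 5)) := by rw [hA]; trivial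
    have h2 : (commutator (alternatingGroup (Fin 5))).map e.symm.toMonoidHom ≤ commutator L := by
      rw [commutator_def, commutator_def, Subgroup.map_commutator]
      exact Subgroup.commutator_mono le_top le_top
    have h3 : e.symm (e x) ∈ commutator L := h2 (mem_map_of_mem _ h1)
    rwa [MulEquiv.symm_apply_apply] at h3
  intro l hl
  have hmem : (⟨l, hl⟩ : L) ∈ commutator L := by rw [hperf]; trivial
  rw [commutator_eq_closure] at hmem
  have key : ∀ x : L, x ∈ closure (commutatorSet L) → (x : G) ∈ centralizer (Z : Set G) := by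
    intro x hx
    induction hx using Subgroup.closure_induction with
    | mem x hx =>
      obtain ⟨a, b, rfl⟩ := hx
      rw [commutatorElement_def]
      push_cast
      exact commutator_mem_centralizer_of_cyclic Z hZ (hLZ a.2) (hLZ b.2)
    | one => exact one_mem _
    | mul x y _ _ hx hy => exact mul_mem hx hy
    | inv x _ hx => exact inv_mem hx
  exact key ⟨l, hl⟩ hmem

/-- an element `u` with `u² = 1` normalizing a group `⟨z⟩` of prime order centralizes or inverts
`z` -/
theorem blockF_conj_eq_or_eq_inv {G : Type*} [Group G] {u z : G} {q : ℕ} (hq : q.Prime)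
    (oz : orderOf z = q) (hu : u * u = 1) (hn : u * z * u⁻¹ ∈ zpowers z) :
    u * z * u⁻¹ = z ∨ u * z * u⁻¹ = z⁻¹ := by
  by_cases hc : u * z * u⁻¹ = z⁻¹
  · exact Or.inr hc
  · left
    set c := u * z * u⁻¹ with hcdef
    have huinv : u⁻¹ = u := inv_eq_of_mul_eq_one_left hu
    have hucu : u * c * u⁻¹ = z := by
      rw [hcdef, huinv]
      calc u * (u * z * u) * u = (u * u) * z * (u * u) := by group
        _ = z := by rw [hu, one_mul, mul_one]
    obtain ⟨k, hk⟩ := mem_zpowers_iff.mp hn
    have hzc : z * c = c * z := by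
      rw [← hk]
      exact ((Commute.refl z).zpow_right k).eq
    set m := z * c with hm
    have hm1 : m ≠ 1 := by
      intro h
      apply hc
      exact (eq_inv_of_mul_eq_one_right h)
    have hmz : m ∈ zpowers z := mul_mem (mem_zpowers z) hn
    have hum : u * m * u⁻¹ = m := by
      calc u * m * u⁻¹ = (u * z * u⁻¹) * (u * c * u⁻¹) := by rw [hm]; group
        _ = c * z := by rw [hucu]
        _ = m := hzc.symm
    -- `z ∈ ⟨m⟩`
    haveI : Fact q.Prime := ⟨hq⟩
    have hcard : Nat.card (zpowers z) = q := by rw [Nat.card_zpowers, oz]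
    have htop : zpowers (⟨m, hmz⟩ : zpowers z) = ⊤ :=
      zpowers_eq_top_of_prime_card hcard (fun h => hm1 (congrArg Subtype.val h))
    have hzm : (⟨z, mem_zpowers z⟩ : zpowers z) ∈ zpowers (⟨m, hmz⟩ : zpowers z) := by
      rw [htop]; trivial
    obtain ⟨j, hj⟩ := mem_zpowers_iff.mp hzm
    have hj' : m ^ j = z := by
      have := congrArg Subtype.val hj
      simpa using this
    calc c = u * z * u⁻¹ := rfl
      _ = u * m ^ j * u⁻¹ := by rw [hj']
      _ = (u * m * u⁻¹) ^ j := by rw [conj_zpow]
      _ = z := by rw [hum, hj']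

end Cfsg.Agent.Lib.H25.Zas
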