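import Mathlib
import Cfsg.Agent.Lib.H10.ZasF1

/-!
# Zassenhaus, H-level, block F, part 2: the normalizer of a subgroup of prime order of `O(C_H(t))`

Either it centralizes `t`, or it is solvable with trivial `O₂` (so its Fitting subgroup is cyclic of
odd order and self-centralizing).
-/

set_option autoImplicit false
set_option linter.style.haveILetI false

namespace Cfsg.Agent.Lib.H25.Zas

open Subgroup

variable {H : Type*} [Group H] [Finite H] {n : ℕ}

/-- `C_H(t)` normalizes every subgroup of prime order of `O(C_H(t))` -/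
theorem HCtx.blockF_centralizer_le_normalizer (h : HCtx H n) {t : H} (ht : orderOf t = 2) {y : H}
    (hy : y ∈ Kc t) {p : ℕ} (hp : p.Prime) (oy : orderOf y = p) :
    centralizer ({t} : Set H) ≤ normalizer ((zpowers y : Subgroup H) : Set H) := by
  intro c hc
  apply blockF_mem_normalizer_zpowers
  have h1 : c * y * c⁻¹ ∈ Kc t := h.normBy_Kc ht c hc y hy
  exact h.oddFPF.blockF_zpowers_eq (Kc t) (h.odd_card_Kc ht) hp h1 hy
    (by rw [blockF_orderOf_conj]; exact oy) oy

/-- the normalizer of a subgroup of prime order is a proper subgroup -/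
theorem HCtx.blockF_normalizer_ne_top (h : HCtx H n) {t : H} (ht : orderOf t = 2) {y : H}
    {p : ℕ} (hp : p.Prime) (hp2 : p ≠ 2) (oy : orderOf y = p) :
    normalizer ((zpowers y : Subgroup H) : Set H) ≠ ⊤ := by
  intro htop
  haveI := h.simple
  have hn : (zpowers y).Normal := normalizer_eq_top_iff.mp htop
  rcases hn.eq_bot_or_eq_top with h1 | h1
  · rw [zpowers_eq_bot] at h1
    rw [h1, orderOf_one] at oy
    exact hp.ne_one oy.symm
  · have h2 : Nat.card H = p := by
      rw [← Nat.card_zpowers, h1, Subgroup.card_top] at oy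
      exact oy
    have h3 : 2 ∣ p := by
      rw [← h2, ← ht]; exact orderOf_dvd_natCard t
    rcases (Nat.dvd_prime hp).mp h3 with h4 | h4
    · omega
    · exact hp2 h4.symm

/-- the dichotomy for `N = N_H(⟨y⟩)`, `y ∈ O(C_H(t))` of prime order -/
theorem HCtx.blockF_dichotomy (h : HCtx H n)
    (hB : ∀ t u : H, orderOf t = 2 → orderOf u = 2 → t * u = u * t → t ≠ u →
      ∀ y ∈ Kc t, u * y * u⁻¹ = y⁻¹)
    {t : H} (ht : orderOf t = 2) {y : H} (hy : y ∈ Kc t) {p : ℕ} (hp : p.Prime)
    (oy : orderOf y = p) :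
    normalizer ((zpowers y : Subgroup H) : Set H) ≤ centralizer ({t} : Set H) ∨
    ∃ Z : Subgroup H, Z ≤ normalizer ((zpowers y : Subgroup H) : Set H) ∧
      NormBy (normalizer ((zpowers y : Subgroup H) : Set H)) Z ∧ Odd (Nat.card Z) ∧ IsCyclic Z ∧
      (∀ x ∈ normalizer ((zpowers y : Subgroup H) : Set H), (∀ z ∈ Z, x * z = z * x) → x ∈ Z) ∧
      y ∈ Z := by
  haveI : Fact (Nat.Prime 2) := ⟨Nat.prime_two⟩
  set N := normalizer ((zpowers y : Subgroup H) : Set H) with hN
  have hyodd : Odd (orderOf y) := ((h.mem_Kc_iff ht).mp hy).2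
  have hpodd : Odd p := oy ▸ hyodd
  have hp2 : p ≠ 2 := by
    rintro rfl; exact absurd hpodd (by decide)
  have hy1 : y ≠ 1 := by
    intro h1; rw [h1, orderOf_one] at oy; exact hp.ne_one oy.symm
  have hCN : centralizer ({t} : Set H) ≤ N := h.blockF_centralizer_le_normalizer ht hy hp oy
  have htN : t ∈ N := hCN (mem_centralizer_singleton_iff.mpr rfl)
  have hNtop : N ≠ ⊤ := h.blockF_normalizer_ne_top ht hp hp2 oy
  have ht2 : t * t = 1 := by
    have := pow_orderOf_eq_one t
    rwa [ht, pow_two] at this
  obtain ⟨S, htS, htZ⟩ := h.exists_sylow_central ht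
  have hSN : (S : Subgroup H) ≤ N := fun s hs =>
    hCN (mem_centralizer_singleton_iff.mpr (htZ s hs))
  by_cases hsolv : Group.IsSolvable N
  · obtain ⟨Q, Z, hQN, hZN, hQn, hZn, hQp, hZodd, hZc, hQZ, hself, hQmax, hZmax⟩ :=
      sol_structure_sub h.oddFPF N hsolv
    have hyZ : zpowers y ≤ Z := by
      apply hZmax (zpowers y) le_normalizer (NormBy.of_le_normalizer le_rfl)
      · rw [Nat.card_zpowers, oy]; exact hpodd
      · letI : CommGroup (zpowers y) := IsCyclic.commGroup
        exact CommGroup.isNilpotent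
    have hyZ' : y ∈ Z := hyZ (mem_zpowers y)
    by_cases hQ : Q = ⊥
    · right
      refine ⟨Z, hZN, hZn, hZodd, hZc, ?_, hyZ'⟩
      intro x hx hxZ
      have h1 := hself x hx (fun q hq => by
        rw [hQ, mem_bot] at hq; rw [hq, mul_one, one_mul]) hxZ
      rwa [hQ, bot_sup_eq] at h1
    · left
      -- `Q ≤ S`
      have hQS : Q ≤ S := by
        have hnorm : (S : Subgroup H) ≤ normalizer (Q : Set H) :=
          hSN.trans hQn.le_normalizer
        have hT : IsPGroup 2 (Q ⊔ (S : Subgroup H) : Subgroup H) :=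
          hQp.to_sup_of_normal_left' S.isPGroup' hnorm
        have := S.is_maximal' hT le_sup_right
        rw [← this]; exact le_sup_left
      -- every involution of `Q` is `t`
      have key : ∀ q ∈ Q, orderOf q = 2 → q = t := by
        intro q hq oq
        by_contra hne
        have hcomm : t * q = q * t := (htZ q (hQS hq)).symm
        have hinv := hB t q ht oq hcomm (Ne.symm hne) y hy
        have hqy : q * y = y * q := hQZ q hq y hyZ'
        exact blockF_false_of_commute_of_invert hy1 hyodd hinv hqy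
      obtain ⟨q0, hq0Q, oq0⟩ : ∃ q ∈ Q, orderOf q = 2 := by
        have hcard : 2 ∣ Nat.card Q := by
          obtain ⟨k, hk⟩ := IsPGroup.iff_card.mp hQp
          rcases k with _ | k
          · exfalso
            apply hQ
            rw [pow_zero] at hk
            exact (Subgroup.card_eq_one).mp hk
          · rw [hk, pow_succ]; exact dvd_mul_left 2 _
        obtain ⟨c, hc⟩ := exists_prime_orderOf_dvd_card' (G := Q) 2 hcard
        exact ⟨c, c.2, by rw [Subgroup.orderOf_coe]; exact hc⟩
      have htQ : t ∈ Q := by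
        have := key q0 hq0Q oq0
        rw [← this]; exact hq0Q
      intro g hg
      rw [mem_centralizer_singleton_iff]
      have h1 : g * t * g⁻¹ ∈ Q := hQn g hg t htQ
      have h2 : orderOf (g * t * g⁻¹) = 2 := by rw [blockF_orderOf_conj]; exact ht
      have h3 := key _ h1 h2
      calc g * t = g * t * g⁻¹ * g := by group
        _ = t * g := by rw [h3]
  · exfalso
    obtain ⟨L, C, hLN, hCN', hLn, hCn, ⟨e⟩, hLC, hcent, hdisj, hCodd, hC30, hcard, hinvol⟩ :=
      nonsolvable_structure h.dih h.oddFPF h.hyp.perf N hNtop hsolv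
    have hLcent : L ≤ centralizer ((zpowers y : Subgroup H) : Set H) :=
      blockF_le_centralizer_of_A5 L (zpowers y) inferInstance e hLN
    haveI : (L.subgroupOf N).Normal := hLn.subgroupOf_normal
    let e' : L.subgroupOf N ≃* alternatingGroup (Fin 5) := (subgroupOfEquivOfLe hLN).trans e
    obtain ⟨u, huL, hu2, hu1, hut, hcomm⟩ :=
      blockF_exists_inv_commute_A5 (L.subgroupOf N) e' ⟨t, htN⟩ (Subtype.ext ht2)
    rw [mem_subgroupOf] at huL
    have hu2' : (u : H) * (u : H) = 1 := congrArg Subtype.val hu2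
    have hu1' : (u : H) ≠ 1 := fun h1 => hu1 (Subtype.ext h1)
    have hut' : (u : H) ≠ t := fun h1 => hut (Subtype.ext h1)
    have hcomm' : (u : H) * t = t * (u : H) := congrArg Subtype.val hcomm
    have ou : orderOf (u : H) = 2 := orderOf_eq_prime (by rw [pow_two]; exact hu2') hu1'
    have hinv := hB t (u : H) ht ou hcomm'.symm (Ne.symm hut') y hy
    have huy : (u : H) * y = y * (u : H) := by
      have := hLcent huL
      rw [mem_centralizer_iff] at this
      exact (this y (mem_zpowers y)).symm
    exact blockF_false_of_commute_of_invert hy1 hyodd hinv huy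

end Cfsg.Agent.Lib.H25.Zas
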