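import Mathlib
import Cfsg.Agent.Lib.H10.ZasF2

/-!
# Zassenhaus, H-level, block F, part 3: `N_H(Y) ≤ C_H(t)` for `1 ≠ Y ≤ O(C_H(t))`
-/

set_option autoImplicit false
set_option linter.style.haveILetI false

namespace Cfsg.Agent.Lib.H25.Zas

open Subgroup

variable {H : Type*} [Group H] [Finite H] {n : ℕ}

/-- a Sylow 2-subgroup contains an involution different from a given element -/
theorem HCtx.blockF_exists_inv_ne (h : HCtx H n) (S : Sylow 2 H) (t : H) :
    ∃ u ∈ (S : Subgroup H), orderOf u = 2 ∧ u ≠ t := by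
  obtain ⟨e⟩ := h.dih.2 S
  have hn2 := h.two_le
  haveI : NeZero n := ⟨by omega⟩
  haveI : Fact (1 < n) := ⟨by omega⟩
  set u0 : (S : Subgroup H) := e.symm (DihedralGroup.sr 0) with hu0
  set u1 : (S : Subgroup H) := e.symm (DihedralGroup.sr 1) with hu1
  have o0 : orderOf (u0 : H) = 2 := by
    rw [Subgroup.orderOf_coe, hu0, MulEquiv.orderOf_eq, DihedralGroup.orderOf_sr]
  have o1 : orderOf (u1 : H) = 2 := by
    rw [Subgroup.orderOf_coe, hu1, MulEquiv.orderOf_eq, DihedralGroup.orderOf_sr]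
  have hne : (u0 : H) ≠ (u1 : H) := by
    intro h1
    have h2 : u0 = u1 := Subtype.ext h1
    have h3 := e.symm.injective h2
    have h4 : (0 : ZMod n) = 1 := by
      injection h3
    exact zero_ne_one h4
  by_cases h0 : (u0 : H) = t
  · refine ⟨u1, u1.2, o1, ?_⟩
    intro h1
    exact hne (h0.trans h1.symm)
  · exact ⟨u0, u0.2, o0, h0⟩

/-- the second alternative of `blockF_dichotomy` is impossible -/
theorem HCtx.blockF_prime (h : HCtx H n)
    (hB : ∀ t u : H, orderOf t = 2 → orderOf u = 2 → t * u = u * t → t ≠ u →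
      ∀ y ∈ Kc t, u * y * u⁻¹ = y⁻¹)
    {t : H} (ht : orderOf t = 2) {y : H} (hy : y ∈ Kc t) {p : ℕ} (hp : p.Prime)
    (oy : orderOf y = p) :
    normalizer ((zpowers y : Subgroup H) : Set H) ≤ centralizer ({t} : Set H) := by
  rcases h.blockF_dichotomy hB ht hy hp oy with h1 | ⟨Z, hZN, hZn, hZodd, hZc, hself, hyZ⟩
  · exact h1
  exfalso
  haveI : Fact (Nat.Prime 2) := ⟨Nat.prime_two⟩
  set N := normalizer ((zpowers y : Subgroup H) : Set H) with hN
  have hyodd : Odd (orderOf y) := ((h.mem_Kc_iff ht).mp hy).2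
  have hy1 : y ≠ 1 := by
    intro h1; rw [h1, orderOf_one] at oy; exact hp.ne_one oy.symm
  have hCN : centralizer ({t} : Set H) ≤ N := h.blockF_centralizer_le_normalizer ht hy hp oy
  have htN : t ∈ N := hCN (mem_centralizer_singleton_iff.mpr rfl)
  have hyN : y ∈ N := le_normalizer (mem_zpowers y)
  have ht2 : t * t = 1 := by
    have := pow_orderOf_eq_one t
    rwa [ht, pow_two] at this
  have htinv : t⁻¹ = t := inv_eq_of_mul_eq_one_left ht2
  -- `t ∉ Z`, so `t` does not centralize `Z`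
  have htZ' : t ∉ Z := by
    intro h1
    have h2 : orderOf t ∣ Nat.card Z := by
      have := orderOf_dvd_natCard (⟨t, h1⟩ : Z)
      rwa [Subgroup.orderOf_mk] at this
    rw [ht] at h2
    obtain ⟨k, hk⟩ := hZodd
    omega
  have hex : ∃ z ∈ Z, t * z ≠ z * t := by
    by_contra hcon
    apply htZ'
    apply hself t htN
    intro z hz
    by_contra h1
    exact hcon ⟨z, hz, h1⟩
  obtain ⟨z, hzZ, hz⟩ := hex
  -- an element `w ≠ 1` of `Z` inverted by `t`
  set a := t * z * t⁻¹ with ha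
  have haZ : a ∈ Z := hZn t htN z hzZ
  set w := z⁻¹ * a with hw
  have hwZ : w ∈ Z := mul_mem (inv_mem hzZ) haZ
  have hw1 : w ≠ 1 := by
    intro h1
    have h2 : a = z := by
      have := congrArg (z * ·) h1
      simpa [hw, mul_assoc] using this
    apply hz
    calc t * z = t * z * t⁻¹ * t := by group
      _ = z * t := by rw [← ha, h2]
  have htw : t * w * t⁻¹ = w⁻¹ := by
    have h1 : t * a * t⁻¹ = z := by
      rw [ha, htinv]
      calc t * (t * z * t) * t = (t * t) * z * (t * t) := by group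
        _ = z := by rw [ht2, one_mul, mul_one]
    calc t * w * t⁻¹ = (t * z * t⁻¹)⁻¹ * (t * a * t⁻¹) := by rw [hw]; group
      _ = a⁻¹ * z := by rw [h1]
      _ = w⁻¹ := by rw [hw]; group
  -- an element `z1 ∈ Z` of prime order `q` inverted by `t`
  have how : orderOf w ≠ 1 := fun h1 => hw1 (orderOf_eq_one_iff.mp h1)
  have how0 : orderOf w ≠ 0 := (orderOf_pos w).ne'
  set q := (orderOf w).minFac with hq
  have hqp : q.Prime := Nat.minFac_prime how
  have hqd : q ∣ orderOf w := Nat.minFac_dvd _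
  set z1 := w ^ (orderOf w / q) with hz1
  have oz1 : orderOf z1 = q := orderOf_pow_orderOf_div how0 hqd
  have hz1Z : z1 ∈ Z := pow_mem hwZ _
  have htz1 : t * z1 * t⁻¹ = z1⁻¹ := by
    rw [hz1, ← conj_pow, htw, inv_pow]
  have hqodd : Odd q := by
    have h1 : q ∣ Nat.card Z := by
      have := orderOf_dvd_natCard (⟨z1, hz1Z⟩ : Z)
      rwa [Subgroup.orderOf_mk, oz1] at this
    exact Odd.of_dvd_nat hZodd h1
  have hz1odd : Odd (orderOf z1) := by rw [oz1]; exact hqodd
  have hz11 : z1 ≠ 1 := by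
    intro h1; rw [h1, orderOf_one] at oz1; exact hqp.ne_one oz1.symm
  set N₁ := normalizer ((zpowers z1 : Subgroup H) : Set H) with hN₁
  have hNN₁ : N ≤ N₁ := by
    intro g hg
    apply blockF_mem_normalizer_zpowers
    exact h.oddFPF.blockF_zpowers_eq Z hZodd hqp (hZn g hg z1 hz1Z) hz1Z
      (by rw [blockF_orderOf_conj]; exact oz1) oz1
  -- an involution `u ≠ t` commuting with `t`
  obtain ⟨S, htS, htZ⟩ := h.exists_sylow_central ht
  obtain ⟨u, huS, ou, hut⟩ := h.blockF_exists_inv_ne S t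
  have hcomm : u * t = t * u := htZ u huS
  have huN : u ∈ N := hCN (mem_centralizer_singleton_iff.mpr hcomm)
  have hu2 : u * u = 1 := by
    have := pow_orderOf_eq_one u
    rwa [ou, pow_two] at this
  have huinv : u⁻¹ = u := inv_eq_of_mul_eq_one_left hu2
  have hu1 : u ≠ 1 := by
    intro h1; rw [h1, orderOf_one] at ou; omega
  -- `u' ∈ {u, tu}` centralizing `z1`
  have hex' : ∃ u' : H, orderOf u' = 2 ∧ t * u' = u' * t ∧ t ≠ u' ∧ u' * z1 = z1 * u' := by
    have hnz : u * z1 * u⁻¹ ∈ zpowers z1 :=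
      (mem_normalizer_iff.mp (hNN₁ huN) z1).mp (mem_zpowers z1)
    rcases blockF_conj_eq_or_eq_inv hqp oz1 hu2 hnz with h1 | h1
    · refine ⟨u, ou, hcomm.symm, Ne.symm hut, ?_⟩
      calc u * z1 = u * z1 * u⁻¹ * u := by group
        _ = z1 * u := by rw [h1]
    · have htu2 : (t * u) * (t * u) = 1 := by
        calc (t * u) * (t * u) = t * (u * t) * u := by group
          _ = t * (t * u) * u := by rw [hcomm]
          _ = (t * t) * (u * u) := by group
          _ = 1 := by rw [ht2, hu2, one_mul]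
      have htu1 : t * u ≠ 1 := by
        intro h2
        apply hut
        have : u = t⁻¹ := (eq_inv_of_mul_eq_one_right h2)
        rw [this, htinv]
      refine ⟨t * u, orderOf_eq_prime (by rw [pow_two]; exact htu2) htu1, ?_, ?_, ?_⟩
      · calc t * (t * u) = t * (u * t) := by rw [hcomm]
          _ = t * u * t := by group
      · intro h2
        apply hu1
        have : t * u = t * 1 := by rw [mul_one]; exact h2.symm
        exact mul_left_cancel this
      · have h3 : (t * u) * z1 * (t * u)⁻¹ = z1 := by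
          calc (t * u) * z1 * (t * u)⁻¹ = t * (u * z1 * u⁻¹) * t⁻¹ := by group
            _ = t * z1⁻¹ * t⁻¹ := by rw [h1]
            _ = (t * z1 * t⁻¹)⁻¹ := by group
            _ = z1 := by rw [htz1, inv_inv]
        calc (t * u) * z1 = (t * u) * z1 * (t * u)⁻¹ * (t * u) := by group
          _ = z1 * (t * u) := by rw [h3]
  obtain ⟨u', ou', hcomm', hne', hu'z⟩ := hex'
  have hz1K : z1 ∈ Kc u' := (h.mem_Kc_iff ou').mpr ⟨hu'z.symm, hz1odd⟩
  -- `u'` inverts `y`
  have hinvy : u' * y * u'⁻¹ = y⁻¹ := hB t u' ht ou' hcomm' hne' y hy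
  have hCN₁ : centralizer ({u'} : Set H) ≤ N₁ :=
    h.blockF_centralizer_le_normalizer ou' hz1K hqp oz1
  have hu'N₁ : u' ∈ N₁ := hCN₁ (mem_centralizer_singleton_iff.mpr rfl)
  have hyN₁ : y ∈ N₁ := hNN₁ hyN
  have htN₁ : t ∈ N₁ := hNN₁ htN
  rcases h.blockF_dichotomy hB ou' hz1K hqp oz1 with
    h1 | ⟨Z₁, hZ₁N, hZ₁n, hZ₁odd, hZ₁c, hself₁, hz1Z₁⟩
  · -- `u'` centralizes `y`
    have h2 := h1 hyN₁
    rw [mem_centralizer_singleton_iff] at h2
    exact blockF_false_of_commute_of_invert hy1 hyodd hinvy h2.symm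
  · -- commutators of `N₁` lie in `Z₁`
    have hcommZ : ∀ a ∈ N₁, ∀ b ∈ N₁, a * b * a⁻¹ * b⁻¹ ∈ Z₁ := by
      intro a ha b hb
      have h1 := commutator_mem_centralizer_of_cyclic Z₁ hZ₁c (hZ₁n.le_normalizer ha)
        (hZ₁n.le_normalizer hb)
      apply hself₁ _ (mul_mem (mul_mem (mul_mem ha hb) (inv_mem ha)) (inv_mem hb))
      intro z hz
      rw [mem_centralizer_iff] at h1
      exact (h1 z hz).symm
    -- `y ∈ Z₁`
    have hyZ₁ : y ∈ Z₁ := by
      have h1 := hcommZ u' hu'N₁ y hyN₁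
      rw [hinvy] at h1
      have h2 : y * y ∈ Z₁ := by
        have := inv_mem h1
        simpa [mul_inv_rev] using this
      exact blockF_mem_of_sq_mem Z₁ hyodd h2
    -- a conjugate `y'` of `y` in `O(C_H(u'))`
    obtain ⟨g, hg⟩ := isConj_iff.mp (h.isConj_inv t u' ht ou')
    set y' := g * y * g⁻¹ with hy'
    have hy'K : y' ∈ Kc u' := by
      have := h.conj_mem_Kc ht g hy
      rwa [hg] at this
    have oy' : orderOf y' = p := by rw [hy', blockF_orderOf_conj]; exact oy
    have hy'odd : Odd (orderOf y') := by rw [oy', ← oy]; exact hyodd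
    have hy'N₁ : y' ∈ N₁ := hCN₁ (h.Kc_le ou' hy'K)
    have hinvy' : t * y' * t⁻¹ = y'⁻¹ := hB u' t ou' ht hcomm'.symm (Ne.symm hne') y' hy'K
    have hy'Z₁ : y' ∈ Z₁ := by
      have h1 := hcommZ t htN₁ y' hy'N₁
      rw [hinvy'] at h1
      have h2 : y' * y' ∈ Z₁ := by
        have := inv_mem h1
        simpa [mul_inv_rev] using this
      exact blockF_mem_of_sq_mem Z₁ hy'odd h2
    have heq : zpowers y = zpowers y' :=
      h.oddFPF.blockF_zpowers_eq Z₁ hZ₁odd hp hyZ₁ hy'Z₁ oy oy'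
    have hyK : y ∈ Kc u' := by
      have h1 : y ∈ zpowers y' := heq ▸ mem_zpowers y
      exact (zpowers_le.mpr hy'K) h1
    have h2 := ((h.mem_Kc_iff ou').mp hyK).1
    exact blockF_false_of_commute_of_invert hy1 hyodd hinvy h2.symm

/-- BLOCK F: the normalizer of a nontrivial subgroup of `O(C_H(t))` centralizes `t`. -/
theorem HCtx.part_F (h : HCtx H n)
    (hB : ∀ t u : H, orderOf t = 2 → orderOf u = 2 → t * u = u * t → t ≠ u →
      ∀ y ∈ Kc t, u * y * u⁻¹ = y⁻¹)
    (t : H) (ht : orderOf t = 2) (Y : Subgroup H) (hY : Y ≤ Kc t) (hne : Y ≠ ⊥) :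
    normalizer (Y : Set H) ≤ centralizer ({t} : Set H) := by
  have hYodd : Odd (Nat.card Y) :=
    Odd.of_dvd_nat (h.odd_card_Kc ht) (Subgroup.card_dvd_of_le hY)
  have hcard : Nat.card Y ≠ 1 := fun h1 => hne (Subgroup.card_eq_one.mp h1)
  obtain ⟨p, hp, hpd⟩ := Nat.exists_prime_and_dvd hcard
  haveI : Fact p.Prime := ⟨hp⟩
  obtain ⟨c, hc⟩ := exists_prime_orderOf_dvd_card' (G := Y) p hpd
  have oy : orderOf (c : H) = p := by rw [Subgroup.orderOf_coe]; exact hc
  have hyK : (c : H) ∈ Kc t := hY c.2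
  refine le_trans ?_ (h.blockF_prime hB ht hyK hp oy)
  intro g hg
  apply blockF_mem_normalizer_zpowers
  have h1 : g * (c : H) * g⁻¹ ∈ Y := (mem_normalizer_iff.mp hg (c : H)).mp c.2
  exact h.oddFPF.blockF_zpowers_eq Y hYodd hp h1 c.2 (by rw [blockF_orderOf_conj]; exact oy) oy

end Cfsg.Agent.Lib.H25.Zas
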