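import Mathlib
import Cfsg.Agent.Lib.H10.ZasF3
import Cfsg.Agent.Lib.H16.ZasXEnd
import Cfsg.Agent.S0508

/-!
# Zassenhaus, H-level: final assembly in hypothesis form

If `C_{O(C_H(t))}(u) = 1` for all pairs of commuting involutions `t ≠ u` (block E of the plan),
then `HCtx H n` is contradictory: the hypotheses of `S0508` hold, so `H ≅ PSL(2, F)`, which is
excluded by `HHyp.not_psl2`.
-/

set_option autoImplicit false
set_option linter.style.haveILetI false

namespace Cfsg.Agent.Lib.H25.Zas

open Subgroup

variable {H : Type*} [Group H] [Finite H] {n : ℕ}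

/-- a subgroup of a cyclic subgroup is cyclic -/
theorem blockG_isCyclic_of_le {G : Type*} [Group G] {A B : Subgroup G} (hB : IsCyclic B)
    (hle : A ≤ B) : IsCyclic A := by
  have : IsCyclic (A.subgroupOf B) := inferInstance
  exact isCyclic_of_surjective (Subgroup.subgroupOfEquivOfLe hle).toMonoidHom
    (Subgroup.subgroupOfEquivOfLe hle).surjective

/-- block E implies hypothesis `hB` of block F: a commuting involution inverts `O(C_H(t))` -/
theorem HCtx.blockG_hB_of_hE (h : HCtx H n)
    (hE : ∀ t u : H, orderOf t = 2 → orderOf u = 2 → t * u = u * t → t ≠ u →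
      ∀ y ∈ Kc t, u * y = y * u → y = 1) :
    ∀ t u : H, orderOf t = 2 → orderOf u = 2 → t * u = u * t → t ≠ u →
      ∀ y ∈ Kc t, u * y * u⁻¹ = y⁻¹ := by
  intro t u ht hu htu hne y hy
  have huC : u ∈ centralizer ({t} : Set H) := mem_centralizer_singleton_iff.mpr htu.symm
  have hnorm := h.normBy_Kc ht
  have hu2 : u * u = 1 := by
    have := pow_orderOf_eq_one u
    rwa [hu, pow_two] at this
  have huinv : u⁻¹ = u := inv_eq_of_mul_eq_one_left hu2
  let φ : Kc t →* Kc t :=
    { toFun := fun x => ⟨u * x * u⁻¹, hnorm u huC x x.2⟩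
      map_one' := by
        apply Subtype.ext
        show u * ((1 : Kc t) : H) * u⁻¹ = ((1 : Kc t) : H)
        rw [Subgroup.coe_one, mul_one, mul_inv_cancel]
      map_mul' := by
        intro a b
        apply Subtype.ext
        show u * ((a * b : Kc t) : H) * u⁻¹ = (u * a * u⁻¹) * (u * b * u⁻¹)
        rw [Subgroup.coe_mul]; group }
  have hφ : ∀ x : Kc t, ((φ x : Kc t) : H) = u * x * u⁻¹ := fun x => rfl
  have hfpf : MonoidHom.FixedPointFree φ := by
    intro x hx
    have h1 : u * (x : H) * u⁻¹ = x := by rw [← hφ, hx]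
    have h2 : u * (x : H) = x * u := by
      calc u * (x : H) = u * x * u⁻¹ * u := by group
        _ = x * u := by rw [h1]
    exact Subtype.ext (hE t u ht hu htu hne x x.2 h2)
  have hinv : Function.Involutive φ := by
    intro x
    apply Subtype.ext
    rw [hφ, hφ, huinv]
    calc u * (u * (x : H) * u) * u = (u * u) * x * (u * u) := by group
      _ = x := by rw [hu2, one_mul, mul_one]
  have h3 := congrFun (hfpf.coe_eq_inv_of_involutive hinv) ⟨y, hy⟩
  have h4 := congrArg Subtype.val h3
  rw [hφ] at h4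
  exact h4

/-- every element of a Sylow 2-subgroup in which `t` is central centralizes or inverts
`O(C_H(t))`. -/
theorem HCtx.blockG_pm (h : HCtx H n)
    (hB : ∀ t u : H, orderOf t = 2 → orderOf u = 2 → t * u = u * t → t ≠ u →
      ∀ y ∈ Kc t, u * y * u⁻¹ = y⁻¹)
    {t : H} (ht : orderOf t = 2) (S : Sylow 2 H)
    (htZ : ∀ s ∈ (S : Subgroup H), s * t = t * s) :
    ∀ s ∈ (S : Subgroup H), (∀ y ∈ Kc t, s * y * s⁻¹ = y) ∨ (∀ y ∈ Kc t, s * y * s⁻¹ = y⁻¹) := by
  obtain ⟨e⟩ := h.dih.2 S
  have hn2 := h.two_le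
  haveI : NeZero n := ⟨by omega⟩
  obtain ⟨R₀, hR₀S, hR₀c, hsq, hprod, hmem⟩ :=
    Cfsg.Agent.Lib.L0.exists_dihedral_rotation_subgroup (S : Subgroup H) n e
  -- involutions
  have hinvol : ∀ x ∈ (S : Subgroup H), x * x = 1 →
      (∀ y ∈ Kc t, x * y * x⁻¹ = y) ∨ (∀ y ∈ Kc t, x * y * x⁻¹ = y⁻¹) := by
    intro x hxS hx2
    by_cases hx1 : x = 1
    · left; intro y _; rw [hx1]; group
    by_cases hxt : x = t
    · left
      intro y hy
      have h1 := ((h.mem_Kc_iff ht).mp hy).1
      rw [hxt]
      calc t * y * t⁻¹ = y * t * t⁻¹ := by rw [h1]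
        _ = y := by group
    · right
      have ox : orderOf x = 2 := orderOf_eq_prime (by rw [pow_two]; exact hx2) hx1
      exact hB t x ht ox (htZ x hxS).symm (Ne.symm hxt)
  -- a reflection
  set a : (S : Subgroup H) := e.symm (DihedralGroup.sr 0) with ha
  have haR : (a : H) ∉ R₀ := by
    intro h1
    obtain ⟨i, hi⟩ := (hmem a).mp h1
    rw [ha, MulEquiv.apply_symm_apply] at hi
    exact absurd hi (by simp)
  have ha2 : (a : H) * (a : H) = 1 := hsq a a.2 haR
  have hainv : (a : H)⁻¹ = a := inv_eq_of_mul_eq_one_left ha2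
  have hapm := hinvol a a.2 ha2
  intro s hs
  by_cases hsR : s ∈ R₀
  · -- `s = a * (a * s)`
    have hb : (a : H) * s ∉ R₀ := by
      intro h1
      apply haR
      have := R₀.mul_mem h1 (R₀.inv_mem hsR)
      rwa [mul_inv_cancel_right] at this
    have hbS : (a : H) * s ∈ (S : Subgroup H) := mul_mem a.2 hs
    have hb2 := hsq _ hbS hb
    have hbpm := hinvol _ hbS hb2
    have hs_eq : s = (a : H) * ((a : H) * s) := by
      rw [← mul_assoc, ha2, one_mul]
    -- combine
    have hKa : ∀ y ∈ Kc t, (a : H) * y * (a : H)⁻¹ ∈ Kc t := fun y hy =>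
      h.normBy_Kc ht a (mem_centralizer_singleton_iff.mpr (htZ a a.2)) y hy
    have hconj : ∀ y : H, s * y * s⁻¹ =
        (a : H) * (((a : H) * s) * y * ((a : H) * s)⁻¹) * (a : H)⁻¹ := by
      intro y
      nth_rewrite 1 [hs_eq]
      nth_rewrite 2 [hs_eq]
      group
    rcases hapm with h1 | h1 <;> rcases hbpm with h2 | h2
    · left; intro y hy; rw [hconj, h2 y hy, h1 y hy]
    · right; intro y hy; rw [hconj, h2 y hy, h1 _ (inv_mem hy)]
    · right; intro y hy; rw [hconj, h2 y hy, h1 y hy]
    · left; intro y hy; rw [hconj, h2 y hy, h1 _ (inv_mem hy), inv_inv]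
  · exact hinvol s hs (hsq s hs hsR)

/-- **Final assembly.** Block E (in hypothesis form) is contradictory with `HCtx`. -/
theorem HCtx.false_of_E (h : HCtx H n)
    (hE : ∀ t u : H, orderOf t = 2 → orderOf u = 2 → t * u = u * t → t ≠ u →
      ∀ y ∈ Kc t, u * y = y * u → y = 1) : False := by
  haveI : Fact (Nat.Prime 2) := ⟨Nat.prime_two⟩
  haveI := h.simple
  have hB := h.blockG_hB_of_hE hE
  obtain ⟨S₀⟩ : Nonempty (Sylow 2 H) := inferInstance
  obtain ⟨t, -, ht, -⟩ := h.exists_central_inv S₀
  obtain ⟨S, htS, htZ⟩ := h.exists_sylow_central ht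
  obtain ⟨e⟩ := h.dih.2 S
  have hn2 := h.two_le
  haveI : NeZero n := ⟨by omega⟩
  have hpm := h.blockG_pm hB ht S htZ
  -- elements of `S` inverting `O ≠ 1` do not centralize it
  have hnotc : Kc t ≠ ⊥ → ∀ s : H, (∀ y ∈ Kc t, s * y * s⁻¹ = y⁻¹) →
      s ∉ centralizer ((Kc t : Subgroup H) : Set H) := by
    intro hO s hs hsc
    obtain ⟨y, hy1⟩ := (Subgroup.ne_bot_iff_exists_ne_one).mp hO
    have hyK : (y : H) ∈ Kc t := y.2
    have hyodd := ((h.mem_Kc_iff ht).mp hyK).2
    have hy1' : (y : H) ≠ 1 := fun h1 => hy1 (Subtype.ext h1)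
    rw [mem_centralizer_iff] at hsc
    exact blockF_false_of_commute_of_invert hy1' hyodd (hs y hyK) (hsc y hyK).symm
  have hcent : ∀ s : H, (∀ y ∈ Kc t, s * y * s⁻¹ = y) →
      s ∈ centralizer ((Kc t : Subgroup H) : Set H) := by
    intro s hs
    rw [mem_centralizer_iff]
    intro y hy
    have h1 := hs y hy
    calc y * s = s * y * s⁻¹ * s := by rw [h1]
      _ = s * y := by group
  obtain ⟨F, hF1, hF2, hFodd, ⟨iso⟩⟩ := Cfsg.Agent.S0508.result S n hn2 ⟨e⟩ t ht htS htZ (Kc t) rfl
    (by
      intro hO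
      obtain ⟨R₀, hR₀S, hR₀c, hsq, hprod, hmem⟩ :=
        Cfsg.Agent.Lib.L0.exists_dihedral_rotation_subgroup (S : Subgroup H) n e
      set C := (S : Subgroup H) ⊓ centralizer ((Kc t : Subgroup H) : Set H) with hC
      -- involutions of `C`
      have hCinv : ∀ c ∈ C, c * c = 1 → c ≠ 1 → c = t := by
        intro c hc hc2 hc1
        by_contra hct
        have oc : orderOf c = 2 := orderOf_eq_prime (by rw [pow_two]; exact hc2) hc1
        have := hB t c ht oc (htZ c hc.1).symm (Ne.symm hct)
        exact hnotc hO c this hc.2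
      have htC : t ∈ C := ⟨htS, hcent t (fun y hy => by
        have h1 := ((h.mem_Kc_iff ht).mp hy).1
        calc t * y * t⁻¹ = y * t * t⁻¹ := by rw [h1]
          _ = y := by group)⟩
      have ht1 : t ≠ 1 := by
        intro h1; rw [h1, orderOf_one] at ht; omega
      refine ⟨?_, ?_⟩
      · by_cases hCR : C ≤ R₀
        · exact blockG_isCyclic_of_le hR₀c hCR
        · -- `t ∉ R₀`, and `C ≤ ⟨t⟩`
          obtain ⟨c, hcC, hcR⟩ := SetLike.not_le_iff_exists.mp hCR
          have hc2 := hsq c hcC.1 hcR
          have hc1 : c ≠ 1 := fun h1 => hcR (h1 ▸ one_mem _)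
          have hct := hCinv c hcC hc2 hc1
          have htR : t ∉ R₀ := hct ▸ hcR
          have hle : C ≤ zpowers t := by
            intro d hd
            by_cases hdR : d ∈ R₀
            · have hdt : d * t ∉ R₀ := by
                intro h1
                apply htR
                have := R₀.mul_mem (R₀.inv_mem hdR) h1
                rwa [inv_mul_cancel_left] at this
              have hdtC : d * t ∈ C := mul_mem hd htC
              have h2 := hsq _ hdtC.1 hdt
              have h1 : d * t ≠ 1 := fun h1 => hdt (h1 ▸ one_mem _)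
              have h3 := hCinv _ hdtC h2 h1
              have : d = 1 := by
                have : d * t = 1 * t := by rw [one_mul]; exact h3
                exact mul_right_cancel this
              rw [this]; exact one_mem _
            · have h2 := hsq d hd.1 hdR
              have h1 : d ≠ 1 := fun h1 => hdR (h1 ▸ one_mem _)
              rw [hCinv d hd h2 h1]; exact mem_zpowers t
          exact blockG_isCyclic_of_le inferInstance hle
      · -- index two
        obtain ⟨u, huS, ou, hut⟩ := h.blockF_exists_inv_ne S t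
        have huinv' := hB t u ht ou (htZ u huS).symm (Ne.symm hut)
        have hu2 : u * u = 1 := by
          have := pow_orderOf_eq_one u
          rwa [ou, pow_two] at this
        rw [Subgroup.relIndex, Subgroup.index_eq_two_iff]
        refine ⟨⟨u, huS⟩, ?_⟩
        intro b
        have hKu : ∀ y ∈ Kc t, u * y * u⁻¹ ∈ Kc t := fun y hy =>
          h.normBy_Kc ht u (mem_centralizer_singleton_iff.mpr (htZ u huS)) y hy
        have hconj : ∀ y : H, ((b : H) * u) * y * ((b : H) * u)⁻¹ =
            (b : H) * (u * y * u⁻¹) * (b : H)⁻¹ := by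
          intro y; group
        have hcoe : ((b * ⟨u, huS⟩ : (S : Subgroup H)) : H) = (b : H) * u := rfl
        rcases hpm b b.2 with h1 | h1
        · -- `b ∈ C`, `b * u ∉ C`
          right
          refine ⟨?_, ?_⟩
          · rw [mem_subgroupOf]
            exact ⟨b.2, hcent b h1⟩
          · rw [mem_subgroupOf, hcoe]
            intro h2
            apply hnotc hO ((b : H) * u) ?_ h2.2
            intro y hy
            rw [hconj, huinv' y hy, h1 _ (inv_mem hy)]
        · -- `b ∉ C`, `b * u ∈ C`
          left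
          refine ⟨?_, ?_⟩
          · rw [mem_subgroupOf, hcoe]
            refine ⟨mul_mem b.2 huS, hcent _ ?_⟩
            intro y hy
            rw [hconj, huinv' y hy, h1 _ (inv_mem hy), inv_inv]
          · rw [mem_subgroupOf]
            intro h2
            exact hnotc hO b h1 h2.2)
    (by
      intro s hs hsc y hy
      rcases hpm s hs with h1 | h1
      · exact absurd (hcent s h1) hsc
      · exact h1 y hy)
    (fun Y hY hne => h.part_F hB t ht Y hY hne)
  exact h.hyp.not_psl2 F hFodd iso

end Cfsg.Agent.Lib.H25.Zas
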