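import Mathlib
import Cfsg.Agent.Lib.H25.ZasE4e

/-!
# Zassenhaus, H-level, `n = 4`: block Q1

In a bad configuration (`K_t ≠ 1` centralizes the four-group `V = ⟨t, u⟩`), for `b ∈ K_t` of order
three the number of involutions normalizing `⟨b⟩` is at most `3 + 6 |K_t|`.
-/

set_option autoImplicit false
set_option linter.style.haveILetI false

namespace Cfsg.Agent.Lib.H25.Zas

open Subgroup

variable {H : Type*} [Group H] [Finite H] {t u : H}

/-- an element of odd order with trivial square is trivial -/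
theorem blockQ_eq_one_of_sq {G : Type*} [Group G] {o : G} (hodd : Odd (orderOf o))
    (h2 : o * o = 1) : o = 1 := by
  have h3 : orderOf o ∣ 2 := orderOf_dvd_of_pow_eq_one (by rw [pow_two]; exact h2)
  rcases (Nat.dvd_prime Nat.prime_two).mp h3 with h4 | h4
  · exact orderOf_eq_one_iff.mp h4
  · rw [h4] at hodd; exact absurd hodd (by decide)

namespace BadFour

/-- elements of `K_t` commute with the elements of the four-group -/
theorem blockQ_comm_klein (B : BadFour t u) (h : HCtx H 4) {o x : H} (ho : o ∈ Kc t)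
    (hx : x ∈ kleinOf t u B.ht2 B.hu2 B.htu) : x * o = o * x := by
  have h1 : o * t = t * o := ((h.mem_Kc_iff B.ht).mp ho).1
  have h2 : o * u = u * o := B.hK o ho
  rcases mem_kleinOf.mp hx with rfl | rfl | rfl | rfl
  · rw [one_mul, mul_one]
  · exact h1.symm
  · exact h2.symm
  · calc t * u * o = t * (u * o) := by group
      _ = t * (o * u) := by rw [h2]
      _ = (t * o) * u := by group
      _ = o * t * u := by rw [h1]
      _ = o * (t * u) := by group

/-- the involutions of `C_H(v)`, `v` an involution of the four-group: they lie in the four-group or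
are of the form `o * x` with `o ∈ K_t` and `x` in a set of at most two elements. -/
theorem blockQ_cover (B : BadFour t u) (h : HCtx H 4) {b : H} (hb : b ∈ Kc t)
    (hp : (orderOf b).Prime) {v : H} (hv : orderOf v = 2)
    (hKv : Kc v = Kc t)
    (hCv : centralizer ({v} : Set H) ≤ normalizer ((zpowers b : Subgroup H) : Set H)) :
    ∃ D : Set H, D.ncard ≤ 2 ∧ ∀ j : H, orderOf j = 2 → j * v = v * j →
      j ∈ kleinOf t u B.ht2 B.hu2 B.htu ∨ ∃ o ∈ Kc t, ∃ x ∈ D, j = o * x := by
  haveI : Fact (Nat.Prime 2) := ⟨Nat.prime_two⟩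
  obtain ⟨hNtop, hCt, hCu, hCtu, hnorm⟩ := B.normalizer_facts h hb hp
  set N := normalizer ((zpowers b : Subgroup H) : Set H) with hN
  set V := kleinOf t u B.ht2 B.hu2 B.htu with hV
  obtain ⟨S, A, F⟩ := h.exists_frame hv
  have hSC : (S : Subgroup H) ≤ centralizer ({v} : Set H) := fun s hs =>
    mem_centralizer_singleton_iff.mpr (F.htZ s hs)
  have hSN : (S : Subgroup H) ≤ N := hSC.trans hCv
  have hVK : IsKleinFour V := isKleinFour_kleinOf B.ht2 B.hu2 B.htu B.ht1 B.hu1 B.hne
  have hVN : V ≤ N := by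
    intro z hz
    rcases mem_kleinOf.mp hz with rfl | rfl | rfl | rfl
    · exact N.one_mem
    · exact hCt (mem_centralizer_singleton_iff.mpr rfl)
    · exact hCu (mem_centralizer_singleton_iff.mpr rfl)
    · exact N.mul_mem (hCt (mem_centralizer_singleton_iff.mpr rfl))
        (hCu (mem_centralizer_singleton_iff.mpr rfl))
  have hVS : V ≤ (S : Subgroup H) :=
    le_sylow_of_normBy N V hVN hnorm (by
      apply IsPGroup.of_card (n := 2)
      rw [hVK.card_four]; norm_num) S hSN
  have hVsq : ∀ z ∈ V, z * z = 1 := by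
    intro z hz
    rcases mem_kleinOf.mp hz with rfl | rfl | rfl | rfl
    · rw [one_mul]
    · exact B.ht2
    · exact B.hu2
    · exact B.htu2
  -- the set `D`
  set D : Set H := {x | x ∈ (S : Subgroup H) ∧ x * x = 1 ∧ x ∉ V} with hD
  refine ⟨D, ?_, ?_⟩
  · -- `|D| ≤ 2`
    obtain ⟨r, hrA, hr2⟩ := F.exists_sq_eq
    have hrS : r ∈ (S : Subgroup H) := F.hAS hrA
    have hv1 : v ≠ 1 := F.ht1
    have hv2 : v * v = 1 := F.ht2
    have hrr : r ≠ r⁻¹ := by
      intro h1
      apply hv1
      rw [← hr2]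
      nth_rewrite 2 [h1]
      exact mul_inv_cancel r
    have hri2 : r⁻¹ * r⁻¹ = v := by
      have : r⁻¹ * r⁻¹ = (r * r)⁻¹ := by group
      rw [this, hr2]
      exact inv_eq_of_mul_eq_one_left hv2
    set W : Set H := (V : Set H) ∪ {r, r⁻¹} with hW
    have hWS : W ⊆ ((S : Subgroup H) : Set H) := by
      intro z hz
      rcases hz with hz | hz
      · exact hVS hz
      · rcases hz with rfl | rfl
        · exact hrS
        · exact (S : Subgroup H).inv_mem hrS
    have hdisj : Disjoint (V : Set H) {r, r⁻¹} := by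
      rw [Set.disjoint_left]
      intro z hzV hz
      have h1 := hVsq z hzV
      rcases hz with rfl | rfl
      · rw [hr2] at h1; exact hv1 h1
      · rw [hri2] at h1; exact hv1 h1
    have hWcard : W.ncard = 6 := by
      rw [hW, Set.ncard_union_eq hdisj, Set.ncard_pair hrr]
      have : (V : Set H).ncard = 4 := by
        rw [← hVK.card_four]
        exact (Nat.card_coe_set_eq (V : Set H)).symm
      rw [this]
    have hScard : ((S : Subgroup H) : Set H).ncard = 8 := by
      have h1 := F.cardS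
      rw [← Nat.card_coe_set_eq]
      exact h1
    have hDsub : D ⊆ ((S : Subgroup H) : Set H) \ W := by
      intro x hx
      refine ⟨hx.1, ?_⟩
      intro hxW
      rcases hxW with hxV | hxr
      · exact hx.2.2 hxV
      · rcases hxr with rfl | rfl
        · have := hx.2.1; rw [hr2] at this; exact hv1 this
        · have := hx.2.1; rw [hri2] at this; exact hv1 this
    have h2 : (((S : Subgroup H) : Set H) \ W).ncard = 2 := by
      rw [Set.ncard_sdiff hWS, hScard, hWcard]
    calc D.ncard ≤ (((S : Subgroup H) : Set H) \ W).ncard :=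
          Set.ncard_le_ncard hDsub (Set.toFinite _)
      _ = 2 := h2
  · intro j oj hjv
    have hj2 : j * j = 1 := by
      have := pow_orderOf_eq_one j
      rwa [oj, pow_two] at this
    have hjC : j ∈ centralizer ({v} : Set H) := mem_centralizer_singleton_iff.mpr hjv
    obtain ⟨o, ho, x, hx, rfl⟩ := h.centralizer_eq_mul hv S F.htZ j hjC
    have hoK : o ∈ Kc t := hKv ▸ ho
    set o' := x * o * x⁻¹ with ho'
    have ho'K : o' ∈ Kc v := h.normBy_Kc hv x (hSC hx) o ho
    have hkey : (o * o') * (x * x) = 1 := by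
      calc (o * o') * (x * x) = (o * x) * (o * x) := by rw [ho']; group
        _ = 1 := hj2
    have hinf : Kc v ⊓ (S : Subgroup H) = ⊥ :=
      inf_eq_bot_of_odd_of_two _ _ (h.odd_card_Kc hv) S.isPGroup'
    have hxx : x * x = 1 := by
      have h1 : x * x = (o * o')⁻¹ := eq_inv_of_mul_eq_one_right hkey
      have h2 : x * x ∈ Kc v ⊓ (S : Subgroup H) :=
        ⟨h1 ▸ (Kc v).inv_mem ((Kc v).mul_mem ho ho'K), (S : Subgroup H).mul_mem hx hx⟩
      rw [hinf, mem_bot] at h2
      exact h2
    have hoo' : o * o' = 1 := by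
      rw [hxx, mul_one] at hkey; exact hkey
    by_cases hxV : x ∈ V
    · left
      have hcomm := B.blockQ_comm_klein h hoK hxV
      have ho'o : o' = o := by
        rw [ho', hcomm]; group
      rw [ho'o] at hoo'
      have hoodd : Odd (orderOf o) := ((h.mem_Kc_iff B.ht).mp hoK).2
      have : o = 1 := blockQ_eq_one_of_sq hoodd hoo'
      rw [this, one_mul]; exact hxV
    · right
      exact ⟨o, hoK, x, ⟨hx, hxx, hxV⟩, rfl⟩

/-- **Q1**: the number of involutions normalizing `⟨b⟩`, `b ∈ K_t` of order three. -/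
theorem blockQ_card_inv_normalizer_le (B : BadFour t u) (h : HCtx H 4) {b : H} (hb : b ∈ Kc t)
    (ob : orderOf b = 3) :
    Nat.card {j : H // orderOf j = 2 ∧ j * b * j⁻¹ ∈ zpowers b} ≤ 3 + 6 * Nat.card (Kc t) := by
  have hp : (orderOf b).Prime := by rw [ob]; exact Nat.prime_three
  obtain ⟨hNtop, hCt, hCu, hCtu, hnorm⟩ := B.normalizer_facts h hb hp
  set N := normalizer ((zpowers b : Subgroup H) : Set H) with hN
  set V := kleinOf t u B.ht2 B.hu2 B.htu with hV
  obtain ⟨D₁, hD₁, hcov₁⟩ := B.blockQ_cover h hb hp B.ht rfl hCt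
  obtain ⟨D₂, hD₂, hcov₂⟩ := B.blockQ_cover h hb hp B.hu (B.Kc_eq h) hCu
  obtain ⟨D₃, hD₃, hcov₃⟩ := B.blockQ_cover h hb hp B.otu (B.Kc_mul_eq h) hCtu
  set K : Set H := (Kc t : Set H) with hK
  set f : H × H → H := fun p => p.1 * p.2 with hf
  set T₁ : Set H := f '' (K ×ˢ D₁) with hT₁
  set T₂ : Set H := f '' (K ×ˢ D₂) with hT₂
  set T₃ : Set H := f '' (K ×ˢ D₃) with hT₃
  have hKcard : K.ncard = Nat.card (Kc t) := (Nat.card_coe_set_eq (Kc t : Set H)).symm
  have hTle : ∀ D : Set H, D.ncard ≤ 2 → (f '' (K ×ˢ D)).ncard ≤ 2 * Nat.card (Kc t) := by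
    intro D hD
    calc (f '' (K ×ˢ D)).ncard ≤ (K ×ˢ D).ncard := Set.ncard_image_le (Set.toFinite _)
      _ = K.ncard * D.ncard := Set.ncard_prod
      _ ≤ Nat.card (Kc t) * 2 := by rw [hKcard]; exact Nat.mul_le_mul_left _ hD
      _ = 2 * Nat.card (Kc t) := Nat.mul_comm _ _
  set J : Set H := {j | orderOf j = 2 ∧ j * b * j⁻¹ ∈ zpowers b} with hJ
  have hsub : J ⊆ ({t, u, t * u} : Set H) ∪ T₁ ∪ T₂ ∪ T₃ := by
    intro j hj
    obtain ⟨oj, hjb⟩ := hj
    have hj2 : j * j = 1 := by
      have := pow_orderOf_eq_one j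
      rwa [oj, pow_two] at this
    have hj1 : j ≠ 1 := by
      intro h1; rw [h1, orderOf_one] at oj; omega
    have hjinv : j⁻¹ = j := inv_eq_of_mul_eq_one_left hj2
    -- `j ∈ N`
    have hjN : j ∈ N := by
      apply mem_normalizer_zpowers_of_eq
      have h1 : zpowers (j * b * j⁻¹) ≤ zpowers b := zpowers_le.mpr hjb
      apply Subgroup.eq_of_le_of_card_ge h1
      rw [Nat.card_zpowers, Nat.card_zpowers, Cfsg.Agent.Lib.H4.DihBSW.orderOf_conj']
    -- the three cases
    have hmemV : ∀ z, z ∈ V → z ≠ 1 → z ∈ ({t, u, t * u} : Set H) := by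
      intro z hz hz1
      rcases mem_kleinOf.mp hz with rfl | rfl | rfl | rfl
      · exact absurd rfl hz1
      · simp
      · simp
      · simp
    have hfin : ∀ (D : Set H), (j ∈ V ∨ ∃ o ∈ Kc t, ∃ x ∈ D, j = o * x) →
        j ∈ ({t, u, t * u} : Set H) ∨ j ∈ f '' (K ×ˢ D) := by
      intro D hc
      rcases hc with hc | ⟨o, ho, x, hx, rfl⟩
      · exact Or.inl (hmemV j hc hj1)
      · exact Or.inr ⟨(o, x), ⟨ho, hx⟩, rfl⟩
    have h1 := hnorm j hjN t left_mem_kleinOf
    rcases mem_kleinOf.mp h1 with h2 | h2 | h2 | h2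
    · exfalso
      apply B.ht1
      calc t = j⁻¹ * (j * t * j⁻¹) * j := by group
        _ = 1 := by rw [h2]; group
    · -- `j` commutes with `t`
      have hjt : j * t = t * j := by
        calc j * t = j * t * j⁻¹ * j := by group
          _ = t * j := by rw [h2]
      rcases hfin D₁ (hcov₁ j oj hjt) with h3 | h3
      · exact Or.inl (Or.inl (Or.inl h3))
      · exact Or.inl (Or.inl (Or.inr h3))
    · -- `j` swaps `t` and `u`, so commutes with `t * u`
      have h3 : j * u * j⁻¹ = t := by
        rw [← h2, hjinv]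
        calc j * (j * t * j) * j = (j * j) * t * (j * j) := by group
          _ = t := by rw [hj2, one_mul, mul_one]
      have hjtu : j * (t * u) = (t * u) * j := by
        calc j * (t * u) = (j * t * j⁻¹) * (j * u * j⁻¹) * j := by group
          _ = u * t * j := by rw [h2, h3]
          _ = (t * u) * j := by rw [B.htu]
      rcases hfin D₃ (hcov₃ j oj hjtu) with h4 | h4
      · exact Or.inl (Or.inl (Or.inl h4))
      · exact Or.inr h4
    · -- `j` swaps `t` and `t * u`, so commutes with `u`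
      have h3 : j * (t * u) * j⁻¹ = t := by
        rw [← h2, hjinv]
        calc j * (j * t * j) * j = (j * j) * t * (j * j) := by group
          _ = t := by rw [hj2, one_mul, mul_one]
      have hju : j * u * j⁻¹ = u := by
        have e : u = t * (t * u) := by rw [← mul_assoc, B.ht2, one_mul]
        calc j * u * j⁻¹ = j * (t * (t * u)) * j⁻¹ := by rw [← e]
          _ = (j * t * j⁻¹) * (j * (t * u) * j⁻¹) := by group
          _ = (t * u) * t := by rw [h2, h3]
          _ = u := by rw [B.htu, mul_assoc, B.ht2, mul_one]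
      have hju' : j * u = u * j := by
        calc j * u = j * u * j⁻¹ * j := by group
          _ = u * j := by rw [hju]
      rcases hfin D₂ (hcov₂ j oj hju') with h4 | h4
      · exact Or.inl (Or.inl (Or.inl h4))
      · exact Or.inl (Or.inr h4)
  have h3 : ({t, u, t * u} : Set H).ncard ≤ 3 := by
    calc ({t, u, t * u} : Set H).ncard ≤ ({u, t * u} : Set H).ncard + 1 := Set.ncard_insert_le _ _
      _ ≤ (({t * u} : Set H).ncard + 1) + 1 := Nat.add_le_add_right (Set.ncard_insert_le _ _) 1
      _ = 3 := by rw [Set.ncard_singleton]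
  have hJcard : Nat.card {j : H // orderOf j = 2 ∧ j * b * j⁻¹ ∈ zpowers b} = J.ncard :=
    Nat.card_coe_set_eq J
  rw [hJcard]
  calc J.ncard ≤ (({t, u, t * u} : Set H) ∪ T₁ ∪ T₂ ∪ T₃).ncard :=
        Set.ncard_le_ncard hsub (Set.toFinite _)
    _ ≤ (({t, u, t * u} : Set H) ∪ T₁ ∪ T₂).ncard + T₃.ncard := Set.ncard_union_le _ _
    _ ≤ ((({t, u, t * u} : Set H) ∪ T₁).ncard + T₂.ncard) + T₃.ncard :=
        Nat.add_le_add_right (Set.ncard_union_le _ _) _
    _ ≤ ((({t, u, t * u} : Set H).ncard + T₁.ncard) + T₂.ncard) + T₃.ncard :=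
        Nat.add_le_add_right (Nat.add_le_add_right (Set.ncard_union_le _ _) _) _
    _ ≤ ((3 + 2 * Nat.card (Kc t)) + 2 * Nat.card (Kc t)) + 2 * Nat.card (Kc t) := by
        have a1 : T₁.ncard ≤ 2 * Nat.card (Kc t) := hTle D₁ hD₁
        have a2 : T₂.ncard ≤ 2 * Nat.card (Kc t) := hTle D₂ hD₂
        have a3 : T₃.ncard ≤ 2 * Nat.card (Kc t) := hTle D₃ hD₃
        omega
    _ = 3 + 6 * Nat.card (Kc t) := by ring

end BadFour

end Cfsg.Agent.Lib.H25.Zas
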