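import Mathlib
import Cfsg.Agent.Lib.H25.ZasE4h

/-!
# Zassenhaus, H-level, `n = 4`, case `3 ∣ |K_t|`: block Q3

The number of subgroups `A₄` through an element `b` of order three of `K_t` is at least `4 |K_t|`
(as soon as there is one): the centralizer of `b` has order `12 |K_t|` and acts on these subgroups
by conjugation with stabilizers inside `⟨b⟩`.
-/

set_option autoImplicit false
set_option linter.style.haveILetI false

namespace Cfsg.Agent.Lib.H25.Zas

open Subgroup Equiv

/-- a map all of whose fibres have at most three elements -/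
theorem blockQ3_card_le_three_mul {α β : Type*} [Finite α] [Finite β] (f : α → β)
    (g1 g2 g3 : α → α) (hf : ∀ x y, f x = f y → y = g1 x ∨ y = g2 x ∨ y = g3 x) :
    Nat.card α ≤ 3 * Nat.card β := by
  classical
  haveI : Fintype α := Fintype.ofFinite α
  haveI : Fintype β := Fintype.ofFinite β
  rw [Nat.card_eq_fintype_card, Nat.card_eq_fintype_card]
  have h1 := Finset.card_le_mul_card_image (f := f) (Finset.univ : Finset α) 3 (by
    intro a ha
    obtain ⟨x, _, rfl⟩ := Finset.mem_image.mp ha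
    have h2 : (Finset.univ.filter fun y => f y = f x) ⊆ {g1 x, g2 x, g3 x} := by
      intro y hy
      rw [Finset.mem_filter] at hy
      rcases hf x y hy.2.symm with h3 | h3 | h3
      · rw [h3]; simp
      · rw [h3]; simp
      · rw [h3]; simp
    exact (Finset.card_le_card h2).trans Finset.card_le_three)
  calc Fintype.card α = (Finset.univ : Finset α).card := rfl
    _ ≤ 3 * (Finset.univ.image f).card := h1
    _ ≤ 3 * Fintype.card β := by
        apply Nat.mul_le_mul_left
        exact Finset.card_le_univ _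

namespace BadFour

variable {H : Type*} [Group H] [Finite H] {t u : H} (B : BadFour t u) (h : HCtx H 4)

include B h

/-- an element commuting with `b` and normalizing an `A₄` through `b` is a power of `b` -/
theorem blockQ3_stab {b : H} (hb : b ∈ Kc t) (ob : orderOf b = 3) (X : Subgroup H)
    (e : X ≃* alternatingGroup (Fin 4)) (hbX : b ∈ X) {c : H} (hcb : c * b = b * c)
    (hcX : ∀ x ∈ X, c * x * c⁻¹ ∈ X) : c ∈ zpowers b := by
  haveI hV : IsKleinFour (sqOne X e) := isKleinFour_sqOne X e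
  have hb3 : b * b * b = 1 := by
    have := pow_orderOf_eq_one b
    rwa [ob, pow_succ, pow_two] at this
  -- a nontrivial element of the four-group
  obtain ⟨v, hv, hv1⟩ : ∃ v ∈ sqOne X e, v ≠ 1 := by
    by_contra hcon
    have h1 : sqOne X e = ⊥ := by
      rw [eq_bot_iff]
      intro x hx
      by_contra hx1
      exact hcon ⟨x, hx, fun h2 => hx1 (mem_bot.mpr h2)⟩
    have h2 := card_sqOne X e
    rw [h1, Subgroup.card_bot] at h2
    omega
  have hbn : ∀ x ∈ X, b * x * b⁻¹ ∈ X := fun x hx => X.mul_mem (X.mul_mem hbX hx) (X.inv_mem hbX)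
  have hbn' : ∀ x ∈ X, b⁻¹ * x * b⁻¹⁻¹ ∈ X := fun x hx =>
    X.mul_mem (X.mul_mem (X.inv_mem hbX) hx) (X.inv_mem (X.inv_mem hbX))
  set v1 := b * v * b⁻¹ with hv1def
  set v2 := b⁻¹ * v * b⁻¹⁻¹ with hv2def
  have hv1W : v1 ∈ sqOne X e := conj_mem_sqOne X e hbn hv
  have hv2W : v2 ∈ sqOne X e := conj_mem_sqOne X e hbn' hv
  have hncomm := not_commute_of_order_three X e hbX ob hv hv1
  have hv11 : v1 ≠ 1 := by
    intro h1
    apply hv1
    calc v = b⁻¹ * v1 * b := by rw [hv1def]; group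
      _ = 1 := by rw [h1]; group
  have hv21 : v2 ≠ 1 := by
    intro h1
    apply hv1
    calc v = b * v2 * b⁻¹ := by rw [hv2def]; group
      _ = 1 := by rw [h1]; group
  have hvv1 : v ≠ v1 := by
    intro h1
    apply hncomm
    calc b * v = (b * v * b⁻¹) * b := by group
      _ = v * b := by rw [← hv1def, ← h1]
  have hvv2 : v ≠ v2 := by
    intro h1
    apply hncomm
    calc b * v = b * v2 := by rw [← h1]
      _ = v * b := by rw [hv2def]; group
  have hv1v2 : v1 ≠ v2 := by
    intro h1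
    apply hncomm
    have h2 : b * v1 * b⁻¹ = v := by
      rw [h1, hv2def]; group
    -- `b² v b⁻² = v`, and `b² = b⁻¹`
    have h3 : b * b = b⁻¹ := by
      rw [eq_inv_iff_mul_eq_one]; exact hb3
    have h4 : b⁻¹ * v * b = v := by
      calc b⁻¹ * v * b = (b * b) * v * (b * b)⁻¹ := by rw [h3, inv_inv]
        _ = b * v1 * b⁻¹ := by rw [hv1def]; group
        _ = v := h2
    calc b * v = b * (b⁻¹ * v * b) := by rw [h4]
      _ = v * b := by group
  -- every nontrivial element of the four-group is `v`, `v1` or `v2`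
  have hall : ∀ w ∈ sqOne X e, w ≠ 1 → w = v ∨ w = v1 ∨ w = v2 := by
    intro w hw hw1
    by_cases h1 : w = v
    · exact Or.inl h1
    by_cases h2 : w = v1
    · exact Or.inr (Or.inl h2)
    right; right
    have hne : ∀ {a c : H} (ha : a ∈ sqOne X e) (hc : c ∈ sqOne X e), a ≠ c →
        (⟨a, ha⟩ : sqOne X e) ≠ ⟨c, hc⟩ := by
      intro a c ha hc hac h3
      exact hac (congrArg Subtype.val h3)
    have hne1 : ∀ {a : H} (ha : a ∈ sqOne X e), a ≠ 1 → (⟨a, ha⟩ : sqOne X e) ≠ 1 := by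
      intro a ha ha1 h3
      exact ha1 (congrArg Subtype.val h3)
    have h3 := IsKleinFour.eq_mul_of_ne_all (G := sqOne X e) (x := ⟨v, hv⟩) (y := ⟨v1, hv1W⟩)
      (z := ⟨w, hw⟩) (hne1 hv hv1) (hne1 hv1W hv11) (hne hv hv1W hvv1) (hne1 hw hw1)
      (hne hw hv h1) (hne hw hv1W h2)
    have h4 := IsKleinFour.eq_mul_of_ne_all (G := sqOne X e) (x := ⟨v, hv⟩) (y := ⟨v1, hv1W⟩)
      (z := ⟨v2, hv2W⟩) (hne1 hv hv1) (hne1 hv1W hv11) (hne hv hv1W hvv1) (hne1 hv2W hv21)
      (hne hv2W hv hvv2.symm) (hne hv2W hv1W hv1v2.symm)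
    have h5 : (⟨w, hw⟩ : sqOne X e) = ⟨v2, hv2W⟩ := h3.trans h4.symm
    exact congrArg Subtype.val h5
  -- `c v c⁻¹` is a conjugate of `v` under a power of `b`
  have hcv : c * v * c⁻¹ ∈ sqOne X e := conj_mem_sqOne X e hcX hv
  have hcv1 : c * v * c⁻¹ ≠ 1 := by
    intro h1
    apply hv1
    calc v = c⁻¹ * (c * v * c⁻¹) * c := by group
      _ = 1 := by rw [h1]; group
  obtain ⟨d, hd, hdv⟩ : ∃ d ∈ zpowers b, c * v * c⁻¹ = d * v * d⁻¹ := by
    rcases hall _ hcv hcv1 with h1 | h1 | h1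
    · exact ⟨1, one_mem _, by rw [h1]; group⟩
    · exact ⟨b, mem_zpowers b, h1⟩
    · exact ⟨b⁻¹, inv_mem (mem_zpowers b), h1⟩
  have hdb : d * b = b * d := by
    obtain ⟨k, rfl⟩ := mem_zpowers_iff.mp hd
    exact ((Commute.refl b).zpow_left k).eq
  -- `c' = d⁻¹ c` centralizes the four-group
  set c' := d⁻¹ * c with hc'
  have hc'b : c' * b = b * c' := by
    have h1 : d⁻¹ * b = b * d⁻¹ := by
      calc d⁻¹ * b = d⁻¹ * (b * d) * d⁻¹ := by group
        _ = d⁻¹ * (d * b) * d⁻¹ := by rw [hdb]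
        _ = b * d⁻¹ := by group
    calc c' * b = d⁻¹ * (c * b) := by rw [hc']; group
      _ = d⁻¹ * (b * c) := by rw [hcb]
      _ = (d⁻¹ * b) * c := by group
      _ = (b * d⁻¹) * c := by rw [h1]
      _ = b * c' := by rw [hc']; group
  have hc'v : c' * v = v * c' := by
    have h1 : c' * v * c'⁻¹ = v := by
      calc c' * v * c'⁻¹ = d⁻¹ * (c * v * c⁻¹) * d := by rw [hc']; group
        _ = d⁻¹ * (d * v * d⁻¹) * d := by rw [hdv]
        _ = v := by group
    calc c' * v = (c' * v * c'⁻¹) * c' := by group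
      _ = v * c' := by rw [h1]
  have hc'binv : c' * b⁻¹ = b⁻¹ * c' := by
    calc c' * b⁻¹ = b⁻¹ * (b * c') * b⁻¹ := by group
      _ = b⁻¹ * (c' * b) * b⁻¹ := by rw [hc'b]
      _ = b⁻¹ * c' := by group
  have hc'v1 : c' * v1 = v1 * c' := by
    calc c' * v1 = (c' * b) * v * b⁻¹ := by rw [hv1def]; group
      _ = (b * c') * v * b⁻¹ := by rw [hc'b]
      _ = b * (c' * v) * b⁻¹ := by group
      _ = b * (v * c') * b⁻¹ := by rw [hc'v]
      _ = b * v * (c' * b⁻¹) := by group
      _ = b * v * (b⁻¹ * c') := by rw [hc'binv]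
      _ = v1 * c' := by rw [hv1def]; group
  have hc'v2 : c' * v2 = v2 * c' := by
    calc c' * v2 = (c' * b⁻¹) * v * b := by rw [hv2def]; group
      _ = (b⁻¹ * c') * v * b := by rw [hc'binv]
      _ = b⁻¹ * (c' * v) * b := by group
      _ = b⁻¹ * (v * c') * b := by rw [hc'v]
      _ = b⁻¹ * v * (c' * b) := by group
      _ = b⁻¹ * v * (b * c') := by rw [hc'b]
      _ = v2 * c' := by rw [hv2def]; group
  have hc'W : c' ∈ sqOne X e := by
    apply B.centralizer_sqOne_le h hb ob X e hbX c'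
    intro w hw
    by_cases hw1 : w = 1
    · rw [hw1]; simp
    rcases hall w hw hw1 with h1 | h1 | h1
    · rw [h1]; exact hc'v
    · rw [h1]; exact hc'v1
    · rw [h1]; exact hc'v2
  have hc'1 : c' = 1 := by
    by_contra hne
    exact not_commute_of_order_three X e hbX ob hc'W hne hc'b.symm
  have hcd : c = d := by
    calc c = d * c' := by rw [hc']; group
      _ = d := by rw [hc'1, mul_one]
  rw [hcd]
  exact hd

/-- BLOCK Q3: at least `4 |K_t|` subgroups `A₄` through `b` -/
theorem blockQ3_card_A4_ge {b : H} (hb : b ∈ Kc t) (ob : orderOf b = 3) (X₀ : Subgroup H)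
    (hbX : b ∈ X₀) (hX₀ : Nonempty (X₀ ≃* alternatingGroup (Fin 4))) :
    4 * Nat.card (Kc t) ≤
      Nat.card {X : Subgroup H // b ∈ X ∧ Nonempty (X ≃* alternatingGroup (Fin 4))} := by
  obtain ⟨e⟩ := hX₀
  have hcard := B.card_centralizer_three h hb ob
  set C := centralizer ({b} : Set H) with hC
  have hbC : b ∈ C := by
    rw [hC, mem_centralizer_singleton_iff]
  have hcomm : ∀ c : C, (c : H) * b = b * (c : H) := by
    intro c
    have := mem_centralizer_singleton_iff.mp c.2
    exact this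
  -- the conjugation map
  let φ : C → {X : Subgroup H // b ∈ X ∧ Nonempty (X ≃* alternatingGroup (Fin 4))} := fun c =>
    ⟨X₀.map (MulAut.conj (c : H)).toMonoidHom, by
      refine ⟨⟨b, hbX, ?_⟩, ?_⟩
      · change (c : H) * b * (c : H)⁻¹ = b
        rw [hcomm c]; group
      · exact ⟨((X₀.equivMapOfInjective (MulAut.conj (c : H)).toMonoidHom
          (MulAut.conj (c : H)).injective).symm).trans e⟩⟩
  have hφ : ∀ c c' : C, φ c = φ c' →
      c' = c ∨ c' = c * ⟨b, hbC⟩ ∨ c' = c * ⟨b, hbC⟩⁻¹ := by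
    intro c c' hcc
    have h1 : X₀.map (MulAut.conj (c : H)).toMonoidHom =
        X₀.map (MulAut.conj (c' : H)).toMonoidHom := congrArg Subtype.val hcc
    have h2 : ∀ x ∈ X₀, ((c : H)⁻¹ * (c' : H)) * x * ((c : H)⁻¹ * (c' : H))⁻¹ ∈ X₀ := by
      intro x hx
      have h3 : (c' : H) * x * (c' : H)⁻¹ ∈ X₀.map (MulAut.conj (c' : H)).toMonoidHom :=
        ⟨x, hx, rfl⟩
      rw [← h1] at h3
      obtain ⟨y, hy, hyx⟩ := h3
      have h4 : (c : H) * y * (c : H)⁻¹ = (c' : H) * x * (c' : H)⁻¹ := hyx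
      have h5 : ((c : H)⁻¹ * (c' : H)) * x * ((c : H)⁻¹ * (c' : H))⁻¹ = y := by
        calc ((c : H)⁻¹ * (c' : H)) * x * ((c : H)⁻¹ * (c' : H))⁻¹
            = (c : H)⁻¹ * ((c' : H) * x * (c' : H)⁻¹) * (c : H) := by group
          _ = (c : H)⁻¹ * ((c : H) * y * (c : H)⁻¹) * (c : H) := by rw [h4]
          _ = y := by group
      rw [h5]; exact hy
    have h3 : ((c : H)⁻¹ * (c' : H)) * b = b * ((c : H)⁻¹ * (c' : H)) := by
      have := hcomm (c⁻¹ * c')
      simpa using this
    have h4 := B.blockQ3_stab h hb ob X₀ e hbX h3 h2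
    rcases eq_of_mem_zpowers_of_order_three ob h4 with h5 | h5 | h5
    · left
      apply Subtype.ext
      have : (c' : H) = (c : H) * ((c : H)⁻¹ * (c' : H)) := by group
      rw [this, h5, mul_one]
    · right; left
      apply Subtype.ext
      have : (c' : H) = (c : H) * ((c : H)⁻¹ * (c' : H)) := by group
      rw [this, h5]
      rfl
    · right; right
      apply Subtype.ext
      have : (c' : H) = (c : H) * ((c : H)⁻¹ * (c' : H)) := by group
      rw [this, h5]
      rfl
  have hle := blockQ3_card_le_three_mul φ (fun c => c) (fun c => c * ⟨b, hbC⟩)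
    (fun c => c * ⟨b, hbC⟩⁻¹) hφ
  rw [hcard] at hle
  omega

end BadFour

end Cfsg.Agent.Lib.H25.Zas
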